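import Groth.Prelude.Def_FinCov
import Groth.Agent.LocFree.Rank
import Groth.Agent.QCohMod.QCAlgSub
import Groth.Agent.QCohMod.QCQS
import Mathlib.RingTheory.Finiteness.FinitePresentationLocal
import Mathlib.RingTheory.RingHom.FinitePresentation
import Mathlib.RingTheory.Finiteness.ModuleFinitePresentation
import Mathlib.AlgebraicGeometry.Morphisms.FlatRank

/-!
Covers of degree `d` in terms of sections over affine opens.
-/

universe u

open CategoryTheory CategoryTheory.Limits AlgebraicGeometry Opposite TopologicalSpace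

namespace Groth.Misc6.FinCov

/-- A finite locally free ring map of rank `d`. -/
structure IsRingCover {R B : CommRingCat.{u}} (φ : R ⟶ B) (d : ℕ) : Prop where
  finite : φ.hom.Finite
  flat : φ.hom.Flat
  fp : φ.hom.FinitePresentation
  rank : ∀ p, φ.hom.finrank p = d

theorem isRingCover_of_projective {R B : CommRingCat.{u}} (φ : R ⟶ B) (d : ℕ)
    (h : letI := φ.hom.toAlgebra; Module.Finite R B ∧ Module.Projective R B ∧
      ∀ p : PrimeSpectrum R, Module.rankAtStalk (R := R) B p = d) : IsRingCover φ d := by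
  letI := φ.hom.toAlgebra
  obtain ⟨h1, h2, h3⟩ := h
  have h4 : Module.FinitePresentation R B := Module.finitePresentation_of_projective _ _
  refine ⟨h1, RingHom.flat_algebraMap_iff.2 inferInstance,
    Algebra.FinitePresentation.of_finitePresentation R B, fun p => ?_⟩
  rw [← RingHom.algebraMap_toAlgebra φ.hom, RingHom.finrank_algebraMap]
  exact h3 p

variable {X Y : Scheme.{u}}

/-- Covers of degree `d` can be checked on affine charts. -/
theorem isCover_of_charts (f : X ⟶ Y) (d : ℕ)
    (h : ∀ y : Y, ∃ (U : Y.Opens) (hU : IsAffineOpen U) (B : CommRingCat.{u}) (φ : Γ(Y, U) ⟶ B)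
      (g : Spec B ⟶ X), y ∈ U ∧ IsPullback g (Spec.map φ) f hU.fromSpec ∧ IsRingCover φ d) :
    FinCov.IsCover f d := by
  choose U hU B φ g hyU hpb hc using h
  let 𝒲 : Y.AffineOpenCover :=
    { I₀ := Y
      X := fun y => Γ(Y, U y)
      f := fun y => (hU y).fromSpec
      idx := fun y => y
      covers := fun z => by rw [(hU z).range_fromSpec]; exact hyU z }
  let 𝒰 : Scheme.OpenCover.{u} Y := 𝒲.openCover
  have hloc : ∀ (P : MorphismProperty Scheme.{u}) [IsZariskiLocalAtTarget P] [P.RespectsIso],
      (∀ y, P (Spec.map (φ y))) → P f := by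
    intro P _ _ hP
    refine IsZariskiLocalAtTarget.of_openCover (P := P) 𝒰 fun y => ?_
    change P (pullback.snd f (hU y).fromSpec)
    rw [← (hpb y).isoPullback_inv_snd, P.cancel_left_of_respectsIso]
    exact hP y
  haveI : IsFinite f := hloc @IsFinite fun y => (IsFinite.SpecMap_iff _).2 (hc y).finite
  haveI : Flat f := hloc @Flat fun y => Flat.SpecMap_iff.2 (hc y).flat
  haveI : LocallyOfFinitePresentation f :=
    hloc @LocallyOfFinitePresentation fun y => (LocallyOfFinitePresentation.SpecMap_iff _).2 (hc y).fp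
  refine ⟨⟨inferInstance, inferInstance, inferInstance⟩, fun z => ?_⟩
  obtain ⟨p, hp⟩ : ∃ p, (hU z).fromSpec p = z := by
    have : z ∈ Set.range (hU z).fromSpec := by rw [(hU z).range_fromSpec]; exact hyU z
    exact this
  have e := Scheme.Hom.finrank_of_isPullback _ _ _ _ (hpb z) p
  rw [hp, Scheme.Hom.finrank_SpecMap_eq_finrank (hc z).finite (hc z).flat, (hc z).rank p] at e
  exact e.symm

/-- The square of an affine morphism over an affine open. -/
theorem isPullback_app (f : X ⟶ Y) [IsAffineHom f] {U : Y.Opens} (hU : IsAffineOpen U) :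
    IsPullback (hU.preimage f).fromSpec (Spec.map (f.app U)) f hU.fromSpec := by
  refine (IsOpenImmersion.isPullback _ _ _ _ ?_ ?_).flip
  · rw [Scheme.Hom.app_eq_appLE]
    exact (IsAffineOpen.SpecMap_appLE_fromSpec f hU (hU.preimage f) le_rfl).symm
  · rw [hU.opensRange_fromSpec, (hU.preimage f).opensRange_fromSpec]

/-- Sections of a direct image form a cover of rank `d`. -/
theorem isRingCover_app (f : X ⟶ Y) [IsAffineHom f] {d : ℕ}
    (h : FlatMod.IsFinLocFreeOfRank d ((Scheme.Modules.pushforward f).obj (Coh.structureModule X)))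
    {U : Y.Opens} (hU : IsAffineOpen U) : IsRingCover (f.app U) d := by
  refine isRingCover_of_projective _ _ ?_
  letI := (f.app U).hom.toAlgebra
  obtain ⟨h1, h2⟩ := LocFree.finite_projective_sections (LocFree.isFinLocFree_of_rank h) hU
  let e : Γ((Scheme.Modules.pushforward f).obj (Coh.structureModule X), U) ≃ₗ[Γ(Y, U)] Γ(X, f ⁻¹ᵁ U) :=
    { toFun := fun x => x
      invFun := fun x => x
      left_inv := fun _ => rfl
      right_inv := fun _ => rfl
      map_add' := fun _ _ => rfl
      map_smul' := fun _ _ => rfl }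
  refine ⟨Module.Finite.equiv e, Module.Projective.of_equiv e, fun p => ?_⟩
  rw [← Module.rankAtStalk_eq_of_equiv e]
  exact LocFree.rankAtStalk_sections_ofRank h hU p

theorem isCover_of_pushforward (f : X ⟶ Y) [IsAffineHom f] (d : ℕ)
    (h : FlatMod.IsFinLocFreeOfRank d ((Scheme.Modules.pushforward f).obj (Coh.structureModule X))) :
    FinCov.IsCover f d := by
  refine isCover_of_charts f d fun y => ?_
  obtain ⟨U, hU, hy⟩ := Groth.QCohMod.exists_affine_mem y
  exact ⟨U, hU, _, f.app U, _, hy, isPullback_app f hU, isRingCover_app f h hU⟩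

theorem pushforward_of_isCover (f : X ⟶ Y) (d : ℕ) (h : FinCov.IsCover f d) :
    FlatMod.IsFinLocFreeOfRank d ((Scheme.Modules.pushforward f).obj (Coh.structureModule X)) := by
  obtain ⟨⟨hfin, hflat, hfp⟩, hd⟩ := h
  haveI : (Coh.structureModule X).IsQuasicoherent :=
    KTheory.LocFree.isQCoh (LocFree.isFinLocFree_unit X)
  haveI : ((Scheme.Modules.pushforward f).obj (Coh.structureModule X)).IsQuasicoherent :=
    Groth.QCohMod.isQCoh_pushforward _ f
  let M := (Scheme.Modules.pushforward f).obj (Coh.structureModule X)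
  have key : ∀ (U : Y.Opens) (hU : IsAffineOpen U),
      Module.Finite Γ(Y, U) Γ(M, U) ∧ Module.Projective Γ(Y, U) Γ(M, U) ∧
        ∀ p, Module.rankAtStalk (R := Γ(Y, U)) Γ(M, U) p = d := by
    intro U hU
    letI := (f.app U).hom.toAlgebra
    have hpb := isPullback_app f hU
    haveI : IsFinite (Spec.map (f.app U)) := MorphismProperty.of_isPullback hpb hfin
    haveI : Flat (Spec.map (f.app U)) := MorphismProperty.of_isPullback hpb hflat
    haveI : LocallyOfFinitePresentation (Spec.map (f.app U)) := MorphismProperty.of_isPullback hpb hfp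
    have h1 : (f.app U).hom.Finite := (IsFinite.SpecMap_iff _).1 inferInstance
    have h2 : (f.app U).hom.Flat := Flat.SpecMap_iff.1 inferInstance
    have h3 : Algebra.FinitePresentation Γ(Y, U) Γ(X, f ⁻¹ᵁ U) :=
      (LocallyOfFinitePresentation.SpecMap_iff _).1 inferInstance
    haveI : Module.Finite Γ(Y, U) Γ(X, f ⁻¹ᵁ U) := h1
    haveI : Module.Flat Γ(Y, U) Γ(X, f ⁻¹ᵁ U) := h2
    haveI : Module.FinitePresentation Γ(Y, U) Γ(X, f ⁻¹ᵁ U) :=
      Module.FinitePresentation.of_finite_of_finitePresentation Γ(Y, U) Γ(X, f ⁻¹ᵁ U)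
    haveI : Module.Projective Γ(Y, U) Γ(X, f ⁻¹ᵁ U) :=
      Module.Flat.projective_of_finitePresentation
    let e : Γ(X, f ⁻¹ᵁ U) ≃ₗ[Γ(Y, U)] Γ(M, U) :=
      { toFun := fun x => x
        invFun := fun x => x
        left_inv := fun _ => rfl
        right_inv := fun _ => rfl
        map_add' := fun _ _ => rfl
        map_smul' := fun _ _ => rfl }
    refine ⟨Module.Finite.equiv e, Module.Projective.of_equiv e, fun p => ?_⟩
    rw [← Module.rankAtStalk_eq_of_equiv e, ← hd (hU.fromSpec p),
      ← Scheme.Hom.finrank_of_isPullback _ _ _ _ hpb p, Scheme.Hom.finrank_SpecMap_eq_finrank h1 h2,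
      ← RingHom.algebraMap_toAlgebra (f.app U).hom, RingHom.finrank_algebraMap]
  have hlf : FlatMod.IsFinLocFree M :=
    LocFree.isFinLocFree_iff_affine.2 ⟨inferInstance, fun U hU => ⟨(key U hU).1, (key U hU).2.1⟩⟩
  refine LocFree.isFinLocFreeOfRank_iff_finrank.2 ⟨hlf, fun y => ?_⟩
  obtain ⟨U, hU, hy⟩ := Groth.QCohMod.exists_affine_mem y
  rw [← LocFree.rankAtStalk_sections hlf hU hy]
  exact (key U hU).2.2 _

variable (A : RelSpec.QCAlg X)

theorem isPullback_ι {U : X.Opens} (hU : IsAffineOpen U) :
    IsPullback (A.ι U hU) (Spec.map (A.str.app (op U))) A.π hU.fromSpec := by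
  refine (IsOpenImmersion.isPullback (Spec.map (A.str.app (op U))) (A.ι U hU) hU.fromSpec A.π
    (A.ι_π U hU) ?_).flip
  rw [hU.opensRange_fromSpec, A.π_preimage U hU]

/-- The structure module on sections, seen as a module through the structure map. -/
noncomputable def secEquiv (U : X.Opens) :
    letI : Algebra Γ(X, U) (A.presheaf.obj (op U)) := (A.str.app (op U)).hom.toAlgebra
    Γ(A.toModule, U) ≃ₗ[Γ(X, U)] A.presheaf.obj (op U) :=
  letI : Algebra Γ(X, U) (A.presheaf.obj (op U)) := (A.str.app (op U)).hom.toAlgebra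
  { toFun := fun x => QCohMod.toB A x
    invFun := fun x => QCohMod.ofB A x
    left_inv := fun _ => rfl
    right_inv := fun _ => rfl
    map_add' := fun _ _ => rfl
    map_smul' := fun _ _ => rfl }

theorem isCover_π {d : ℕ} (hA : FlatMod.IsFinLocFreeOfRank d A.toModule) : FinCov.IsCover A.π d := by
  refine isCover_of_charts A.π d fun x => ?_
  obtain ⟨U, hU, hx⟩ := Groth.QCohMod.exists_affine_mem x
  refine ⟨U, hU, _, A.str.app (op U), A.ι U hU, hx, isPullback_ι A hU, ?_⟩
  refine isRingCover_of_projective _ _ ?_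
  letI : Algebra Γ(X, U) (A.presheaf.obj (op U)) := (A.str.app (op U)).hom.toAlgebra
  obtain ⟨h1, h2⟩ := LocFree.finite_projective_sections (LocFree.isFinLocFree_of_rank hA) hU
  refine ⟨Module.Finite.equiv (secEquiv A U), Module.Projective.of_equiv (secEquiv A U), fun p => ?_⟩
  rw [← Module.rankAtStalk_eq_of_equiv (secEquiv A U)]
  exact LocFree.rankAtStalk_sections_ofRank hA hU p

end Groth.Misc6.FinCov
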