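import Mathlib.AlgebraicGeometry.Morphisms.FlatRank
import Mathlib.AlgebraicGeometry.FunctionField
import Mathlib.AlgebraicGeometry.ResidueField
import Mathlib.RingTheory.Algebraic.Integral
import Mathlib.RingTheory.RingHom.Finite
import Mathlib.AlgebraicGeometry.Noetherian
import Groth.Agent.Variety2.DimScheme
import Groth.Agent.FlatMorOne.GenFlatScheme
import Groth.Agent.S2081

/-!
The degree of a dominant morphism of varieties of the same dimension, on fibres over an open set.
-/

universe u

open CategoryTheory CategoryTheory.Limits AlgebraicGeometry TensorProduct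

namespace Groth.Misc6.GenericDegree

/-- The rank of a finite scheme over a field is the dimension of its algebra of functions. -/
theorem finrank_eq_appTop (K : Type u) [Field K] {Z : Scheme.{u}} (g : Z ⟶ Spec (CommRingCat.of K))
    [IsFinite g] (y : Spec (CommRingCat.of K)) :
    g.finrank y =
      (letI := ((Scheme.ΓSpecIso (CommRingCat.of K)).inv ≫ g.appTop).hom.toAlgebra;
        Module.finrank K Γ(Z, ⊤)) := by
  haveI : IsAffine Z := isAffine_of_isAffineHom g
  let φ := (Scheme.ΓSpecIso (CommRingCat.of K)).inv ≫ g.appTop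
  letI := φ.hom.toAlgebra
  have hmap : Z.isoSpec.inv ≫ g =
      (Spec.map (CommRingCat.ofHom (algebraMap K Γ(Z, ⊤))) :
        Spec Γ(Z, ⊤) ⟶ Spec (CommRingCat.of K)) := by
    rw [show CommRingCat.ofHom (algebraMap K Γ(Z, ⊤)) = φ from rfl, Spec.map_comp,
      ← Scheme.isoSpec_inv_naturality, Scheme.isoSpec_Spec_inv]
  haveI : Module.Finite K Γ(Z, ⊤) := by
    have h2 : IsFinite (Z.isoSpec.inv ≫ g) := inferInstance
    rw [hmap] at h2
    exact RingHom.finite_algebraMap.1 ((IsFinite.SpecMap_iff _).1 h2)
  rw [← Scheme.Hom.finrank_comp_left_of_isIso Z.isoSpec.inv g, hmap,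
    Scheme.Hom.finrank_SpecMap_algebraMap K Γ(Z, ⊤) y, Module.rankAtStalk_eq_finrank_of_free]
  rfl

/-- The residue field at the generic point is the fraction field of every affine open. -/
theorem isFractionRing_residueField {Y : Scheme.{u}} [IsIntegral Y] {U : Y.Opens} (hU : IsAffineOpen U)
    {y : Y} (hy : y = genericPoint Y) (hyU : y ∈ U) :
    letI := (Y.evaluation U y hyU).hom.toAlgebra
    IsFractionRing Γ(Y, U) (Y.residueField y) := by
  subst hy
  haveI : Nonempty U := ⟨⟨_, hyU⟩⟩
  letI := (Y.evaluation U (genericPoint Y) hyU).hom.toAlgebra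
  haveI := functionField_isFractionRing_of_isAffineOpen Y U hU
  have hinj : Function.Injective (Y.residue (genericPoint Y) : Y.functionField → _) := by
    refine (injective_iff_map_eq_zero (Y.residue (genericPoint Y)).hom).2 fun a ha => ?_
    have h : a ∈ IsLocalRing.maximalIdeal (Y.presheaf.stalk (genericPoint Y)) :=
      (IsLocalRing.residue_eq_zero_iff _).1 ha
    by_contra hne
    exact (IsLocalRing.mem_maximalIdeal _).1 h
      (show IsUnit (show Y.functionField from a) from isUnit_iff_ne_zero.2 hne)
  let e : Y.functionField ≃ₐ[Γ(Y, U)] Y.residueField (genericPoint Y) :=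
    AlgEquiv.ofBijective
      { toRingHom := (Y.residue (genericPoint Y)).hom
        commutes' := fun r => rfl } ⟨hinj, Y.residue_surjective _⟩
  exact IsLocalization.isLocalization_of_algEquiv (nonZeroDivisors Γ(Y, U)) e

/-- The rank of a finite flat morphism of integral schemes with affine target, at the generic points. -/
theorem finrank_eq_residueFieldMap {X Y : Scheme.{u}} [IsIntegral X] [IsIntegral Y] (f : X ⟶ Y)
    {U : Y.Opens} (hU : IsAffineOpen U) [IsFinite (f ∣_ U)] [Flat (f ∣_ U)]
    (hξ : f.base (genericPoint X) = genericPoint Y) (hξU : f.base (genericPoint X) ∈ U) :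
    (letI := (f.residueFieldMap (genericPoint X)).hom.toAlgebra;
      Module.Finite (Y.residueField (f.base (genericPoint X))) (X.residueField (genericPoint X))) ∧
    ∃ z : (U : Scheme.{u}), (f ∣_ U).finrank z =
      (letI := (f.residueFieldMap (genericPoint X)).hom.toAlgebra;
        Module.finrank (Y.residueField (f.base (genericPoint X))) (X.residueField (genericPoint X))) := by
  let W := f ⁻¹ᵁ U
  haveI : IsAffine (U : Scheme.{u}) := hU
  haveI : IsAffine (W : Scheme.{u}) := isAffine_of_isAffineHom (f ∣_ U)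
  have hW : IsAffineOpen W := ‹IsAffine (W : Scheme.{u})›
  haveI : Nonempty W := ⟨⟨genericPoint X, hξU⟩⟩
  haveI : Nonempty U := ⟨⟨_, hξU⟩⟩
  haveI : IsDomain Γ(X, W) := inferInstance
  haveI : IsDomain Γ(Y, U) := inferInstance
  let φ := f.app U
  have hfin : φ.hom.Finite ∧ φ.hom.Flat := by
    have h1 := (f ∣_ U).finite_appTop
    have h2 := (f ∣_ U).flat_appTop
    rw [← Scheme.Hom.resLE_eq_morphismRestrict] at h1 h2
    rw [RingHom.finite_respectsIso.arrow_mk_iso_iff (arrowResLEAppIso f _ _ _)] at h1
    rw [RingHom.Flat.respectsIso.arrow_mk_iso_iff (arrowResLEAppIso f _ _ _)] at h2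
    rw [Scheme.Hom.appLE_eq_app] at h1 h2
    exact ⟨h1, h2⟩
  letI := φ.hom.toAlgebra
  haveI : Module.Finite Γ(Y, U) Γ(X, W) := hfin.1
  haveI : Module.Flat Γ(Y, U) Γ(X, W) := hfin.2
  letI := (f.residueFieldMap (genericPoint X)).hom.toAlgebra
  letI a1 := (Y.evaluation U (f.base (genericPoint X)) hξU).hom.toAlgebra
  letI a2 := (X.evaluation W (genericPoint X) hξU).hom.toAlgebra
  haveI : IsFractionRing Γ(Y, U) (Y.residueField (f.base (genericPoint X))) :=
    isFractionRing_residueField hU hξ hξU
  haveI : IsFractionRing Γ(X, W) (X.residueField (genericPoint X)) :=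
    isFractionRing_residueField hW rfl hξU
  letI : Algebra Γ(Y, U) (X.residueField (genericPoint X)) :=
    ((algebraMap Γ(X, W) (X.residueField (genericPoint X))).comp (algebraMap Γ(Y, U) Γ(X, W))).toAlgebra
  haveI : IsScalarTower Γ(Y, U) Γ(X, W) (X.residueField (genericPoint X)) :=
    IsScalarTower.of_algebraMap_eq fun _ => rfl
  have hnat : Y.evaluation U (f.base (genericPoint X)) hξU ≫ f.residueFieldMap (genericPoint X) =
      f.app U ≫ X.evaluation W (genericPoint X) hξU := by
    rw [← Scheme.germ_residue, ← Scheme.germ_residue, Category.assoc, Scheme.residue_residueFieldMap,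
      ← Category.assoc, Scheme.Hom.germ_stalkMap, Category.assoc]
  haveI : IsScalarTower Γ(Y, U) (Y.residueField (f.base (genericPoint X)))
      (X.residueField (genericPoint X)) :=
    IsScalarTower.of_algebraMap_eq fun r => congr($(hnat.symm) r)
  haveI : FaithfulSMul Γ(Y, U) Γ(X, W) := by
    rw [faithfulSMul_iff_algebraMap_injective]
    intro a b hab
    apply IsFractionRing.injective Γ(Y, U) (Y.residueField (f.base (genericPoint X)))
    apply RingHom.injective (algebraMap (Y.residueField (f.base (genericPoint X))) (X.residueField (genericPoint X)))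
    rw [← IsScalarTower.algebraMap_apply, ← IsScalarTower.algebraMap_apply,
      IsScalarTower.algebraMap_apply Γ(Y, U) Γ(X, W), IsScalarTower.algebraMap_apply Γ(Y, U) Γ(X, W) _ b, hab]
  haveI : Algebra.IsAlgebraic Γ(Y, U) Γ(X, W) := Algebra.IsIntegral.isAlgebraic
  have hbc := Algebra.IsAlgebraic.isBaseChange_of_isFractionRing Γ(Y, U) Γ(X, W)
    (Y.residueField (f.base (genericPoint X))) (X.residueField (genericPoint X))
  refine ⟨Module.Finite.equiv hbc.equiv, ?_⟩
  let p : PrimeSpectrum (Y.residueField (f.base (genericPoint X))) := ⟨⊥, Ideal.isPrime_bot⟩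
  let q : PrimeSpectrum Γ(Y, U) := PrimeSpectrum.comap (algebraMap _ _) p
  refine ⟨hU.isoSpec.inv q, ?_⟩
  have key : (f ∣_ U).finrank (hU.isoSpec.inv q) = Module.rankAtStalk Γ(X, W) q := by
    have h := IsPullback.of_horiz_isIso (fst := hW.isoSpec.inv)
      (snd := Spec.map (CommRingCat.ofHom (algebraMap Γ(Y, U) Γ(X, W)))) (f := f ∣_ U)
      (g := hU.isoSpec.inv) ⟨by
        rw [← cancel_mono U.ι, Category.assoc, Category.assoc, morphismRestrict_ι,
          ← Category.assoc, IsAffineOpen.isoSpec_inv_ι, IsAffineOpen.isoSpec_inv_ι,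
          ← hU.SpecMap_appLE_fromSpec f hW le_rfl, Scheme.Hom.appLE_eq_app]
        rfl⟩
    rw [← Scheme.Hom.finrank_SpecMap_algebraMap Γ(Y, U) Γ(X, W) q, Scheme.Hom.finrank_of_isPullback _ _ _ _ h]
  rw [key]
  have h1 := congrFun (Module.rankAtStalk_eq_finrank_of_free
    (R := Y.residueField (f.base (genericPoint X))) (M := X.residueField (genericPoint X))) p
  rw [← Module.rankAtStalk_eq_of_equiv hbc.equiv, Module.rankAtStalk_baseChange] at h1
  exact h1.trans (Nat.cast_id _)

end Groth.Misc6.GenericDegree
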