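import Groth.Prelude.Def_EGA43
import Groth.Agent.FibreDim.RelDim
import Groth.Agent.FibreDim.LowerSemicont
import Groth.Agent.FibreDim.BaseChange
import Groth.Agent.PropsBasic2.OpenGen

/-!
# Equidimensional morphisms and irreducible components

`fh f x` is the height of `x` in its fibre. The local fibre dimension at `x` is the largest `fh f a`
for generalisations `a` of `x` in the fibre; `fh` is insensitive to closed immersions in the source.
-/

universe u

open CategoryTheory CategoryTheory.Limits AlgebraicGeometry TopologicalSpace Topology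

namespace Groth.Misc6.Equidim

open Groth.FibreDim

variable {X S : Scheme.{u}} (f : X ⟶ S)

/-- The height of a point in its fibre. -/
noncomputable def fh (x : X) : ℕ∞ := Order.height (f.asFiber x)

lemma fh_fiberι (y : S) (z : f.fiber y) : fh f ((f.fiberι y).base z) = Order.height z := by
  suffices key : ∀ (x : X) (y : S) (_ : f.base x = y) (z : f.fiber y), (f.fiberι y).base z = x →
      fh f x = Order.height z from key _ y (apply_fiberι f y z) z rfl
  rintro x _ rfl z hz
  rw [show z = f.asFiber x from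
    (f.fiberι _).isEmbedding.injective (hz.trans (f.fiberι_asFiber x).symm)]
  rfl

lemma fh_mono {a b : X} (h : a ⤳ b) (hf : f.base a = f.base b) : fh f b ≤ fh f a := by
  obtain ⟨za, hza⟩ : a ∈ Set.range (f.fiberι (f.base b)).base := (f.range_fiberι _).ge hf
  rw [← f.fiberι_asFiber b, ← hza] at h
  rw [← hza, fh_fiberι]
  exact Order.height_mono (Scheme.le_iff_specializes.2
    ((f.fiberι _).isEmbedding.toIsInducing.specializes_iff.1 h))

variable [LocallyOfFiniteType f]

lemma fh_le_fibreDimAt (x : X) : ((fh f x : ℕ∞) : WithBot ℕ∞) ≤ FlatMor.fibreDimAt f x :=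
  height_le_localDim (k := S.residueField (f.base x)) (f.fiberToSpecResidueField (f.base x)) _

lemma exists_fh_nat (x : X) : ∃ n : ℕ, fh f x = n := by
  obtain ⟨n, -, hn⟩ := exists_relTrdeg_eq_height f x
  exact ⟨n, hn⟩

lemma exists_fh_eq (x : X) : ∃ a : X, a ⤳ x ∧ f.base a = f.base x ∧
    ((fh f a : ℕ∞) : WithBot ℕ∞) = FlatMor.fibreDimAt f x := by
  obtain ⟨z, hz, hzd⟩ := exists_height_eq_localDim (k := S.residueField (f.base x))
    (f.fiberToSpecResidueField (f.base x)) (f.asFiber x)
  refine ⟨(f.fiberι _).base z, ?_, apply_fiberι f _ z, ?_⟩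
  · have := hz.map (f.fiberι (f.base x)).continuous
    rwa [f.fiberι_asFiber] at this
  · rw [fh_fiberι]; exact hzd

/-- Fibre dimensions can only jump up under specialisation. -/
lemma fibreDimAt_mono {a b : X} (h : a ⤳ b) : FlatMor.fibreDimAt f a ≤ FlatMor.fibreDimAt f b := by
  obtain ⟨c, -, -, hc⟩ := exists_fh_eq f b
  obtain ⟨n, hn⟩ := exists_fh_nat f c
  rw [← hc, hn]
  exact h.mem_open (isOpen_fibreDimAt_le f n) (show FlatMor.fibreDimAt f b ≤ n by rw [← hc, hn]; rfl)

lemma fibreDimAt_eq_fh_of_isMax {x : X} (h : IsMax x) :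
    FlatMor.fibreDimAt f x = ((fh f x : ℕ∞) : WithBot ℕ∞) := by
  obtain ⟨a, ha, -, hd⟩ := exists_fh_eq f x
  have hax : a = x :=
    (ha.antisymm (Scheme.le_iff_specializes.1 (h (Scheme.le_iff_specializes.2 ha)))).eq
  rw [← hd, hax]

omit [LocallyOfFiniteType f] in
lemma relTrdeg_comp_preimmersion {Z : Scheme.{u}} (ι : Z ⟶ X) [IsPreimmersion ι] (w : Z) :
    Groth.Variety2.Dim.relTrdeg (ι ≫ f) w = Groth.Variety2.Dim.relTrdeg f (ι.base w) := by
  let := (f.residueFieldMap (ι.base w)).hom.toAlgebra
  let := ((ι ≫ f).residueFieldMap w).hom.toAlgebra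
  have h := Scheme.residueFieldMap_comp ι f w
  let : Algebra (S.residueField (f.base (ι.base w))) (Z.residueField w) := ((ι ≫ f).residueFieldMap w).hom.toAlgebra
  let e : X.residueField (ι.base w) ≃ₐ[S.residueField (f.base (ι.base w))] Z.residueField w :=
    AlgEquiv.ofBijective
      ⟨(ι.residueFieldMap w).hom, fun c => (congr($(congrArg CommRingCat.Hom.hom h) c)).symm⟩
      ⟨(ι.residueFieldMap w).hom.injective, Groth.Variety2.Dim.residueFieldMap_surjective ι w⟩
  exact e.trdeg_eq.symm

lemma fh_comp_preimmersion {Z : Scheme.{u}} (ι : Z ⟶ X) [IsPreimmersion ι] [LocallyOfFiniteType ι]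
    (w : Z) : fh (ι ≫ f) w = fh f (ι.base w) := by
  obtain ⟨n, hn, hn'⟩ := exists_relTrdeg_eq_height (ι ≫ f) w
  obtain ⟨m, hm, hm'⟩ := exists_relTrdeg_eq_height f (ι.base w)
  rw [relTrdeg_comp_preimmersion, hm, Nat.cast_inj] at hn
  show Order.height _ = Order.height _
  rw [hn', hm', hn]

lemma fibreDimAt_comp_le {Z : Scheme.{u}} (ι : Z ⟶ X) [IsPreimmersion ι] [LocallyOfFiniteType ι]
    (w : Z) : FlatMor.fibreDimAt (ι ≫ f) w ≤ FlatMor.fibreDimAt f (ι.base w) := by
  obtain ⟨a, ha, -, hd⟩ := exists_fh_eq (ι ≫ f) w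
  rw [← hd, fh_comp_preimmersion]
  exact (fh_le_fibreDimAt f _).trans (fibreDimAt_mono f (ha.map ι.continuous))

/-- The criterion on an irreducible scheme. -/
theorem isEquidimAt_of_irreducible [IrreducibleSpace X] (x : X)
    (hS : closure {f.base (genericPoint X)} ∈ irreducibleComponents (S : Type u))
    (h : FlatMor.fibreDimAt f x ≤ FlatMor.fibreDimAt f (genericPoint X)) :
    EGA43.IsEquidimAt f x := by
  obtain ⟨a, -, -, ha⟩ := exists_fh_eq f (genericPoint X)
  obtain ⟨e, he⟩ := exists_fh_nat f a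
  rw [he] at ha
  let U : X.Opens := ⟨_, isOpen_fibreDimAt_le f e⟩
  have hxU : x ∈ U := h.trans ha.ge
  have hgU : genericPoint X ∈ U := (genericPoint_specializes x).mem_open U.isOpen hxU
  have : IrreducibleSpace (↥U : Type u) := (isIrreducible_iff_irreducibleSpace).1
    ⟨⟨x, hxU⟩, PreirreducibleSpace.isPreirreducible_univ.open_subset U.2 (Set.subset_univ _)⟩
  refine ⟨e, U, hxU, fun Z hZ => ⟨_, hS, ?_, ?_⟩, fun x' => ?_⟩
  · exact specializes_iff_mem_closure.1 ((genericPoint_specializes x).map f.continuous)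
  · have hZu : Z = Set.univ := by
      rw [irreducibleComponents_eq_singleton] at hZ
      exact hZ
    subst hZu
    refine subset_antisymm (closure_minimal ?_ isClosed_closure)
      (closure_mono (Set.singleton_subset_iff.2 ⟨⟨_, hgU⟩, trivial, rfl⟩))
    rintro _ ⟨v, -, rfl⟩
    exact specializes_iff_mem_closure.1 ((genericPoint_specializes (U.ι.base v)).map f.continuous)
  · refine (forall_component_dim_eq_iff (k := S.residueField _)
      ((U.ι ≫ f).fiberToSpecResidueField ((U.ι ≫ f).base x')) e).2 fun z => ?_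
    rw [← fibreDimAt_fiberι, fibreDimAt_openImmersion_comp]
    refine le_antisymm (Subtype.prop (((U.ι ≫ f).fiberι _).base z : (↥U : Type u))) ?_
    exact ha.le.trans (fibreDimAt_mono f (genericPoint_specializes _))

/-- What equidimensionality at `x` says about a component through `x`. -/
theorem of_isEquidimAt {x : X} (h : EGA43.IsEquidimAt f x) {η : X}
    (hη : closure {η} ∈ irreducibleComponents (X : Type u)) (hηx : η ⤳ x) :
    closure {f.base η} ∈ irreducibleComponents (S : Type u) ∧
      FlatMor.fibreDimAt f x = ((fh f η : ℕ∞) : WithBot ℕ∞) := by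
  obtain ⟨e, U, hxU, hcomp, hdim⟩ := h
  have hηU : η ∈ U := hηx.mem_open U.isOpen hxU
  have hconst : ∀ v : (↥U : Type u), FlatMor.fibreDimAt f (U.ι.base v) = e := fun v => by
    rw [← fibreDimAt_openImmersion_comp]
    exact (forall_component_dim_eq_iff (k := S.residueField _)
      ((U.ι ≫ f).fiberToSpecResidueField ((U.ι ≫ f).base v)) e).1 (hdim v) _
  constructor
  · obtain ⟨W, hW, -, hW'⟩ := hcomp (Subtype.val ⁻¹' closure {η})
      (preimage_mem_irreducibleComponents hη U.2.isOpenEmbedding_subtypeVal ⟨η, subset_closure rfl, ⟨⟨η, hηU⟩, rfl⟩⟩)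
    suffices closure {f.base η} = W by rwa [this]
    rw [← hW']
    refine subset_antisymm (closure_mono (Set.singleton_subset_iff.2 ⟨⟨η, hηU⟩, subset_closure rfl, rfl⟩))
      (closure_minimal ?_ isClosed_closure)
    rintro _ ⟨v, hv, rfl⟩
    exact specializes_iff_mem_closure.1 ((specializes_iff_mem_closure.2 hv).map f.continuous)
  · rw [← fibreDimAt_eq_fh_of_isMax f (isMax_of_mem_genericPoints hη)]
    exact (hconst ⟨x, hxU⟩).trans (hconst ⟨η, hηU⟩).symm

/-- A component through `x` whose generic point has the largest possible fibre height is, with its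
reduced structure, equidimensional at `x`. -/
theorem exists_component_isEquidimAt {η x : X} (hη : closure {η} ∈ irreducibleComponents (X : Type u))
    (hηx : η ⤳ x) (hS : closure {f.base η} ∈ irreducibleComponents (S : Type u))
    (h : FlatMor.fibreDimAt f x ≤ ((fh f η : ℕ∞) : WithBot ℕ∞)) :
    ∃ W : TopologicalSpace.Closeds X, (W : Set X) ∈ irreducibleComponents (X : Type u) ∧
      ∃ w : ↥((Scheme.IdealSheafData.vanishingIdeal W).subscheme),
        (Scheme.IdealSheafData.vanishingIdeal W).subschemeι.base w = x ∧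
        EGA43.IsEquidimAt ((Scheme.IdealSheafData.vanishingIdeal W).subschemeι ≫ f) w := by
  let W : TopologicalSpace.Closeds X := ⟨closure {η}, isClosed_closure⟩
  let ι := (Scheme.IdealSheafData.vanishingIdeal W).subschemeι
  have hrange : Set.range ι.base = closure {η} := by
    rw [Scheme.IdealSheafData.range_subschemeι, Scheme.IdealSheafData.coe_support_vanishingIdeal]
    rfl
  obtain ⟨w, hw⟩ : x ∈ Set.range ι.base := hrange.ge (specializes_iff_mem_closure.1 hηx)
  obtain ⟨ξ, hξ⟩ : η ∈ Set.range ι.base := hrange.ge (subset_closure rfl)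
  have hξg : IsGenericPoint ξ Set.univ := by
    refine isGenericPoint_iff_specializes.2 fun v => iff_of_true ?_ trivial
    refine ι.isEmbedding.toIsInducing.specializes_iff.1 ?_
    rw [hξ]
    exact specializes_iff_mem_closure.2 (hrange.le ⟨v, rfl⟩)
  have : IrreducibleSpace ((Scheme.IdealSheafData.vanishingIdeal W).subscheme : Type u) :=
    (irreducibleSpace_def _).2 hξg.isIrreducible
  have hξe : genericPoint ((Scheme.IdealSheafData.vanishingIdeal W).subscheme : Type u) = ξ :=
    (genericPoint_spec _).eq hξg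
  refine ⟨W, hη, w, hw, isEquidimAt_of_irreducible (ι ≫ f) w ?_ ?_⟩
  · rw [hξe, Scheme.Hom.comp_apply, hξ]; exact hS
  · refine (fibreDimAt_comp_le f ι w).trans ?_
    rw [hw, hξe]
    refine h.trans (le_trans (le_of_eq ?_) (fh_le_fibreDimAt (ι ≫ f) ξ))
    rw [fh_comp_preimmersion, hξ]

/-- For a universally open morphism every point has a generalisation over each generalisation of its
image whose fibre height is at least the fibre dimension at the point. -/
theorem exists_generalization_of_universallyOpen [UniversallyOpen f] (x : X) {η : S}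
    (hη : η ⤳ f.base x) :
    ∃ a : X, a ⤳ x ∧ f.base a = η ∧ FlatMor.fibreDimAt f x ≤ ((fh f a : ℕ∞) : WithBot ℕ∞) := by
  obtain ⟨V, _, _, _, g, hg, hg'⟩ := exists_valuation_lift hη
  let h := pullback.snd f g
  have : LocallyOfFiniteType h := inferInstanceAs (LocallyOfFiniteType (pullback.snd f g))
  have hc := IsPullback.of_hasPullback f g
  have hopen : IsOpenMap h.base := (MorphismProperty.pullback_snd (P := @UniversallyOpen) f g ‹_›).1 _ _ _ IsPullback.of_id_snd
  obtain ⟨z, hz, hz'⟩ := Scheme.Pullback.exists_preimage_pullback (f := f) (g := g) x (IsLocalRing.closedPoint V) hg.symm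
  obtain ⟨z₁, hz₁, hhz₁, hd⟩ := exists_fh_eq h z
  rw [fibreDimAt_baseChange f g h (pullback.fst f g) hc, hz] at hd
  have hcl : h.base z₁ = IsLocalRing.closedPoint V := hhz₁.trans hz'
  have hbot : (⟨⊥, Ideal.isPrime_bot⟩ : PrimeSpectrum V) ⤳ h.base z₁ := by
    rw [hcl]
    exact IsLocalRing.specializes_closedPoint _
  obtain ⟨z', hz'sp, hz'b⟩ := Groth.PropsBasic2.generalizingMap_of_isOpenMap h hopen hbot
  obtain ⟨n, hn, hn'⟩ := exists_relTrdeg_eq_height h z₁
  obtain ⟨m, hm, hm'⟩ := exists_relTrdeg_eq_height h z'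
  have hle := relTrdeg_le_of_valuation h hz'sp hz'b hcl
  rw [hn, hm, Nat.cast_le] at hle
  obtain ⟨a, ha, hfa, had⟩ := exists_fh_eq f ((pullback.fst f g).base z')
  refine ⟨a, ?_, ?_, ?_⟩
  · have h1 : (pullback.fst f g).base z₁ ⤳ x := hz ▸ hz₁.map (pullback.fst f g).continuous
    exact ha.trans ((hz'sp.map (pullback.fst f g).continuous).trans h1)
  · rw [hfa, ← Scheme.Hom.comp_apply, pullback.condition, Scheme.Hom.comp_apply]
    exact (congrArg g.base hz'b).trans hg'
  · rw [← hd, had, ← fibreDimAt_baseChange f g h (pullback.fst f g) hc]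
    refine le_trans (WithBot.coe_le_coe.2 ?_) (fh_le_fibreDimAt h z')
    show Order.height _ ≤ Order.height _
    rw [hn', hm']
    exact Nat.cast_le.2 hle

end Groth.Misc6.Equidim
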