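import Mathlib

/-! A short exact sequence with flat third term stays injective after tensoring. -/

namespace Groth.Misc6

open TensorProduct in
theorem flatInjAux {R : Type*} [CommRing R] {P F K : Type*} [AddCommGroup P] [Module R P]
    [AddCommGroup F] [Module R F] [Module.Flat R F] [AddCommGroup K] [Module R K] {M N Q : Type*}
    [AddCommGroup M] [Module R M] [AddCommGroup N] [Module R N] [AddCommGroup Q] [Module R Q] [Module.Flat R Q]
    (j : K →ₗ[R] F) (π : F →ₗ[R] P) (hji : Function.Injective j) (hj : Function.Exact j π)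
    (hπ : Function.Surjective π)
    (f : M →ₗ[R] N) (g : N →ₗ[R] Q) (hf : Function.Injective f) (hfg : Function.Exact f g)
    (hg : Function.Surjective g) : Function.Injective (f.lTensor P) := by
  rw [injective_iff_map_eq_zero]
  intro x hx
  obtain ⟨x₁, rfl⟩ := LinearMap.rTensor_surjective M hπ x
  have c1 : ∀ y, π.rTensor N (f.lTensor F y) = f.lTensor P (π.rTensor M y) := fun y => by
    rw [← LinearMap.comp_apply, LinearMap.rTensor_comp_lTensor, ← LinearMap.lTensor_comp_rTensor]; rfl
  have hjN : Function.Exact (LinearMap.rTensor N j) (LinearMap.rTensor N π) := rTensor_exact N (f := j) (g := π) hj hπ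
  obtain ⟨z, hz⟩ := (hjN _).1 ((c1 x₁).trans hx)
  have c2 : ∀ y, j.rTensor Q (g.lTensor _ y) = g.lTensor F (j.rTensor N y) := fun y => by
    rw [← LinearMap.comp_apply, LinearMap.rTensor_comp_lTensor, ← LinearMap.lTensor_comp_rTensor]; rfl
  have hz0 : g.lTensor _ z = 0 := by
    apply Module.Flat.rTensor_preserves_injective_linearMap j hji (M := Q)
    rw [map_zero, c2, hz]
    exact (lTensor_exact F hfg hg).apply_apply_eq_zero x₁
  obtain ⟨w, rfl⟩ := (lTensor_exact _ hfg hg _).1 hz0
  have c3 : j.rTensor N (f.lTensor _ w) = f.lTensor F (j.rTensor M w) := by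
    rw [← LinearMap.comp_apply, LinearMap.rTensor_comp_lTensor, ← LinearMap.lTensor_comp_rTensor]; rfl
  rw [c3] at hz
  rw [← Module.Flat.lTensor_preserves_injective_linearMap f hf (M := F) hz]
  exact (rTensor_exact M hj hπ).apply_apply_eq_zero w

open TensorProduct in
theorem flatInjKer {R : Type*} [CommRing R] {P F : Type*} [AddCommGroup P] [Module R P]
    [AddCommGroup F] [Module R F] [Module.Flat R F] {M N Q : Type*}
    [AddCommGroup M] [Module R M] [AddCommGroup N] [Module R N] [AddCommGroup Q] [Module R Q] [Module.Flat R Q]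
    (π : F →ₗ[R] P) (hπ : Function.Surjective π)
    (f : M →ₗ[R] N) (g : N →ₗ[R] Q) (hf : Function.Injective f) (hfg : Function.Exact f g)
    (hg : Function.Surjective g) : Function.Injective (f.lTensor P) :=
  flatInjAux (LinearMap.ker π).subtype π Subtype.val_injective (LinearMap.exact_subtype_ker_map π) hπ f g hf hfg hg

open TensorProduct in
theorem flatInj {R : Type*} [CommRing R] (P : Type*) [AddCommGroup P] [Module R P] {M N Q : Type*}
    [AddCommGroup M] [Module R M] [AddCommGroup N] [Module R N] [AddCommGroup Q] [Module R Q] [Module.Flat R Q]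
    (f : M →ₗ[R] N) (g : N →ₗ[R] Q) (hf : Function.Injective f) (hfg : Function.Exact f g)
    (hg : Function.Surjective g) : Function.Injective (f.lTensor P) :=
  flatInjKer (Finsupp.linearCombination R id) (Finsupp.linearCombination_id_surjective R P) f g hf hfg hg

end Groth.Misc6
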