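import Groth.Agent.Misc6.DevissageSum
import Groth.Agent.KTheory.DevissageNil
import Groth.Agent.CohTwo.PushClosed
import Mathlib.Algebra.Category.Grp.AB

/-!
# `K₀` of coherent modules supported in a closed subscheme
-/

set_option autoImplicit false

universe u

open CategoryTheory CategoryTheory.Limits AlgebraicGeometry TopologicalSpace

namespace Groth.Misc6.DevissageSupp

open Groth.QCohMod Groth.KTheory.DevissageAdj

variable {X Z : Scheme.{u}}

/-- Coproducts of monomorphisms of modules are monomorphisms. -/
theorem mono_sigmaMap {α : Type u} {M N : α → X.Modules} (f : ∀ a, M a ⟶ N a)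
    (hf : ∀ a, Mono (f a)) : Mono (Limits.Sigma.map f) := by
  refine (mono_iff_stalk _).mpr fun x => (AddCommGrpCat.mono_iff_injective _).mp ?_
  have : ∀ a, Mono ((stalk x).map (f a)) := fun a => inferInstance
  have : Mono (Limits.Sigma.map fun a => (stalk x).map (f a)) := by
    have : Mono (Discrete.natTrans (F := Discrete.functor fun a => (stalk x).obj (M a))
        (G := Discrete.functor fun a => (stalk x).obj (N a)) fun a => (stalk x).map (f a.as)) :=
      have : ∀ a : Discrete α, Mono ((Discrete.natTrans (F := Discrete.functor fun a => (stalk x).obj (M a))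
        (G := Discrete.functor fun a => (stalk x).obj (N a)) fun a => (stalk x).map (f a.as)).app a) :=
          fun a => inferInstanceAs (Mono ((stalk x).map (f a.as)))
      NatTrans.mono_of_mono_app _
    exact inferInstanceAs (Mono (colim.map (Discrete.natTrans
      (F := Discrete.functor fun a => (stalk x).obj (M a))
      (G := Discrete.functor fun a => (stalk x).obj (N a)) fun a => (stalk x).map (f a.as))))
  have e : (stalk x).map (Limits.Sigma.map f) = (PreservesCoproduct.iso (stalk x) M).hom ≫
      Limits.Sigma.map (fun a => (stalk x).map (f a)) ≫ (PreservesCoproduct.iso (stalk x) N).inv := by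
    rw [← Iso.inv_comp_eq]
    refine Sigma.hom_ext _ _ fun a => ?_
    simp only [PreservesCoproduct.inv_hom, ← Category.assoc, ι_comp_sigmaComparison, Sigma.ι_map]
    rw [Category.assoc _ _ (sigmaComparison (stalk x) N), ι_comp_sigmaComparison, ← Functor.map_comp,
      ← Functor.map_comp, Sigma.ι_map]
  rw [e]
  infer_instance

theorem isZero_sigma {C : Type*} [Category C] [HasZeroMorphisms C] {α : Type*} (M : α → C)
    [HasCoproduct M] (h : ∀ a, IsZero (M a)) : IsZero (∐ M) :=
  (IsZero.iff_id_eq_zero _).mpr (Sigma.hom_ext _ _ fun a => (h a).eq_of_src _ _)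

variable (i : Z ⟶ X) [IsClosedImmersion i]

/-- Stalks of a direct image along a closed immersion, at a point of the image. -/
noncomputable def pushStalkIso (z : Z) :
    Scheme.Modules.pushforward i ⋙ stalk (i z) ≅ stalk z :=
  NatIso.ofComponents
    (fun M =>
      @asIso _ _ _ _ (TopCat.Presheaf.stalkPushforward AddCommGrpCat.{u} i.base M.presheaf z)
        (TopCat.Presheaf.stalkPushforward.stalkPushforward_iso_of_isInducing AddCommGrpCat.{u}
          i.isClosedEmbedding.isInducing M.presheaf z))
    (fun {M N} φ => by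
      refine TopCat.Presheaf.stalk_hom_ext _ fun U hU => ?_
      ext s
      change CohTwo.pushStalk i N z ((stalk (i z)).map ((Scheme.Modules.pushforward i).map φ)
          (((Scheme.Modules.pushforward i).obj M).presheaf.germ U (i z) hU s)) =
        (stalk z).map φ (CohTwo.pushStalk i M z
          (((Scheme.Modules.pushforward i).obj M).presheaf.germ U (i z) hU s))
      rw [CohTwo.pushStalk_germ, stalk_map_germ]
      erw [stalk_map_germ]
      rw [CohTwo.pushStalk_germ]
      rfl)

instance preservesColimitsOfShape_push (K : Type u) [SmallCategory K] :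
    PreservesColimitsOfShape K (Scheme.Modules.pushforward i) where
  preservesColimit {F} := by
    have : IsIso (colimit.post F (Scheme.Modules.pushforward i)) := by
      refine isIso_of_stalk _ fun x => ?_
      have h : PreservesColimit F (Scheme.Modules.pushforward i ⋙ stalk x) := by
        by_cases hx : x ∈ Set.range i
        · obtain ⟨z, rfl⟩ := hx
          exact preservesColimit_of_natIso F (pushStalkIso i z).symm
        · refine ⟨fun {c} _ => ⟨?_⟩⟩
          have hz : ∀ M : Z.Modules, IsZero ((Scheme.Modules.pushforward i ⋙ stalk x).obj M) :=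
            fun M => by
              have hs : ¬ ¬ Subsingleton (((Scheme.Modules.pushforward i).obj M).presheaf.stalk x) :=
                fun h => hx (CohTwo.support_push_subset i M h)
              have := not_not.mp hs
              exact @AddCommGrpCat.isZero_of_subsingleton
                ((stalk x).obj ((Scheme.Modules.pushforward i).obj M)) this
          exact
            { desc := fun s => 0
              fac := fun s j => (hz _).eq_of_src _ _
              uniq := fun s m _ => (hz _).eq_of_src _ _ }
      have hpost := colimit.post_post F (Scheme.Modules.pushforward i) (stalk x)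
      exact IsIso.of_isIso_fac_left hpost
    exact preservesColimit_of_isIso_post _ _

instance preservesFiniteColimits_push : PreservesFiniteColimits (Scheme.Modules.pushforward i) :=
  have : PreservesColimitsOfSize.{u, u} (Scheme.Modules.pushforward i) := ⟨fun {K} _ => inferInstance⟩
  PreservesColimitsOfSize.preservesFiniteColimits.{u, u} _

instance preservesFiniteLimits_push : PreservesFiniteLimits (Scheme.Modules.pushforward i) :=
  have : PreservesLimitsOfSize.{0, 0} (Scheme.Modules.pushforward i) :=
    (Scheme.Modules.pullbackPushforwardAdjunction i).rightAdjoint_preservesLimits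
  ⟨fun _ _ _ => inferInstance⟩

variable [IsLocallyNoetherian X]

/-- Killed by a power of the ideal on an affine open. -/
def Kl (U : X.affineOpens) (n : ℕ) (M : X.Modules) : Prop :=
  ∀ a ∈ (i.ker.ideal U) ^ n, ∀ s : Γ(M, U.1), a • s = 0

theorem exists_kl (U : X.affineOpens) (M : X.Modules) (hM : Coh.IsCoh M)
    (hsupp : ∀ x : X, Nontrivial (M.presheaf.stalk x) → x ∈ Set.range i) : ∃ n, Kl i U n M := by
  have := hM.1
  have : IsNoetherianRing Γ(X, U.1) := IsLocallyNoetherian.component_noetherian U
  have := finite_sections M hM.2 U.2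
  have hle : i.ker.ideal U ≤ (Module.annihilator Γ(X, U.1) Γ(M, U.1)).radical := by
    rw [← PrimeSpectrum.zeroLocus_subset_zeroLocus_iff, ← Module.support_eq_zeroLocus]
    intro p hp a ha
    have hx : U.2.fromSpec p ∈ U.1 := by
      rw [← SetLike.mem_coe, ← U.2.range_fromSpec]; exact Set.mem_range_self p
    have hp' : U.2.primeIdealOf ⟨U.2.fromSpec p, hx⟩ = p :=
      U.2.fromSpec.isOpenEmbedding.injective (U.2.fromSpec_primeIdealOf _)
    have hmem : U.2.fromSpec p ∈ CohB1.support M := (mem_support_iff M U.2 _ hx).mpr (by rw [hp']; exact hp)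
    have hr : U.2.fromSpec p ∈ i.ker.support := by
      rw [← SetLike.mem_coe, Scheme.Hom.support_ker]
      exact subset_closure (hsupp _ (not_subsingleton_iff_nontrivial.mp hmem))
    rw [Scheme.IdealSheafData.mem_support_iff_of_mem (U := U) hx, Scheme.mem_zeroLocus_iff] at hr
    by_contra hap
    exact hr a ha (show p ∈ U.2.fromSpec ⁻¹ᵁ X.basicOpen a by
      rw [U.2.fromSpec_preimage_basicOpen]; exact hap)
  obtain ⟨n, hn⟩ := Ideal.exists_pow_le_of_le_radical_of_fg hle (IsNoetherian.noetherian _)
  exact ⟨n, fun a ha s => Module.mem_annihilator.mp (hn ha) s⟩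

theorem subsingleton_sections_of_kl {U : X.affineOpens} {M : X.Modules} (h : Kl i U 0 M) :
    Subsingleton Γ(M, U.1) :=
  ⟨fun s t => by rw [← one_smul Γ(X, U.1) s, ← one_smul Γ(X, U.1) t, h 1 (by simp) s, h 1 (by simp) t]⟩

theorem isZero_stalk_of_kl {U : X.affineOpens} {M : X.Modules} [M.IsQuasicoherent] (h : Kl i U 0 M)
    {x : X} (hx : x ∈ U.1) : IsZero ((stalk x).obj M) := by
  have := subsingleton_sections_of_kl i h
  have : Subsingleton (M.presheaf.stalk x) := by
    by_contra hne
    have := (mem_support_iff M U.2 x hx).mp hne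
    rw [Module.support_eq_empty_iff.mpr ‹Subsingleton Γ(M, U.1)›] at this
    exact this
  exact @AddCommGrpCat.isZero_of_subsingleton ((stalk x).obj M) this

theorem kl_biprod (U : X.affineOpens) (n : ℕ) {A B : X.Modules} (hA : Kl i U n A) (hB : Kl i U n B) :
    Kl i U n (A ⊞ B) := by
  intro a ha s
  have e : s = (biprod.inl : A ⟶ A ⊞ B).app U.1 ((biprod.fst : A ⊞ B ⟶ A).app U.1 s) +
      (biprod.inr : B ⟶ A ⊞ B).app U.1 ((biprod.snd : A ⊞ B ⟶ B).app U.1 s) := by
    conv_lhs => rw [show s = (𝟙 (A ⊞ B) : A ⊞ B ⟶ A ⊞ B).app U.1 s from rfl, ← biprod.total]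
    rfl
  rw [e, smul_add, ← Scheme.Modules.Hom.app_smul _ _ ((biprod.fst : A ⊞ B ⟶ A).app U.1 s),
    ← Scheme.Modules.Hom.app_smul _ _ ((biprod.snd : A ⊞ B ⟶ B).app U.1 s), hA a ha, hB a ha,
    map_zero, map_zero, add_zero]

/-- A morphism on sections over an open, linearly. -/
noncomputable def secLin {A B : X.Modules} (φ : A ⟶ B) (V : X.Opens) :
    Γ(A, V) →ₗ[Γ(X, V)] Γ(B, V) where
  toFun := φ.app V
  map_add' := map_add _
  map_smul' r s := φ.app_smul r s

omit [IsLocallyNoetherian X] in
/-- Sections are determined by their germs. -/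
theorem res_ext_germ' {M : X.Modules} {V : X.Opens} {a b : Γ(M, V)}
    (h : ∀ (y : X) (hy : y ∈ V), germ M y hy a = germ M y hy b) : a = b :=
  TopCat.Presheaf.section_ext (⟨M.presheaf, M.isSheaf⟩ : TopCat.Sheaf Ab.{u} X) V a b h

theorem finite_sigma (U : X.affineOpens) : ∀ (N : ℕ) (M : DevissageSum.Idx.{u} → X.Modules),
    (∀ k, Coh.IsCoh (M k)) → (∀ k : DevissageSum.Idx.{u}, N ≤ k.down → Kl i U 0 (M k)) →
      Module.Finite Γ(X, U.1) Γ(∐ M, U.1)
  | 0, M, hM, hk => by
    have : Subsingleton Γ(∐ M, U.1) := ⟨fun s t => res_ext_germ' fun x hx => by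
      have : IsZero ((stalk x).obj (∐ M)) :=
        (isZero_sigma _ fun k => (haveI := (hM k).1; isZero_stalk_of_kl i (hk k (Nat.zero_le _)) hx)).of_iso
          (PreservesCoproduct.iso (stalk x) M)
      have : Subsingleton ((∐ M).presheaf.stalk x) := AddCommGrpCat.subsingleton_of_isZero this
      exact Subsingleton.elim _ _⟩
    infer_instance
  | N + 1, M, hM, hk => by
    let M' : DevissageSum.Idx.{u} → X.Modules := fun k => M (DevissageSum.idxEquiv (some k))
    have h' := finite_sigma U N M' (fun k => hM _) fun k hkN => hk _ (Nat.succ_le_succ hkN)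
    have : (M (DevissageSum.idxEquiv none)).IsQuasicoherent := (hM _).1
    have h₀ := finite_sections (M (DevissageSum.idxEquiv none)) (hM _).2 U.2
    let e := DevissageSum.splitIso DevissageSum.idxEquiv.{u} M
    let a : M (DevissageSum.idxEquiv none) ⟶ ∐ M := biprod.inl ≫ e.inv
    let b : ∐ M' ⟶ ∐ M := biprod.inr ≫ e.inv
    refine Module.Finite.of_surjective ((secLin a U.1).coprod (secLin b U.1)) fun s => ?_
    refine ⟨((e.hom ≫ biprod.fst).app U.1 s, (e.hom ≫ biprod.snd).app U.1 s), ?_⟩
    rw [LinearMap.coprod_apply]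
    change a.app U.1 _ + b.app U.1 _ = s
    have := congr(($(show (e.hom ≫ biprod.fst) ≫ a + (e.hom ≫ biprod.snd) ≫ b = 𝟙 _ by
      have h : biprod.fst ≫ biprod.inl ≫ e.inv + biprod.snd ≫ biprod.inr ≫ e.inv = e.inv := by
        rw [← Category.assoc, ← Category.assoc, ← Preadditive.add_comp, biprod.total, Category.id_comp]
      simp only [a, b, Category.assoc]
      rw [← Preadditive.comp_add, h, Iso.hom_inv_id])).app U.1 s)
    exact this

/-- Coherent modules supported in the image of the closed immersion. -/
abbrev suppProp : ObjectProperty X.Modules :=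
  fun G => Coh.IsCoh G ∧ ∀ x : X, Nontrivial (G.presheaf.stalk x) → x ∈ Set.range i

omit [IsLocallyNoetherian X] in
theorem mem_range_of_mono {A B : X.Modules} (f : A ⟶ B) [Mono f]
    (hB : ∀ x : X, Nontrivial (B.presheaf.stalk x) → x ∈ Set.range i) (x : X)
    (hx : Nontrivial (A.presheaf.stalk x)) : x ∈ Set.range i :=
  hB x (@Function.Injective.nontrivial _ _ hx _ ((mono_iff_stalk f).mp inferInstance x))

/-- The dévissage data of a closed immersion. -/
noncomputable def data : DevissageSum.Data.{u} (Scheme.Modules.pullbackPushforwardAdjunction i)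
    (suppProp i) (fun M : Z.Modules => Coh.IsCoh M) X.affineOpens :=
  have : IsLocallyNoetherian Z := LocallyOfFiniteType.isLocallyNoetherian i
  { Kl := Kl i
    hPker := fun f hA hB => ⟨@Groth.QCohMod.isCoh_kernel X _ _ _ f hB.1.1 hA.1,
      mem_range_of_mono i (kernel.ι f) hA.2⟩
    hQker := fun f hM hN => @Groth.QCohMod.isCoh_kernel Z _ _ _ f hN.1 hM
    hPiso := fun e h => ⟨isCoh_of_iso e h.1, mem_range_of_mono i e.inv h.2⟩
    hPbi := fun {A B} hA hB => ⟨isCoh_biprod hA.1 hB.1, fun x hx => by
      by_contra hxr
      have h0 : ∀ (C : X.Modules), (∀ x : X, Nontrivial (C.presheaf.stalk x) → x ∈ Set.range i) →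
          IsZero ((stalk x).obj C) := fun C hC => by
        have : Subsingleton (C.presheaf.stalk x) := not_nontrivial_iff_subsingleton.mp (mt (hC x) hxr)
        exact @AddCommGrpCat.isZero_of_subsingleton ((stalk x).obj C) this
      have hz : IsZero ((stalk x).obj (A ⊞ B)) := by
        rw [IsZero.iff_id_eq_zero, ← (stalk x).map_id, ← biprod.total, Functor.map_add,
          Functor.map_comp, Functor.map_comp, (h0 A hA.2).eq_of_tgt ((stalk x).map biprod.fst) 0,
          (h0 B hB.2).eq_of_tgt ((stalk x).map biprod.snd) 0, zero_comp, zero_comp, add_zero]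
      exact not_subsingleton_iff_nontrivial.mpr hx (AddCommGrpCat.subsingleton_of_isZero hz)⟩
    hL := fun M hM => ⟨@isQCoh_pullback_obj _ _ i M hM.1.1, isFT_pullback i M hM.1.2⟩
    hR := fun M hM => ⟨CohTwo.isCoh_push i hM, fun x hx =>
      CohTwo.support_push_subset i M (not_subsingleton_iff_nontrivial.mpr hx)⟩
    hunit := fun M hM => by
      have := hM.1.1
      have : ((Scheme.Modules.pullback i).obj M).IsQuasicoherent := isQCoh_pullback_obj i M
      exact epi_of_affine_surjective _ fun U hU => (unit_closedImmersion_app i M hU).1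
    hcounit := fun M hM => @isIso_counit_closedImmersion _ _ i _ M hM.1
    hsum := fun M hM hk => by
      have : ∀ k, (M k).IsQuasicoherent := fun k => (hM k).1.1
      refine ⟨(isCoh_iff _).mpr ⟨inferInstance, fun U hU => ?_⟩, fun x hx => ?_⟩
      · obtain ⟨N, hN⟩ := hk ⟨U, hU⟩
        exact finite_sigma i ⟨U, hU⟩ N M (fun k => (hM k).1) hN
      · by_contra hxr
        have hz : IsZero ((stalk x).obj (∐ M)) :=
          (isZero_sigma _ fun k => by
            have : Subsingleton ((M k).presheaf.stalk x) :=
              not_nontrivial_iff_subsingleton.mp (mt ((hM k).2 x) hxr)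
            exact @AddCommGrpCat.isZero_of_subsingleton ((stalk x).obj (M k)) this).of_iso
            (PreservesCoproduct.iso (stalk x) M)
        exact not_subsingleton_iff_nontrivial.mpr hx (AddCommGrpCat.subsingleton_of_isZero hz)
    kmono := fun U n {A B} f _ h a ha s => by
      apply app_injective_of_mono f U.1
      rw [Scheme.Modules.Hom.app_smul, h a ha, map_zero]
    kepi := fun U n {A B} f _ hA hB h a ha s => by
      have := hA.1.1
      have := hB.1.1
      obtain ⟨t, rfl⟩ := app_surjective_of_epi f U.2 s
      rw [← Scheme.Modules.Hom.app_smul, h a ha, map_zero]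
    kbi := fun U n {A B} hA hB => kl_biprod i U n hA hB
    kle := fun U n {A} h a ha s => h a (Ideal.pow_le_pow_right (Nat.le_succ n) ha) s
    kT := fun U n {M} hM h a ha s => by
      have := hM.1.1
      let adj := Scheme.Modules.pullbackPushforwardAdjunction i
      let ι : T adj M ⟶ M := kernel.ι _
      apply app_injective_of_mono ι U.1
      change ι.app U.1 (a • s) = ι.app U.1 0
      rw [ι.app_smul, map_zero]
      have hmem := ((unit_closedImmersion_app i M U.2).2 (ι.app U.1 s)).1
        (congr(($(kernel.condition (eta adj M))).app U.1 s))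
      refine Submodule.smul_induction_on (p := fun x => a • x = 0) hmem (fun b hb t _ => ?_)
        fun p q hp hq => by rw [smul_add, hp, hq, add_zero]
      rw [← mul_smul]
      exact h _ (by rw [pow_succ]; exact Ideal.mul_mem_mul ha hb) t
    kex := fun U M hM => exists_kl i U M hM.1 hM.2 }

theorem bijective_mapSub_supp (hR : ∀ M : Z.Modules, Coh.IsCoh M →
    suppProp i ((Scheme.Modules.pushforward i).obj M)) :
    Function.Bijective (SGA6.mapSub (Scheme.Modules.pushforward i)
      (fun M : Z.Modules => Coh.IsCoh M) (suppProp i) hR) :=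
  DevissageSum.bijective_mapSub _ (fun f hf => mono_sigmaMap f hf) (fun f hf => mono_sigmaMap f hf)
    (data i)

end Groth.Misc6.DevissageSupp
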