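import Groth.Agent.CohBase.IdealOfClosed
import Groth.Agent.CohBase.AffineVanishing
import Groth.Agent.QCohMod.Category

/-!
# An extension of quasi-coherent modules is quasi-coherent
-/

set_option autoImplicit false

universe u

open CategoryTheory CategoryTheory.Limits AlgebraicGeometry Opposite TopologicalSpace

namespace Groth.Misc6

open Groth.QCohMod

variable {X : Scheme.{u}}

/-- Sections over an affine open of an extension by a quasi-coherent module surject. -/
theorem app_surjective_of_qcoh_kernel {S : ShortComplex X.Modules} (hS : S.ShortExact)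
    [S.X₁.IsQuasicoherent] {U : X.Opens} (hU : IsAffineOpen U) :
    Function.Surjective (S.g.app U) := by
  intro t
  obtain ⟨s, hs⟩ := Groth.CohBase.sections_surjective (Groth.CohBase.shortExact_toAb hS)
    (Groth.CohBase.hVanish_of_isAffineOpen S.X₁ hU 0) t
  exact ⟨s, hs⟩

/-- An extension of quasi-coherent modules is quasi-coherent. -/
theorem isQCoh_of_extension {S : ShortComplex X.Modules} (hS : S.ShortExact)
    [S.X₁.IsQuasicoherent] [S.X₃.IsQuasicoherent] : S.X₂.IsQuasicoherent := by
  have := hS.mono_f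
  refine isQCoh_of_forall_affine _ (fun U hU f m => ?_) (fun U hU f t ht => ?_)
  · obtain ⟨n, q, hq⟩ := exists_pow_smul_eq_res S.X₃ hU f (S.g.app _ m)
    obtain ⟨p, rfl⟩ := app_surjective_of_qcoh_kernel hS hU q
    obtain ⟨a, ha⟩ := exists_app_eq_of_mono_exact hS.exact (X.basicOpen f)
      (res S.X₂ (X.basicOpen_le f) p - resFun X (X.basicOpen_le f) f ^ n • m)
      (by rw [map_sub, Scheme.Modules.Hom.app_smul, ← res_app, hq, sub_self])
    obtain ⟨l, b, hb⟩ := exists_pow_smul_eq_res S.X₁ hU f a
    refine ⟨l + n, f ^ l • p - S.f.app U b, ?_⟩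
    rw [map_sub, res_smul, res_app, hb, Scheme.Modules.Hom.app_smul, ha, map_pow, smul_sub,
      pow_add, mul_smul, sub_sub_cancel]
  · obtain ⟨n, hn⟩ := exists_pow_smul_eq_zero S.X₃ hU f (S.g.app U t)
      (by rw [res_app, ht, map_zero])
    obtain ⟨a, ha⟩ := exists_app_eq_of_mono_exact hS.exact U (f ^ n • t)
      (by rw [Scheme.Modules.Hom.app_smul, hn])
    obtain ⟨l, hl⟩ := exists_pow_smul_eq_zero S.X₁ hU f a (by
      refine app_injective_of_mono S.f _ ?_
      rw [← res_app, ha, res_smul, ht, smul_zero, map_zero])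
    exact ⟨l + n, by rw [pow_add, mul_smul, ← ha, ← Scheme.Modules.Hom.app_smul, hl, map_zero]⟩

end Groth.Misc6
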