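import Groth.Agent.Misc6.Equidim
import Groth.Agent.BMCoh.Piece
import Mathlib.RingTheory.Ideal.KrullsHeightTheorem

/-!
# Equidimensional morphisms over a locally Noetherian base: components, sections, quasi-sections
-/

universe u

open CategoryTheory CategoryTheory.Limits AlgebraicGeometry TopologicalSpace Topology

namespace Groth.Misc6.Equidim

open Groth.FibreDim

variable {X S : Scheme.{u}} (f : X ⟶ S)

lemma asFiber_specializes_iff {a x : X} (h : f.base a = f.base x) {za : f.fiber (f.base x)}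
    (hza : (f.fiberι (f.base x)).base za = a) : za ⤳ f.asFiber x ↔ a ⤳ x := by
  rw [← (f.fiberι (f.base x)).isEmbedding.toIsInducing.specializes_iff, hza, f.fiberι_asFiber]

/-- The maximal points of a fibre, read in the fibre. -/
lemma eq_of_mem_fibre_genericPoints {y : S} {ζ : f.fiber y}
    (hζ : closure {ζ} ∈ irreducibleComponents (f.fiber y : Type u)) {a : X} (ha : f.base a = y)
    (hs : a ⤳ (f.fiberι y).base ζ) : a = (f.fiberι y).base ζ := by
  obtain ⟨za, rfl⟩ : a ∈ Set.range (f.fiberι y).base := (f.range_fiberι _).ge ha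
  have h1 : za ⤳ ζ := (f.fiberι _).isEmbedding.toIsInducing.specializes_iff.1 hs
  rw [(h1.antisymm (Scheme.le_iff_specializes.1
    (isMax_of_mem_genericPoints hζ (Scheme.le_iff_specializes.2 h1)))).eq]

/-- Every point has a generalisation in its fibre which is maximal there. -/
lemma exists_max_in_fibre (a : X) : ∃ c : X, c ⤳ a ∧ f.base c = f.base a ∧
    ∀ c' : X, f.base c' = f.base c → c' ⤳ c → c' = c := by
  obtain ⟨ζ, hζ, hζc⟩ := exists_genericPoint_specializes (f.asFiber a)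
  refine ⟨(f.fiberι _).base ζ, ?_, apply_fiberι f _ ζ, fun c' h1 h2 => ?_⟩
  · have := hζ.map (f.fiberι (f.base a)).continuous
    rwa [f.fiberι_asFiber] at this
  · exact eq_of_mem_fibre_genericPoints f hζc (h1.trans (apply_fiberι f _ ζ)) h2

variable [LocallyOfFiniteType f]

lemma fh_add_one_le {a b : X} (h : a ⤳ b) (hne : a ≠ b) (hf : f.base a = f.base b) :
    fh f b + 1 ≤ fh f a := by
  obtain ⟨za, hza⟩ : a ∈ Set.range (f.fiberι (f.base b)).base := (f.range_fiberι _).ge hf
  have h1 : za ⤳ f.asFiber b := (asFiber_specializes_iff f hf hza).2 h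
  rw [← hza, fh_fiberι]
  refine Order.height_add_one_le (lt_of_le_not_ge (Scheme.le_iff_specializes.2 h1) fun h2 => hne ?_)
  rw [← hza, (h1.antisymm (Scheme.le_iff_specializes.1 h2)).eq, f.fiberι_asFiber]

lemma fibreDimAt_eq_fh_add_coheight (z : X) :
    FlatMor.fibreDimAt f z = ((fh f z + Order.coheight (f.asFiber z) : ℕ∞) : WithBot ℕ∞) := by
  letI : (f.fiber (f.base z)).Over (Spec (S.residueField (f.base z))) := ⟨f.fiberToSpecResidueField _⟩
  haveI : LocallyOfFiniteType ((f.fiber (f.base z)) ↘ Spec (S.residueField (f.base z))) :=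
    inferInstanceAs (LocallyOfFiniteType (f.fiberToSpecResidueField _))
  rw [WithBot.coe_add, ← ringKrullDim_stalk_eq_coheight]
  exact Groth.VarietyBC.localDim_eq_height_add (k := S.residueField (f.base z)) (f.asFiber z)

lemma exists_coheight_nat (z : X) : ∃ n : ℕ, Order.coheight (f.asFiber z) = n := by
  obtain ⟨a, -, -, ha⟩ := exists_fh_eq f z
  obtain ⟨m, hm⟩ := exists_fh_nat f a
  rw [hm, fibreDimAt_eq_fh_add_coheight, WithBot.coe_inj] at ha
  exact ⟨(Order.coheight (f.asFiber z)).toNat,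
    (ENat.coe_toNat fun h => by rw [h, add_top] at ha; exact ENat.coe_ne_top m ha).symm⟩

omit [LocallyOfFiniteType f] in
lemma fiberι_strictMono (y : S) : StrictMono (f.fiberι y).base := fun a b h => by
  refine lt_of_le_not_ge (Scheme.le_iff_specializes.2
    ((Scheme.le_iff_specializes.1 h.le).map (f.fiberι y).continuous)) fun h2 => h.not_ge ?_
  exact Scheme.le_iff_specializes.2
    ((f.fiberι y).isEmbedding.toIsInducing.specializes_iff.1 (Scheme.le_iff_specializes.1 h2))

omit [LocallyOfFiniteType f] in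
lemma coheight_asFiber_le (z : X) : Order.coheight (f.asFiber z) ≤ Order.coheight z := by
  refine (Order.coheight_le_coheight_apply_of_strictMono _ (fiberι_strictMono f (f.base z))
    (f.asFiber z)).trans (le_of_eq ?_)
  rw [f.fiberι_asFiber]

/-- If every component through `z` leaves the fibre of `z`, the coheight in the fibre is smaller. -/
lemma coheight_asFiber_add_one_le (z : X)
    (h : ∀ ξ : X, ξ ⤳ z → closure {ξ} ∈ irreducibleComponents (X : Type u) → f.base ξ ≠ f.base z) :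
    Order.coheight (f.asFiber z) + 1 ≤ Order.coheight z := by
  obtain ⟨n, hn⟩ := exists_coheight_nat f z
  obtain ⟨l, hl, hlen⟩ := Order.exists_series_of_le_coheight (f.asFiber z) hn.ge
  let p := l.map (f.fiberι (f.base z)).base (fiberι_strictMono f _)
  have hp : p.head = z := by
    show (f.fiberι _).base l.head = z
    rw [hl, f.fiberι_asFiber]
  obtain ⟨ξ, hξ, hξc⟩ := exists_genericPoint_specializes p.last
  have hpz : p.last ⤳ z := hp ▸ Scheme.le_iff_specializes.1 (LTSeries.head_le_last p)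
  have hlt : p.last < ξ := lt_of_le_not_ge (Scheme.le_iff_specializes.2 hξ) fun h2 =>
    h ξ (hξ.trans hpz) hξc <| by
      rw [(hξ.antisymm (Scheme.le_iff_specializes.1 h2)).eq]
      exact apply_fiberι f _ _
  have := Order.length_le_coheight (x := z) (p := p.snoc ξ hlt) (by rw [RelSeries.head_snoc, hp])
  rw [hn]
  simpa [p, hlen] using this

/-- The fibre dimension of a closed subscheme, read on the subset of the ambient scheme. -/
lemma localDim_inter_eq {Z : Scheme.{u}} (ι : Z ⟶ X) [IsPreimmersion ι] (w : Z) {W : Set X}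
    (hW : Set.range ι.base = W) {x : X} (hw : ι.base w = x) (h : x ∈ W ∩ f.base ⁻¹' {f.base x}) :
    FlatMor.localDim ↥(W ∩ f.base ⁻¹' {f.base x}) ⟨x, h⟩ = FlatMor.fibreDimAt (ι ≫ f) w := by
  have hr : Set.range (((ι ≫ f).fiberι (f.base x) ≫ ι).base) = W ∩ f.base ⁻¹' {f.base x} := by
    rw [Scheme.Hom.comp_base, TopCat.coe_comp, Set.range_comp, (ι ≫ f).range_fiberι, ← hW,
      ← Set.image_preimage_eq_range_inter]
    rfl
  obtain ⟨z, hz⟩ : w ∈ Set.range ((ι ≫ f).fiberι (f.base x)).base :=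
    ((ι ≫ f).range_fiberι _).ge (by
      show f.base (ι.base w) = f.base x
      rw [hw])
  conv_rhs => rw [← hz, fibreDimAt_fiberι]
  refine localDim_eq_of_range IsEmbedding.subtypeVal
    (((ι ≫ f).fiberι (f.base x) ≫ ι).isEmbedding) (by rw [Subtype.range_coe, hr]) ?_
  show x = ι.base (((ι ≫ f).fiberι (f.base x)).base z)
  rw [hz, hw]

section Closed

variable (W : Closeds X) {x : X}

omit [LocallyOfFiniteType f] in
lemma exists_sub_point (hx : x ∈ (W : Set X)) :
    ∃ w, (Scheme.IdealSheafData.vanishingIdeal W).subschemeι.base w = x :=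
  (show x ∈ Set.range (Scheme.IdealSheafData.vanishingIdeal W).subschemeι.base by
    rwa [Scheme.IdealSheafData.range_subschemeι, Scheme.IdealSheafData.coe_support_vanishingIdeal])

omit [LocallyOfFiniteType f] in
lemma range_sub : Set.range (Scheme.IdealSheafData.vanishingIdeal W).subschemeι.base = (W : Set X) := by
  rw [Scheme.IdealSheafData.range_subschemeι, Scheme.IdealSheafData.coe_support_vanishingIdeal]

lemma fh_le_localDim_inter (h : x ∈ (W : Set X) ∩ f.base ⁻¹' {f.base x}) {a : X}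
    (ha : a ∈ (W : Set X)) (hax : a ⤳ x) :
    ((fh f a : ℕ∞) : WithBot ℕ∞) ≤ FlatMor.localDim ↥((W : Set X) ∩ f.base ⁻¹' {f.base x}) ⟨x, h⟩ := by
  obtain ⟨w, hw⟩ := exists_sub_point W h.1
  obtain ⟨v, hv⟩ := exists_sub_point W ha
  rw [localDim_inter_eq f _ w (range_sub W) hw h, ← hv, ← fh_comp_preimmersion f _ v]
  refine (fh_le_fibreDimAt _ v).trans (fibreDimAt_mono _ ?_)
  exact (Scheme.IdealSheafData.vanishingIdeal W).subschemeι.isEmbedding.toIsInducing.specializes_iff.1
    (by rw [hv, hw]; exact hax)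

lemma exists_fh_eq_inter (h : x ∈ (W : Set X) ∩ f.base ⁻¹' {f.base x}) :
    ∃ a ∈ (W : Set X), a ⤳ x ∧ f.base a = f.base x ∧ ((fh f a : ℕ∞) : WithBot ℕ∞) =
      FlatMor.localDim ↥((W : Set X) ∩ f.base ⁻¹' {f.base x}) ⟨x, h⟩ := by
  obtain ⟨w, hw⟩ := exists_sub_point W h.1
  obtain ⟨a, ha, hfa, hd⟩ := exists_fh_eq ((Scheme.IdealSheafData.vanishingIdeal W).subschemeι ≫ f) w
  refine ⟨(Scheme.IdealSheafData.vanishingIdeal W).subschemeι.base a,
    (range_sub W).le ⟨a, rfl⟩, hw ▸ ha.map (Scheme.IdealSheafData.vanishingIdeal W).subschemeι.continuous, ?_, ?_⟩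
  · rw [← hw]; exact hfa
  · rw [localDim_inter_eq f _ w (range_sub W) hw h, ← fh_comp_preimmersion f]; exact hd

end Closed

/-- The reduced closure of `ζ` is equidimensional at `x` if `ζ` has the largest possible fibre height
there and its image is a maximal point of the base. -/
theorem isEquidimAt_closure {W : Closeds X} {ζ x : X} (hW : closure {ζ} = (W : Set X))
    (hS : closure {f.base ζ} ∈ irreducibleComponents (S : Type u))
    (h : x ∈ (W : Set X) ∩ f.base ⁻¹' {f.base x})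
    (hd : FlatMor.localDim ↥((W : Set X) ∩ f.base ⁻¹' {f.base x}) ⟨x, h⟩ ≤ ((fh f ζ : ℕ∞) : WithBot ℕ∞))
    (w : ↥(Scheme.IdealSheafData.vanishingIdeal W).subscheme)
    (hw : (Scheme.IdealSheafData.vanishingIdeal W).subschemeι.base w = x) :
    EGA43.IsEquidimAt ((Scheme.IdealSheafData.vanishingIdeal W).subschemeι ≫ f) w := by
  let ι := (Scheme.IdealSheafData.vanishingIdeal W).subschemeι
  obtain ⟨ξ, hξ⟩ := exists_sub_point W (hW ▸ subset_closure rfl : ζ ∈ (W : Set X))
  have hξg : IsGenericPoint ξ Set.univ := by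
    refine isGenericPoint_iff_specializes.2 fun v => iff_of_true ?_ trivial
    refine ι.isEmbedding.toIsInducing.specializes_iff.1 ?_
    rw [hξ]
    exact specializes_iff_mem_closure.2 (hW ▸ (range_sub W).le ⟨v, rfl⟩)
  have : IrreducibleSpace ((Scheme.IdealSheafData.vanishingIdeal W).subscheme : Type u) :=
    (irreducibleSpace_def _).2 hξg.isIrreducible
  have hξe : genericPoint ((Scheme.IdealSheafData.vanishingIdeal W).subscheme : Type u) = ξ :=
    (genericPoint_spec _).eq hξg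
  refine isEquidimAt_of_irreducible (ι ≫ f) w ?_ ?_
  · rw [hξe, Scheme.Hom.comp_apply, hξ]; exact hS
  · rw [← localDim_inter_eq f ι w (range_sub W) hw h, hξe]
    refine hd.trans (le_trans (le_of_eq ?_) (fh_le_fibreDimAt (ι ≫ f) ξ))
    rw [fh_comp_preimmersion, hξ]

/-- On a locally Noetherian scheme, the components through `x` control equidimensionality at `x`. -/
theorem isEquidimAt_of_components [IsLocallyNoetherian X] {x : X} (e : ℕ)
    (hS : ∀ ξ : X, ξ ⤳ x → closure {ξ} ∈ irreducibleComponents (X : Type u) →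
      closure {f.base ξ} ∈ irreducibleComponents (S : Type u) ∧ fh f ξ = e)
    (hx : FlatMor.fibreDimAt f x ≤ e) : EGA43.IsEquidimAt f x := by
  obtain ⟨V, hV, hxV, -⟩ := exists_isAffineOpen_mem_and_subset (U := (⊤ : X.Opens)) (x := x) trivial
  haveI : IsNoetherianRing Γ(X, V) := IsLocallyNoetherian.component_noetherian ⟨V, hV⟩
  haveI : NoetherianSpace ↥V := noetherianSpace_of_isAffineOpen V hV
  let T : Set (Set ↥V) := {Z ∈ irreducibleComponents (↥V : Type u) | (⟨x, hxV⟩ : ↥V) ∉ Z}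
  have hT : IsClosed (⋃₀ T) := by
    rw [Set.sUnion_eq_biUnion]
    exact (NoetherianSpace.finite_irreducibleComponents.subset fun Z hZ => hZ.1).isClosed_biUnion
      fun Z hZ => isClosed_of_mem_irreducibleComponents Z hZ.1
  let U₁ : X.Opens := ⟨Subtype.val '' (⋃₀ T)ᶜ, V.2.isOpenEmbedding_subtypeVal.isOpenMap _ hT.isOpen_compl⟩
  let U : X.Opens := U₁ ⊓ ⟨_, isOpen_fibreDimAt_le f e⟩
  have hU₁ : ∀ z ∈ U₁, ∀ ξ : X, ξ ⤳ z → closure {ξ} ∈ irreducibleComponents (X : Type u) → ξ ⤳ x := by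
    rintro _ ⟨z, hz, rfl⟩ ξ hξ hξc
    have hZ := preimage_mem_irreducibleComponents hξc V.2.isOpenEmbedding_subtypeVal
      ⟨z, specializes_iff_mem_closure.1 hξ, ⟨z, rfl⟩⟩
    by_contra h
    exact hz ⟨_, ⟨hZ, fun h' => h (specializes_iff_mem_closure.2 h')⟩, specializes_iff_mem_closure.1 hξ⟩
  have hxU : x ∈ U := ⟨⟨⟨x, hxV⟩, fun ⟨Z, hZ, hxZ⟩ => hZ.2 hxZ, rfl⟩, hx⟩
  refine ⟨e, U, hxU, fun Z hZ => ?_, fun x' => ?_⟩
  · have : QuasiSober (↥U : Type u) := U.2.isOpenEmbedding_subtypeVal.quasiSober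
    obtain ⟨v, hg⟩ := QuasiSober.sober hZ.1 (isClosed_of_mem_irreducibleComponents Z hZ)
    obtain ⟨ξ, hξ, hξc⟩ := exists_genericPoint_specializes (U.ι.base v)
    obtain ⟨hSξ, -⟩ := hS ξ (hU₁ _ (Subtype.prop v).1 ξ hξ hξc) hξc
    have hξU : ξ ∈ U := hξ.mem_open U.isOpen (Subtype.prop v)
    have hv : v = ⟨ξ, hξU⟩ := by
      have h1 : (⟨ξ, hξU⟩ : (↥U : Type u)) ⤳ v := subtype_specializes_iff _ _ |>.2 hξ
      have h2 : Z ⊆ closure {(⟨ξ, hξU⟩ : (↥U : Type u))} := hg.def ▸
        closure_minimal (Set.singleton_subset_iff.2 (specializes_iff_mem_closure.1 h1)) isClosed_closure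
      have h3 := hZ.2 isIrreducible_singleton.closure h2 (subset_closure rfl)
      exact ((specializes_iff_mem_closure.2 (hg.def.symm ▸ h3) : v ⤳ ⟨ξ, hξU⟩).antisymm h1).eq
    refine ⟨_, hSξ, specializes_iff_mem_closure.1 ((hU₁ _ (Subtype.prop v).1 ξ hξ hξc).map f.continuous), ?_⟩
    refine subset_antisymm (closure_minimal ?_ isClosed_closure)
      (closure_mono (Set.singleton_subset_iff.2 ⟨v, hg.mem, by rw [hv]; rfl⟩))
    rintro _ ⟨p, hp, rfl⟩
    refine specializes_iff_mem_closure.1 ?_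
    have := (hg.specializes hp).map U.ι.continuous
    rw [hv] at this
    exact this.map f.continuous
  · refine (forall_component_dim_eq_iff (k := S.residueField _)
      ((U.ι ≫ f).fiberToSpecResidueField ((U.ι ≫ f).base x')) e).2 fun z => ?_
    rw [← fibreDimAt_fiberι, fibreDimAt_openImmersion_comp]
    have hp := Subtype.prop (((U.ι ≫ f).fiberι _).base z : (↥U : Type u))
    obtain ⟨ξ, hξ, hξc⟩ := exists_genericPoint_specializes (U.ι.base (((U.ι ≫ f).fiberι _).base z))
    refine le_antisymm hp.2 (le_trans (le_trans (le_of_eq ?_) (fh_le_fibreDimAt f ξ)) (fibreDimAt_mono f hξ))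
    rw [(hS ξ (hU₁ _ hp.1 ξ hξ hξc) hξc).2]
    rfl

section IrreducibleBase

variable [IrreducibleSpace S]

omit [LocallyOfFiniteType f] in
lemma eq_genericPoint_of_component {s : S} (h : closure {s} ∈ irreducibleComponents (S : Type u)) :
    s = genericPoint S := by
  rw [irreducibleComponents_eq_singleton] at h
  exact (IsGenericPoint.eq (show IsGenericPoint s Set.univ from h) (genericPoint_spec S))

omit [LocallyOfFiniteType f] in
lemma component_of_eq_genericPoint {s : S} (h : s = genericPoint S) :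
    closure {s} ∈ irreducibleComponents (S : Type u) := by
  rw [irreducibleComponents_eq_singleton, h]
  exact (genericPoint_spec S).def

/-- The codimension inequality behind the behaviour of closed subsets. -/
theorem of_codim {x ζ : X} (hf : EGA43.IsEquidimAt f x) {W : Closeds X} (hW : closure {ζ} = (W : Set X))
    (h : x ∈ (W : Set X) ∩ f.base ⁻¹' {f.base x}) {n : ℕ} (hn : Order.coheight ζ ≤ n)
    (hd : FlatMor.localDim ↥((W : Set X) ∩ f.base ⁻¹' {f.base x}) ⟨x, h⟩ + n ≤ FlatMor.fibreDimAt f x) :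
    f.base ζ = genericPoint S ∧ Order.coheight ζ = n ∧
      ((fh f ζ : ℕ∞) : WithBot ℕ∞) + n = FlatMor.fibreDimAt f x ∧
      FlatMor.localDim ↥((W : Set X) ∩ f.base ⁻¹' {f.base x}) ⟨x, h⟩ = ((fh f ζ : ℕ∞) : WithBot ℕ∞) := by
  have hζx : ζ ⤳ x := specializes_iff_mem_closure.2 (hW ▸ h.1)
  obtain ⟨a, -, -, -, hL⟩ := exists_fh_eq_inter f W h
  obtain ⟨d, hd'⟩ := exists_fh_nat f a
  obtain ⟨i, hi⟩ := exists_fh_nat f ζ
  obtain ⟨j, hj⟩ := exists_coheight_nat f ζ
  obtain ⟨b, -, -, hb⟩ := exists_fh_eq f x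
  obtain ⟨e, he⟩ := exists_fh_nat f b
  have hle := fh_le_localDim_inter f W h (hW ▸ subset_closure rfl) hζx
  rw [← hL, hd'] at hd hle ⊢
  rw [← hb, he] at hd ⊢
  rw [hi] at hle ⊢
  have hid : i ≤ d := by exact_mod_cast hle
  have hdn : d + n ≤ e := by exact_mod_cast hd
  have hge : e ≤ i + j := by
    obtain ⟨ξ, hξ, hξc⟩ := exists_genericPoint_specializes ζ
    have h1 := (fh_le_fibreDimAt f ξ).trans (fibreDimAt_mono f hξ)
    rw [WithBot.coe_inj.1 ((of_isEquidimAt f hf hξc (hξ.trans hζx)).2.symm.trans hb.symm |>.trans rfl),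
      he, fibreDimAt_eq_fh_add_coheight, hi, hj] at h1
    exact_mod_cast h1
  have hjn : j ≤ n := by
    have := (coheight_asFiber_le f ζ).trans hn
    rw [hj] at this
    exact_mod_cast this
  have hfζ : f.base ζ = genericPoint S := by
    by_contra hne
    have h1 := (coheight_asFiber_add_one_le f ζ fun ξ hξ hξc => by
      rw [eq_genericPoint_of_component (of_isEquidimAt f hf hξc (hξ.trans hζx)).1]
      exact Ne.symm hne).trans hn
    rw [hj] at h1
    have : j + 1 ≤ n := by exact_mod_cast h1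
    omega
  refine ⟨hfζ, le_antisymm hn ?_, ?_, ?_⟩
  · refine le_trans (le_of_eq ?_) (coheight_asFiber_le f ζ)
    rw [hj]
    exact_mod_cast (by omega : n = j)
  · exact_mod_cast (by omega : i + n = e)
  · exact_mod_cast (by omega : d = i)

end IrreducibleBase

/-- Krull: a maximal point of the zero locus of a function has coheight at most one. -/
theorem coheight_le_one_of_max_zeroLocus [IsLocallyNoetherian X] (g : Γ(X, ⊤)) {ζ : X}
    (hζ : ζ ∈ X.zeroLocus ({g} : Set Γ(X, ⊤)))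
    (hmax : ∀ y ∈ X.zeroLocus ({g} : Set Γ(X, ⊤)), y ⤳ ζ → y = ζ) : Order.coheight ζ ≤ 1 := by
  obtain ⟨V, hV, hζV, -⟩ := exists_isAffineOpen_mem_and_subset (U := (⊤ : X.Opens)) (x := ζ) trivial
  haveI : IsNoetherianRing Γ(X, V) := IsLocallyNoetherian.component_noetherian ⟨V, hV⟩
  let g' : Γ(X, V) := (X.presheaf.map (homOfLE (le_top : V ≤ ⊤)).op).hom g
  have hmem : ∀ q : PrimeSpectrum Γ(X, V), g' ∈ q.asIdeal ↔ hV.fromSpec.base q ∈ X.zeroLocus ({g} : Set Γ(X, ⊤)) := by
    intro q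
    rw [Scheme.zeroLocus_singleton, Set.mem_compl_iff]
    have hq : hV.fromSpec.base q ∈ V := hV.range_fromSpec.le ⟨q, rfl⟩
    have : hV.fromSpec.base q ∈ X.basicOpen g' ↔ hV.fromSpec.base q ∈ X.basicOpen g := by
      rw [Scheme.basicOpen_res]
      exact ⟨fun h => h.2, fun h => ⟨hq, h⟩⟩
    refine Iff.trans ?_ (not_congr this)
    rw [show hV.fromSpec.base q ∈ X.basicOpen g' ↔ q ∈ PrimeSpectrum.basicOpen g' from
      (congrArg (q ∈ ·) (hV.fromSpec_preimage_basicOpen g')).to_iff]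
    exact not_not.symm
  have hp : hV.fromSpec.base (hV.primeIdealOf ⟨ζ, hζV⟩) = ζ := hV.fromSpec_primeIdealOf _
  have hmin : (hV.primeIdealOf ⟨ζ, hζV⟩).asIdeal ∈ (Ideal.span {g'}).minimalPrimes := by
    refine ⟨⟨inferInstance, (Ideal.span_singleton_le_iff_mem _).2 ((hmem _).2 (hp.symm ▸ hζ))⟩,
      fun q hq hle => ?_⟩
    let Q : PrimeSpectrum Γ(X, V) := ⟨q, hq.1⟩
    have hs : hV.fromSpec.base Q ⤳ ζ := hp ▸
      ((PrimeSpectrum.le_iff_specializes Q _).1 hle).map hV.fromSpec.continuous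
    have := hV.fromSpec.isOpenEmbedding.injective
      ((hmax _ ((hmem Q).1 ((Ideal.span_singleton_le_iff_mem _).1 hq.2)) hs).trans hp.symm)
    exact (congrArg PrimeSpectrum.asIdeal this).ge
  have hh := Ideal.height_le_one_of_isPrincipal_of_mem_minimalPrimes _ _ hmin
  let _ := TopCat.Presheaf.algebra_section_stalk X.presheaf ⟨ζ, hζV⟩
  have := hV.isLocalization_stalk ⟨ζ, hζV⟩
  have he := IsLocalization.AtPrime.ringKrullDim_eq_height (hV.primeIdealOf ⟨ζ, hζV⟩).asIdeal (X.presheaf.stalk ζ)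
  rw [ringKrullDim_stalk_eq_coheight, WithBot.coe_inj] at he
  rw [he]; exact hh

end Groth.Misc6.Equidim

namespace Groth.Misc6.Equidim

open Groth.FibreDim

variable {X S : Scheme.{u}} (f : X ⟶ S) [LocallyOfFiniteType f]

omit [LocallyOfFiniteType f] in
/-- The trace of an irreducible closed set on the fibre of its generic point. -/
theorem dim_inter_generic (ξ : X) :
    topologicalKrullDim ↥(closure {ξ} ∩ f.base ⁻¹' {f.base ξ}) = ((fh f ξ : ℕ∞) : WithBot ℕ∞) := by
  have he := (f.fiberι (f.base ξ)).isEmbedding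
  have hset : closure {ξ} ∩ f.base ⁻¹' {f.base ξ} =
      (f.fiberι (f.base ξ)).base '' closure {f.asFiber ξ} := by
    rw [he.closure_eq_preimage_closure_image, Set.image_singleton, f.fiberι_asFiber,
      Set.image_preimage_eq_inter_range, f.range_fiberι]
  rw [hset, ← (he.homeomorphImage (closure {f.asFiber ξ})).isHomeomorph.topologicalKrullDim_eq,
    Groth.Variety2.Dim.dim_closure_singleton]
  rfl

/-- A function avoiding the maximal points of a fibre but vanishing at a non-maximal one. -/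
theorem exists_section_avoiding [IsLocallyNoetherian X] {x : X}
    (hx : ∃ x' : X, f.base x' = f.base x ∧ x' ≠ x ∧ x ∈ closure ({x'} : Set X)) :
    ∃ U : X.Opens, IsAffineOpen U ∧ x ∈ U ∧ ∃ g : Γ(X, U), x ∉ X.basicOpen g ∧
      ∀ z : X, f.base z = f.base x → (∀ z' : X, f.base z' = f.base x → z ∈ closure ({z'} : Set X) → z' = z) →
        z ∈ U → z ∈ X.basicOpen g := by
  obtain ⟨x', hx'f, hx'ne, hx'c⟩ := hx
  obtain ⟨U, hU, hxU, -⟩ := exists_isAffineOpen_mem_and_subset (U := (⊤ : X.Opens)) (x := x) trivial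
  haveI : IsNoetherianRing Γ(X, U) := IsLocallyNoetherian.component_noetherian ⟨U, hU⟩
  haveI : NoetherianSpace ↥U := noetherianSpace_of_isAffineOpen U hU
  let y := f.base x
  let A : Set ↥U := {z | f.base z.1 = y}
  haveI : NoetherianSpace A := IsInducing.subtypeVal.noetherianSpace
  let M : Set ↥U := {z | f.base z.1 = y ∧
    ∀ z' : X, f.base z' = y → z.1 ∈ closure ({z'} : Set X) → z' = z.1}
  have hMfin : M.Finite := by
    haveI : Finite (irreducibleComponents A) := NoetherianSpace.finite_irreducibleComponents.to_subtype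
    suffices Finite M from Set.toFinite _
    refine Finite.of_injective
      (fun z : M => (⟨irreducibleComponent (⟨z.1, z.2.1⟩ : A), irreducibleComponent_mem_irreducibleComponents _⟩ :
        irreducibleComponents A)) fun a b hab => ?_
    have hirr : IsIrreducible ((fun z : A => z.1.1) '' irreducibleComponent (⟨a.1, a.2.1⟩ : A)) :=
      isIrreducible_irreducibleComponent.image _ (by fun_prop)
    obtain ⟨c, hc⟩ := QuasiSober.sober hirr.closure isClosed_closure
    have hsub : ∀ z : A, z ∈ irreducibleComponent (⟨a.1, a.2.1⟩ : A) → c ⤳ z.1.1 := fun z hz =>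
      hc.specializes (subset_closure ⟨z, hz, rfl⟩)
    have hca : c ⤳ a.1.1 := hsub _ mem_irreducibleComponent
    have hcb : c ⤳ b.1.1 := hsub ⟨b.1, b.2.1⟩ (by
      rw [Subtype.mk.injEq] at hab
      rw [hab]
      exact mem_irreducibleComponent)
    have hfc : f.base c = y := by
      have h1 : f.base c ⤳ y := by
        have := hca.map f.continuous
        rwa [a.2.1] at this
      have h2 : y ⤳ f.base c := by
        refine specializes_iff_mem_closure.2 (closure_minimal ?_ (isClosed_closure.preimage f.continuous) hc.mem)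
        rintro _ ⟨z, -, rfl⟩
        exact subset_closure z.2
      exact (h1.antisymm h2).eq
    exact Subtype.ext (Subtype.ext ((a.2.2 c hfc (specializes_iff_mem_closure.1 hca)).symm.trans
      (b.2.2 c hfc (specializes_iff_mem_closure.1 hcb))))
  by_contra hcon
  push_neg at hcon
  have hsub : ((hU.primeIdealOf ⟨x, hxU⟩).asIdeal : Set Γ(X, U)) ⊆
      ⋃ z ∈ (↑hMfin.toFinset : Set ↥U), ((hU.primeIdealOf z).asIdeal : Set Γ(X, U)) := by
    intro g hg
    have hbo : ∀ z : ↥U, z.1 ∈ X.basicOpen g ↔ g ∉ (hU.primeIdealOf z).asIdeal := fun z => by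
      have : z.1 = hU.fromSpec.base (hU.primeIdealOf z) := (hU.fromSpec_primeIdealOf z).symm
      conv_lhs => rw [this]
      exact (congrArg ((hU.primeIdealOf z) ∈ ·) (hU.fromSpec_preimage_basicOpen g)).to_iff
    obtain ⟨z, hz1, hz2, hzU, hz3⟩ := hcon U hU hxU g fun h => (hbo ⟨x, hxU⟩).1 h hg
    refine Set.mem_biUnion (x := (⟨z, hzU⟩ : ↥U)) (hMfin.mem_toFinset.2 ⟨hz1, hz2⟩) ?_
    by_contra h
    exact hz3 ((hbo ⟨z, hzU⟩).2 h)
  obtain ⟨z, hz, hle⟩ := (Ideal.subset_union_prime (f := fun z => (hU.primeIdealOf z).asIdeal) ⟨x, hxU⟩ ⟨x, hxU⟩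
    fun z _ _ _ => inferInstance).1 hsub
  obtain ⟨hz1, hz2⟩ := hMfin.mem_toFinset.1 hz
  have hsp : x ⤳ z.1 := by
    have := ((PrimeSpectrum.le_iff_specializes _ _).1 hle).map hU.fromSpec.continuous
    rwa [hU.fromSpec_primeIdealOf, hU.fromSpec_primeIdealOf] at this
  have hzx : x = z.1 := hz2 x rfl (specializes_iff_mem_closure.1 hsp)
  exact hx'ne ((hz2 x' hx'f (hzx ▸ hx'c)).trans hzx.symm)

/-- Cutting an equidimensional morphism by a function not vanishing at the maximal points of the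
fibre. -/
theorem section_step [IrreducibleSpace S] [IsLocallyNoetherian X] {x : X} (hf : EGA43.IsEquidimAt f x)
    (g : Γ(X, ⊤)) (hgx : x ∈ X.zeroLocus ({g} : Set Γ(X, ⊤)))
    (hmax : ∀ z : X, f.base z = f.base x → (∀ z' : X, f.base z' = f.base x → z ∈ closure ({z'} : Set X) → z' = z) →
      z ∉ X.zeroLocus ({g} : Set Γ(X, ⊤))) :
    (∀ w : ↥(Scheme.IdealSheafData.vanishingIdeal ⟨X.zeroLocus ({g} : Set Γ(X, ⊤)), X.zeroLocus_isClosed _⟩).subscheme,
        (Scheme.IdealSheafData.vanishingIdeal ⟨X.zeroLocus ({g} : Set Γ(X, ⊤)), X.zeroLocus_isClosed _⟩).subschemeι.base w = x →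
        EGA43.IsEquidimAt ((Scheme.IdealSheafData.vanishingIdeal ⟨X.zeroLocus ({g} : Set Γ(X, ⊤)), X.zeroLocus_isClosed _⟩).subschemeι ≫ f) w) ∧
      FlatMor.localDim ↥(X.zeroLocus ({g} : Set Γ(X, ⊤)) ∩ f.base ⁻¹' {f.base x}) ⟨x, ⟨hgx, rfl⟩⟩ + 1 = FlatMor.fibreDimAt f x ∧
      ∀ ζ ∈ X.zeroLocus ({g} : Set Γ(X, ⊤)), (∀ y ∈ X.zeroLocus ({g} : Set Γ(X, ⊤)), y ⤳ ζ → y = ζ) → ζ ⤳ x →
        Order.coheight ζ = 1 := by
  let Z : Closeds X := ⟨X.zeroLocus ({g} : Set Γ(X, ⊤)), X.zeroLocus_isClosed _⟩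
  let ι := (Scheme.IdealSheafData.vanishingIdeal Z).subschemeι
  have h : x ∈ (Z : Set X) ∩ f.base ⁻¹' {f.base x} := ⟨hgx, rfl⟩
  obtain ⟨b, -, -, hb⟩ := exists_fh_eq f x
  obtain ⟨e, he⟩ := exists_fh_nat f b
  obtain ⟨a, haZ, hax, hfa, hd⟩ := exists_fh_eq_inter f Z h
  obtain ⟨d, hd'⟩ := exists_fh_nat f a
  rw [hd'] at hd
  rw [he] at hb
  -- the fibre of the zero locus is smaller
  have hde : d + 1 ≤ e := by
    obtain ⟨c, hca, hfc, hcmax⟩ := exists_max_in_fibre f a
    have hne : c ≠ a := fun h' => by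
      subst h'
      exact hmax c hfa (fun z' h1 h2 => hcmax z' (h1.trans hfa.symm) (specializes_iff_mem_closure.2 h2)) haZ
    have h1 := fh_add_one_le f hca hne hfc
    have h2 := ((WithBot.coe_le_coe.2 h1).trans (fh_le_fibreDimAt f c)).trans (fibreDimAt_mono f (hca.trans hax))
    rw [hd', ← hb] at h2
    exact_mod_cast h2
  -- maximal points of the zero locus
  have key : ∀ ζ ∈ (Z : Set X), (∀ y ∈ (Z : Set X), y ⤳ ζ → y = ζ) → ζ ⤳ x →
      f.base ζ = genericPoint S ∧ Order.coheight ζ = 1 ∧ fh f ζ = d ∧ d + 1 = e := by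
    intro ζ hζ hζmax hζx
    let W : Closeds X := ⟨closure {ζ}, isClosed_closure⟩
    have hWx : x ∈ (W : Set X) ∩ f.base ⁻¹' {f.base x} := ⟨specializes_iff_mem_closure.1 hζx, rfl⟩
    have hWd : FlatMor.localDim ↥((W : Set X) ∩ f.base ⁻¹' {f.base x}) ⟨x, hWx⟩ ≤ (d : WithBot ℕ∞) := by
      obtain ⟨a', ha', ha'x, -, hd''⟩ := exists_fh_eq_inter f W hWx
      rw [← hd'', show (d : WithBot ℕ∞) = ((d : ℕ∞) : WithBot ℕ∞) from rfl, hd]
      exact fh_le_localDim_inter f Z h (closure_minimal (Set.singleton_subset_iff.2 hζ) Z.isClosed ha') ha'x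
    obtain ⟨h1, h2, h3, -⟩ := of_codim f hf (W := W) rfl hWx (n := 1)
      (by exact_mod_cast coheight_le_one_of_max_zeroLocus g hζ hζmax) (by
        rw [← hb]
        exact le_trans (add_le_add hWd le_rfl) (by exact_mod_cast hde))
    obtain ⟨i, hi⟩ := exists_fh_nat f ζ
    have h4 : i ≤ d := by
      have := fh_le_localDim_inter f Z h hζ hζx
      rw [hi, ← hd] at this
      exact_mod_cast this
    rw [hi, ← hb] at h3
    have h5 : i + 1 = e := by exact_mod_cast h3
    exact ⟨h1, by exact_mod_cast h2, by rw [hi]; congr 1; omega, by omega⟩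
  have hmaxι : ∀ v, (∀ u, u ⤳ v → u = v) → ∀ y ∈ (Z : Set X), y ⤳ ι.base v → y = ι.base v := by
    intro v hv y hy hyv
    obtain ⟨u', rfl⟩ := exists_sub_point Z hy
    rw [hv u' (ι.isEmbedding.toIsInducing.specializes_iff.1 hyv)]
  have hgen : ∀ v, closure {v} ∈ irreducibleComponents ((Scheme.IdealSheafData.vanishingIdeal Z).subscheme : Type u) →
      ∀ u, u ⤳ v → u = v := fun v hv u hu =>
    (hu.antisymm (Scheme.le_iff_specializes.1 (isMax_of_mem_genericPoints hv (Scheme.le_iff_specializes.2 hu)))).eq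
  obtain ⟨w₀, hw₀⟩ := exists_sub_point Z hgx
  obtain ⟨v₀, hv₀, hv₀c⟩ := exists_genericPoint_specializes w₀
  have hde' : d + 1 = e :=
    (key _ ((range_sub Z).le ⟨v₀, rfl⟩) (hmaxι v₀ (hgen v₀ hv₀c)) (hw₀ ▸ hv₀.map ι.continuous)).2.2.2
  refine ⟨fun w hw => ?_, ?_, fun ζ hζ hζmax hζx => (key ζ hζ hζmax hζx).2.1⟩
  · have : IsLocallyNoetherian (Scheme.IdealSheafData.vanishingIdeal Z).subscheme :=
      LocallyOfFiniteType.isLocallyNoetherian ι
    refine isEquidimAt_of_components (ι ≫ f) d (fun v hv hvc => ?_) ?_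
    · obtain ⟨h1, -, h3, -⟩ := key _ ((range_sub Z).le ⟨v, rfl⟩) (hmaxι v (hgen v hvc)) (hw ▸ hv.map ι.continuous)
      exact ⟨component_of_eq_genericPoint h1, (fh_comp_preimmersion f ι v).trans h3⟩
    · rw [← localDim_inter_eq f ι w (range_sub Z) hw h, ← hd]
      rfl
  · rw [← hb]
    refine (congrArg (· + 1) hd.symm).trans ?_
    exact_mod_cast hde'

end Groth.Misc6.Equidim
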