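import Mathlib
import Groth.Prelude.Def_W4c1limliniiiiRamP1

/-! Pencils of polynomials with three prescribed ramification points. -/

set_option autoImplicit false
open Polynomial

namespace Groth.Misc6.Pencil

variable {k : Type*} [Field k]

lemma natDegree_le_of_mem {d : ℕ} {s : k[X]} (hs : s ∈ Polynomial.degreeLE k d) : s.natDegree ≤ d :=
  natDegree_le_iff_degree_le.2 (mem_degreeLE.1 hs)

lemma mem_of_natDegree_le {d : ℕ} {s : k[X]} (hs : s.natDegree ≤ d) : s ∈ Polynomial.degreeLE k d :=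
  mem_degreeLE.2 (natDegree_le_iff_degree_le.1 hs)

lemma wronskian_smul_add (F G : k[X]) (x y z w : k) :
    wronskian (x • F + y • G) (z • F + w • G) = C (x * w - y * z) * wronskian F G := by
  simp only [wronskian, smul_eq_C_mul, derivative_add, derivative_mul, derivative_C, zero_mul, zero_add,
    map_sub, map_mul]
  ring

lemma pow_sub_one_dvd_wronskian {a : k} {e : ℕ} {F : k[X]} (G : k[X]) (h : (X - C a) ^ e ∣ F) :
    (X - C a) ^ (e - 1) ∣ wronskian F G := by
  obtain ⟨q, rfl⟩ := h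
  have : (X - C a) ^ e = (X - C a) ^ (e - 1) * (X - C a) ^ (e - (e - 1)) := by
    rw [← pow_add]; congr 1; omega
  rw [wronskian, derivative_mul, derivative_X_sub_C_pow, this]
  refine ⟨(X - C a) ^ (e - (e - 1)) * q * derivative G -
    (C (e : k) * q + (X - C a) ^ (e - (e - 1)) * derivative q) * G, ?_⟩
  ring

lemma pow_dvd_wronskian_of_root {a : k} {e : ℕ} (he : 1 ≤ e) {F G : k[X]} (h : (X - C a) ^ e ∣ F)
    (hG : G.IsRoot a) : (X - C a) ^ e ∣ wronskian F G := by
  obtain ⟨q, rfl⟩ := h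
  obtain ⟨t, rfl⟩ := dvd_iff_isRoot.2 hG
  obtain ⟨m, rfl⟩ := Nat.exists_eq_add_of_le' he
  refine ⟨q * derivative ((X - C a) * t) - derivative q * ((X - C a) * t) - C ((m + 1 : ℕ) : k) * q * t, ?_⟩
  rw [wronskian, derivative_mul (f := (X - C a) ^ (m + 1)), derivative_X_sub_C_pow, Nat.add_sub_cancel]
  ring

lemma natDegree_wronskian_le {d : ℕ} {F G : k[X]} (hF : F.natDegree ≤ d) (hG : G.natDegree ≤ d) :
    (wronskian F G).natDegree ≤ 2 * d - 2 := by
  by_cases h0 : wronskian F G = 0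
  · simp [h0]
  by_cases hlt : G.natDegree < d
  · have := natDegree_wronskian_lt_add h0; omega
  by_cases hlt' : F.natDegree < d
  · have := natDegree_wronskian_lt_add h0; omega
  have hG0 : G ≠ 0 := by rintro rfl; simp at h0
  have hF0 : F ≠ 0 := by rintro rfl; simp at h0
  set c := G.leadingCoeff / F.leadingCoeff
  have e : wronskian F (G - c • F) = wronskian F G := by
    simp only [wronskian, smul_eq_C_mul, derivative_sub, derivative_mul, derivative_C, zero_mul, zero_add]
    ring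
  have hlt2 : (G - c • F).natDegree < d := by
    rcases Nat.eq_zero_or_pos d with rfl | hd
    · exfalso
      apply h0
      rw [eq_C_of_natDegree_le_zero hF, eq_C_of_natDegree_le_zero hG]
      simp [wronskian]
    rw [Nat.lt_iff_le_pred hd, natDegree_le_iff_coeff_eq_zero]
    intro j hj
    rcases lt_or_eq_of_le (show d ≤ j by omega) with hj' | rfl
    · simp [coeff_eq_zero_of_natDegree_lt (hF.trans_lt hj'), coeff_eq_zero_of_natDegree_lt (hG.trans_lt hj')]
    · have eF : F.coeff d = F.leadingCoeff := by rw [leadingCoeff]; congr 1; omega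
      have eG : G.coeff d = G.leadingCoeff := by rw [leadingCoeff]; congr 1; omega
      rw [coeff_sub, coeff_smul, eF, eG, smul_eq_mul, div_mul_cancel₀ _ (leadingCoeff_ne_zero.2 hF0), sub_self]
  rw [← e] at h0 ⊢
  have := natDegree_wronskian_lt_add h0
  omega

lemma coeff_X_mul_derivative (G : k[X]) (n : ℕ) : (X * derivative G).coeff n = (n : k) * G.coeff n := by
  cases n with
  | zero => simp
  | succ n => rw [coeff_X_mul, coeff_derivative]; push_cast; ring

lemma wronskian_ne_zero_of_natDegree {F G : k[X]} (hF : F ≠ 0) (hG : G ≠ 0)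
    (h : ((G.natDegree : k)) ≠ (F.natDegree : k)) : wronskian F G ≠ 0 := by
  intro h0
  have h1 : (F * (X * derivative G) - (X * derivative F) * G).coeff (F.natDegree + G.natDegree) = 0 := by
    have : F * (X * derivative G) - (X * derivative F) * G = X * wronskian F G := by rw [wronskian]; ring
    rw [this, h0]; simp
  have hd : ∀ H : k[X], (X * derivative H).natDegree ≤ H.natDegree := fun H =>
    natDegree_le_iff_coeff_eq_zero.2 fun j hj => by
      rw [coeff_X_mul_derivative, coeff_eq_zero_of_natDegree_lt hj, mul_zero]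
  rw [coeff_sub, coeff_mul_add_eq_of_natDegree_le le_rfl (hd G), coeff_mul_add_eq_of_natDegree_le (hd F) le_rfl,
    coeff_X_mul_derivative, coeff_X_mul_derivative, coeff_natDegree, coeff_natDegree] at h1
  have h2 : (F.leadingCoeff * G.leadingCoeff) * ((G.natDegree : k) - (F.natDegree : k)) = 0 := by
    linear_combination h1
  rcases mul_eq_zero.1 h2 with h3 | h3
  · exact mul_ne_zero (leadingCoeff_ne_zero.2 hF) (leadingCoeff_ne_zero.2 hG) h3
  · exact h (sub_eq_zero.1 h3)

lemma isCoprime_of_no_common_root [IsAlgClosed k] {F G : k[X]} (h : ∀ a : k, ¬ (F.IsRoot a ∧ G.IsRoot a)) :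
    IsCoprime F G := by
  classical
  rw [← EuclideanDomain.gcd_isUnit_iff]
  by_contra hu
  have hdeg : (EuclideanDomain.gcd F G).degree ≠ 0 := fun h0 => hu (isUnit_iff_degree_eq_zero.2 h0)
  obtain ⟨a, ha⟩ := IsAlgClosed.exists_root _ hdeg
  exact h a ⟨ha.dvd (EuclideanDomain.gcd_dvd_left F G), ha.dvd (EuclideanDomain.gcd_dvd_right F G)⟩

variable {d : ℕ} (P : Fin 3 → k) (e : Fin 3 → ℕ)

/-- `(X - P i)^(e i)`. -/
noncomputable def A (i : Fin 3) : k[X] := (X - C (P i)) ^ e i

lemma natDegree_A (i : Fin 3) : (A P e i).natDegree = e i := by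
  rw [A, natDegree_pow, natDegree_X_sub_C, mul_one]

lemma A_ne_zero (i : Fin 3) : A P e i ≠ 0 := pow_ne_zero _ (X_sub_C_ne_zero _)

lemma isCoprime_pow (hP : Function.Injective P) {i j : Fin 3} (h : i ≠ j) (m n : ℕ) :
    IsCoprime ((X - C (P i)) ^ m) ((X - C (P j)) ^ n) :=
  (pairwise_coprime_X_sub_C hP h).pow

/-- The Schubert conditions. -/
def Sch (d : ℕ) (V : Submodule k k[X]) : Prop :=
  V ≤ Polynomial.degreeLE k d ∧ Module.finrank k V = 2 ∧
    ∀ i, ∃ s ∈ V, s ≠ 0 ∧ A P e i ∣ s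

lemma sch_iff (V : Submodule k k[X]) :
    (V ≤ Polynomial.degreeLE k d ∧ Module.finrank k V = 2 ∧
      ∀ i, ∃ s ∈ V, s ≠ 0 ∧ e i ≤ Polynomial.rootMultiplicity (P i) s) ↔ Sch P e d V := by
  refine and_congr_right fun _ => and_congr_right fun _ => forall_congr' fun i => ?_
  exact exists_congr fun s => and_congr_right fun _ => and_congr_right fun hs => le_rootMultiplicity_iff hs

variable (hP : Function.Injective P) (hd : ∀ i, 2 ≤ e i ∧ e i ≤ d) (hsum : (∑ i, e i) + 2 = 2 * d + 3)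

include hP hd hsum in
lemma eq_zero_of_dvd {s : k[X]} (hs : s.natDegree ≤ d) {i j : Fin 3} (hij : i ≠ j)
    (hi : A P e i ∣ s) (hj : A P e j ∣ s) : s = 0 := by
  by_contra h0
  have h := natDegree_le_of_dvd ((isCoprime_pow P hP hij (e i) (e j)).mul_dvd hi hj) h0
  rw [natDegree_mul (pow_ne_zero _ (X_sub_C_ne_zero _)) (pow_ne_zero _ (X_sub_C_ne_zero _))] at h
  simp only [natDegree_pow, natDegree_X_sub_C, mul_one] at h
  rw [Fin.sum_univ_three] at hsum
  have h0' := (hd 0).2
  have h1' := (hd 1).2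
  have h2' := (hd 2).2
  fin_cases i <;> fin_cases j <;> simp at hij h <;> omega

variable (d) in
/-- The space of pairs. -/
noncomputable def L : Submodule k (k[X] × k[X]) :=
  (Polynomial.degreeLE k d).comap (LinearMap.fst k k[X] k[X]) ⊓
  (Polynomial.degreeLE k d).comap (LinearMap.snd k k[X] k[X]) ⊓
  ((Ideal.span {A P e 0}).restrictScalars k).comap (LinearMap.fst k k[X] k[X]) ⊓
  ((Ideal.span {A P e 1}).restrictScalars k).comap (LinearMap.snd k k[X] k[X]) ⊓
  ((Ideal.span {A P e 2}).restrictScalars k).comap (LinearMap.fst k k[X] k[X] + LinearMap.snd k k[X] k[X])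

lemma mem_L {v : k[X] × k[X]} : v ∈ L d P e ↔
    v.1.natDegree ≤ d ∧ v.2.natDegree ≤ d ∧ A P e 0 ∣ v.1 ∧ A P e 1 ∣ v.2 ∧ A P e 2 ∣ v.1 + v.2 := by
  simp only [L, Submodule.mem_inf, Submodule.mem_comap, Submodule.restrictScalars_mem,
    Ideal.mem_span_singleton, LinearMap.fst_apply, LinearMap.snd_apply, LinearMap.add_apply, and_assoc]
  exact ⟨fun ⟨a, b, r⟩ => ⟨natDegree_le_of_mem a, natDegree_le_of_mem b, r⟩,
    fun ⟨a, b, r⟩ => ⟨mem_of_natDegree_le a, mem_of_natDegree_le b, r⟩⟩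

include hd hsum in
lemma L_ne_bot : L d P e ≠ ⊥ := by
  classical
  have hm : (A P e 2).Monic := (monic_X_sub_C _).pow _
  have hne : A P e 2 ≠ 1 := fun h => by
    have := natDegree_A P e 2
    rw [h, natDegree_one] at this
    have := (hd 2).1; omega
  let Φ : (Polynomial.degreeLT k (d - e 0 + 1) × Polynomial.degreeLT k (d - e 1 + 1)) →ₗ[k] k[X] :=
    (LinearMap.mulLeft k (A P e 0)).comp ((Submodule.subtype _).comp (LinearMap.fst k _ _)) +
      (LinearMap.mulLeft k (A P e 1)).comp ((Submodule.subtype _).comp (LinearMap.snd k _ _))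
  let Φ' := ((Polynomial.modByMonicHom (A P e 2)).comp Φ).codRestrict (Polynomial.degreeLT k (e 2)) fun x => by
    rw [mem_degreeLT]
    refine lt_of_lt_of_le (degree_modByMonic_lt _ hm) ?_
    exact le_of_eq (by rw [A, degree_pow, degree_X_sub_C]; simp)
  obtain ⟨x, hx, hx0⟩ : ∃ x ∈ LinearMap.ker Φ', x ≠ 0 := by
    apply Submodule.exists_mem_ne_zero_of_ne_bot
    intro h
    haveI : Module.Finite k (Polynomial.degreeLT k (e 2)) := Module.Finite.equiv (Polynomial.degreeLTEquiv k _).symm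
    have h1 := LinearMap.finrank_le_finrank_of_injective (LinearMap.ker_eq_bot.1 h)
    haveI : ∀ m, Module.Finite k (Polynomial.degreeLT k m) := fun m => Module.Finite.equiv (Polynomial.degreeLTEquiv k _).symm
    have hf : ∀ m, Module.finrank k (Polynomial.degreeLT k m) = m := fun m => by
      rw [(Polynomial.degreeLTEquiv k m).finrank_eq, Module.finrank_fin_fun]
    rw [Module.finrank_prod, hf, hf, hf] at h1
    rw [Fin.sum_univ_three] at hsum
    have := (hd 0).2; have := (hd 1).2; omega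
  have hmod : (A P e 0 * (x.1 : k[X]) + A P e 1 * (x.2 : k[X])) %ₘ A P e 2 = 0 := congrArg Subtype.val hx
  have hdeg : ∀ (i : Fin 3) (y : Polynomial.degreeLT k (d - e i + 1)), (A P e i * (y : k[X])).natDegree ≤ d := by
    intro i y
    refine natDegree_mul_le.trans ?_
    have hy := mem_degreeLT.1 y.2
    have : (y : k[X]).natDegree ≤ d - e i := by
      by_cases hy0 : (y : k[X]) = 0
      · simp [hy0]
      · rw [degree_eq_natDegree hy0] at hy
        have : (y : k[X]).natDegree < d - e i + 1 := by exact_mod_cast hy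
        omega
    rw [natDegree_A]
    have := (hd i).2
    omega
  rw [Ne, Submodule.eq_bot_iff]
  push Not
  refine ⟨(A P e 0 * (x.1 : k[X]), A P e 1 * (x.2 : k[X])),
    (mem_L P e).2 ⟨hdeg 0 x.1, hdeg 1 x.2, dvd_mul_right _ _, dvd_mul_right _ _,
      (modByMonic_eq_zero_iff_dvd hm).1 hmod⟩, fun h => hx0 ?_⟩
  rw [Prod.mk_eq_zero, mul_eq_zero, mul_eq_zero] at h
  exact Prod.ext (Subtype.ext (h.1.resolve_left (A_ne_zero P e 0))) (Subtype.ext (h.2.resolve_left (A_ne_zero P e 1)))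

include hP hd hsum in
lemma indep {v : k[X] × k[X]} (hv : v ∈ L d P e) (h0 : v ≠ 0) :
    v.1 ≠ 0 ∧ v.2 ≠ 0 ∧ v.1 + v.2 ≠ 0 ∧ LinearIndependent k ![v.1, v.2] := by
  obtain ⟨d1, d2, a0, a1, a2⟩ := (mem_L P e).1 hv
  have h1 : v.1 ≠ 0 := fun h => h0 (Prod.ext h (eq_zero_of_dvd P e hP hd hsum d2
    (show (1 : Fin 3) ≠ 2 by decide) a1 (by simpa [h] using a2)))
  have h2 : v.2 ≠ 0 := fun h => h0 (Prod.ext (eq_zero_of_dvd P e hP hd hsum d1
    (show (0 : Fin 3) ≠ 2 by decide) a0 (by simpa [h] using a2)) h)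
  refine ⟨h1, h2, fun h => h1 (eq_zero_of_dvd P e hP hd hsum d1 (show (0 : Fin 3) ≠ 1 by decide) a0 ?_), ?_⟩
  · rw [eq_neg_of_add_eq_zero_left h]; exact a1.neg_right
  · rw [LinearIndependent.pair_iff' h1]
    intro c hc
    refine h2 (eq_zero_of_dvd P e hP hd hsum d2 (show (0 : Fin 3) ≠ 1 by decide) ?_ a1)
    rw [← hc, smul_eq_C_mul]; exact a0.mul_left _

include hP hd hsum in
lemma span_mem {v : k[X] × k[X]} (hv : v ∈ L d P e) (h0 : v ≠ 0) :
    Sch P e d (Submodule.span k {v.1, v.2}) := by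
  obtain ⟨d1, d2, a0, a1, a2⟩ := (mem_L P e).1 hv
  obtain ⟨h1, h2, h3, hli⟩ := indep P e hP hd hsum hv h0
  refine ⟨Submodule.span_le.2 ?_, ?_, fun i => ?_⟩
  · intro s hs
    rcases hs with rfl | rfl
    · exact mem_of_natDegree_le d1
    · exact mem_of_natDegree_le d2
  · rw [← Matrix.range_cons_cons_empty v.1 v.2 ![], finrank_span_eq_card hli]; simp
  · fin_cases i
    · exact ⟨v.1, Submodule.subset_span (by simp), h1, a0⟩
    · exact ⟨v.2, Submodule.subset_span (by simp), h2, a1⟩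
    · exact ⟨v.1 + v.2, add_mem (Submodule.subset_span (by simp)) (Submodule.subset_span (by simp)), h3, a2⟩

include hP hd hsum in
lemma exists_of_sch {V : Submodule k k[X]} (hV : Sch P e d V) :
    ∃ v ∈ L d P e, v ≠ 0 ∧ Submodule.span k {v.1, v.2} = V := by
  obtain ⟨hle, h2, hs⟩ := hV
  choose s hsV hs0 hdvd using hs
  have hdg : ∀ i, (s i).natDegree ≤ d := fun i => natDegree_le_of_mem (hle (hsV i))
  have hli : LinearIndependent k ![s 0, s 1] := by
    rw [LinearIndependent.pair_iff' (hs0 0)]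
    intro c hc
    refine hs0 1 (eq_zero_of_dvd P e hP hd hsum (hdg 1) (show (0 : Fin 3) ≠ 1 by decide) ?_ (hdvd 1))
    rw [← hc, smul_eq_C_mul]; exact (hdvd 0).mul_left _
  haveI : Module.Finite k V := Module.finite_of_finrank_eq_succ h2
  have hspan : Submodule.span k {s 0, s 1} = V := by
    refine Submodule.eq_of_le_of_finrank_le (Submodule.span_le.2 ?_) ?_
    · intro t ht
      rcases ht with rfl | rfl
      · exact hsV 0
      · exact hsV 1
    · rw [h2, ← Matrix.range_cons_cons_empty (s 0) (s 1) ![], finrank_span_eq_card hli]; simp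
  obtain ⟨α, β, hab⟩ := Submodule.mem_span_pair.1 (hspan.symm ▸ hsV 2)
  have hα : α ≠ 0 := by
    rintro rfl
    refine hs0 2 (eq_zero_of_dvd P e hP hd hsum (hdg 2) (show (1 : Fin 3) ≠ 2 by decide) ?_ (hdvd 2))
    rw [← hab, zero_smul, zero_add, smul_eq_C_mul]; exact (hdvd 1).mul_left _
  have hβ : β ≠ 0 := by
    rintro rfl
    refine hs0 2 (eq_zero_of_dvd P e hP hd hsum (hdg 2) (show (0 : Fin 3) ≠ 2 by decide) ?_ (hdvd 2))
    rw [← hab, zero_smul, add_zero, smul_eq_C_mul]; exact (hdvd 0).mul_left _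
  refine ⟨(α • s 0, β • s 1), (mem_L P e).2 ⟨(natDegree_smul_le _ _).trans (hdg 0),
    (natDegree_smul_le _ _).trans (hdg 1), ?_, ?_, ?_⟩, ?_, ?_⟩
  · show A P e 0 ∣ α • s 0
    rw [smul_eq_C_mul]; exact (hdvd 0).mul_left _
  · show A P e 1 ∣ β • s 1
    rw [smul_eq_C_mul]; exact (hdvd 1).mul_left _
  · show A P e 2 ∣ α • s 0 + β • s 1
    rw [hab]; exact hdvd 2
  · intro h
    exact smul_ne_zero hα (hs0 0) (congrArg Prod.fst h)
  · rw [← hspan]
    show Submodule.span k {α • s 0, β • s 1} = _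
    rw [Submodule.span_insert, Submodule.span_insert, Submodule.span_singleton_smul_eq hα.isUnit,
      Submodule.span_singleton_smul_eq hβ.isUnit]

include hP hd hsum in
lemma eq_smul_of_span_eq {v w : k[X] × k[X]} (hv : v ∈ L d P e) (hw : w ∈ L d P e) (hv0 : v ≠ 0)
    (h : Submodule.span k {v.1, v.2} = Submodule.span k {w.1, w.2}) : ∃ c : k, w = c • v := by
  obtain ⟨d1, d2, a0, a1, a2⟩ := (mem_L P e).1 hv
  obtain ⟨e1, e2, b0, b1, b2⟩ := (mem_L P e).1 hw
  obtain ⟨h1, h2, h3, -⟩ := indep P e hP hd hsum hv hv0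
  obtain ⟨α, β, hab⟩ := Submodule.mem_span_pair.1 (show w.1 ∈ Submodule.span k {v.1, v.2} from
    h ▸ Submodule.subset_span (by simp))
  obtain ⟨γ, δ, hcd⟩ := Submodule.mem_span_pair.1 (show w.2 ∈ Submodule.span k {v.1, v.2} from
    h ▸ Submodule.subset_span (by simp))
  have hβ : β = 0 := by
    by_contra hβ
    have hdvd : A P e 0 ∣ β • v.2 := by
      rw [show β • v.2 = w.1 - α • v.1 by rw [← hab, add_sub_cancel_left], smul_eq_C_mul]
      exact dvd_sub b0 (a0.mul_left _)
    exact smul_ne_zero hβ h2 (eq_zero_of_dvd P e hP hd hsum ((natDegree_smul_le _ _).trans d2)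
      (show (0 : Fin 3) ≠ 1 by decide) hdvd (by rw [smul_eq_C_mul]; exact a1.mul_left _))
  have hγ : γ = 0 := by
    by_contra hγ
    have hdvd : A P e 1 ∣ γ • v.1 := by
      rw [show γ • v.1 = w.2 - δ • v.2 by rw [← hcd, add_sub_cancel_right], smul_eq_C_mul]
      exact dvd_sub b1 (a1.mul_left _)
    exact smul_ne_zero hγ h1 (eq_zero_of_dvd P e hP hd hsum ((natDegree_smul_le _ _).trans d1)
      (show (1 : Fin 3) ≠ 0 by decide) hdvd (by rw [smul_eq_C_mul]; exact a0.mul_left _))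
  subst hβ hγ
  rw [zero_smul, add_zero] at hab
  rw [zero_smul, zero_add] at hcd
  have : α = δ := by
    by_contra hne
    have hdvd : A P e 2 ∣ (α - δ) • v.1 := by
      rw [show (α - δ) • v.1 = (w.1 + w.2) - δ • (v.1 + v.2) by rw [← hab, ← hcd, sub_smul, smul_add]; abel]
      exact dvd_sub b2 (by rw [smul_eq_C_mul]; exact a2.mul_left _)
    exact smul_ne_zero (sub_ne_zero.2 hne) h1 (eq_zero_of_dvd P e hP hd hsum ((natDegree_smul_le _ _).trans d1)
      (show (2 : Fin 3) ≠ 0 by decide) hdvd (by rw [smul_eq_C_mul]; exact a0.mul_left _))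
  subst this
  exact ⟨α, Prod.ext hab.symm hcd.symm⟩

include hP hd hsum in
/-- A base-point-free solution is the only solution of the Schubert conditions. -/
theorem eq_of_isPencil [IsAlgClosed k] {V W : Submodule k k[X]} (hV : Sch P e d V) (hW : Sch P e d W)
    (hpen : W4c1limliniiii.IsPencil d V) : W = V := by
  obtain ⟨-, -, ⟨s, hs, hsd⟩, hbp⟩ := hpen
  obtain ⟨v, hv, hv0, rfl⟩ := exists_of_sch P e hP hd hsum hV
  obtain ⟨w, hw, hw0, rfl⟩ := exists_of_sch P e hP hd hsum hW
  obtain ⟨d1, d2, a0, a1, a2⟩ := (mem_L P e).1 hv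
  obtain ⟨e1, e2, b0, b1, b2⟩ := (mem_L P e).1 hw
  obtain ⟨h1, h2, -, -⟩ := indep P e hP hd hsum hv hv0
  have hT : v.1 * w.2 - w.1 * v.2 = 0 := by
    by_contra hne
    have h01 := (isCoprime_pow P hP (show (0 : Fin 3) ≠ 1 by decide) (e 0) (e 1)).mul_dvd
      (show A P e 0 ∣ v.1 * w.2 - w.1 * v.2 from dvd_sub (a0.mul_right _) (b0.mul_right _))
      (show A P e 1 ∣ v.1 * w.2 - w.1 * v.2 from dvd_sub (b1.mul_left _) (a1.mul_left _))
    have h012 := (((isCoprime_pow P hP (show (0 : Fin 3) ≠ 2 by decide) (e 0) (e 2)).mul_left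
      (isCoprime_pow P hP (show (1 : Fin 3) ≠ 2 by decide) (e 1) (e 2)))).mul_dvd h01
      (show A P e 2 ∣ v.1 * w.2 - w.1 * v.2 by
        rw [show v.1 * w.2 - w.1 * v.2 = v.1 * (w.1 + w.2) - w.1 * (v.1 + v.2) by ring]
        exact dvd_sub (b2.mul_left _) (a2.mul_left _))
    have h := natDegree_le_of_dvd h012 hne
    have hle : (v.1 * w.2 - w.1 * v.2).natDegree ≤ 2 * d :=
      (natDegree_sub_le _ _).trans (max_le (natDegree_mul_le.trans (by omega)) (natDegree_mul_le.trans (by omega)))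
    simp only [natDegree_mul (mul_ne_zero (pow_ne_zero _ (X_sub_C_ne_zero _)) (pow_ne_zero _ (X_sub_C_ne_zero _)))
      (pow_ne_zero _ (X_sub_C_ne_zero (P 2))),
      natDegree_mul (pow_ne_zero _ (X_sub_C_ne_zero (P 0))) (pow_ne_zero _ (X_sub_C_ne_zero (P 1))),
      natDegree_pow, natDegree_X_sub_C, mul_one] at h
    rw [Fin.sum_univ_three] at hsum
    omega
  have hco : IsCoprime v.1 v.2 := isCoprime_of_no_common_root fun a ⟨ha1, ha2⟩ => by
    obtain ⟨t, ht, ht0⟩ := hbp a
    obtain ⟨x, y, rfl⟩ := Submodule.mem_span_pair.1 ht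
    simp [ha1.eq_zero, ha2.eq_zero] at ht0
  obtain ⟨h, hh⟩ : v.1 ∣ w.1 := hco.dvd_of_dvd_mul_right ⟨w.2, (sub_eq_zero.1 hT).symm⟩
  have hw2 : w.2 = v.2 * h := mul_left_cancel₀ h1 (by rw [sub_eq_zero.1 hT, hh]; ring)
  have hmax : v.1.natDegree = d ∨ v.2.natDegree = d := by
    obtain ⟨x, y, rfl⟩ := Submodule.mem_span_pair.1 hs
    have := natDegree_add_le (x • v.1) (y • v.2)
    have := natDegree_smul_le x v.1
    have := natDegree_smul_le y v.2
    omega
  have hh0 : h ≠ 0 := by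
    rintro rfl
    exact hw0 (Prod.ext (by simp [hh]) (by simp [hw2]))
  have hhdeg : h.natDegree = 0 := by
    rw [hh, natDegree_mul h1 hh0] at e1
    rw [hw2, natDegree_mul h2 hh0] at e2
    omega
  obtain ⟨c, rfl⟩ := natDegree_eq_zero.1 hhdeg
  have hc : c ≠ 0 := fun hc => hh0 (by simp [hc])
  rw [hh, hw2, mul_comm v.1, mul_comm v.2, ← smul_eq_C_mul, ← smul_eq_C_mul, Submodule.span_insert,
    Submodule.span_insert, Submodule.span_singleton_smul_eq hc.isUnit, Submodule.span_singleton_smul_eq hc.isUnit]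

lemma isSeparable_span_pair (F G : k[X]) :
    W4c1limliniiii.IsSeparable (Submodule.span k {F, G}) ↔ wronskian F G ≠ 0 := by
  constructor
  · rintro ⟨a, ha, b, hb, hab⟩ h0
    obtain ⟨x, y, rfl⟩ := Submodule.mem_span_pair.1 ha
    obtain ⟨z, w, rfl⟩ := Submodule.mem_span_pair.1 hb
    exact hab (by rw [wronskian_smul_add, h0, mul_zero])
  · exact fun h => ⟨F, Submodule.subset_span (by simp), G, Submodule.subset_span (by simp), h⟩

lemma rootMultiplicity_pow_X_sub_C [DecidableEq k] (a x : k) (m : ℕ) :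
    rootMultiplicity x ((X - C a) ^ m) = if a = x then m else 0 := by
  rw [← count_roots, roots_pow, roots_X_sub_C, Multiset.count_nsmul, Multiset.count_singleton]
  by_cases h : a = x
  · simp [h]
  · simp [h, Ne.symm h]

include hP hd hsum in
/-- A separable solution of the Schubert conditions is a ramified map. -/
theorem mem_ramMaps {V : Submodule k k[X]} (hV : Sch P e d V) (hsep : W4c1limliniiii.IsSeparable V) :
    V ∈ W4c1limliniiii.ramMaps d P e := by
  classical
  obtain ⟨v, hv, hv0, rfl⟩ := exists_of_sch P e hP hd hsum hV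
  obtain ⟨d1, d2, a0, a1, a2⟩ := (mem_L P e).1 hv
  obtain ⟨h1, h2, h3, -⟩ := indep P e hP hd hsum hv hv0
  set W := wronskian v.1 v.2 with hW
  have hW0 : W ≠ 0 := (isSeparable_span_pair _ _).1 hsep
  -- members with the given vanishing and a partner
  have hSU : ∀ i, ∃ S U : k[X], A P e i ∣ S ∧ (U = v.1 ∨ U = v.2) ∧ ∃ c : k, c ≠ 0 ∧ wronskian S U = c • W := by
    intro i
    fin_cases i
    · exact ⟨v.1, v.2, a0, Or.inr rfl, 1, one_ne_zero, (one_smul _ _).symm⟩
    · exact ⟨v.2, v.1, a1, Or.inl rfl, -1, by simp, by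
        rw [neg_one_smul, hW]; simp only [wronskian]; ring⟩
    · exact ⟨v.1 + v.2, v.2, a2, Or.inr rfl, 1, one_ne_zero, by
        rw [one_smul, hW]; simp only [wronskian, derivative_add]; ring⟩
  have hdvdW : ∀ i, (X - C (P i)) ^ (e i - 1) ∣ W := by
    intro i
    obtain ⟨S, U, hS, -, c, hc, hc'⟩ := hSU i
    have h := pow_sub_one_dvd_wronskian U hS
    rw [hc', smul_eq_C_mul] at h
    exact (isUnit_C.2 hc.isUnit).dvd_mul_left.1 h
  set Φ := (X - C (P 0)) ^ (e 0 - 1) * (X - C (P 1)) ^ (e 1 - 1) * (X - C (P 2)) ^ (e 2 - 1) with hΦdef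
  have hne : ∀ i m, (X - C (P i)) ^ m ≠ (0 : k[X]) := fun i m => pow_ne_zero _ (X_sub_C_ne_zero _)
  have hΦ : Φ ∣ W :=
    ((isCoprime_pow P hP (show (0 : Fin 3) ≠ 2 by decide) _ _).mul_left
      (isCoprime_pow P hP (show (1 : Fin 3) ≠ 2 by decide) _ _)).mul_dvd
      ((isCoprime_pow P hP (show (0 : Fin 3) ≠ 1 by decide) _ _).mul_dvd (hdvdW 0) (hdvdW 1)) (hdvdW 2)
  have hΦdeg : Φ.natDegree = 2 * d - 2 := by
    rw [hΦdef, natDegree_mul (mul_ne_zero (hne _ _) (hne _ _)) (hne _ _), natDegree_mul (hne _ _) (hne _ _)]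
    simp only [natDegree_pow, natDegree_X_sub_C, mul_one]
    rw [Fin.sum_univ_three] at hsum
    have := (hd 0).1; have := (hd 1).1; have := (hd 2).1
    omega
  obtain ⟨r, hr⟩ := hΦ
  have hr0 : r ≠ 0 := by rintro rfl; exact hW0 (by rw [hr, mul_zero])
  have hΦ0 : Φ ≠ 0 := by intro h; exact hW0 (by rw [hr, h, zero_mul])
  have hrdeg : r.natDegree = 0 := by
    have h := natDegree_wronskian_le d1 d2
    rw [← hW, hr, natDegree_mul hΦ0 hr0] at h
    omega
  have hWdeg : W.natDegree = 2 * d - 2 := by rw [hr, natDegree_mul hΦ0 hr0, hrdeg, add_zero, hΦdeg]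
  obtain ⟨c, rfl⟩ := natDegree_eq_zero.1 hrdeg
  have hrm : ∀ x : k, W.rootMultiplicity x =
      ∑ i, if P i = x then e i - 1 else 0 := by
    intro x
    rw [hr, rootMultiplicity_mul (hr ▸ hW0), rootMultiplicity_C, add_zero, hΦdef,
      rootMultiplicity_mul hΦ0, rootMultiplicity_mul (mul_ne_zero (hne _ _) (hne _ _))]
    simp [rootMultiplicity_pow_X_sub_C, Fin.sum_univ_three]
  have hrmP : ∀ i, W.rootMultiplicity (P i) = e i - 1 := fun i => by
    simp [hrm, hP.eq_iff]
  have hspan : ∀ s ∈ Submodule.span k {v.1, v.2}, s ≠ 0 → ∃ U, ∃ c : k, c ≠ 0 ∧ wronskian s U = c • W := by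
    intro s hs hs0
    obtain ⟨x, y, rfl⟩ := Submodule.mem_span_pair.1 hs
    by_cases hx : x = 0
    · refine ⟨v.1, -y, neg_ne_zero.2 fun hy => hs0 (by simp [hx, hy]), ?_⟩
      simp only [hx, zero_smul, zero_add, hW, wronskian, smul_eq_C_mul, derivative_mul, derivative_C, map_neg,
        zero_mul]
      ring
    · refine ⟨v.2, x, hx, ?_⟩
      simp only [hW, wronskian, smul_eq_C_mul, derivative_add, derivative_mul, derivative_C, zero_mul]
      ring
  refine ⟨⟨hV.1, hV.2.1, ?_, fun x => ?_⟩, hsep, fun i => ⟨((sch_iff P e _).2 hV).2.2 i, fun s hs hs0 => ?_⟩⟩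
  · by_contra h
    push Not at h
    have h1' := lt_of_le_of_ne d1 (h v.1 (Submodule.subset_span (by simp)))
    have h2' := lt_of_le_of_ne d2 (h v.2 (Submodule.subset_span (by simp)))
    have hlt' := natDegree_wronskian_lt_add (hW ▸ hW0 : wronskian v.1 v.2 ≠ 0)
    rw [← hW] at hlt'
    have := (hd 0).1; have := (hd 0).2
    omega
  · by_contra h
    push Not at h
    have hv1 : v.1.IsRoot x := h v.1 (Submodule.subset_span (by simp))
    have hv2 : v.2.IsRoot x := h v.2 (Submodule.subset_span (by simp))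
    by_cases hx : ∃ i, P i = x
    · obtain ⟨i, rfl⟩ := hx
      obtain ⟨S, U, hS, hU, c', hc', hc''⟩ := hSU i
      have hd' := pow_dvd_wronskian_of_root (le_trans one_le_two (hd i).1) hS
        (show U.IsRoot (P i) by rcases hU with rfl | rfl <;> assumption)
      rw [hc'', smul_eq_C_mul] at hd'
      have := (le_rootMultiplicity_iff hW0).2 ((isUnit_C.2 hc'.isUnit).dvd_mul_left.1 hd')
      rw [hrmP i] at this
      have := (hd i).1
      omega
    · push Not at hx
      have hpos : 0 < W.rootMultiplicity x :=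
        (rootMultiplicity_pos hW0).2 (by simp [hW, wronskian, IsRoot, hv1.eq_zero, hv2.eq_zero])
      rw [hrm] at hpos
      simp [hx] at hpos
  · obtain ⟨U, c', hc', hc''⟩ := hspan s hs hs0
    by_contra hlt
    push Not at hlt
    have hd' := pow_sub_one_dvd_wronskian U ((le_rootMultiplicity_iff hs0).1 hlt)
    rw [hc'', smul_eq_C_mul] at hd'
    have := (le_rootMultiplicity_iff hW0).2 ((isUnit_C.2 hc'.isUnit).dvd_mul_left.1 hd')
    rw [hrmP i] at this
    have := (hd i).1
    omega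

lemma sch_of_mem_ramMaps {V : Submodule k k[X]} (hV : V ∈ W4c1limliniiii.ramMaps d P e) : Sch P e d V :=
  (sch_iff P e V).1 ⟨hV.1.1, hV.1.2.1, fun i => (hV.2.2 i).1⟩

include hP hd hsum in
theorem subsingleton_and_iff [IsAlgClosed k] :
    (W4c1limliniiii.ramMaps d P e).Subsingleton ∧
      (W4c1limliniiii.ramMaps d P e = ∅ ↔
        ∃ V : Submodule k k[X], Sch P e d V ∧ ¬ W4c1limliniiii.IsSeparable V) := by
  refine ⟨fun V hV W hW => (eq_of_isPencil P e hP hd hsum (sch_of_mem_ramMaps P e hV)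
    (sch_of_mem_ramMaps P e hW) hV.1).symm, ?_, ?_⟩
  · intro h
    obtain ⟨v, hv, hv0⟩ := Submodule.exists_mem_ne_zero_of_ne_bot (L_ne_bot P e hd hsum)
    refine ⟨_, span_mem P e hP hd hsum hv hv0, fun hs => ?_⟩
    have := mem_ramMaps P e hP hd hsum (span_mem P e hP hd hsum hv hv0) hs
    rw [h] at this
    exact this
  · rintro ⟨W, hW, hns⟩
    refine Set.eq_empty_of_forall_notMem fun V hV => hns ?_
    rw [eq_of_isPencil P e hP hd hsum (sch_of_mem_ramMaps P e hV) hW hV.1]
    exact hV.2.1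

end Groth.Misc6.Pencil
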