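import Groth.Prelude.Def_GLin6
import Mathlib.Algebra.MvPolynomial.Funext
import Mathlib.LinearAlgebra.Matrix.MvPolynomial

/-!
# The substitution action of matrices on the space of forms, on points

`move k n d M a` is the form `a` moved by the matrix `M`.
-/

set_option autoImplicit false
universe u

noncomputable section

namespace Groth.Misc6.FormAction

open MvPolynomial TensorProduct CoordGrp

/-! ### The substitution action on the space of forms -/

variable (k : Type u) [Field k] (n d : ℕ)

/-- The coaction, as a polynomial in a form and a matrix. -/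
def toSum : FormRing k n d ⊗[k] Mat n k →ₐ[k] MvPolynomial (FormIdx n d ⊕ (Fin n × Fin n)) k :=
  Algebra.TensorProduct.lift (rename Sum.inl)
    (Mat.aeval n k fun i j => X (Sum.inr (i, j))) fun _ _ => Commute.all _ _

def ofSum : MvPolynomial (FormIdx n d ⊕ (Fin n × Fin n)) k →ₐ[k] FormRing k n d ⊗[k] Mat n k :=
  aeval (Sum.elim (fun l => X l ⊗ₜ[k] (1 : Mat n k)) fun z => (1 : FormRing k n d) ⊗ₜ[k] Mat.X z.1 z.2)

theorem ofSum_toSum (w : FormRing k n d ⊗[k] Mat n k) : ofSum k n d (toSum k n d w) = w := by
  have : (ofSum k n d).comp (toSum k n d) = AlgHom.id k _ := by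
    refine Algebra.TensorProduct.ext (MvPolynomial.algHom_ext fun l => ?_) (Mat.algHom_ext fun i j => ?_)
    · simp [toSum, ofSum]
    · simp [toSum, ofSum]
  exact AlgHom.congr_fun this w

/-- The point obtained by moving the form `a` by the matrix `M`. -/
def move (M : Matrix (Fin n) (Fin n) k) (a : FormIdx n d → k) : FormIdx n d → k :=
  fun m => ∑ l, a l * Mat.aeval n k M (formCoeff k n d l m)

theorem eval_toSum (M : Matrix (Fin n) (Fin n) k) (a : FormIdx n d → k)
    (F : FormRing k n d) :
    eval (Sum.elim a fun z => M z.1 z.2) (toSum k n d (formsCoactAlg k n d F)) =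
      eval (move k n d M a) F := by
  have hR : ∀ x : Mat n k, eval (Sum.elim a fun z => M z.1 z.2)
      (Mat.aeval n k (fun i j => X (Sum.inr (i, j))) x : MvPolynomial (FormIdx n d ⊕ (Fin n × Fin n)) k) =
      Mat.aeval n k M x := by
    intro x
    have : (aeval (Sum.elim a fun z => M z.1 z.2)).comp
        (Mat.aeval n k (fun i j => X (Sum.inr (i, j))) :
          Mat n k →ₐ[k] MvPolynomial (FormIdx n d ⊕ (Fin n × Fin n)) k) = Mat.aeval n k M :=
      Mat.algHom_ext fun i j => by simp
    simpa [aeval_eq_eval] using AlgHom.congr_fun this x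
  have : (aeval (Sum.elim a fun z => M z.1 z.2)).comp ((toSum k n d).comp (formsCoactAlg k n d)) =
      aeval (move k n d M a) := by
    refine MvPolynomial.algHom_ext fun m => ?_
    simp [toSum, move, aeval_eq_eval, hR]
  simpa [aeval_eq_eval] using AlgHom.congr_fun this F

theorem move_one (a : FormIdx n d → k) : move k n d 1 a = a := by
  funext m
  have : Mat.aeval n k (1 : Matrix (Fin n) (Fin n) k) = Bialgebra.counitAlgHom k (Mat n k) :=
    Mat.algHom_ext fun i j => by simp [Matrix.one_apply]
  simp [move, this, counit_formCoeff]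

theorem move_move (M N : Matrix (Fin n) (Fin n) k) (a : FormIdx n d → k) :
    move k n d N (move k n d M a) = move k n d (M * N) a := by
  funext m
  let μ : Mat n k ⊗[k] Mat n k →ₐ[k] k :=
    Algebra.TensorProduct.lift (Mat.aeval n k M) (Mat.aeval n k N) fun _ _ => Commute.all _ _
  have hμ : Mat.aeval n k (M * N) = μ.comp (Bialgebra.comulAlgHom k (Mat n k)) :=
    Mat.algHom_ext fun i j => by simp [μ, Matrix.mul_apply]
  simp only [move, hμ, AlgHom.comp_apply, Bialgebra.comulAlgHom_apply, comul_formCoeff, map_sum, μ,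
    Algebra.TensorProduct.lift_tmul, Finset.mul_sum, Finset.sum_mul, mul_assoc]
  exact Finset.sum_comm

variable {k} {n} {d}

variable (k n d) in
/-- From the matrix monoid to the special linear group. -/
def toSL : Mat n k →ₐ[k] SLn n k :=
  (SLn.mk n k).comp (Mat.toGLn n k : Mat n k →ₐ[k] GLn n k)

theorem toSL_det : toSL k n (Mat.det n k) = 1 := by
  rw [toSL, AlgHom.comp_apply, ← SLn.det_eq_one, GLn.det_eq, Mat.det, AlgHom.map_det]
  refine congrArg _ (congrArg Matrix.det ?_)
  ext i j
  exact Mat.toGLn_X i j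

variable (k n d) in
def θ : MvPolynomial (FormIdx n d ⊕ (Fin n × Fin n)) k →ₐ[k] FormRing k n d ⊗[k] SLn n k :=
  (Algebra.TensorProduct.map (AlgHom.id k (FormRing k n d)) (toSL k n)).comp (ofSum k n d)

theorem θ_det :
    θ k n d (rename Sum.inr (Matrix.mvPolynomialX (Fin n) (Fin n) k).det) = 1 := by
  have e : (θ k n d).comp (rename Sum.inr) =
      ((Algebra.TensorProduct.includeRight (R := k) (A := FormRing k n d)).comp
        ((toSL k n).comp (Mat.aeval n k (Mat.genMat n k))) :
          MvPolynomial (Fin n × Fin n) k →ₐ[k] FormRing k n d ⊗[k] SLn n k) := by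
    refine MvPolynomial.algHom_ext fun z => ?_
    simp only [θ, ofSum, AlgHom.comp_apply, rename_X, aeval_X, Sum.elim_inr,
      Algebra.TensorProduct.map_tmul, AlgHom.id_apply, Algebra.TensorProduct.includeRight_apply]
    exact congrArg (fun y => (1 : FormRing k n d) ⊗ₜ[k] toSL k n y)
      (Mat.aeval_X (Mat.genMat n k) z.1 z.2).symm
  refine (AlgHom.congr_fun e _).trans ?_
  show (1 : FormRing k n d) ⊗ₜ[k] toSL k n (Mat.aeval n k (Mat.genMat n k)
    (Matrix.mvPolynomialX (Fin n) (Fin n) k).det) = 1
  rw [show Mat.aeval n k (Mat.genMat n k) (Matrix.mvPolynomialX (Fin n) (Fin n) k).det = Mat.det n k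
    from (AlgHom.map_det _ _).trans (congrArg Matrix.det (by ext i j; exact Mat.aeval_X _ i j)),
    toSL_det, Algebra.TensorProduct.one_def]

theorem coact_eq_tmul {F : FormRing k n d} {χ : Polynomial k} (hχ1 : χ.eval 1 = 1)
    (h2 : toSum k n d (formsCoactAlg k n d F) *
        rename Sum.inr (Matrix.mvPolynomialX (Fin n) (Fin n) k).det =
      rename Sum.inl F *
        rename Sum.inr (Polynomial.aeval (Matrix.mvPolynomialX (Fin n) (Fin n) k).det χ)) :
    Algebra.TensorProduct.map (AlgHom.id k (FormRing k n d)) (toSL k n) (formsCoactAlg k n d F) =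
      F ⊗ₜ[k] (1 : SLn n k) := by
  have h3 := congrArg (θ k n d) h2
  rw [map_mul, map_mul, θ_det, mul_one] at h3
  have e1 : θ k n d (toSum k n d (formsCoactAlg k n d F)) =
      Algebra.TensorProduct.map (AlgHom.id k (FormRing k n d)) (toSL k n) (formsCoactAlg k n d F) := by
    rw [θ, AlgHom.comp_apply, ofSum_toSum]
  rw [e1] at h3
  rw [h3, ← Polynomial.aeval_algHom_apply, ← Polynomial.aeval_algHom_apply, θ_det]
  have h1 : Polynomial.aeval (1 : FormRing k n d ⊗[k] SLn n k) χ = 1 := by
    have := Polynomial.aeval_algHom_apply (Algebra.ofId k (FormRing k n d ⊗[k] SLn n k)) 1 χ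
    rw [map_one, Polynomial.coe_aeval_eq_eval, hχ1, map_one] at this
    exact this
  rw [h1, mul_one]
  have : (θ k n d).comp (rename Sum.inl) =
      (Algebra.TensorProduct.includeLeft : FormRing k n d →ₐ[k] FormRing k n d ⊗[k] SLn n k) :=
    MvPolynomial.algHom_ext fun l => by simp [θ, ofSum]
  exact AlgHom.congr_fun this F

theorem map_toSL (w : FormRing k n d ⊗[k] Mat n k) :
    TensorProduct.map LinearMap.id
        (((SLn.mkHom n k).comp (Mat.toGLn n k) : Mat n k →ₐc[k] SLn n k) : Mat n k →ₗ[k] SLn n k) w =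
      Algebra.TensorProduct.map (AlgHom.id k (FormRing k n d)) (toSL k n) w := by
  induction w using TensorProduct.induction_on with
  | zero => simp only [map_zero]
  | add x y hx hy => simp only [map_add, hx, hy]
  | tmul p x => rfl

/-- The coefficient of a substituted monomial. -/
theorem aeval_formCoeff (M : Matrix (Fin n) (Fin n) k) (l m : FormIdx n d) :
    Mat.aeval n k M (formCoeff k n d l m) =
      coeff l.1 (∏ i, (∑ j, C (M j i) * X j) ^ (m.1 i)) := by
  let φ : MvPolynomial (Fin n) k ⊗[k] Mat n k →ₐ[k] MvPolynomial (Fin n) k :=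
    Algebra.TensorProduct.lift (AlgHom.id k _)
      ((Algebra.ofId k _).comp (Mat.aeval n k M)) fun _ _ => Commute.all _ _
  have h1 : ∀ w, Mat.aeval n k M (coeffT (k := k) l.1 w) = coeff l.1 (φ w) := by
    intro w
    induction w using TensorProduct.induction_on with
    | zero => simp
    | add x y hx hy => simp only [map_add, coeff_add, hx, hy]
    | tmul p x =>
      simp [φ, Algebra.TensorProduct.lift_tmul]
      rw [mul_comm p, coeff_C_mul, mul_comm]
  rw [formCoeff_def, h1]
  congr 1
  have h2 : φ.comp (stdCoactAlg n k) = aeval fun i => ∑ j, C (M j i) * X j :=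
    MvPolynomial.algHom_ext fun i => by simp [φ, mul_comm]
  rw [← AlgHom.comp_apply, h2, aeval_monomial, map_one, one_mul,
    Finsupp.prod_fintype _ _ fun _ => pow_zero _]

/-- Invariance under the special linear group from a polynomial identity on all matrices. -/
theorem mem_invariants_of_forall_move [Infinite k] {F : FormRing k n d} (w : ℕ)
    (h : ∀ (M : Matrix (Fin n) (Fin n) k) (a : FormIdx n d → k),
      eval (move k n d M a) F = M.det ^ w * eval a F) :
    F ∈ @GLin.invariants k _ (SLn n k) _ _ (FormRing k n d) _ _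
      (GLin.comodAlong ((SLn.mkHom n k).comp (Mat.toGLn n k)) (formsCoact k n d))
      (GLin.isCoactAlg_comodAlong ((SLn.mkHom n k).comp (Mat.toGLn n k)) (formsCoact k n d)
        (formsCoact_isCoactAlg k n d)) := by
  refine (map_toSL _).trans (coact_eq_tmul (χ := Polynomial.X ^ (w + 1)) (by simp) ?_)
  refine MvPolynomial.funext fun x => ?_
  have hx : x = Sum.elim (fun l => x (.inl l)) fun z => x (.inr (z.1, z.2)) := by
    funext z; rcases z with l | z <;> rfl
  have hd : eval (fun z : Fin n × Fin n => x (.inr (z.1, z.2)))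
      (Matrix.mvPolynomialX (Fin n) (Fin n) k).det = Matrix.det (fun i j => x (.inr (i, j))) := by
    rw [RingHom.map_det, RingHom.mapMatrix_apply]
    congr 1
    ext i j
    simp
  rw [map_mul, map_mul, hx, eval_rename, eval_rename, eval_rename, Sum.elim_comp_inl,
    Sum.elim_comp_inr]
  erw [eval_toSum k n d (fun i j => x (.inr (i, j)))]
  rw [map_pow, Polynomial.aeval_X, map_pow, hd, h]
  ring

/-- Invariants take the same value on a form and on its translates by matrices of determinant
one. -/
theorem eval_move_of_mem_invariants {F : FormRing k n d}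
    (hF : F ∈ @GLin.invariants k _ (SLn n k) _ _ (FormRing k n d) _ _
      (GLin.comodAlong ((SLn.mkHom n k).comp (Mat.toGLn n k)) (formsCoact k n d))
      (GLin.isCoactAlg_comodAlong ((SLn.mkHom n k).comp (Mat.toGLn n k)) (formsCoact k n d)
        (formsCoact_isCoactAlg k n d)))
    (M : Matrix (Fin n) (Fin n) k) (hM : M.det = 1) (a : FormIdx n d → k) :
    eval (move k n d M a) F = eval a F := by
  let ψ : FormRing k n d ⊗[k] SLn n k →ₐ[k] k :=
    Algebra.TensorProduct.lift (aeval a) (SLn.pt n k M hM) fun _ _ => Commute.all _ _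
  let ψ' : FormRing k n d ⊗[k] Mat n k →ₐ[k] k :=
    Algebra.TensorProduct.lift (aeval a) (Mat.aeval n k M) fun _ _ => Commute.all _ _
  have e1 : ψ.comp (Algebra.TensorProduct.map (AlgHom.id k (FormRing k n d)) (toSL k n)) = ψ' := by
    refine Algebra.TensorProduct.ext (MvPolynomial.algHom_ext fun l => ?_)
      (Mat.algHom_ext fun i j => ?_)
    · simp [ψ, ψ', toSL]
    · simp [ψ, ψ', toSL]
      exact SLn.pt_X M hM i j
  have e2 : ψ'.comp (formsCoactAlg k n d) = aeval (move k n d M a) :=
    MvPolynomial.algHom_ext fun m => by simp [ψ', move]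
  have h3 : Algebra.TensorProduct.map (AlgHom.id k (FormRing k n d)) (toSL k n)
      (formsCoactAlg k n d F) = F ⊗ₜ[k] (1 : SLn n k) :=
    (map_toSL _).symm.trans hF
  have h4 := congrArg ψ h3
  rw [← AlgHom.comp_apply, e1, ← AlgHom.comp_apply, e2] at h4
  simpa [ψ, aeval_eq_eval] using h4

end Groth.Misc6.FormAction
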