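import Mathlib
import Groth.Agent.GitQuot.Linear
import Groth.Agent.Variety2.DimAffine

/-!
# Points with finite stabiliser and stable points of an affine scheme with a group action
-/

set_option autoImplicit false

universe u

open TensorProduct WithConv
open Groth

noncomputable section

namespace Groth.Misc6.StablePoints

open GitQuot

/-! ### Commutative algebra -/

section CA

variable {k : Type u} [Field k] [IsAlgClosed k]

omit [IsAlgClosed k] in
theorem eq_of_ker_le {B : Type u} [CommRing B] [Algebra k B] {p q : B →ₐ[k] k}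
    (h : RingHom.ker p ≤ RingHom.ker q) : p = q := by
  ext b
  have h0 : b - algebraMap k B (p b) ∈ RingHom.ker q := h (by simp [RingHom.mem_ker])
  rw [RingHom.mem_ker, map_sub, AlgHom.commutes, sub_eq_zero] at h0
  exact h0.symm

theorem exists_point_eq {B : Type u} [CommRing B] [Algebra k B] [Algebra.FiniteType k B]
    (m : Ideal B) [hm : m.IsMaximal] : ∃ g : B →ₐ[k] k, RingHom.ker g = m := by
  obtain ⟨g, hg⟩ := exists_point (k := k) m hm.ne_top
  exact ⟨g, (hm.eq_of_le (RingHom.ker_ne_top g) hg).symm⟩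

theorem isMaximal_of_le_of_finite {B : Type u} [CommRing B] [Algebra k B] [Algebra.FiniteType k B]
    (I : Ideal B) (h : {g : B →ₐ[k] k | I ≤ RingHom.ker g}.Finite) (P : Ideal B) [hP : P.IsPrime]
    (hIP : I ≤ P) : P.IsMaximal := by
  classical
  have : IsJacobsonRing B := isJacobsonRing_of_finiteType (A := k) (B := B)
  let s := h.toFinset.filter fun g => P ≤ RingHom.ker g
  have hle : s.inf (fun g => RingHom.ker g) ≤ P := by
    intro b hb
    rw [← isJacobsonRing_iff.1 this P hP.isRadical]
    refine Ideal.mem_sInf.2 fun {m} ⟨hPm, hm⟩ => ?_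
    haveI := hm
    obtain ⟨g, rfl⟩ := exists_point_eq (k := k) m
    exact Finset.inf_le (f := fun g => RingHom.ker g)
      (Finset.mem_filter.2 ⟨h.mem_toFinset.2 (hIP.trans hPm), hPm⟩) hb
  obtain ⟨g, hg, hgle⟩ := (Ideal.IsPrime.inf_le' hP).1 hle
  have hmax : (RingHom.ker g).IsMaximal :=
    RingHom.ker_isMaximal_of_surjective g fun c => ⟨algebraMap k B c, by simp⟩
  rwa [← le_antisymm hgle (Finset.mem_filter.1 hg).2]

theorem finite_setOf_le_prime {B : Type u} [CommRing B] [Algebra k B] [Algebra.FiniteType k B]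
    (I : Ideal B) (h : {g : B →ₐ[k] k | I ≤ RingHom.ker g}.Finite) :
    {q : PrimeSpectrum B | I ≤ q.asIdeal}.Finite := by
  refine (h.image fun g => (⟨RingHom.ker g, RingHom.ker_isPrime g⟩ : PrimeSpectrum B)).subset
    fun q hq => ?_
  haveI := isMaximal_of_le_of_finite I h q.asIdeal hq
  obtain ⟨g, hg⟩ := exists_point_eq (k := k) q.asIdeal
  exact ⟨g, show I ≤ RingHom.ker g from hg.symm ▸ hq, PrimeSpectrum.ext hg⟩

theorem finite_quotient_iff {B : Type u} [CommRing B] [Algebra k B] [Algebra.FiniteType k B]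
    (I : Ideal B) : Module.Finite k (B ⧸ I) ↔ {g : B →ₐ[k] k | I ≤ RingHom.ker g}.Finite := by
  rw [Module.finite_iff_isArtinianRing]
  constructor
  · intro hA
    have hf : (Set.univ : Set (MaximalSpectrum (B ⧸ I))).Finite := Set.finite_univ
    refine Set.Finite.of_finite_image (f := fun g => RingHom.ker g) ?_
      fun p _ q _ hpq => eq_of_ker_le (le_of_eq hpq)
    refine (hf.image fun m => Ideal.comap (Ideal.Quotient.mk I) m.asIdeal).subset ?_
    rintro _ ⟨g, hg, rfl⟩
    have hmax : (RingHom.ker g).IsMaximal :=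
      RingHom.ker_isMaximal_of_surjective g fun c => ⟨algebraMap k B c, by simp⟩
    refine ⟨⟨(RingHom.ker g).map (Ideal.Quotient.mk I), ?_⟩, trivial, ?_⟩
    · exact (Ideal.map_eq_top_or_isMaximal_of_surjective _ Ideal.Quotient.mk_surjective hmax).resolve_left
        fun e => hmax.ne_top (by
          have := congrArg (Ideal.comap (Ideal.Quotient.mk I)) e
          rwa [Ideal.comap_map_of_surjective _ Ideal.Quotient.mk_surjective, ← RingHom.ker_eq_comap_bot,
            Ideal.mk_ker, Ideal.comap_top, sup_eq_left.2 hg] at this)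
    · change Ideal.comap (Ideal.Quotient.mk I) _ = _
      rw [Ideal.comap_map_of_surjective _ Ideal.Quotient.mk_surjective, ← RingHom.ker_eq_comap_bot,
        Ideal.mk_ker, sup_eq_left.2 hg]
  · intro h
    have : IsNoetherianRing B := Algebra.FiniteType.isNoetherianRing k B
    rw [isArtinianRing_iff_isNoetherianRing_krullDimLE_zero]
    refine ⟨inferInstance, Ring.krullDimLE_zero_iff.2 fun P hP => ?_⟩
    haveI := hP
    have hmax : (P.comap (Ideal.Quotient.mk I)).IsMaximal := isMaximal_of_le_of_finite I h _ (by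
      intro b hb
      rw [Ideal.mem_comap, Ideal.Quotient.eq_zero_iff_mem.2 hb]
      exact P.zero_mem)
    rw [← Ideal.map_comap_of_surjective _ Ideal.Quotient.mk_surjective P]
    exact (Ideal.map_eq_top_or_isMaximal_of_surjective _ Ideal.Quotient.mk_surjective hmax).resolve_left
      (by rw [Ideal.map_comap_of_surjective _ Ideal.Quotient.mk_surjective P]; exact hP.ne_top)

theorem quasiFiniteAt_of_finite {R S : Type u} [CommRing R] [Algebra k R] [CommRing S] [Algebra k S]
    [Algebra R S] [IsScalarTower k R S] [Algebra.FiniteType k S] (x : R →ₐ[k] k) (σ : S →ₐ[k] k)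
    (hσ : ∀ r, σ (algebraMap R S r) = x r)
    (h : {τ : S →ₐ[k] k | ∀ r, τ (algebraMap R S r) = x r}.Finite) :
    @Algebra.QuasiFiniteAt R S _ _ _ (RingHom.ker σ) (RingHom.ker_isPrime σ) := by
  haveI : Algebra.FiniteType R S := Algebra.FiniteType.of_restrictScalars_finiteType k R S
  let q₀ : PrimeSpectrum S := ⟨RingHom.ker σ, RingHom.ker_isPrime σ⟩
  haveI := q₀.isPrime
  change Algebra.QuasiFiniteAt R q₀.asIdeal
  let I : Ideal S := (RingHom.ker x).map (algebraMap R S)
  have hI : {g : S →ₐ[k] k | I ≤ RingHom.ker g}.Finite := by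
    refine h.subset fun g hg r => ?_
    have : algebraMap R S (r - algebraMap k R (x r)) ∈ RingHom.ker g :=
      hg (Ideal.mem_map_of_mem _ (by simp [RingHom.mem_ker]))
    simpa [RingHom.mem_ker, sub_eq_zero, ← IsScalarTower.algebraMap_apply k R S] using this
  have hmem : ∀ q : PrimeSpectrum S,
      q.comap (algebraMap R S) = q₀.comap (algebraMap R S) → I ≤ q.asIdeal := by
    intro q hq
    refine Ideal.map_le_iff_le_comap.2 fun r hr => ?_
    have hr' : r ∈ (q₀.comap (algebraMap R S)).asIdeal := by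
      change σ (algebraMap R S r) = 0
      rw [hσ]; exact hr
    rw [← hq] at hr'
    exact hr'
  haveI : Finite ↥(PrimeSpectrum.comap (algebraMap R S) ⁻¹' {q₀.comap (algebraMap R S)}) :=
    ((finite_setOf_le_prime I hI).subset fun q hq => hmem q hq).to_subtype
  haveI : T1Space ↥(PrimeSpectrum.comap (algebraMap R S) ⁻¹' {q₀.comap (algebraMap R S)}) := by
    refine ⟨fun q => ?_⟩
    have : IsClosed ({q.1} : Set (PrimeSpectrum S)) :=
      (PrimeSpectrum.isClosed_singleton_iff_isMaximal _).2
        (isMaximal_of_le_of_finite I hI _ (hmem q.1 q.2))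
    convert this.preimage continuous_subtype_val
    ext; simp [Subtype.ext_iff]
  exact Algebra.QuasiFiniteAt.of_isOpen_singleton_fiber q₀ (isOpen_discrete _)

omit [IsAlgClosed k] in
theorem exists_separating_of_quasiFiniteAt {R S : Type u} [CommRing R] [Algebra k R] [CommRing S]
    [Algebra k S] [Algebra R S] [IsScalarTower k R S] [Algebra.FiniteType k S] (x : R →ₐ[k] k)
    (σ : S →ₐ[k] k) (hσ : ∀ r, σ (algebraMap R S r) = x r)
    [(RingHom.ker σ).IsPrime] [Algebra.QuasiFiniteAt R (RingHom.ker σ)] :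
    ∃ s, σ s ≠ 0 ∧ ∀ τ : S →ₐ[k] k, (∀ r, τ (algebraMap R S r) = x r) → τ ≠ σ → τ s = 0 := by
  haveI : Algebra.FiniteType R S := Algebra.FiniteType.of_restrictScalars_finiteType k R S
  haveI : (RingHom.ker x).IsPrime := RingHom.ker_isPrime x
  haveI : (RingHom.ker σ).LiesOver (RingHom.ker x) :=
    ⟨Ideal.ext fun r => by simp [Ideal.under, RingHom.mem_ker, hσ]⟩
  obtain ⟨s, hs, hs'⟩ := Ideal.exists_not_mem_forall_mem_of_ne_of_liesOver (RingHom.ker x) (RingHom.ker σ)
  refine ⟨s, hs, fun τ hτ hne => hs' (RingHom.ker τ) (RingHom.ker_isPrime τ) (fun e => ?_)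
    ⟨Ideal.ext fun r => by simp [Ideal.under, RingHom.mem_ker, hτ]⟩⟩
  exact hne (eq_of_ker_le (le_of_eq e))

theorem isOpen_quasiFiniteAt {R S : Type u} [CommRing R] [CommRing S] [Algebra R S]
    [Algebra.FiniteType R S] : IsOpen {q : PrimeSpectrum S | Algebra.QuasiFiniteAt R q.asIdeal} := by
  rw [isOpen_iff_forall_mem_open]
  intro q hq
  haveI : Algebra.QuasiFiniteAt R q.asIdeal := hq
  have hZ := Algebra.ZariskisMainProperty.of_finiteType (R := R) q.asIdeal
  obtain ⟨r, hrq, hr⟩ := Algebra.zariskisMainProperty_iff.1 hZ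
  refine ⟨PrimeSpectrum.basicOpen r, fun q' hq' => ?_, PrimeSpectrum.isOpen_basicOpen, hrq⟩
  exact (Algebra.zariskisMainProperty_iff.2 ⟨r, hq', hr⟩).quasiFiniteAt _

theorem length_le_ringKrullDim {R : Type u} [CommRing R] (P : Ideal R)
    (l : LTSeries (PrimeSpectrum R)) (hl : P ≤ l.head.asIdeal) :
    (l.length : WithBot ℕ∞) ≤ ringKrullDim (R ⧸ P) := by
  rw [ringKrullDim_quotient]
  let l' : LTSeries (PrimeSpectrum.zeroLocus (P : Set R)) :=
    { length := l.length
      toFun := fun i => ⟨l i, fun r hr => (show (l.head).asIdeal ≤ (l i).asIdeal from l.head_le i) (hl hr)⟩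
      step := fun i => l.step i }
  exact le_trans (le_of_eq rfl) (Order.LTSeries.length_le_krullDim l')

omit [IsAlgClosed k] in
theorem ringKrullDim_quotient_le_of_comap {R A : Type u} [CommRing R] [Algebra k R]
    [Algebra.FiniteType k R] [CommRing A] [Algebra k A] [Algebra.FiniteType k A]
    (φ : R →ₐ[k] A) (Q : Ideal A) [Q.IsPrime] :
    ringKrullDim (R ⧸ Q.comap φ) ≤ ringKrullDim (A ⧸ Q) := by
  haveI : (Q.comap φ).IsPrime := Ideal.comap_isPrime φ Q
  obtain ⟨n, hn, hn', -⟩ := Groth.Variety2.Dim.exists_dim k (R ⧸ Q.comap φ)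
  obtain ⟨m, hm, hm', -⟩ := Groth.Variety2.Dim.exists_dim k (A ⧸ Q)
  let ψ : R ⧸ Q.comap φ →ₐ[k] A ⧸ Q := Ideal.quotientMapₐ Q φ le_rfl
  have hψ : Function.Injective ψ := Ideal.quotientMap_injective
  let Ψ : FractionRing (R ⧸ Q.comap φ) →ₐ[k] FractionRing (A ⧸ Q) :=
    IsFractionRing.liftAlgHom (g := (IsScalarTower.toAlgHom k _ _).comp ψ)
      ((IsFractionRing.injective (A ⧸ Q) (FractionRing (A ⧸ Q))).comp hψ)
  have : Algebra.trdeg k (FractionRing (R ⧸ Q.comap φ)) ≤ Algebra.trdeg k (FractionRing (A ⧸ Q)) :=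
    trdeg_le_of_injective Ψ Ψ.toRingHom.injective
  rw [hn, hm] at this
  rw [hn', hm']
  exact_mod_cast this

end CA

/-! ### The group of points -/

variable {k : Type u} [Field k] {A : Type u} [CommRing A] [HopfAlgebra k A]

theorem pointMul_eq (g h : A →ₐ[k] k) : pointMul g h = (toConv g * toConv h).ofConv := by
  refine AlgHom.ext fun a => ?_
  change _ = (toConv g * toConv h) a
  rw [AlgHom.convMul_apply]
  simp only [pointMul, AlgHom.comp_apply, Bialgebra.comulAlgHom_apply]

/-- Translation by a point of the group. -/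
def transl (g : A →ₐ[k] k) : A →ₐ[k] A :=
  (toConv ((Algebra.ofId k A).comp g) * toConv (AlgHom.id k A)).ofConv

theorem comp_transl (g h : A →ₐ[k] k) :
    h.comp (transl g) = (toConv g * toConv h).ofConv := by
  refine (AlgHom.comp_convMul_distrib h _ _).trans ?_
  simp only [AlgHom.comp_id]
  congr 3
  exact AlgHom.ext fun a => h.commutes (g a)

theorem transl_transl (g g' : A →ₐ[k] k) :
    (transl g).comp (transl g') = transl (toConv g' * toConv g).ofConv := by
  have e : toConv ((Algebra.ofId k A).comp (toConv g' * toConv g).ofConv) =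
      toConv ((Algebra.ofId k A).comp g') * toConv ((Algebra.ofId k A).comp g) :=
    congrArg toConv (AlgHom.comp_convMul_distrib (Algebra.ofId k A) (toConv g') (toConv g))
  conv_rhs => rw [transl, e, mul_assoc]
  refine (AlgHom.comp_convMul_distrib (transl g) _ _).trans ?_
  simp only [AlgHom.comp_id]
  congr 2
  · exact congrArg toConv (AlgHom.ext fun a => ((transl g).commutes (g' a)))

theorem transl_one : transl (1 : WithConv (A →ₐ[k] k)).ofConv = AlgHom.id k A := by
  rw [transl]
  have : toConv ((Algebra.ofId k A).comp (1 : WithConv (A →ₐ[k] k)).ofConv) = (1 : WithConv (A →ₐ[k] A)) := by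
    refine WithConv.ext (AlgHom.ext fun a => ?_)
    simp [AlgHom.convOne_def]
  rw [this, one_mul]

theorem transl_bijective (g : A →ₐ[k] k) : Function.Bijective (transl g) := by
  let g' : A →ₐ[k] k := (toConv g)⁻¹.ofConv
  have h1 : (transl g').comp (transl g) = AlgHom.id k A := by
    rw [transl_transl, show toConv g * toConv g' = 1 from mul_inv_cancel _, transl_one]
  have h2 : (transl g).comp (transl g') = AlgHom.id k A := by
    rw [transl_transl, show toConv g' * toConv g = 1 from inv_mul_cancel _, transl_one]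
  exact ⟨Function.LeftInverse.injective (g := transl g') fun a => AlgHom.congr_fun h1 a,
    Function.RightInverse.surjective (g := transl g') fun a => AlgHom.congr_fun h2 a⟩

theorem counit_eq_one : (1 : WithConv (A →ₐ[k] k)).ofConv = Bialgebra.counitAlgHom k A := by
  refine AlgHom.ext fun a => ?_
  simp [AlgHom.convOne_def]

variable {R : Type u} [CommRing R] [Algebra k R] [HopfRep.Comod k A R] [GLin.IsCoactAlg k A R]

theorem actPt_counit (x : R →ₐ[k] k) : GLin.actPt k (Bialgebra.counitAlgHom k A) x = x :=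
  AlgHom.ext fun f => (apply_eq_orbitHom_counit (A := A) x f).symm

theorem actPt_actPt (g h : A →ₐ[k] k) (x : R →ₐ[k] k) :
    GLin.actPt k h (GLin.actPt k g x) = GLin.actPt k (toConv g * toConv h).ofConv x := by
  rw [← pointMul_eq]
  refine AlgHom.ext fun f => ?_
  change h (GLin.orbitHom k A (GLin.actPt k g x) f) = pointMul g h (GLin.orbitHom k A x f)
  rw [← apply_act, ← apply_act, ← act_act, apply_act (x := x)]
  rfl

theorem actPt_one (x : R →ₐ[k] k) : GLin.actPt k (1 : WithConv (A →ₐ[k] k)).ofConv x = x := by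
  rw [counit_eq_one, actPt_counit]

variable (A) in
/-- The stabiliser on points. -/
def stabPts (x : R →ₐ[k] k) : Set (A →ₐ[k] k) := {g | GLin.actPt k g x = x}

theorem stabPts_eq (x : R →ₐ[k] k) :
    {g : A →ₐ[k] k | ∀ f : R, x (HopfRep.Comod.act k A R g f) = x f} = stabPts A x := by
  ext g
  simp only [Set.mem_ofPred_eq, stabPts, AlgHom.ext_iff]
  exact forall_congr' fun f => by rw [apply_act]; rfl

theorem stabIdeal_le_ker_iff (x : R →ₐ[k] k) (g : A →ₐ[k] k) :
    GLin.stabIdeal k A x ≤ RingHom.ker g ↔ g ∈ stabPts A x := by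
  rw [GLin.stabIdeal, Ideal.map_le_iff_le_comap]
  constructor
  · intro h
    exact (eq_of_ker_le (p := x) (q := GLin.actPt k g x) fun f hf => h hf).symm
  · intro h f hf
    change GLin.actPt k g x f = 0
    rw [show GLin.actPt k g x = x from h]
    exact hf

variable [IsAlgClosed k] [Algebra.FiniteType k A]

theorem hasFiniteStab_iff (x : R →ₐ[k] k) : GLin.HasFiniteStab k A x ↔ (stabPts A x).Finite := by
  rw [GLin.HasFiniteStab, finite_quotient_iff]
  simp only [stabIdeal_le_ker_iff]
  rfl

omit [IsAlgClosed k] [Algebra.FiniteType k A] in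
theorem finite_stabPts_actPt_iff (g : A →ₐ[k] k) (x : R →ₐ[k] k) :
    (stabPts A (GLin.actPt k g x)).Finite ↔ (stabPts A x).Finite := by
  suffices H : ∀ (g : A →ₐ[k] k) (x : R →ₐ[k] k), (stabPts A x).Finite →
      (stabPts A (GLin.actPt k g x)).Finite by
    refine ⟨fun h => ?_, H g x⟩
    have := H (toConv g)⁻¹.ofConv _ h
    rwa [actPt_actPt, show toConv g * toConv (toConv g)⁻¹.ofConv = 1 from mul_inv_cancel _,
      actPt_one] at this
  intro g x hx
  refine (hx.image fun h => ((toConv g)⁻¹ * toConv h * toConv g).ofConv).subset fun h hh => ?_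
  refine ⟨(toConv g * toConv h * (toConv g)⁻¹).ofConv, ?_, ?_⟩
  · have hh' : GLin.actPt k h (GLin.actPt k g x) = GLin.actPt k g x := hh
    change GLin.actPt k _ x = x
    rw [actPt_actPt] at hh'
    calc GLin.actPt k (toConv g * toConv h * (toConv g)⁻¹).ofConv x
        = GLin.actPt k (toConv g)⁻¹.ofConv (GLin.actPt k (toConv g * toConv h).ofConv x) :=
          (actPt_actPt _ _ x).symm
      _ = x := by rw [hh', actPt_actPt, show toConv g * toConv (toConv g)⁻¹.ofConv = 1 from mul_inv_cancel _,
          actPt_one]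
  · simp [mul_assoc]

/-- An isolated identity in the stabiliser makes it finite. -/
theorem finite_stabPts_of_separating (x : R →ₐ[k] k) (t : A)
    (ht : Bialgebra.counitAlgHom k A t ≠ 0)
    (h : ∀ g ∈ stabPts A x, g ≠ Bialgebra.counitAlgHom k A → g t = 0) : (stabPts A x).Finite := by
  classical
  let u : (A →ₐ[k] k) → A := fun g => transl (toConv g)⁻¹.ofConv t
  have hu : ∀ g h' : A →ₐ[k] k, h' (u g) = ((toConv g)⁻¹ * toConv h').ofConv t :=
    fun g h' => AlgHom.congr_fun (comp_transl _ h') t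
  have hu1 : ∀ g : A →ₐ[k] k, g (u g) ≠ 0 := fun g => by
    rw [hu, inv_mul_cancel, counit_eq_one]; exact ht
  have hu2 : ∀ g ∈ stabPts A x, ∀ h' ∈ stabPts A x, h' ≠ g → h' (u g) = 0 := by
    intro g hg h' hh' hne
    rw [hu]
    refine h _ ?_ ?_
    · have hg' : GLin.actPt k (toConv g)⁻¹.ofConv x = x := by
        conv_lhs => rw [← show GLin.actPt k g x = x from hg]
        rw [actPt_actPt, show toConv g * toConv (toConv g)⁻¹.ofConv = 1 from mul_inv_cancel _, actPt_one]
      change GLin.actPt k _ x = x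
      rw [← actPt_actPt (g := (toConv g)⁻¹.ofConv) (h := h'), hg']
      exact hh'
    · intro e
      rw [← counit_eq_one] at e
      exact hne (congrArg WithConv.ofConv (inv_mul_eq_one.1 (WithConv.ext e)).symm)
  have htop : GLin.stabIdeal k A x ⊔ Ideal.span (u '' stabPts A x) = ⊤ := by
    by_contra hne
    obtain ⟨g, hg⟩ := exists_point (k := k) _ hne
    have hgs := (stabIdeal_le_ker_iff x g).1 (le_sup_left.trans hg)
    exact hu1 g (hg (Ideal.mem_sup_right (Ideal.subset_span ⟨g, hgs, rfl⟩)))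
  obtain ⟨a, ha, b, hb, hab⟩ := Submodule.mem_sup.1 (htop.symm ▸ Submodule.mem_top :
    (1 : A) ∈ GLin.stabIdeal k A x ⊔ Ideal.span (u '' stabPts A x))
  obtain ⟨T, hT, hbT⟩ := Submodule.mem_span_finite_of_mem_span hb
  choose f hf hfu using fun t : T => hT t.2
  refine (Set.finite_range f).subset fun g hg => ?_
  by_contra hgr
  have ha0 : g a = 0 := (stabIdeal_le_ker_iff x g).2 hg ha
  have hb0 : g b = 0 := by
    refine (Submodule.span_le (p := RingHom.ker g)).2 ?_ hbT
    intro t ht
    change g t = 0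
    rw [← show u (f ⟨t, ht⟩) = t from hfu ⟨t, ht⟩]
    exact hu2 _ (hf _) g hg fun e => hgr ⟨⟨t, ht⟩, e.symm⟩
  have := congrArg g hab
  rw [map_add, ha0, hb0, add_zero, map_one] at this
  exact zero_ne_one this

variable [Algebra.FiniteType k R]

/-- A point lying on a component of maximal dimension of an orbit closure lies on the orbit. -/
theorem exists_actPt_eq_of_le_minimalPrime (y z : R →ₐ[k] k)
    (hz : RingHom.ker (GLin.orbitHom k A y) ≤ RingHom.ker z) (P : Ideal R)
    (hPmin : P ∈ (RingHom.ker (GLin.orbitHom k A y)).minimalPrimes)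
    (hzy : RingHom.ker (GLin.orbitHom k A z) ≤ P) :
    ∃ g : A →ₐ[k] k, z = GLin.actPt k g y := by
  classical
  set φ := GLin.orbitHom k A y with hφ
  have hNR : IsNoetherianRing R := Algebra.FiniteType.isNoetherianRing k R
  have hfp : φ.toRingHom.FinitePresentation := by
    refine RingHom.FinitePresentation.of_finiteType.1 ?_
    exact AlgHom.FiniteType.of_comp_finiteType (f := Algebra.ofId k R) (g := φ)
      (by rw [show φ.comp (Algebra.ofId k R) = Algebra.ofId k A from Subsingleton.elim _ _]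
          exact RingHom.finiteType_algebraMap.2 inferInstance)
  obtain ⟨D, hD⟩ := PrimeSpectrum.exists_constructibleSetData_iff.2
    (PrimeSpectrum.isConstructible_range_comap hfp)
  have hPp : P.IsPrime := hPmin.isPrime
  obtain ⟨Q, hQp, -, hQ⟩ := Ideal.exists_comap_eq_of_mem_minimalPrimes φ.toRingHom (I := ⊥) P
    (by rwa [← RingHom.ker_eq_comap_bot])
  have hPmem : (⟨P, hPp⟩ : PrimeSpectrum R) ∈ D.toSet := by
    rw [hD]; exact ⟨⟨Q, hQp⟩, PrimeSpectrum.ext hQ⟩
  simp only [PrimeSpectrum.ConstructibleSetData.toSet, Set.mem_iUnion] at hPmem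
  obtain ⟨C, hCD, hPg, hPf⟩ := hPmem
  let others := ((Ideal.finite_minimalPrimes_of_isNoetherianRing R (RingHom.ker φ)).toFinset.erase P)
  have hnle : ¬ others.inf id ≤ P := by
    rw [Ideal.IsPrime.inf_le' hPp]
    rintro ⟨P', hP', hle⟩
    rw [Finset.mem_erase, Set.Finite.mem_toFinset] at hP'
    exact hP'.1 (le_antisymm hle (hPmin.2 ⟨hP'.2.isPrime, hP'.2.1.2⟩ hle))
  obtain ⟨u, hu, huP⟩ := SetLike.not_le_iff_exists.1 hnle
  have hfP : C.f ∉ P := fun h => hPf (by simpa [PrimeSpectrum.mem_zeroLocus] using h)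
  obtain ⟨g₁, hg₁⟩ : ∃ g : A →ₐ[k] k, g (GLin.orbitHom k A z (C.f * u)) ≠ 0 := by
    by_contra hno
    push Not at hno
    obtain ⟨m, hm⟩ := isNilpotent_of_forall_point _ hno
    have : (C.f * u) ^ m ∈ P := hzy (by rw [RingHom.mem_ker, map_pow, hm])
    exact (hPp.mul_mem_iff_mem_or_mem.1 (hPp.mem_of_pow_mem m this)).elim hfP huP
  let z' := GLin.actPt k g₁ z
  have hz'y : RingHom.ker φ ≤ RingHom.ker z' :=
    (ker_orbitHom_mono y z hz).trans (ker_orbitHom_le_actPt z g₁)
  have hz'u : z' (C.f * u) ≠ 0 := hg₁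
  have hPz' : P ≤ RingHom.ker z' := by
    intro p hp
    have hmem : u * p ∈ (RingHom.ker φ).radical := by
      rw [← Ideal.sInf_minimalPrimes, Ideal.mem_sInf]
      intro P' hP'
      by_cases he : P' = P
      · exact he ▸ P.mul_mem_left u hp
      · exact Ideal.mul_mem_right _ _ (Finset.inf_le (f := id)
          (Finset.mem_erase.2 ⟨he, (Set.Finite.mem_toFinset _).2 hP'⟩) hu)
    obtain ⟨m, hm⟩ := hmem
    have h0 := RingHom.mem_ker.1 (hz'y hm)
    rw [map_pow, map_mul] at h0
    refine RingHom.mem_ker.2 ((mul_eq_zero.1 (eq_zero_of_pow_eq_zero h0)).resolve_left fun h => hz'u ?_)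
    rw [map_mul, h, mul_zero]
  have hker : (RingHom.ker z').IsMaximal :=
    RingHom.ker_isMaximal_of_surjective z' fun c => ⟨algebraMap k R c, by simp⟩
  have hz'range : (⟨RingHom.ker z', hker.isPrime⟩ : PrimeSpectrum R) ∈
      Set.range (PrimeSpectrum.comap φ.toRingHom) := by
    rw [← hD]
    simp only [PrimeSpectrum.ConstructibleSetData.toSet, Set.mem_iUnion]
    refine ⟨C, hCD, fun x hx => hPz' (hPg hx), ?_⟩
    simp only [PrimeSpectrum.mem_zeroLocus, Set.singleton_subset_iff, SetLike.mem_coe, RingHom.mem_ker]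
    exact fun h => hz'u (by rw [map_mul, h, zero_mul])
  obtain ⟨⟨Q', hQ'p⟩, hQ'⟩ := hz'range
  obtain ⟨g', hg'⟩ := exists_point (k := k) Q' hQ'p.ne_top
  have hz'g : GLin.actPt k g' y = z' := by
    refine eq_of_ker_le fun f hf => ?_
    by_contra hne
    apply hne
    have h2 : φ (f - algebraMap k R (z' f)) ∈ Q' := by
      have : f - algebraMap k R (z' f) ∈ (PrimeSpectrum.comap φ.toRingHom ⟨Q', hQ'p⟩).asIdeal := by
        rw [hQ']; simp [RingHom.mem_ker]
      exact this
    have h3 := RingHom.mem_ker.1 (hg' h2)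
    rw [map_sub, map_sub, AlgHom.commutes, AlgHom.commutes, sub_eq_zero] at h3
    have h4 : GLin.actPt k g' y f = z' f := h3
    rw [RingHom.mem_ker, ← h4]
    exact hf
  refine ⟨(toConv g' * (toConv g₁)⁻¹).ofConv, ?_⟩
  calc z = GLin.actPt k (toConv g₁)⁻¹.ofConv z' := by
        rw [actPt_actPt, show toConv g₁ * toConv (toConv g₁)⁻¹.ofConv = 1 from mul_inv_cancel _, actPt_one]
    _ = _ := by rw [← hz'g, actPt_actPt]

/-- A point with finite stabiliser in an orbit closure lies on the orbit. -/
theorem exists_actPt_eq_of_finite (x y : R →ₐ[k] k)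
    (hy : RingHom.ker (GLin.orbitHom k A x) ≤ RingHom.ker y) (hfin : (stabPts A y).Finite) :
    ∃ g : A →ₐ[k] k, y = GLin.actPt k g x := by
  classical
  haveI : IsNoetherianRing A := Algebra.FiniteType.isNoetherianRing k A
  letI := (GLin.orbitHom k A y).toRingHom.toAlgebra
  haveI : IsScalarTower k R A := IsScalarTower.of_algebraMap_eq fun c =>
    ((GLin.orbitHom k A y).commutes c).symm
  set e := Bialgebra.counitAlgHom k A with he
  have hσ : ∀ r, e (algebraMap R A r) = y r := fun r => (apply_eq_orbitHom_counit (A := A) y r).symm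
  haveI : (RingHom.ker e).IsPrime := RingHom.ker_isPrime e
  haveI hqf : Algebra.QuasiFiniteAt R (RingHom.ker e) := quasiFiniteAt_of_finite y e hσ (by
    refine hfin.subset fun τ hτ => ?_
    exact AlgHom.ext hτ)
  -- the dimension of `A`
  haveI : Nontrivial A := e.toRingHom.domain_nontrivial
  obtain ⟨n, g, hinj, hint⟩ := exists_integral_inj_algHom_of_fg k A
  have hdim : ringKrullDim A = (n : ℕ) := by
    letI := g.toRingHom.toAlgebra
    haveI : Algebra.IsIntegral (MvPolynomial (Fin n) k) A := ⟨hint⟩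
    rw [Groth.Variety2.Dim.ringKrullDim_eq_of_isIntegral (MvPolynomial (Fin n) k) A hinj,
      MvPolynomial.ringKrullDim_of_isNoetherianRing, ringKrullDim_eq_zero_of_field]
    simp
  haveI : FiniteRingKrullDim A := finiteRingKrullDim_iff_ne_bot_and_top.2
    ⟨by rw [hdim]; exact WithBot.coe_ne_bot, by rw [hdim]; exact WithBot.coe_injective.ne (by simp)⟩
  let c : LTSeries (PrimeSpectrum A) := LTSeries.longestOf _
  have hc : ringKrullDim A = c.length := Order.krullDim_eq_length_of_finiteDimensionalOrder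
  haveI hlast : c.last.asIdeal.IsMaximal := by
    by_contra hnm
    obtain ⟨M, hM, hlM⟩ := Ideal.exists_le_maximal _ c.last.isPrime.ne_top
    have hlt : c.last < ⟨M, hM.isPrime⟩ := lt_of_le_of_ne hlM fun e' => hnm (by rw [e']; exact hM)
    have h1 : ((c.snoc _ hlt).length : WithBot ℕ∞) ≤ (c.length : WithBot ℕ∞) :=
      le_trans (Order.LTSeries.length_le_krullDim (c.snoc _ hlt)) (le_of_eq hc)
    have h2 : (c.snoc _ hlt).length ≤ c.length := by exact_mod_cast h1
    simp at h2
  obtain ⟨g₀, hg₀⟩ := exists_point_eq (k := k) c.last.asIdeal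
  let τ : A ≃ₐ[k] A := AlgEquiv.ofBijective _ (transl_bijective (toConv g₀)⁻¹.ofConv)
  have hτlast : c.last.asIdeal.comap (transl (toConv g₀)⁻¹.ofConv) = RingHom.ker e := by
    rw [← hg₀]
    refine Ideal.ext fun a => ?_
    have h' : g₀.comp (transl (toConv g₀)⁻¹.ofConv) = e := by
      rw [comp_transl]
      exact (congrArg WithConv.ofConv (inv_mul_cancel (toConv g₀))).trans counit_eq_one
    simp [RingHom.mem_ker, ← h']
  have hmono : StrictMono (PrimeSpectrum.comap (transl (toConv g₀)⁻¹.ofConv).toRingHom) :=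
    Monotone.strictMono_of_injective (fun p q hpq => Ideal.comap_mono hpq)
      (PrimeSpectrum.comap_injective_of_surjective _ (transl_bijective _).2)
  let c' := c.map _ hmono
  have hle : ∀ i, (c' i).asIdeal ≤ RingHom.ker e := fun i => by
    rw [← hτlast]
    exact Ideal.comap_mono (c.monotone (Fin.le_last i))
  -- push the chain to `R`
  let c'' : LTSeries (PrimeSpectrum R) :=
    { length := c'.length
      toFun := fun i => PrimeSpectrum.comap (algebraMap R A) (c' i)
      step := fun i => by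
        change PrimeSpectrum.comap (algebraMap R A) (c' i.castSucc) <
          PrimeSpectrum.comap (algebraMap R A) (c' i.succ)
        refine lt_of_le_of_ne (Ideal.comap_mono (show c' i.castSucc < c' i.succ from c'.step i).le) ?_
        intro e'
        refine (show c' i.castSucc < c' i.succ from c'.step i).ne ?_
        haveI : Algebra.QuasiFiniteAt R (c' i.succ).asIdeal :=
          Algebra.QuasiFiniteAt.of_le (hle _)
        exact PrimeSpectrum.ext (Algebra.QuasiFiniteAt.eq_of_le_of_under_eq (R := R)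
          (show c' i.castSucc < c' i.succ from c'.step i).le (show ((c' i.castSucc).asIdeal).under R = ((c' i.succ).asIdeal).under R from
            congrArg PrimeSpectrum.asIdeal e')) }
  have hJx : RingHom.ker (GLin.orbitHom k A x) ≤ c''.head.asIdeal :=
    (ker_orbitHom_mono x y hy).trans fun r hr => by
      change algebraMap R A r ∈ c'.head.asIdeal
      rw [show algebraMap R A r = 0 from hr]
      exact zero_mem _
  obtain ⟨P, hP, hPle⟩ := Ideal.exists_minimalPrimes_le hJx
  haveI : P.IsPrime := hP.isPrime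
  obtain ⟨Q, hQp, -, hQ⟩ := Ideal.exists_comap_eq_of_mem_minimalPrimes (GLin.orbitHom k A x).toRingHom
    (I := ⊥) P (by rwa [← RingHom.ker_eq_comap_bot])
  have hdimP : ringKrullDim (R ⧸ P) ≤ (c.length : ℕ) := by
    rw [← hc, show P = Q.comap (GLin.orbitHom k A x) from hQ.symm]
    exact (ringKrullDim_quotient_le_of_comap _ Q).trans
      (ringKrullDim_le_of_surjective _ Ideal.Quotient.mk_surjective)
  have hPeq : P = c''.head.asIdeal := by
    by_contra hne
    have hlt : (⟨P, inferInstance⟩ : PrimeSpectrum R) < c''.head :=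
      lt_of_le_of_ne hPle fun e' => hne (congrArg PrimeSpectrum.asIdeal e')
    have h1 := length_le_ringKrullDim P (c''.cons _ hlt) (by simp)
    have h2 := h1.trans hdimP
    have h3 : (c''.cons _ hlt).length ≤ c.length := by exact_mod_cast h2
    simp [c'', c'] at h3
  refine exists_actPt_eq_of_le_minimalPrime x y hy P hP fun r hr => ?_
  rw [hPeq]
  change algebraMap R A r ∈ c'.head.asIdeal
  rw [show algebraMap R A r = 0 from hr]
  exact zero_mem _

omit [Algebra.FiniteType k R] in
theorem isClosedOrbit_imp (x z : R →ₐ[k] k) (h : GLin.IsClosedOrbit k A x)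
    (hz : RingHom.ker (GLin.orbitHom k A x) ≤ RingHom.ker z) :
    ∃ g : A →ₐ[k] k, z = GLin.actPt k g x := by
  have hmem : (⟨RingHom.ker z, RingHom.ker_isPrime z⟩ : PrimeSpectrum R) ∈
      Set.range (PrimeSpectrum.comap (GLin.orbitHom k A x).toRingHom) := by
    rw [← h.closure_eq, PrimeSpectrum.closure_range_comap]
    exact hz
  obtain ⟨Q, hQ⟩ := hmem
  obtain ⟨g, hg⟩ := exists_point (k := k) Q.asIdeal Q.isPrime.ne_top
  refine ⟨g, eq_of_ker_le fun f hf => ?_⟩
  have : f ∈ (PrimeSpectrum.comap (GLin.orbitHom k A x).toRingHom Q).asIdeal := by rw [hQ]; exact hf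
  exact hg this

theorem isClosedOrbit_of_forall (x : R →ₐ[k] k)
    (h : ∀ z : R →ₐ[k] k, RingHom.ker (GLin.orbitHom k A x) ≤ RingHom.ker z →
      ∃ g : A →ₐ[k] k, z = GLin.actPt k g x) : GLin.IsClosedOrbit k A x := by
  set φ := GLin.orbitHom k A x with hφ
  have hNR : IsNoetherianRing R := Algebra.FiniteType.isNoetherianRing k R
  haveI : IsJacobsonRing R := isJacobsonRing_of_finiteType (A := k) (B := R)
  have hfp : φ.toRingHom.FinitePresentation := by
    refine RingHom.FinitePresentation.of_finiteType.1 ?_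
    exact AlgHom.FiniteType.of_comp_finiteType (f := Algebra.ofId k R) (g := φ)
      (by rw [show φ.comp (Algebra.ofId k R) = Algebra.ofId k A from Subsingleton.elim _ _]
          exact RingHom.finiteType_algebraMap.2 inferInstance)
  have hc : Topology.IsConstructible (PrimeSpectrum.zeroLocus (RingHom.ker φ : Set R) \
      Set.range (PrimeSpectrum.comap φ.toRingHom)) := by
    refine Topology.IsConstructible.sdiff ?_ (PrimeSpectrum.isConstructible_range_comap hfp)
    rw [← compl_compl (PrimeSpectrum.zeroLocus (RingHom.ker φ : Set R)),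
      Topology.isConstructible_compl]
    exact (TopologicalSpace.NoetherianSpace.isCompact _).isConstructible
      (PrimeSpectrum.isClosed_zeroLocus (RingHom.ker φ : Set R)).isOpen_compl
  obtain ⟨D, hD⟩ := PrimeSpectrum.exists_constructibleSetData_iff.2 hc
  suffices hs : PrimeSpectrum.zeroLocus (RingHom.ker φ : Set R) ⊆
      Set.range (PrimeSpectrum.comap φ.toRingHom) by
    unfold GLin.IsClosedOrbit
    rw [← closure_subset_iff_isClosed, PrimeSpectrum.closure_range_comap]
    exact hs
  intro p hp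
  by_contra hnot
  have hpD : p ∈ D.toSet := by rw [hD]; exact ⟨hp, hnot⟩
  simp only [PrimeSpectrum.ConstructibleSetData.toSet, Set.mem_iUnion] at hpD
  obtain ⟨C, hCD, hpg, hpf⟩ := hpD
  have hfp' : C.f ∉ p.asIdeal := fun h => hpf (by simpa [PrimeSpectrum.mem_zeroLocus] using h)
  obtain ⟨m, ⟨hpm, hm⟩, hfm⟩ : ∃ m, (p.asIdeal ≤ m ∧ m.IsMaximal) ∧ C.f ∉ m := by
    by_contra hno
    push Not at hno
    exact hfp' (by
      rw [← isJacobsonRing_iff.1 inferInstance p.asIdeal p.isPrime.isRadical]
      exact Ideal.mem_sInf.2 fun {m} hm => hno m hm)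
  obtain ⟨z, hz⟩ := exists_point_eq (k := k) m
  obtain ⟨g, hg⟩ := h z (hp.trans (hz.symm ▸ hpm))
  have hzD : (⟨m, hm.isPrime⟩ : PrimeSpectrum R) ∈ D.toSet := by
    simp only [PrimeSpectrum.ConstructibleSetData.toSet, Set.mem_iUnion]
    refine ⟨C, hCD, fun r hr => hpm (hpg hr), ?_⟩
    simpa [PrimeSpectrum.mem_zeroLocus] using hfm
  rw [hD] at hzD
  refine hzD.2 ⟨⟨RingHom.ker g, RingHom.ker_isPrime g⟩, PrimeSpectrum.ext ?_⟩
  change (RingHom.ker g).comap φ.toRingHom = m
  rw [← hz, hg]
  exact Ideal.ext fun f => by simp [RingHom.mem_ker, GLin.actPt, hφ]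

theorem isStablePt_iff (x : R →ₐ[k] k) :
    GLin.IsStablePt k A x ↔
      (∀ z : R →ₐ[k] k, RingHom.ker (GLin.orbitHom k A x) ≤ RingHom.ker z →
        ∃ g : A →ₐ[k] k, z = GLin.actPt k g x) ∧ (stabPts A x).Finite :=
  and_congr ⟨fun h z hz => isClosedOrbit_imp x z h hz, isClosedOrbit_of_forall x⟩ (hasFiniteStab_iff x)

theorem stable_iff_forall_fibre (hG : HopfRep.IsLinearlyReductive k A) (x : R →ₐ[k] k) :
    ((∀ z : R →ₐ[k] k, RingHom.ker (GLin.orbitHom k A x) ≤ RingHom.ker z →
        ∃ g : A →ₐ[k] k, z = GLin.actPt k g x) ∧ (stabPts A x).Finite) ↔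
      ∀ z : R →ₐ[k] k, (∀ f ∈ HopfRep.fixedPts k A R, z f = x f) → (stabPts A z).Finite := by
  obtain ⟨y, hyc, hyx, hy⟩ := exists_closed_orbit_in_fibre hG x
  have hyc' : ∀ z : R →ₐ[k] k, RingHom.ker (GLin.orbitHom k A y) ≤ RingHom.ker z →
      ∃ g : A →ₐ[k] k, z = GLin.actPt k g y := fun z hz => by
    obtain ⟨g, hg⟩ := hyc z hz
    exact ⟨g, AlgHom.ext fun f => (hg f).trans (apply_act y g f)⟩
  constructor
  · rintro ⟨hcl, hfin⟩ z hz
    obtain ⟨g, hg⟩ := hcl y (hyx x fun _ _ => rfl)
    have hyfin : (stabPts A y).Finite := hg ▸ (finite_stabPts_actPt_iff g x).2 hfin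
    obtain ⟨g', hg'⟩ := exists_actPt_eq_of_finite z y (hyx z hz) hyfin
    rw [hg'] at hyfin
    exact (finite_stabPts_actPt_iff g' z).1 hyfin
  · intro h
    obtain ⟨g, hg⟩ := exists_actPt_eq_of_finite x y (hyx x fun _ _ => rfl) (h y hy)
    refine ⟨fun z hz => ?_, h x fun _ _ => rfl⟩
    have hxy : RingHom.ker (GLin.orbitHom k A y) ≤ RingHom.ker (GLin.orbitHom k A x) := by
      refine ker_orbitHom_mono y x fun f hf => ?_
      have : x = GLin.actPt k (toConv g)⁻¹.ofConv y := by
        rw [hg, actPt_actPt, show toConv g * toConv (toConv g)⁻¹.ofConv = 1 from mul_inv_cancel _, actPt_one]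
      rw [this]
      exact ker_orbitHom_le_actPt y _ hf
    obtain ⟨g', hg'⟩ := hyc' z (hxy.trans hz)
    exact ⟨(toConv g * toConv g').ofConv, by rw [hg', hg, actPt_actPt]⟩

/-! ### The locus of infinite stabilisers -/

variable (k A R) in
/-- The relations cutting out the stabiliser scheme. -/
def stabRel : Ideal (R ⊗[k] A) :=
  Ideal.span (Set.range fun f : R => HopfRep.Comod.coact (k := k) (A := A) f - f ⊗ₜ[k] (1 : A))

variable (k A R) in
abbrev StabRing := (R ⊗[k] A) ⧸ stabRel k A R

/-- Evaluation of the stabiliser scheme at a pair of points. -/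
def pairPt (x : R →ₐ[k] k) (g : A →ₐ[k] k) : R ⊗[k] A →ₐ[k] k :=
  Algebra.TensorProduct.lift x g fun _ _ => Commute.all _ _

omit [IsAlgClosed k] [Algebra.FiniteType k A] [Algebra.FiniteType k R] in
theorem pairPt_coact (x : R →ₐ[k] k) (g : A →ₐ[k] k) (f : R) :
    pairPt x g (HopfRep.Comod.coact (k := k) (A := A) f) = GLin.actPt k g x f := by
  rw [show GLin.actPt k g x f = g (GLin.orbitHom k A x f) from rfl, ← apply_act]
  change _ = x (ComodLib.op g.toLinearMap f)
  rw [ComodLib.op_apply]
  induction HopfRep.Comod.coact (k := k) (A := A) f using TensorProduct.induction_on with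
  | zero => simp
  | add p q hp hq => simp only [map_add, hp, hq]
  | tmul r a => simp [pairPt, mul_comm]

omit [IsAlgClosed k] [Algebra.FiniteType k A] [Algebra.FiniteType k R] in
theorem stabRel_le_ker (x : R →ₐ[k] k) {g : A →ₐ[k] k} (hg : g ∈ stabPts A x) :
    stabRel k A R ≤ RingHom.ker (pairPt x g) := by
  rw [stabRel, Ideal.span_le]
  rintro _ ⟨f, rfl⟩
  simp only [SetLike.mem_coe, RingHom.mem_ker, map_sub, pairPt_coact,
    show GLin.actPt k g x = x from hg]
  simp [pairPt]

/-- The point of the stabiliser scheme of a stabilising pair. -/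
def stabPt (x : R →ₐ[k] k) {g : A →ₐ[k] k} (hg : g ∈ stabPts A x) : StabRing k A R →ₐ[k] k :=
  Ideal.Quotient.liftₐ _ (pairPt x g) fun _ ha => stabRel_le_ker x hg ha

omit [IsAlgClosed k] [Algebra.FiniteType k A] [Algebra.FiniteType k R] in
theorem exists_stabPt_eq (x : R →ₐ[k] k) (τ : StabRing k A R →ₐ[k] k)
    (hτ : ∀ r, τ (algebraMap R (StabRing k A R) r) = x r) :
    ∃ (g : A →ₐ[k] k) (hg : g ∈ stabPts A x), τ = stabPt x hg := by
  let g : A →ₐ[k] k :=
    (τ.comp (Ideal.Quotient.mkₐ k (stabRel k A R))).comp Algebra.TensorProduct.includeRight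
  have hpair : τ.comp (Ideal.Quotient.mkₐ k (stabRel k A R)) = pairPt x g := by
    refine Algebra.TensorProduct.ext (AlgHom.ext fun r => ?_) (AlgHom.ext fun a => ?_)
    · have h1 := hτ r
      change τ (Ideal.Quotient.mk _ (r ⊗ₜ[k] (1 : A))) = x r at h1
      simpa [pairPt] using h1
    · simp [pairPt, g]
  have hg : g ∈ stabPts A x := by
    refine AlgHom.ext fun f => ?_
    have h0 : τ.comp (Ideal.Quotient.mkₐ k (stabRel k A R))
        (HopfRep.Comod.coact (k := k) (A := A) f - f ⊗ₜ[k] (1 : A)) = 0 := by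
      rw [AlgHom.comp_apply, Ideal.Quotient.mkₐ_eq_mk,
        Ideal.Quotient.eq_zero_iff_mem.2 (show _ ∈ stabRel k A R from Ideal.subset_span (Set.mem_range_self f)), map_zero]
    rw [hpair, map_sub, pairPt_coact, sub_eq_zero] at h0
    simpa [pairPt] using h0
  refine ⟨g, hg, Ideal.Quotient.algHom_ext k ?_⟩
  rw [hpair]
  exact AlgHom.ext fun _ => rfl

variable (k A R) in
/-- The identity section. -/
def idSection : StabRing k A R →+* R :=
  (Ideal.Quotient.liftₐ (stabRel k A R)
    (Algebra.TensorProduct.lift (AlgHom.id k R) ((Algebra.ofId k R).comp (Bialgebra.counitAlgHom k A))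
      fun _ _ => Commute.all _ _) (by
    intro a ha
    induction ha using Submodule.span_induction with
    | mem w hw =>
      obtain ⟨f, rfl⟩ := hw
      rw [map_sub, sub_eq_zero]
      conv_rhs => rw [Algebra.TensorProduct.lift_tmul, map_one, mul_one, AlgHom.id_apply,
        ← ComodLib.op_counit (k := k) (A := A) f, ComodLib.op_apply]
      induction HopfRep.Comod.coact (k := k) (A := A) f using TensorProduct.induction_on with
      | zero => simp
      | add p q hp hq => simp only [map_add, hp, hq]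
      | tmul r a => simp [Algebra.smul_def, mul_comm]
    | zero => exact map_zero _
    | add u w _ _ hu hw => rw [map_add, hu, hw, add_zero]
    | smul c u _ hu => rw [smul_eq_mul, map_mul, hu, mul_zero])).toRingHom

theorem isClosed_infinite_stab :
    ∃ Z : Set (PrimeSpectrum R), IsClosed Z ∧
      ∀ x : R →ₐ[k] k, (⟨RingHom.ker x, RingHom.ker_isPrime x⟩ : PrimeSpectrum R) ∈ Z ↔
        ¬ (stabPts A x).Finite := by
  haveI : Algebra.FiniteType k (R ⊗[k] A) := Algebra.FiniteType.trans (S := R) inferInstance inferInstance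
  haveI : Algebra.FiniteType k (StabRing k A R) :=
    Algebra.FiniteType.of_surjective (Ideal.Quotient.mkₐ k _) Ideal.Quotient.mk_surjective
  haveI : Algebra.FiniteType R (StabRing k A R) := Algebra.FiniteType.of_restrictScalars_finiteType k R _
  refine ⟨PrimeSpectrum.comap (idSection k A R) ⁻¹'
    {q | Algebra.QuasiFiniteAt R q.asIdeal}ᶜ,
    (isOpen_quasiFiniteAt.isClosed_compl).preimage (PrimeSpectrum.continuous_comap _), fun x => ?_⟩
  have he : Bialgebra.counitAlgHom k A ∈ stabPts A x := actPt_counit x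
  let σ := stabPt x he
  have hσ : ∀ r, σ (algebraMap R (StabRing k A R) r) = x r := fun r => by
    change pairPt x _ (r ⊗ₜ[k] (1 : A)) = x r
    simp [pairPt]
  have hq : PrimeSpectrum.comap (idSection k A R) ⟨RingHom.ker x, RingHom.ker_isPrime x⟩ =
      ⟨RingHom.ker σ, RingHom.ker_isPrime σ⟩ := by
    refine PrimeSpectrum.ext (Ideal.ext fun b => ?_)
    obtain ⟨b, rfl⟩ := Ideal.Quotient.mk_surjective b
    have key : x.comp (Algebra.TensorProduct.lift (AlgHom.id k R)
        ((Algebra.ofId k R).comp (Bialgebra.counitAlgHom k A)) fun _ _ => Commute.all _ _) =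
        pairPt x (Bialgebra.counitAlgHom k A) :=
      Algebra.TensorProduct.ext (AlgHom.ext fun r => by simp [pairPt])
        (AlgHom.ext fun a => by simp [pairPt])
    change x _ = 0 ↔ σ _ = 0
    rw [show x (idSection k A R (Ideal.Quotient.mk _ b)) = σ (Ideal.Quotient.mk _ b) from
      AlgHom.congr_fun key b]
  rw [Set.mem_preimage, hq, Set.mem_compl_iff, not_iff_not]
  haveI : (RingHom.ker σ).IsPrime := RingHom.ker_isPrime σ
  constructor
  · intro hqf
    haveI : Algebra.QuasiFiniteAt R (RingHom.ker σ) := hqf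
    obtain ⟨s, hs, hs'⟩ := exists_separating_of_quasiFiniteAt x σ hσ
    obtain ⟨s, rfl⟩ := Ideal.Quotient.mk_surjective s
    let t : A := Algebra.TensorProduct.lid k A (Algebra.TensorProduct.map x (AlgHom.id k A) s)
    have ht' : ∀ (g : A →ₐ[k] k) (w : R ⊗[k] A),
        g (Algebra.TensorProduct.lid k A (Algebra.TensorProduct.map x (AlgHom.id k A) w)) =
          pairPt x g w := by
      intro g w
      induction w using TensorProduct.induction_on with
      | zero => simp
      | add p q hp hq => simp only [map_add, hp, hq]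
      | tmul r a => simp [pairPt]
    have ht : ∀ g : A →ₐ[k] k, g t = pairPt x g s := fun g => ht' g s
    refine finite_stabPts_of_separating x t (by rw [ht]; exact hs) fun g hg hne => ?_
    rw [ht]
    refine hs' (stabPt x hg) (fun r => ?_) fun e => hne ?_
    · change pairPt x g (r ⊗ₜ[k] (1 : A)) = x r
      simp [pairPt]
    · refine AlgHom.ext fun a => ?_
      have := AlgHom.congr_fun e (Ideal.Quotient.mk _ ((1 : R) ⊗ₜ[k] a))
      change pairPt x g ((1 : R) ⊗ₜ[k] a) = pairPt x (Bialgebra.counitAlgHom k A) ((1 : R) ⊗ₜ[k] a) at this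
      simpa [pairPt] using this
  · intro hfin
    refine quasiFiniteAt_of_finite x σ hσ ((hfin.dependent_image fun g hg => stabPt x hg).subset ?_)
    intro τ hτ
    obtain ⟨g, hg, rfl⟩ := exists_stabPt_eq x τ hτ
    exact ⟨g, hg, rfl⟩

/-- The stable points are cut out by invariants. -/
theorem exists_invariants_stable_iff (hG : HopfRep.IsLinearlyReductive k A) :
    ∃ S : Set R, S ⊆ HopfRep.fixedPts k A R ∧ ∀ x : R →ₐ[k] k,
      ((∀ z : R →ₐ[k] k, RingHom.ker (GLin.orbitHom k A x) ≤ RingHom.ker z →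
          ∃ g : A →ₐ[k] k, z = GLin.actPt k g x) ∧ (stabPts A x).Finite) ↔ ∃ f ∈ S, x f ≠ 0 := by
  obtain ⟨Z, hZ, hZmem⟩ := isClosed_infinite_stab (k := k) (A := A) (R := R)
  haveI : IsJacobsonRing R := isJacobsonRing_of_finiteType (A := k) (B := R)
  haveI : IsNoetherianRing A := Algebra.FiniteType.isNoetherianRing k A
  let J : Ideal R := ⨅ (x : R →ₐ[k] k) (_ : ¬ (stabPts A x).Finite),
    RingHom.ker (GLin.orbitHom k A x)
  have hJsub : HopfRep.IsSubcomod (k := k) (A := A) (J.restrictScalars k) := by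
    rw [ComodLib.isSubcomod_iff]
    intro φ f hf
    simp only [Submodule.restrictScalars_mem, J, Submodule.mem_iInf] at hf ⊢
    exact fun x hx => (ComodLib.isSubcomod_iff _).1 (isSubcomod_ker_orbitHom x) φ f (hf x hx)
  have hJ : ∀ z : R →ₐ[k] k, (∀ f ∈ J, z f = 0) → ¬ (stabPts A z).Finite := by
    intro z hz
    rw [← hZmem, ← hZ.closure_eq, ← PrimeSpectrum.zeroLocus_vanishingIdeal_eq_closure]
    intro f hf
    rw [SetLike.mem_coe, PrimeSpectrum.mem_vanishingIdeal] at hf
    obtain ⟨N, hN⟩ : IsNilpotent (nilradical A) := IsNoetherianRing.isNilpotent_nilradical A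
    have : f ^ N ∈ J := by
      simp only [J, Submodule.mem_iInf]
      intro x hx
      rw [RingHom.mem_ker, map_pow]
      have h1 : GLin.orbitHom k A x f ∈ nilradical A := by
        refine mem_nilradical.2 (isNilpotent_of_forall_point (k := k) _ fun g => ?_)
        exact hf _ ((hZmem (GLin.actPt k g x)).2 fun hfin => hx ((finite_stabPts_actPt_iff g x).1 hfin))
      have := Ideal.pow_mem_pow h1 N
      rwa [hN] at this
    have := hz _ this
    rw [map_pow] at this
    exact eq_zero_of_pow_eq_zero this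
  refine ⟨(J : Set R) ∩ HopfRep.fixedPts k A R, fun f hf => hf.2, fun x => ?_⟩
  rw [stable_iff_forall_fibre hG]
  constructor
  · intro h
    by_contra hno
    push Not at hno
    obtain ⟨z, hzJ, hzfix⟩ := exists_point_over hG hJsub (GLin.invariants k A R) (fun _ => Iff.rfl)
      (x.comp (GLin.invariants k A R).val) fun f hf => hno _ ⟨hf, f.2⟩
    exact hJ z hzJ (h z fun f hf => hzfix ⟨f, hf⟩)
  · rintro ⟨f, ⟨hfJ, hffix⟩, hxf⟩ z hz
    by_contra hinf
    refine hxf ?_
    rw [← hz f hffix, apply_eq_orbitHom_counit (A := A) z f]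
    simp only [SetLike.mem_coe, J, Submodule.mem_iInf, RingHom.mem_ker] at hfJ
    rw [hfJ z hinf, map_zero]

end Groth.Misc6.StablePoints
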