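import Mathlib
import Groth.Agent.Misc6.FormAction
import Groth.Agent.Misc6.StablePoints

/-!
# Orbits of configurations of linear forms under the special linear group

A valuative form of the classical proof that a configuration with enough covering determinant
monomials is (semi)stable.
-/

set_option autoImplicit false

universe u

open TensorProduct CoordGrp MvPolynomial
open Groth

noncomputable section

namespace Groth.Misc6.PointSets

/-- A linear form. -/
def linF {B : Type u} [CommRing B] {n : ℕ} (q : Fin n → B) : MvPolynomial (Fin n) B := ∑ j, C (q j) * X j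

theorem map_linF {B C' : Type u} [CommRing B] [CommRing C'] {n : ℕ} (f : B →+* C') (q : Fin n → B) :
    MvPolynomial.map f (linF q) = linF (fun j => f (q j)) := by
  simp [linF, map_sum]

theorem coeff_linF {B : Type u} [CommRing B] {n : ℕ} (q : Fin n → B) (j : Fin n) :
    (linF q).coeff (Finsupp.single j 1) = q j := by
  classical
  simp [linF, coeff_sum, coeff_C_mul, coeff_X, Finsupp.single_eq_single_iff]

theorem linF_isHomogeneous {B : Type u} [CommRing B] {n : ℕ} (q : Fin n → B) :
    (linF q).IsHomogeneous 1 :=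
  IsHomogeneous.sum _ _ _ fun j _ => (isHomogeneous_X B j).C_mul (q j)

theorem pow_sum_eq {B : Type u} [CommRing B] {n d : ℕ} (f : Fin n → B) :
    (∑ i, f i) ^ d = ∑ m : FormIdx n d, (m.1.multinomial : B) * ∏ i, f i ^ (m.1 i) := by
  classical
  rw [Finset.sum_pow_eq_sum_piAntidiag]
  refine Finset.sum_bij' (fun e he => ⟨Finsupp.equivFunOnFinite.symm e, ?_⟩) (fun m _ => ⇑m.1)
    (fun _ _ => Finset.mem_univ _) ?_ ?_ ?_ ?_
  · have := (Finset.mem_piAntidiag.1 he).1
    simpa [Finsupp.degree_eq_sum] using this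
  · intro m _
    simpa [Finsupp.degree_eq_sum] using m.2
  · intro e _; rfl
  · intro m _; ext; rfl
  · intro e _
    congr 2
    exact (Finsupp.multinomial_eq_of_support_subset (f := Finsupp.equivFunOnFinite.symm e) (Finset.subset_univ _)).symm

variable {k : Type u} [Field k] {n d : ℕ}

/-- The coefficient of a substituted monomial, over any algebra. -/
theorem aeval_formCoeff {B : Type u} [CommRing B] [Algebra k B] (M : Matrix (Fin n) (Fin n) B)
    (l m : FormIdx n d) :
    Mat.aeval n k M (formCoeff k n d l m) = coeff l.1 (∏ i, (∑ j, C (M j i) * X j) ^ (m.1 i)) := by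
  let φ : MvPolynomial (Fin n) k ⊗[k] Mat n k →ₐ[k] MvPolynomial (Fin n) B :=
    Algebra.TensorProduct.lift (MvPolynomial.aeval fun j => X j)
      ((IsScalarTower.toAlgHom k B (MvPolynomial (Fin n) B)).comp (Mat.aeval n k M))
      fun _ _ => Commute.all _ _
  have hmap : ∀ p : MvPolynomial (Fin n) k,
      MvPolynomial.aeval (fun j => (X j : MvPolynomial (Fin n) B)) p = MvPolynomial.map (algebraMap k B) p := by
    intro p
    induction p using MvPolynomial.induction_on with
    | C c => simp [IsScalarTower.algebraMap_apply k B (MvPolynomial (Fin n) B)]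
    | add p q hp hq => simp only [map_add, hp, hq]
    | mul_X p j hp => simp only [map_mul, hp, aeval_X, map_X]
  have h1 : ∀ w, Mat.aeval n k M (coeffT (k := k) l.1 w) = coeff l.1 (φ w) := by
    intro w
    induction w using TensorProduct.induction_on with
    | zero => simp
    | add x y hx hy => simp only [map_add, coeff_add, hx, hy]
    | tmul p x =>
      simp only [coeffT_tmul, map_smul, φ, Algebra.TensorProduct.lift_tmul, AlgHom.comp_apply,
        IsScalarTower.coe_toAlgHom', MvPolynomial.algebraMap_eq, hmap]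
      rw [mul_comm, coeff_C_mul, MvPolynomial.coeff_map, Algebra.smul_def, mul_comm]
  rw [formCoeff_def, h1]
  congr 1
  have h2 : φ.comp (stdCoactAlg n k) = MvPolynomial.aeval fun i => ∑ j, C (M j i) * X j :=
    MvPolynomial.algHom_ext fun i => by simp [φ, mul_comm]
  rw [← AlgHom.comp_apply, h2, aeval_monomial, map_one, one_mul,
    Finsupp.prod_fintype _ _ fun _ => pow_zero _]

variable (k n d) in
/-- The orbit map of a form under the special linear group. -/
abbrev orb (a : FormIdx n d → k) : FormRing k n d →ₐ[k] SLn n k :=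
  @GLin.orbitHom k _ (SLn n k) _ _ (FormRing k n d) _ _
    (GLin.comodAlong ((SLn.mkHom n k).comp (Mat.toGLn n k)) (formsCoact k n d))
    (GLin.isCoactAlg_comodAlong ((SLn.mkHom n k).comp (Mat.toGLn n k)) (formsCoact k n d)
      (formsCoact_isCoactAlg k n d))
    (GLin.vecPt k (FormIdx n d) a)

theorem comp_toSL {B : Type u} [CommRing B] [Algebra k B] (g : SLn n k →ₐ[k] B) :
    g.comp (FormAction.toSL k n) = Mat.aeval n k (fun i j => g (SLn.X i j)) := by
  refine Mat.algHom_ext fun i j => ?_
  rw [AlgHom.comp_apply, Mat.aeval_X]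
  congr 1
  exact congrArg (SLn.mk n k) (Mat.toGLn_X i j)

theorem orb_X {B : Type u} [CommRing B] [Algebra k B] (g : SLn n k →ₐ[k] B) (a : FormIdx n d → k)
    (m : FormIdx n d) :
    g (orb k n d a (MvPolynomial.X m)) =
      ∑ l, algebraMap k B (a l) * Mat.aeval n k (fun i j => g (SLn.X i j)) (formCoeff k n d l m) := by
  have h : orb k n d a (MvPolynomial.X m) = Algebra.TensorProduct.lid k (SLn n k)
      (Algebra.TensorProduct.map (GLin.vecPt k (FormIdx n d) a) (AlgHom.id k (SLn n k))
        (Algebra.TensorProduct.map (AlgHom.id k (FormRing k n d)) (FormAction.toSL k n)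
          (formsCoactAlg k n d (MvPolynomial.X m)))) := by
    rw [← FormAction.map_toSL]
    rfl
  rw [h, formsCoactAlg_X]
  simp [Algebra.smul_def, ← comp_toSL]

/-- The moved form. -/
theorem sum_monomial_orb {B : Type u} [CommRing B] [Algebra k B] (g : SLn n k →ₐ[k] B)
    (a : FormIdx n d → k) :
    ∑ m : FormIdx n d, monomial m.1 ((m.1.multinomial : B) * g (orb k n d a (MvPolynomial.X m))) =
      MvPolynomial.aeval (fun j => linF fun i => g (SLn.X j i))
        (MvPolynomial.map (algebraMap k B) (formPoly a)) := by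
  classical
  set M : Matrix (Fin n) (Fin n) B := fun i j => g (SLn.X i j)
  let S : Fin n → MvPolynomial (Fin n) (MvPolynomial (Fin n) B) := fun i =>
    ∑ j, C (C (M j i)) * X j
  let L : Fin n → MvPolynomial (Fin n) B := fun j => linF fun i => M j i
  -- the dual identity
  have key : ∀ l : FormIdx n d,
      ∑ m : FormIdx n d, monomial m.1 ((m.1.multinomial : B) * Mat.aeval n k M (formCoeff k n d l m)) =
        (l.1.multinomial : MvPolynomial (Fin n) B) * ∏ j, L j ^ (l.1 j) := by
    intro l
    have e1 : ∀ m : FormIdx n d, coeff l.1 (∏ i, (C (X i) * S i) ^ (m.1 i)) =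
        monomial m.1 (Mat.aeval n k M (formCoeff k n d l m)) := by
      intro m
      have hS : ∀ i, S i = MvPolynomial.map (C : B →+* MvPolynomial (Fin n) B) (∑ j, C (M j i) * X j) := by
        intro i; simp [S, map_sum]
      simp only [mul_pow, Finset.prod_mul_distrib, hS, ← map_pow, ← map_prod, coeff_C_mul,
        MvPolynomial.coeff_map]
      rw [← aeval_formCoeff (k := k), mul_comm, MvPolynomial.monomial_eq,
        Finsupp.prod_fintype _ _ fun _ => pow_zero _]
    have e2 : (∑ i, C (X i) * S i) = ∑ j, C (L j) * X j := by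
      simp only [S, Finset.mul_sum, L, linF, map_sum, map_mul, Finset.sum_mul]
      rw [Finset.sum_comm]
      exact Finset.sum_congr rfl fun j _ => Finset.sum_congr rfl fun i _ => by ring
    have e3 := congrArg (fun P => coeff l.1 (P ^ d)) e2
    simp only [pow_sum_eq, coeff_sum, ← map_natCast (C : MvPolynomial (Fin n) B →+* _),
      coeff_C_mul, e1] at e3
    have e4 : ∀ m : FormIdx n d, coeff l.1 (∏ j, (C (L j) * X j : MvPolynomial (Fin n) (MvPolynomial (Fin n) B)) ^ (m.1 j)) =
        if m = l then ∏ j, L j ^ (l.1 j) else 0 := by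
      intro m
      simp only [mul_pow, Finset.prod_mul_distrib, ← map_pow, ← map_prod, coeff_C_mul]
      rw [show (∏ j, (X j : MvPolynomial (Fin n) (MvPolynomial (Fin n) B)) ^ (m.1 j)) = monomial m.1 1 by
        rw [MvPolynomial.monomial_eq, map_one, one_mul, Finsupp.prod_fintype _ _ fun _ => pow_zero _]]
      rw [coeff_monomial]
      by_cases h : m = l
      · subst h; simp
      · have : m.1 ≠ l.1 := fun e => h (Subtype.ext e)
        simp [h, this]
    simp only [e4, mul_ite, mul_zero, Finset.sum_ite_eq', Finset.mem_univ, if_true] at e3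
    rw [← e3]
    exact Finset.sum_congr rfl fun m _ => by
      rw [← map_natCast (C : B →+* MvPolynomial (Fin n) B), C_mul_monomial]
  simp only [orb_X, Finset.mul_sum, map_sum]
  rw [Finset.sum_comm]
  simp only [formPoly, map_sum, map_monomial, aeval_monomial]
  refine Finset.sum_congr rfl fun l _ => ?_
  rw [Finsupp.prod_fintype _ _ fun _ => pow_zero _, map_mul, map_natCast, MvPolynomial.algebraMap_eq,
    map_mul, map_natCast, mul_comm ((l.1.multinomial : MvPolynomial (Fin n) B)), mul_assoc]
  refine Eq.trans ?_ (congrArg (fun P => C (algebraMap k B (a l)) * P) (key l))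
  rw [Finset.mul_sum]
  exact Finset.sum_congr rfl fun m _ => by rw [C_mul_monomial]; congr 1; ring

/-- A product of linear forms is moved to the product of the moved linear forms. -/
theorem sum_monomial_orb_prod {B : Type u} [CommRing B] [Algebra k B] (g : SLn n k →ₐ[k] B)
    (p : Fin d → Fin n → k) (a : FormIdx n d → k)
    (ha : formPoly a = ∏ i, ∑ j, C (p i j) * X j) :
    ∑ m : FormIdx n d, monomial m.1 ((m.1.multinomial : B) * g (orb k n d a (MvPolynomial.X m))) =
      ∏ i, linF (fun c => ∑ j, algebraMap k B (p i j) * g (SLn.X j c)) := by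
  rw [sum_monomial_orb, ha, map_prod, map_prod]
  refine Finset.prod_congr rfl fun i _ => ?_
  simp only [map_sum, map_mul, map_C, map_X, aeval_C, aeval_X, MvPolynomial.algebraMap_eq, linF,
    Finset.mul_sum, ← mul_assoc, Finset.sum_mul]
  exact Finset.sum_comm

theorem eq_top_of_X_mem (S : Subalgebra k (SLn n k)) (h : ∀ i j, SLn.X i j ∈ S) : S = ⊤ := by
  have hD : SLn.mk n k GLn.Dinv ∈ S := by
    have : SLn.mk n k (GLn.Dinv * GLn.det) = 1 := by rw [GLn.Dinv_mul_det, map_one]
    rw [map_mul, SLn.det_eq_one, mul_one] at this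
    rw [this]
    exact S.one_mem
  refine eq_top_iff.2 fun a _ => ?_
  obtain ⟨b, rfl⟩ : ∃ b, SLn.mk n k b = a := Ideal.Quotient.mk_surjective a
  obtain ⟨b, rfl⟩ : ∃ c, GLn.mk n k c = b := Ideal.Quotient.mk_surjective b
  let e : MvPolynomial (GLPoly.Idx n) k →ₐ[k] SLn n k := (SLn.mk n k).comp (GLn.mk n k)
  change e b ∈ S
  have : ∀ p : MvPolynomial (GLPoly.Idx n) k, e p ∈ S := by
    intro p
    induction p using MvPolynomial.induction_on with
    | C c => rw [← MvPolynomial.algebraMap_eq, AlgHom.commutes]; exact S.algebraMap_mem c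
    | add p q hp hq => rw [map_add]; exact S.add_mem hp hq
    | mul_X p s hp =>
      rw [map_mul]
      refine S.mul_mem hp ?_
      rcases s with ⟨i, j⟩ | ⟨⟩
      · exact h i j
      · exact hD
  exact this b

theorem det_eq_one {B : Type u} [CommRing B] [Algebra k B] (g : SLn n k →ₐ[k] B) :
    (Matrix.of fun i j => g (SLn.X i j)).det = 1 := by
  have h := congrArg g (SLn.det_eq_one (n := n) (k := k))
  rw [map_one, GLn.det_eq, AlgHom.map_det, AlgHom.map_det] at h
  exact h

/-! ### The valuative estimate -/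

variable {K : Type u} [Field K] [Algebra k K]

/-- The scaling factors of the moved vectors. -/
theorem exists_scales (O : ValuationSubring K) (q : Fin d → Fin n → K) (hq : ∀ i, q i ≠ 0) :
    ∃ (s : Fin d → K) (w : Fin d → Fin n → O), (∀ i c, q i c = s i * (w i c : K)) ∧
      (∀ i, s i ≠ 0) ∧ ∃ e : Fin n →₀ ℕ,
        ∃ t : O, IsUnit t ∧ (∏ i, linF (q i)).coeff e = (∏ i, s i) * (t : K) ∧ e.degree = d := by
  classical
  have hex : ∀ i, ∃ j, ∀ c, O.valuation (q i c) ≤ O.valuation (q i j) := fun i => by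
    obtain ⟨j₀, hj₀⟩ : ∃ j, q i j ≠ 0 := Function.ne_iff.1 (hq i)
    haveI : Nonempty (Fin n) := ⟨j₀⟩
    exact Finite.exists_max fun c => O.valuation (q i c)
  choose j hj using hex
  have hs : ∀ i, q i (j i) ≠ 0 := fun i h0 => hq i (funext fun c => by
    have := hj i c
    rw [h0, map_zero, le_zero_iff, map_eq_zero] at this
    exact this)
  have hmem : ∀ i c, q i c / q i (j i) ∈ O := fun i c => by
    rw [← ValuationSubring.valuation_le_one_iff, map_div₀]
    exact div_le_one_of_le₀ (hj i c) zero_le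
  let w : Fin d → Fin n → O := fun i c => ⟨q i c / q i (j i), hmem i c⟩
  have hw : ∀ i c, q i c = q i (j i) * (w i c : K) := fun i c => (mul_div_cancel₀ _ (hs i)).symm
  refine ⟨fun i => q i (j i), w, hw, hs, ?_⟩
  set R : MvPolynomial (Fin n) O := ∏ i, linF (w i) with hR
  have hres : MvPolynomial.map (IsLocalRing.residue O) R ≠ 0 := by
    rw [hR, map_prod]
    refine Finset.prod_ne_zero_iff.2 fun i _ h0 => ?_
    rw [map_linF] at h0
    have := congrArg (coeff (Finsupp.single (j i) 1)) h0
    rw [coeff_linF, coeff_zero] at this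
    have h1 : w i (j i) = 1 := Subtype.ext (div_self (hs i))
    rw [h1, map_one] at this
    exact one_ne_zero this
  obtain ⟨e, he⟩ := MvPolynomial.exists_coeff_ne_zero hres
  rw [MvPolynomial.coeff_map] at he
  refine ⟨e, R.coeff e, ?_, ?_, ?_⟩
  · by_contra hu
    exact he ((IsLocalRing.residue_eq_zero_iff _).2 hu)
  · have : ∏ i, linF (q i) = C (∏ i, q i (j i)) * MvPolynomial.map O.subtype R := by
      rw [hR, map_prod, map_prod, ← Finset.prod_mul_distrib]
      refine Finset.prod_congr rfl fun i _ => ?_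
      rw [map_linF]
      simp only [linF, Finset.mul_sum]
      exact Finset.sum_congr rfl fun c _ => by rw [← mul_assoc, ← map_mul, hw i c]; rfl
    rw [this, coeff_C_mul, MvPolynomial.coeff_map]
    rfl
  · by_contra hdeg
    refine he ?_
    have hh : R.IsHomogeneous d := by
      simpa using IsHomogeneous.prod Finset.univ (fun i => linF (w i)) (fun _ => 1) fun i _ => linF_isHomogeneous _
    rw [hh.coeff_eq_zero (d := e) hdeg, map_zero]

omit [Algebra k K] in
theorem prod_multiset_eq {M : Type*} [CommMonoid M] (v : Fin d → M) (P : Multiset (Finset (Fin d))) :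
    (P.map fun S => ∏ j ∈ S, v j).prod = ∏ j, v j ^ Multiset.card (P.filter fun S => j ∈ S) := by
  classical
  induction P using Multiset.induction_on with
  | empty => simp
  | cons S P ih =>
    rw [Multiset.map_cons, Multiset.prod_cons, ih]
    have : ∀ j : Fin d, v j ^ Multiset.card ((S ::ₘ P).filter fun S => j ∈ S) =
        (if j ∈ S then v j else 1) * v j ^ Multiset.card (P.filter fun S => j ∈ S) := by
      intro j
      by_cases hj : j ∈ S <;> simp [hj, pow_succ, mul_comm]
    simp only [this, Finset.prod_mul_distrib]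
    congr 1
    rw [Finset.prod_ite_mem, Finset.univ_inter]

variable (p : Fin d → Fin n → k) (g : SLn n k →ₐ[k] K)

/-- The moved vectors. -/
def mv (i : Fin d) (c : Fin n) : K := ∑ j, algebraMap k K (p i j) * g (SLn.X j c)

theorem mv_ne_zero (hp : ∀ i, p i ≠ 0) (i : Fin d) : mv p g i ≠ 0 := by
  intro h0
  refine hp i (funext fun j => (algebraMap k K).injective ?_)
  rw [Pi.zero_apply, map_zero]
  have hu : IsUnit ((Matrix.of fun a b => g (SLn.X a b)).det) := by rw [det_eq_one]; exact isUnit_one
  have := (Matrix.mulVec_injective_iff_isUnit (A := Matrix.transpose (Matrix.of fun a b => g (SLn.X a b)))).2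
    ((Matrix.isUnit_iff_isUnit_det _).2 (by rwa [Matrix.det_transpose]))
    (a₁ := fun j => algebraMap k K (p i j)) (a₂ := 0) ?_
  · exact congrFun this j
  · rw [Matrix.mulVec_zero]
    funext c
    rw [← congrFun h0 c]
    simp [Matrix.mulVec, dotProduct, mv, mul_comm]

theorem one_le_prod_of_basis (O : ValuationSubring K) (hk : ∀ c : k, algebraMap k K c ∈ O)
    {s : Fin d → K} {w : Fin d → Fin n → O} (hw : ∀ i c, mv p g i c = s i * (w i c : K))
    (S : Finset (Fin d)) (hS : S.card = n) (hli : LinearIndependent k (fun j : S => p j)) :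
    1 ≤ ∏ j ∈ S, O.valuation (s j) := by
  classical
  let e : Fin n ≃ S := (Finset.equivFinOfCardEq hS).symm
  let Pm : Matrix (Fin n) (Fin n) k := fun r => p (e r)
  let W : Matrix (Fin n) (Fin n) O := fun r c => w (e r) c
  have hdet : Pm.det ≠ 0 := by
    have : LinearIndependent k Pm.row := hli.comp e e.injective
    exact ((Matrix.isUnit_iff_isUnit_det _).1 (Matrix.linearIndependent_rows_iff_isUnit.1 this)).ne_zero
  have e1 : (Pm.map (algebraMap k K)) * (Matrix.of fun a b => g (SLn.X a b)) =
      Matrix.diagonal (fun r => s (e r)) * W.map O.subtype := by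
    ext r c
    rw [Matrix.diagonal_mul, Matrix.mul_apply]
    simpa [W, Pm, mv] using hw (e r) c
  have e2 := congrArg Matrix.det e1
  rw [Matrix.det_mul, Matrix.det_mul, det_eq_one, mul_one, Matrix.det_diagonal,
    show (Pm.map (algebraMap k K)).det = algebraMap k K Pm.det from (RingHom.map_det _ _).symm,
    show (W.map O.subtype).det = O.subtype W.det from (RingHom.map_det _ _).symm] at e2
  have hc : O.valuation (algebraMap k K Pm.det) = 1 := by
    refine le_antisymm ((O.valuation_le_one_iff _).2 (hk _)) ?_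
    have h2 := (O.valuation_le_one_iff _).2 (hk Pm.det⁻¹)
    rw [map_inv₀, map_inv₀, inv_le_one₀ (zero_lt_iff.2 (by simp [hdet]))] at h2
    exact h2
  have h3 := congrArg O.valuation e2
  rw [hc, map_mul, map_prod] at h3
  calc (1 : _) = (∏ r, O.valuation (s (e r))) * O.valuation (O.subtype W.det) := h3
    _ ≤ (∏ r, O.valuation (s (e r))) * 1 := mul_le_mul' le_rfl ((O.valuation_le_one_iff _).2 W.det.2)
    _ = ∏ j ∈ S, O.valuation (s j) := by
      rw [mul_one, ← Finset.prod_coe_sort S, ← e.prod_comp]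

theorem one_le_prod_pow (O : ValuationSubring K) (hk : ∀ c : k, algebraMap k K c ∈ O)
    {s : Fin d → K} {w : Fin d → Fin n → O} (hw : ∀ i c, mv p g i c = s i * (w i c : K))
    (P : Multiset (Finset (Fin d)))
    (hP : ∀ S ∈ P, S.card = n ∧ LinearIndependent k (fun j : S => p j)) :
    1 ≤ ∏ j, O.valuation (s j) ^ Multiset.card (P.filter fun S => j ∈ S) := by
  rw [← prod_multiset_eq]
  exact Multiset.one_le_prod_of_one_le fun x hx => by
    obtain ⟨S, hS, rfl⟩ := Multiset.mem_map.1 hx
    exact one_le_prod_of_basis p g O hk hw S (hP S hS).1 (hP S hS).2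

variable {a : FormIdx n d → k}

theorem valuation_prod_le (O : ValuationSubring K)
    (ha : formPoly a = ∏ i, ∑ j, C (p i j) * X j) {s : Fin d → K} {e : Fin n →₀ ℕ} {t : O}
    (ht : IsUnit t) (hcoeff : (∏ i, linF (mv p g i)).coeff e = (∏ i, s i) * (t : K))
    (he : e.degree = d) :
    O.valuation (∏ i, s i) ≤ O.valuation (g (orb k n d a (MvPolynomial.X ⟨e, he⟩))) := by
  classical
  have h := sum_monomial_orb_prod g p a ha
  have h1 := congrArg (coeff e) h
  rw [coeff_sum, Finset.sum_eq_single (⟨e, he⟩ : FormIdx n d)] at h1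
  · rw [coeff_monomial, if_pos rfl, show (∏ i, linF fun c => ∑ j, algebraMap k K (p i j) * g (SLn.X j c)) =
      ∏ i, linF (mv p g i) from rfl, hcoeff] at h1
    have h2 := congrArg O.valuation h1
    rw [map_mul, map_mul] at h2
    have ht' : O.valuation (t : K) = 1 := (O.valuation_eq_one_iff t).1 ht
    rw [ht', mul_one] at h2
    rw [← h2]
    exact mul_le_of_le_one_left' ((O.valuation_le_one_iff _).2 (natCast_mem O _))
  · intro m _ hm
    rw [coeff_monomial, if_neg fun h' => hm (Subtype.ext h')]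
  · intro h'; exact absurd (Finset.mem_univ _) h'

/-- Stable configurations: bounded forms only come from bounded matrices. -/
theorem X_mem_of_bounded (hp : ∀ i, p i ≠ 0) (ha : formPoly a = ∏ i, ∑ j, C (p i j) * X j)
    (N N₀ : ℕ) (hN₀ : 0 < N₀) (hNN : N₀ ≤ N)
    (hP : ∀ i : Fin d, ∃ P : Multiset (Finset (Fin d)), P ≠ 0 ∧
      (∀ S ∈ P, S.card = n ∧ LinearIndependent k (fun j : S => p j)) ∧
      ∀ j, Multiset.card (P.filter fun S => j ∈ S) = if j = i then N - N₀ else N)
    (hd : 0 < d)
    (O : ValuationSubring K) (hk : ∀ c : k, algebraMap k K c ∈ O)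
    (hb : ∀ m, g (orb k n d a (MvPolynomial.X m)) ∈ O) (i c : Fin n) : g (SLn.X i c) ∈ O := by
  classical
  obtain ⟨s, w, hw, hs, e, t, ht, hcoeff, he⟩ := exists_scales O (mv p g) (mv_ne_zero p g hp)
  have hV : ∏ j, O.valuation (s j) ≤ 1 := by
    rw [← map_prod]
    exact (valuation_prod_le p g O ha ht hcoeff he).trans ((O.valuation_le_one_iff _).2 (hb _))
  have hsle : ∀ l, O.valuation (s l) ≤ 1 := by
    intro l
    obtain ⟨P, -, hP1, hP2⟩ := hP l
    have h1 := one_le_prod_pow p g O hk hw P hP1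
    simp only [hP2] at h1
    refine (pow_le_one_iff hN₀.ne').1 ?_
    calc O.valuation (s l) ^ N₀
        ≤ O.valuation (s l) ^ N₀ * ∏ j, O.valuation (s j) ^ (if j = l then N - N₀ else N) :=
          le_mul_of_one_le_right' h1
      _ = (∏ j, O.valuation (s j)) ^ N := by
          rw [← Finset.prod_pow, ← Finset.mul_prod_erase Finset.univ _ (Finset.mem_univ l),
            ← Finset.mul_prod_erase Finset.univ (fun j => O.valuation (s j) ^ N) (Finset.mem_univ l),
            if_pos rfl, ← mul_assoc, ← pow_add, Nat.add_sub_cancel' hNN]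
          congr 1
          exact Finset.prod_congr rfl fun j hj => by rw [if_neg (Finset.ne_of_mem_erase hj)]
      _ ≤ 1 := pow_le_one' hV N
  have hmv : ∀ l c, mv p g l c ∈ O := fun l c => by
    rw [hw]
    exact mul_mem ((O.valuation_le_one_iff _).1 (hsle l)) (w l c).2
  obtain ⟨P, hP0, hP1, -⟩ := hP ⟨0, hd⟩
  obtain ⟨S, hS⟩ := Multiset.exists_mem_of_ne_zero hP0
  obtain ⟨hSc, hli⟩ := hP1 S hS
  let ee : Fin n ≃ S := (Finset.equivFinOfCardEq hSc).symm
  let Pm : Matrix (Fin n) (Fin n) k := fun r => p (ee r)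
  have hu : IsUnit Pm.det := by
    have : LinearIndependent k Pm.row := hli.comp ee ee.injective
    exact (Matrix.isUnit_iff_isUnit_det _).1 (Matrix.linearIndependent_rows_iff_isUnit.1 this)
  have e1 : (Matrix.of fun a b => g (SLn.X a b)) =
      (Pm⁻¹).map (algebraMap k K) * ((Pm.map (algebraMap k K)) * (Matrix.of fun a b => g (SLn.X a b))) := by
    rw [← Matrix.mul_assoc, ← Matrix.map_mul, Matrix.nonsing_inv_mul _ hu,
      Matrix.map_one _ (map_zero _) (map_one _), Matrix.one_mul]
  have e2 := congrFun (congrFun e1 i) c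
  rw [show g (SLn.X i c) = _ from e2, Matrix.mul_apply]
  exact sum_mem fun r _ => mul_mem (hk _) (hmv (ee r) c)

/-- Semistable configurations: the moved forms never tend to zero. -/
theorem exists_not_nonunit (hp : ∀ i, p i ≠ 0) (ha : formPoly a = ∏ i, ∑ j, C (p i j) * X j)
    (N : ℕ) (hN : 0 < N) (P : Multiset (Finset (Fin d)))
    (hP1 : ∀ S ∈ P, S.card = n ∧ LinearIndependent k (fun j : S => p j))
    (hP2 : ∀ j, Multiset.card (P.filter fun S => j ∈ S) = N)
    (O : ValuationSubring K) (hk : ∀ c : k, algebraMap k K c ∈ O) :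
    ∃ m, g (orb k n d a (MvPolynomial.X m)) ∉ O.nonunits := by
  obtain ⟨s, w, hw, hs, e, t, ht, hcoeff, he⟩ := exists_scales O (mv p g) (mv_ne_zero p g hp)
  refine ⟨⟨e, he⟩, fun hlt => ?_⟩
  rw [ValuationSubring.mem_nonunits_iff] at hlt
  have hV : ∏ j, O.valuation (s j) < 1 := by
    rw [← map_prod]
    exact (valuation_prod_le p g O ha ht hcoeff he).trans_lt hlt
  have h1 := one_le_prod_pow p g O hk hw P hP1
  simp only [hP2, Finset.prod_pow] at h1
  exact (pow_lt_one₀ zero_le hV hN.ne').not_ge h1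

/-! ### Consequences for orbits -/

theorem mem_range_of_forall_valuationSubring [IsAlgClosed k] (x : K)
    (h : ∀ O : ValuationSubring K, (∀ c : k, algebraMap k K c ∈ O) → x ∈ O) :
    x ∈ Set.range (algebraMap k K) := by
  by_contra hx
  have hx0 : x ≠ 0 := fun h0 => hx ⟨0, by rw [map_zero, h0]⟩
  let R := Algebra.adjoin k ({x⁻¹} : Set K)
  let y : R.toSubring := ⟨x⁻¹, Algebra.subset_adjoin rfl⟩
  have hne : Ideal.span {y} ≠ ⊤ := by
    intro htop
    have hu : IsUnit y := Ideal.span_singleton_eq_top.1 htop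
    obtain ⟨⟨b, hb⟩, hyb⟩ := isUnit_iff_exists_inv.1 hu
    have hb' : b ∈ Algebra.adjoin k ({x⁻¹} : Set K) := hb
    rw [Algebra.adjoin_singleton_eq_range_aeval] at hb'
    obtain ⟨q, hq⟩ := hb'
    have halg : IsAlgebraic k x⁻¹ := by
      refine ⟨Polynomial.X * q - 1, fun h0 => ?_, ?_⟩
      · have := congrArg (Polynomial.eval 0) h0
        simp at this
      · have hyb' : x⁻¹ * b = 1 := congrArg Subtype.val hyb
        change Polynomial.aeval x⁻¹ q = b at hq
        rw [map_sub, map_mul, Polynomial.aeval_X, map_one, hq, hyb', sub_self]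
    have := (minpoly.mem_range_of_degree_eq_one k x⁻¹
      (IsAlgClosed.degree_eq_one_of_irreducible k (minpoly.irreducible halg.isIntegral)))
    obtain ⟨c, hc⟩ := this
    exact hx ⟨c⁻¹, by rw [map_inv₀, hc, inv_inv]⟩
  obtain ⟨V, hV1, hV2⟩ := Ideal.image_subset_nonunits_valuationSubring _ hne
  have hVk : ∀ c : k, algebraMap k K c ∈ V := fun c => hV1 (R.algebraMap_mem c)
  exact ((V.inv_mem_nonunits_iff.1 (hV2 ⟨y, Ideal.subset_span rfl, rfl⟩)).resolve_left hx0) (h V hVk)

/-- A point in a closure is a limit along a valuation. -/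
theorem exists_valuation_of_le_ker {R A : Type u} [CommRing R] [Algebra k R] [CommRing A] [Algebra k A]
    (φ : R →ₐ[k] A) (z : R →ₐ[k] k) (hz : RingHom.ker φ ≤ RingHom.ker z) :
    ∃ (Q : Ideal A) (_ : Q.IsPrime) (O : ValuationSubring (FractionRing (A ⧸ Q))),
      ∀ f, algebraMap A (FractionRing (A ⧸ Q)) (φ f) ∈ O ∧
        (z f = 0 → algebraMap A (FractionRing (A ⧸ Q)) (φ f) ∈ O.nonunits) := by
  haveI : (RingHom.ker z).IsPrime := RingHom.ker_isPrime z
  obtain ⟨P, hP, hPz⟩ := Ideal.exists_minimalPrimes_le hz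
  obtain ⟨Q, hQp, -, hQ⟩ := Ideal.exists_comap_eq_of_mem_minimalPrimes φ.toRingHom (I := ⊥) P
    (by rwa [← RingHom.ker_eq_comap_bot])
  refine ⟨Q, hQp, ?_⟩
  let ψ : R →+* FractionRing (A ⧸ Q) := (algebraMap A (FractionRing (A ⧸ Q))).comp φ.toRingHom
  have hψ : RingHom.ker ψ ≤ RingHom.ker z := by
    refine le_trans (fun f hf => ?_) hPz
    rw [← hQ, Ideal.mem_comap]
    rw [RingHom.mem_ker, RingHom.comp_apply, IsScalarTower.algebraMap_apply A (A ⧸ Q) (FractionRing (A ⧸ Q)),
      ← map_zero (algebraMap (A ⧸ Q) (FractionRing (A ⧸ Q)))] at hf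
    exact Ideal.Quotient.eq_zero_iff_mem.1 (IsFractionRing.injective _ _ hf)
  have hI : (RingHom.ker z).map ψ.rangeRestrict ≠ ⊤ := by
    intro htop
    have := congrArg (Ideal.comap ψ.rangeRestrict) htop
    rw [Ideal.comap_map_of_surjective _ ψ.rangeRestrict_surjective, Ideal.comap_top,
      ← RingHom.ker_eq_comap_bot, RingHom.ker_rangeRestrict, sup_eq_left.2 hψ] at this
    exact RingHom.ker_ne_top z this
  obtain ⟨O, hO1, hO2⟩ := Ideal.image_subset_nonunits_valuationSubring _ hI
  exact ⟨O, fun f => ⟨hO1 ⟨f, rfl⟩, fun hf => hO2 ⟨ψ.rangeRestrict f, Ideal.mem_map_of_mem _ hf, rfl⟩⟩⟩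

theorem isStableVec_of_forall_X_mem [IsAlgClosed k] {a : FormIdx n d → k}
    (hmem : ∀ (K : Type u) [Field K] [Algebra k K] (g : SLn n k →ₐ[k] K) (O : ValuationSubring K),
      (∀ c : k, algebraMap k K c ∈ O) → (∀ m, g (orb k n d a (MvPolynomial.X m)) ∈ O) →
        ∀ i c, g (SLn.X i c) ∈ O) :
    @GLin.IsStableVec k _ (SLn n k) _ _ (FormIdx n d)
      (GLin.comodAlong ((SLn.mkHom n k).comp (Mat.toGLn n k)) (formsCoact k n d))
      (GLin.isCoactAlg_comodAlong ((SLn.mkHom n k).comp (Mat.toGLn n k)) (formsCoact k n d)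
        (formsCoact_isCoactAlg k n d)) a := by
  letI := GLin.comodAlong ((SLn.mkHom n k).comp (Mat.toGLn n k)) (formsCoact k n d)
  haveI := GLin.isCoactAlg_comodAlong ((SLn.mkHom n k).comp (Mat.toGLn n k)) (formsCoact k n d)
    (formsCoact_isCoactAlg k n d)
  haveI : Algebra.FiniteType k (SLn n k) := by
    refine ⟨(Set.finite_range fun ij : Fin n × Fin n => SLn.X (k := k) ij.1 ij.2).toFinset, ?_⟩
    exact eq_top_of_X_mem _ fun i j => Algebra.subset_adjoin (by simp)
  set x := GLin.vecPt k (FormIdx n d) a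
  constructor
  · refine StablePoints.isClosedOrbit_of_forall x fun z hz => ?_
    obtain ⟨Q, hQ, O, hO⟩ := exists_valuation_of_le_ker (GLin.orbitHom k (SLn n k) x) z hz
    let π : SLn n k →ₐ[k] FractionRing (SLn n k ⧸ Q) := IsScalarTower.toAlgHom k _ _
    have hk : ∀ c : k, algebraMap k (FractionRing (SLn n k ⧸ Q)) c ∈ O := fun c => by
      have := (hO (algebraMap k (FormRing k n d) c)).1
      rwa [AlgHom.commutes, ← IsScalarTower.algebraMap_apply] at this
    have hX : ∀ i c, π (SLn.X i c) ∈ O :=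
      hmem _ π O hk fun m => (hO (MvPolynomial.X m)).1
    have hmem : ∀ b, π b ∈ O := by
      intro b
      let S : Subalgebra k (SLn n k) :=
        { O.toSubring.comap π.toRingHom with
          algebraMap_mem' := fun c => by
            change π (algebraMap k _ c) ∈ O
            rw [AlgHom.commutes]; exact hk c }
      exact (eq_top_of_X_mem S hX ▸ Algebra.mem_top : b ∈ S)
    let ρ : SLn n k →+* O := π.toRingHom.codRestrict O.toSubring hmem
    let Q' : Ideal (SLn n k) := (IsLocalRing.maximalIdeal O).comap ρ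
    obtain ⟨g', hg'⟩ := GitQuot.exists_point (k := k) Q' (Ideal.comap_ne_top _ (Ideal.IsPrime.ne_top inferInstance))
    refine ⟨g', (StablePoints.eq_of_ker_le (p := z) (q := GLin.actPt k g' x) fun f hf => ?_)⟩
    refine hg' ?_
    change ρ (GLin.orbitHom k (SLn n k) x f) ∈ IsLocalRing.maximalIdeal O
    exact (ValuationSubring.coe_mem_nonunits_iff).1 ((hO f).2 hf)
  · unfold GLin.HasFiniteStab
    rw [Module.finite_iff_isArtinianRing, isArtinianRing_iff_isNoetherianRing_krullDimLE_zero]
    haveI : IsNoetherianRing (SLn n k) := Algebra.FiniteType.isNoetherianRing k _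
    refine ⟨inferInstance, Ring.krullDimLE_zero_iff.2 fun P hPp => ?_⟩
    haveI := hPp
    set Q := P.comap (Ideal.Quotient.mk (GLin.stabIdeal k (SLn n k) x))
    haveI : Q.IsPrime := Ideal.comap_isPrime _ _
    let π : SLn n k →ₐ[k] FractionRing (SLn n k ⧸ Q) := IsScalarTower.toAlgHom k _ _
    have hfix : ∀ f, π (GLin.orbitHom k (SLn n k) x f) = algebraMap k _ (x f) := by
      intro f
      have h1 : GLin.orbitHom k (SLn n k) x (f - algebraMap k _ (x f)) ∈ Q := by
        rw [Ideal.mem_comap]
        rw [Ideal.Quotient.eq_zero_iff_mem.2 (show GLin.orbitHom k (SLn n k) x (f - algebraMap k _ (x f)) ∈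
          GLin.stabIdeal k (SLn n k) x from Ideal.mem_map_of_mem _ (by
            rw [RingHom.mem_ker, map_sub, AlgHom.commutes, Algebra.algebraMap_self, RingHom.id_apply, sub_self]))]
        exact P.zero_mem
      have h2 : π (GLin.orbitHom k (SLn n k) x (f - algebraMap k _ (x f))) = 0 := by
        change algebraMap (SLn n k) (FractionRing (SLn n k ⧸ Q)) _ = 0
        rw [IsScalarTower.algebraMap_apply (SLn n k) (SLn n k ⧸ Q) (FractionRing (SLn n k ⧸ Q))]
        erw [Ideal.Quotient.eq_zero_iff_mem.2 h1, map_zero]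
      rw [map_sub, map_sub, AlgHom.commutes, AlgHom.commutes, sub_eq_zero] at h2
      exact h2
    have hX : ∀ i c, π (SLn.X i c) ∈ Set.range (algebraMap k (FractionRing (SLn n k ⧸ Q))) := by
      intro i c
      refine mem_range_of_forall_valuationSubring _ fun O hk => ?_
      refine hmem _ π O hk (fun m => ?_) i c
      rw [show orb k n d a (MvPolynomial.X m) = GLin.orbitHom k (SLn n k) x (MvPolynomial.X m) from rfl, hfix]
      exact hk _
    have hrange : ∀ b, π b ∈ (⊥ : Subalgebra k (FractionRing (SLn n k ⧸ Q))) := by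
      intro b
      have : ((⊥ : Subalgebra k (FractionRing (SLn n k ⧸ Q))).comap π) = ⊤ :=
        eq_top_of_X_mem _ fun i c => Algebra.mem_bot.2 (hX i c)
      have hb : b ∈ ((⊥ : Subalgebra k (FractionRing (SLn n k ⧸ Q))).comap π) := this ▸ Algebra.mem_top
      exact hb
    refine Ideal.isMaximal_iff.2 ⟨fun h1 => hPp.ne_top ((Ideal.eq_top_iff_one _).2 h1), fun J b hPJ hbP hbJ => ?_⟩
    obtain ⟨b', rfl⟩ := Ideal.Quotient.mk_surjective b
    obtain ⟨c, hc⟩ := Algebra.mem_bot.1 (hrange b')
    have hmemQ : b' - algebraMap k _ c ∈ Q := by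
      have h2 : π (b' - algebraMap k _ c) = 0 := by rw [map_sub, AlgHom.commutes, hc, sub_self]
      change algebraMap (SLn n k) (FractionRing (SLn n k ⧸ Q)) _ = 0 at h2
      rw [IsScalarTower.algebraMap_apply (SLn n k) (SLn n k ⧸ Q) (FractionRing (SLn n k ⧸ Q)),
        ← map_zero (algebraMap (SLn n k ⧸ Q) (FractionRing (SLn n k ⧸ Q)))] at h2
      exact Ideal.Quotient.eq_zero_iff_mem.1 (IsFractionRing.injective _ _ h2)
    rw [Ideal.mem_comap, map_sub] at hmemQ
    have hc0 : c ≠ 0 := by
      rintro rfl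
      rw [map_zero, map_zero, sub_zero] at hmemQ
      exact hbP hmemQ
    have h3 : Ideal.Quotient.mk (GLin.stabIdeal k (SLn n k) x) (algebraMap k _ c) ∈ J := by
      have := J.sub_mem hbJ (hPJ hmemQ)
      rwa [sub_sub_cancel] at this
    have h4 := J.mul_mem_left (Ideal.Quotient.mk _ (algebraMap k _ c⁻¹)) h3
    rwa [← map_mul, ← map_mul, inv_mul_cancel₀ hc0, map_one, map_one] at h4

theorem isStableVec_of_lowered [IsAlgClosed k] (hd : 0 < d) (hp : ∀ i, p i ≠ 0)
    (ha : formPoly a = ∏ i, ∑ j, C (p i j) * X j) (N N₀ : ℕ) (hN₀ : 0 < N₀) (hNN : N₀ ≤ N)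
    (hP : ∀ i : Fin d, ∃ P : Multiset (Finset (Fin d)), P ≠ 0 ∧
      (∀ S ∈ P, S.card = n ∧ LinearIndependent k (fun j : S => p j)) ∧
      ∀ j, Multiset.card (P.filter fun S => j ∈ S) = if j = i then N - N₀ else N) :
    @GLin.IsStableVec k _ (SLn n k) _ _ (FormIdx n d)
      (GLin.comodAlong ((SLn.mkHom n k).comp (Mat.toGLn n k)) (formsCoact k n d))
      (GLin.isCoactAlg_comodAlong ((SLn.mkHom n k).comp (Mat.toGLn n k)) (formsCoact k n d)
        (formsCoact_isCoactAlg k n d)) a   := 
  isStableVec_of_forall_X_mem fun _ _ _ g O hk hb i c => X_mem_of_bounded p g hp ha N N₀ hN₀ hNN hP hd O hk hb i c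

theorem not_inOrbitClosure_origin [IsAlgClosed k] (hp : ∀ i, p i ≠ 0)
    (ha : formPoly a = ∏ i, ∑ j, C (p i j) * X j) (N : ℕ) (hN : 0 < N)
    (P : Multiset (Finset (Fin d)))
    (hP1 : ∀ S ∈ P, S.card = n ∧ LinearIndependent k (fun j : S => p j))
    (hP2 : ∀ j, Multiset.card (P.filter fun S => j ∈ S) = N) :
    ¬ @GLin.InOrbitClosure k _ (SLn n k) _ _ (FormRing k n d) _ _
      (GLin.comodAlong ((SLn.mkHom n k).comp (Mat.toGLn n k)) (formsCoact k n d))
      (GLin.isCoactAlg_comodAlong ((SLn.mkHom n k).comp (Mat.toGLn n k)) (formsCoact k n d)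
        (formsCoact_isCoactAlg k n d))
      (GLin.vecPt k (FormIdx n d) a) (GLin.vecPt k (FormIdx n d) fun _ => (0 : k)) := by
  intro hcl
  obtain ⟨Q, hQ, O, hO⟩ := exists_valuation_of_le_ker (orb k n d a) _ hcl
  let π : SLn n k →ₐ[k] FractionRing (SLn n k ⧸ Q) := IsScalarTower.toAlgHom k _ _
  have hk : ∀ c : k, algebraMap k (FractionRing (SLn n k ⧸ Q)) c ∈ O := fun c => by
    have := (hO (algebraMap k (FormRing k n d) c)).1
    rwa [AlgHom.commutes, ← IsScalarTower.algebraMap_apply] at this
  obtain ⟨m, hm⟩ := exists_not_nonunit p π hp ha N hN P hP1 hP2 O hk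
  exact hm ((hO (MvPolynomial.X m)).2 (by simp [GLin.vecPt]))

end Groth.Misc6.PointSets
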