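import Mathlib.CategoryTheory.Localization.CalculusOfFractions

/-!
A criterion for a functor to be the localization at the morphisms it inverts, via right fractions.
-/

universe v₁ v₂ u₁ u₂

open CategoryTheory

namespace Groth.Misc6.LocCrit

variable {C : Type u₁} [Category.{v₁} C] {D : Type u₂} [Category.{v₂} D] (L : C ⥤ D)

/-- An essentially surjective functor for which every morphism between images is a right fraction and
which is faithful up to precomposition with inverted morphisms is a localization functor. -/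
theorem isLocalization_of_fractions (W : MorphismProperty C)
    (hW : ∀ ⦃X Y : C⦄ (f : X ⟶ Y), W f ↔ IsIso (L.map f)) (hE : L.EssSurj)
    (hF : ∀ ⦃X Y : C⦄ (φ : L.obj X ⟶ L.obj Y), ∃ (A : C) (s : A ⟶ X) (f : A ⟶ Y),
      IsIso (L.map s) ∧ L.map s ≫ φ = L.map f)
    (hK : ∀ ⦃X Y : C⦄ (f g : X ⟶ Y), L.map f = L.map g →
      ∃ (A : C) (t : A ⟶ X), IsIso (L.map t) ∧ t ≫ f = t ≫ g) :
    L.IsLocalization W := by
  have hinv : W.IsInvertedBy L := fun X Y f hf => (hW f).1 hf
  haveI : W.IsMultiplicative :=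
    { id_mem := fun X => (hW _).2 (by rw [L.map_id]; infer_instance)
      comp_mem := fun f g hf hg => (hW _).2 (by
        have := hinv f hf
        have := hinv g hg
        rw [L.map_comp]
        infer_instance) }
  haveI : W.HasRightCalculusOfFractions :=
    { exists_rightFraction := fun X Y z => by
        have := hinv z.s z.hs
        obtain ⟨A, t, g, ht, h⟩ := hF (L.map z.f ≫ inv (L.map z.s))
        obtain ⟨B, w, hw, hwe⟩ := hK (g ≫ z.s) (t ≫ z.f) (by
          rw [L.map_comp, L.map_comp, ← h, Category.assoc, Category.assoc, IsIso.inv_hom_id,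
            Category.comp_id])
        exact ⟨{ s := w ≫ t
                 f := w ≫ g
                 hs := W.comp_mem _ _ ((hW _).2 hw) ((hW _).2 ht) }, by
          simp only [Category.assoc]
          exact hwe.symm⟩
      ext := fun X Y Y' f₁ f₂ s hs h => by
        have := hinv s hs
        obtain ⟨A, t, ht, hte⟩ := hK f₁ f₂ (by
          rw [← cancel_mono (L.map s), ← L.map_comp, ← L.map_comp, h])
        exact ⟨A, t, (hW _).2 ht, hte⟩ }
  let E := Localization.Construction.lift L hinv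
  have hfac : W.Q ⋙ E = L := Localization.Construction.fac L hinv
  have hmap : ∀ {X Y : C} (f : X ⟶ Y), E.map (W.Q.map f) = L.map f := fun f =>
    (Functor.congr_hom hfac f).trans ((Category.id_comp _).trans (Category.comp_id _))
  have hobj : ∀ Z : W.Localization, ∃ X : C, W.Q.obj X = Z := fun Z =>
    ⟨_, (Localization.Construction.objEquiv W).apply_symm_apply Z⟩
  haveI : E.EssSurj :=
    ⟨fun d => ⟨W.Q.obj (L.objPreimage d), ⟨L.objObjPreimageIso d⟩⟩⟩
  haveI : E.Full := ⟨fun {a b} φ => by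
    obtain ⟨X, rfl⟩ := hobj a
    obtain ⟨Y, rfl⟩ := hobj b
    obtain ⟨A, s, f, hs, h⟩ := hF (X := X) (Y := Y) φ
    haveI : IsIso (W.Q.map s) := Localization.inverts W.Q W s ((hW s).2 hs)
    refine ⟨inv (W.Q.map s) ≫ W.Q.map f, ?_⟩
    have h1 := hmap s
    rw [E.map_comp, E.map_inv, IsIso.inv_comp_eq, hmap f, h1]
    exact h.symm⟩
  haveI : E.Faithful := ⟨fun {a b} p q hpq => by
    obtain ⟨X, rfl⟩ := hobj a
    obtain ⟨Y, rfl⟩ := hobj b
    obtain ⟨z₁, rfl⟩ := Localization.exists_rightFraction W.Q W p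
    obtain ⟨z₂, rfl⟩ := Localization.exists_rightFraction W.Q W q
    have i1 := hinv z₁.s z₁.hs
    have i2 := hinv z₂.s z₂.hs
    have hP := Localization.inverts W.Q W
    obtain ⟨A, t, g, ht, h⟩ := hF (L.map z₁.s ≫ inv (L.map z₂.s))
    obtain ⟨B, w, hw, hwe⟩ := hK (t ≫ z₁.s) (g ≫ z₂.s) (by
      rw [L.map_comp, L.map_comp, ← h, Category.assoc, Category.assoc, IsIso.inv_hom_id,
        Category.comp_id])
    let m := w ≫ t ≫ z₁.s
    have hm : W m := W.comp_mem _ _ ((hW _).2 hw) (W.comp_mem _ _ ((hW _).2 ht) z₁.hs)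
    have e1 : W.Q.map m ≫ z₁.map W.Q hP = W.Q.map (w ≫ t ≫ z₁.f) := by
      simp only [m, Functor.map_comp, Category.assoc, MorphismProperty.RightFraction.map_s_comp_map]
    have e2 : W.Q.map m ≫ z₂.map W.Q hP = W.Q.map (w ≫ g ≫ z₂.f) := by
      simp only [m]
      rw [hwe]
      simp only [Functor.map_comp, Category.assoc, MorphismProperty.RightFraction.map_s_comp_map]
    have hL : L.map (w ≫ t ≫ z₁.f) = L.map (w ≫ g ≫ z₂.f) := by
      rw [← hmap, ← hmap, ← e1, ← e2, E.map_comp, E.map_comp, hpq]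
    obtain ⟨K, k, hk, hke⟩ := hK _ _ hL
    haveI : IsIso (W.Q.map (k ≫ m)) := hP _ (W.comp_mem _ _ ((hW _).2 hk) hm)
    rw [← cancel_epi (W.Q.map (k ≫ m)), Functor.map_comp, Category.assoc, Category.assoc, e1, e2,
      ← Functor.map_comp, ← Functor.map_comp, hke]⟩
  exact ⟨hinv, { }⟩

end Groth.Misc6.LocCrit
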