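import Groth.Prelude.Def_FinCov
import Groth.Agent.LocFree.Rank
import Groth.Agent.LocFree.SES
import Groth.Agent.QCohMod.QCAlgSub
import Groth.Agent.QCohMod.Category
import Groth.Agent.PicAux.TensorLift
import Groth.Agent.PicAux.GenLocusAffine

/-!
The trace of a finite locally free algebra, and rank two algebras.
-/

universe u

open CategoryTheory CategoryTheory.Limits AlgebraicGeometry Opposite TopologicalSpace

namespace Groth.Misc6.FinCov

open Groth.PicAux
open Groth.QCohMod hiding res

variable {X : Scheme.{u}} (A : RelSpec.QCAlg X)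

/-- The algebra structure on sections. -/
noncomputable abbrev secAlg (V : X.Opens) : Algebra Γ(X, V) (BSec A V) := (bstr A V).toAlgebra

/-- The trace on sections over one open. -/
noncomputable def trSec (V : X.Opens) (a : BSec A V) : Γ(X, V) :=
  letI := secAlg A V
  Algebra.trace Γ(X, V) (BSec A V) a

theorem trSec_add (V : X.Opens) (a b : BSec A V) : trSec A V (a + b) = trSec A V a + trSec A V b :=
  map_add _ a b

theorem trSec_smul (V : X.Opens) (r : Γ(X, V)) (a : BSec A V) :
    trSec A V (bstr A V r * a) = r * trSec A V a := by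
  letI := secAlg A V
  rw [show bstr A V r * a = r • a from (Algebra.smul_def r a).symm]
  exact map_smul _ r a

variable {n : ℕ} {U : X.Opens} {s : Fin n → Γ(A.toModule, U)}

/-- A basis of the module of `A` gives bases of the algebras of sections. -/
noncomputable def algBasis (hs : Basis' A.toModule U s) {V : X.Opens} (h : V ≤ U) :
    letI := secAlg A V
    Module.Basis (Fin n) Γ(X, V) (BSec A V) :=
  letI := secAlg A V
  (LocFree.basisOfBasis' hs h).map
    { toFun := fun x => toB A x
      invFun := fun x => ofB A x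
      left_inv := fun _ => rfl
      right_inv := fun _ => rfl
      map_add' := fun _ _ => rfl
      map_smul' := fun _ _ => rfl }

theorem algBasis_apply (hs : Basis' A.toModule U s) {V : X.Opens} (h : V ≤ U) (i : Fin n) :
    letI := secAlg A V
    algBasis A hs h i = bres A h (toB A (s i)) := by
  letI := secAlg A V
  rw [algBasis, Module.Basis.map_apply, LocFree.basisOfBasis'_apply]
  rfl

theorem free_finite_sections (hs : Basis' A.toModule U s) {V : X.Opens} (h : V ≤ U) :
    letI := secAlg A V
    Module.Free Γ(X, V) (BSec A V) ∧ Module.Finite Γ(X, V) (BSec A V) := by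
  letI := secAlg A V
  exact ⟨.of_basis (algBasis A hs h), .of_basis (algBasis A hs h)⟩

/-- The trace commutes with restriction below a basis. -/
theorem trSec_res (hs : Basis' A.toModule U s) {V W : X.Opens} (hV : V ≤ U) (hW : W ≤ V)
    (a : BSec A V) : resX X hW (trSec A V a) = trSec A W (bres A hW a) := by
  letI := secAlg A V
  letI := secAlg A W
  classical
  let bV := algBasis A hs hV
  let bW := algBasis A hs (hW.trans hV)
  have hb : ∀ i, bres A hW (bV i) = bW i := fun i => by
    rw [algBasis_apply, algBasis_apply, bres_bres]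
  have hrepr : ∀ (x : BSec A V) (i : Fin n), bW.repr (bres A hW x) i = resX X hW (bV.repr x i) := by
    intro x i
    have e : bres A hW x = ∑ k, resX X hW (bV.repr x k) • bW k := by
      conv_lhs => rw [← bV.sum_repr x]
      rw [map_sum]
      refine Finset.sum_congr rfl fun k _ => ?_
      rw [Algebra.smul_def, map_mul, hb k, Algebra.smul_def]
      exact congrArg (· * bW k) (bres_bstr A hW _)
    rw [e]
    exact congrFun (bW.repr_sum_self _) i
  change resX X hW (Algebra.trace _ _ a) = Algebra.trace _ _ (bres A hW a)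
  rw [Algebra.trace_eq_matrix_trace bV, Algebra.trace_eq_matrix_trace bW, Matrix.trace, Matrix.trace,
    map_sum]
  refine Finset.sum_congr rfl fun i _ => ?_
  simp only [Matrix.diag_apply, Algebra.leftMulMatrix_eq_repr_mul]
  rw [← hrepr, map_mul, hb]

theorem trSec_bstr (hs : Basis' A.toModule U s) {V : X.Opens} (h : V ≤ U) (r : Γ(X, V)) :
    trSec A V (bstr A V r) = n • r := by
  letI := secAlg A V
  have := Algebra.trace_algebraMap_of_basis (algBasis A hs h) r
  rw [Fintype.card_fin] at this
  exact this

variable {A}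

/-- A trace agrees with the trace of sections below any basis. -/
theorem app_eq_trSec {τ : A.toModule ⟶ Coh.structureModule X} (hτ : FinCov.IsTrace A τ)
    (hs : Basis' A.toModule U s) {V : X.Opens} (h : V ≤ U) (a : Γ(A.toModule, V)) :
    toFun (τ.app V a) = trSec A V (toB A a) := by
  have hex : ∀ x : V, ∃ W : X.Opens, IsAffineOpen W ∧ x.1 ∈ W ∧ W ≤ V := fun x => by
    obtain ⟨_, ⟨W, hW, rfl⟩, hxW, hWV⟩ :=
      X.isBasis_affineOpens.exists_subset_of_mem_open x.2 V.2
    exact ⟨W, hW, hxW, hWV⟩
  choose W hW hxW hWV using hex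
  refine res_ext (M := Coh.structureModule X) W hWV
    (fun x hx => Opens.mem_iSup.2 ⟨⟨x, hx⟩, hxW ⟨x, hx⟩⟩) (x := τ.app V a)
    (y := (trSec A V (toB A a) : Γ(Coh.structureModule X, V))) fun x => ?_
  obtain ⟨h1, h2⟩ := free_finite_sections A hs ((hWV x).trans h)
  rw [← app_res]
  exact (hτ (W x) (hW x) h1 h2 _).trans (trSec_res A hs h (hWV x) _).symm

/-- The trace exists and is unique. -/
theorem existsUnique_isTrace (hA : FlatMod.IsFinLocFree A.toModule) :
    ∃! τ : A.toModule ⟶ Coh.structureModule X, FinCov.IsTrace A τ := by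
  choose U n s hU hxU hs using fun x => LocFree.exists_affine_basis hA x
  have hc : iSup U = ⊤ := top_le_iff.1 fun x _ => Opens.mem_iSup.2 ⟨x, hxU x⟩
  obtain ⟨φ, hφ⟩ := exists_hom_of_cover (L := A.toModule) (M := Coh.structureModule X) hc
    (fun _ V _ a => trSec A V (toB A a))
    (fun _ V _ a b => trSec_add A V _ _) (fun _ V _ r a => trSec_smul A V r _)
    (fun i V W h h' a => trSec_res A (hs i) h h' _) (fun _ _ _ _ _ _ => rfl)
  refine ⟨φ, ?_, fun τ hτ => ?_⟩
  · intro W hW hfree hfin a
    letI := secAlg A W
    haveI := isQCoh_toModule A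
    let b := Module.Free.chooseBasis Γ(X, W) (BSec A W)
    let bF := b.reindex (Fintype.equivFin _)
    let bM : Module.Basis _ Γ(X, W) Γ(A.toModule, W) := bF.map
      { toFun := fun x => ofB A x
        invFun := fun x => toB A x
        left_inv := fun _ => rfl
        right_inv := fun _ => rfl
        map_add' := fun _ _ => rfl
        map_smul' := fun _ _ => rfl }
    let t : Fin _ → Γ(A.toModule, W) := bM
    have ht : Basis' A.toModule W t := by
      refine KTheory.LocFree.basis'_of_affine hW t ?_
      have := bM.equivFun.symm.bijective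
      convert this using 1
      funext r
      exact (bM.equivFun_symm_apply r).symm
    refine res_ext (M := Coh.structureModule X) (fun x => W ⊓ U x) (fun _ => inf_le_left)
      (le_iSup_inf hc W) (x := φ.app W a)
      (y := (trSec A W a : Γ(Coh.structureModule X, W))) fun x => ?_
    rw [← app_res, hφ x _ inf_le_right]
    exact (trSec_res A ht le_rfl inf_le_left _).symm
  · exact hom_ext_cover hc fun i V hV a => (app_eq_trSec hτ (hs i) hV a).trans (hφ i V hV a).symm

theorem app_bstr {d : ℕ} (hA : FlatMod.IsFinLocFreeOfRank d A.toModule)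
    {τ : A.toModule ⟶ Coh.structureModule X} (hτ : FinCov.IsTrace A τ) (V : X.Opens)
    (r : Γ(X, V)) : toFun (τ.app V (ofB A (bstr A V r))) = d • r := by
  choose U s hU hxU hs using fun x => LocFree.exists_affine_basis_ofRank hA x
  have hc : iSup U = ⊤ := top_le_iff.1 fun x _ => Opens.mem_iSup.2 ⟨x, hxU x⟩
  refine res_ext (M := Coh.structureModule X) (fun x => V ⊓ U x) (fun _ => inf_le_left)
    (le_iSup_inf hc V) (x := τ.app V (ofB A (bstr A V r)))
    (y := (d • r : Γ(X, V))) fun x => ?_
  rw [← app_res]
  refine (app_eq_trSec hτ (hs x) inf_le_right _).trans ?_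
  have e : toB A (res A.toModule (inf_le_left : V ⊓ U x ≤ V) (ofB A (bstr A V r))) =
      bstr A _ (resX X inf_le_left r) := (toB_res A _ _).trans (bres_bstr A _ r)
  rw [e, trSec_bstr A (hs x) inf_le_right]
  exact (map_nsmul _ _ _).symm

theorem nsmul_app {M N : X.Modules} (φ : M ⟶ N) (d : ℕ) (V : X.Opens) (x : Γ(M, V)) :
    (d • φ).app V x = d • φ.app V x := by
  induction d with
  | zero => rw [zero_smul, zero_smul]; rfl
  | succ k ih =>
    rw [succ_nsmul, succ_nsmul, Scheme.Modules.Hom.add_app, ← ih]
    rfl

theorem strMod_comp_trace {d : ℕ} (hA : FlatMod.IsFinLocFreeOfRank d A.toModule)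
    {τ : A.toModule ⟶ Coh.structureModule X} (hτ : FinCov.IsTrace A τ) :
    FinCov.strMod A ≫ τ = d • 𝟙 (Coh.structureModule X) := by
  ext V r
  exact (app_bstr hA hτ V r).trans (nsmul_app (𝟙 _) d V r).symm

end Groth.Misc6.FinCov
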