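import Mathlib

/-! Algebra endomorphisms of `k⟦X⟧` are substitutions. -/

namespace Groth.Misc6

open PowerSeries

variable {k : Type*} [Field k]

theorem psEnd_constantCoeff (σ : k⟦X⟧ →ₐ[k] k⟦X⟧) : constantCoeff (σ X) = 0 := by
  by_contra hc
  have hu : IsUnit ((X : k⟦X⟧) - C (constantCoeff (σ X))) :=
    isUnit_iff_constantCoeff.2 (by simpa using hc)
  have := isUnit_iff_constantCoeff.1 (hu.map σ)
  rw [map_sub, ← algebraMap_eq, AlgHom.commutes] at this
  simp [algebraMap_eq] at this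

theorem psEnd_eq_subst (σ : k⟦X⟧ →ₐ[k] k⟦X⟧) (f : k⟦X⟧) : σ f = subst (σ X) f := by
  have hs : HasSubst (σ X) := HasSubst.of_constantCoeff_zero' (psEnd_constantCoeff σ)
  ext n
  obtain ⟨g, hg⟩ : (X : k⟦X⟧) ^ (n + 1) ∣ f - (trunc (n + 1) f : Polynomial k) := by
    rw [X_pow_dvd_iff]
    intro m hm
    simp [coeff_trunc, hm]
  have hf : f = ((trunc (n + 1) f : Polynomial k) : k⟦X⟧) + X ^ (n + 1) * g := by rw [← hg]; ring
  have key : ∀ τ : k⟦X⟧ →ₐ[k] k⟦X⟧, τ X = σ X → coeff n (τ f) = coeff n (Polynomial.aeval (σ X) (trunc (n + 1) f)) := by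
    intro τ hτ
    conv_lhs => rw [hf]
    rw [map_add, map_add, map_mul, map_pow, hτ]
    have h0 : coeff n (σ X ^ (n + 1) * τ g) = 0 := by
      obtain ⟨w, hw⟩ : X ∣ σ X := X_dvd_iff.2 (psEnd_constantCoeff σ)
      rw [hw, mul_pow, mul_assoc, coeff_X_pow_mul']
      simp
    rw [h0, add_zero]
    congr 1
    have : τ.comp (Polynomial.aeval (X : k⟦X⟧)) = Polynomial.aeval (σ X) := by
      apply Polynomial.algHom_ext; simp [hτ]
    rw [← this, AlgHom.comp_apply]
    congr 1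
    simpa using DFunLike.congr_fun (show (Polynomial.coeToPowerSeries.algHom k : Polynomial k →ₐ[k] k⟦X⟧) = Polynomial.aeval X by
      apply Polynomial.algHom_ext; simp) (trunc (n + 1) f)
  rw [key σ rfl, ← coe_substAlgHom hs, key (substAlgHom hs) (substAlgHom_X hs)]

theorem psEnd_ext {σ τ : k⟦X⟧ →ₐ[k] k⟦X⟧} (h : σ X = τ X) : σ = τ :=
  AlgHom.ext fun f => by rw [psEnd_eq_subst σ, psEnd_eq_subst τ, h]

theorem psEnd_exists_equiv (v : k⟦X⟧) (h0 : constantCoeff v = 0) (h1 : coeff 1 v ≠ 0) :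
    ∃ φ : k⟦X⟧ ≃ₐ[k] k⟦X⟧, φ X = v := by
  have : Invertible (coeff 1 v) := invertibleOfNonzero h1
  have hv : HasSubst v := HasSubst.of_constantCoeff_zero' h0
  have hw0 : constantCoeff (substInv v) = 0 := by
    rw [← coeff_zero_eq_constantCoeff_apply]; simp [substInv, substInvFun]
  have hw : HasSubst (substInv v) := HasSubst.of_constantCoeff_zero' hw0
  refine ⟨AlgEquiv.ofAlgHom (substAlgHom hv) (substAlgHom hw) (psEnd_ext ?_) (psEnd_ext ?_), substAlgHom_X hv⟩
  · show substAlgHom hv (substAlgHom hw X) = X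
    rw [substAlgHom_X, coe_substAlgHom, subst_substInv_left v h0]
  · show substAlgHom hw (substAlgHom hv X) = X
    rw [substAlgHom_X, coe_substAlgHom, subst_substInv_right v h0]

end Groth.Misc6
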