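import Mathlib
import Groth.Agent.Misc6.PSEnd

/-! The automorphism `t ↦ t·u`, `u ^ n (1 + t ^ n) = 1`, of `k⟦t⟧`. -/

set_option autoImplicit false
open PowerSeries

namespace Groth.Misc6.AS

variable {k : Type*} [Field k] (n : ℕ) (u : k⟦X⟧)

/-- Roots with constant term one are unique. -/
lemma root_unique (hnk : (n : k) ≠ 0) {x y : k⟦X⟧} (hx : constantCoeff x = 1) (hy : constantCoeff y = 1)
    (h : x ^ n = y ^ n) : x = y := by
  have e := geom_sum₂_mul x y n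
  rw [h, sub_self] at e
  refine sub_eq_zero.1 ((mul_eq_zero.1 e).resolve_left fun h0 => hnk ?_)
  have := congrArg constantCoeff h0
  simpa [hx, hy] using this

lemma exists_root (hnk : (n : k) ≠ 0) (z : k⟦X⟧) (hz : constantCoeff z = 0) :
    ∃ r : k⟦X⟧, r ^ n = 1 + z ∧ constantCoeff r = 1 ∧ z ∣ r - 1 := by
  set v : k⟦X⟧ := (1 + X) ^ n - 1 with hv
  have h0 : constantCoeff v = 0 := by simp [hv]
  have h1 : coeff 1 v ≠ 0 := by
    have e : ∀ m : ℕ, coeff 1 (((1 : k⟦X⟧) + X) ^ m) = (m : k) := by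
      intro m
      induction m with
      | zero => simp
      | succ m ih =>
        rw [pow_succ, mul_add, mul_one, map_add, ih, coeff_succ_mul_X 0, coeff_zero_eq_constantCoeff_apply]
        simp
    simp [hv, e, hnk]
  obtain ⟨φ, hφ⟩ := Groth.Misc6.psEnd_exists_equiv v h0 h1
  set g := φ.symm X
  have hg0 : constantCoeff g = 0 := Groth.Misc6.psEnd_constantCoeff φ.symm.toAlgHom
  have hg : (1 + g) ^ n = 1 + X := by
    have := congrArg φ.symm hφ
    rw [AlgEquiv.symm_apply_apply, hv, map_sub, map_pow, map_add, map_one] at this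
    linear_combination -this
  have hs : HasSubst z := HasSubst.of_constantCoeff_zero' hz
  obtain ⟨g', hg'⟩ : X ∣ g := X_dvd_iff.2 hg0
  refine ⟨substAlgHom hs (1 + g), ?_, ?_, ?_⟩
  · rw [← map_pow, hg, map_add, map_one, substAlgHom_X]
  · simp [map_add, hg', substAlgHom_X, hz]
  · rw [map_add, map_one, hg', map_mul, substAlgHom_X, add_sub_cancel_left]
    exact dvd_mul_right _ _

variable (hu1 : constantCoeff u = 1) (hun : u ^ n * (1 + X ^ n) = 1) (hnk : (n : k) ≠ 0)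

lemma hasSubst_mul : HasSubst (X * u) := HasSubst.of_constantCoeff_zero' (by simp)

/-- the substitution `t ↦ t u` -/
noncomputable abbrev sig : k⟦X⟧ →ₐ[k] k⟦X⟧ := substAlgHom (hasSubst_mul u)

include hu1 hun hnk in
lemma exists_sigma_eq_pow_mul (p : ℕ) [Fact p.Prime] [CharP k p] (hn : 0 < n) :
    ∃ r : k⟦X⟧, constantCoeff r = 1 ∧ X ^ n ∣ r - 1 ∧ sig u r = r * u ^ p := by
  obtain ⟨q, hq⟩ : ∃ q, p = q + 2 := Nat.exists_eq_add_of_le' (Fact.out (p := p.Prime)).two_le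
  have hp' : CharP k⟦X⟧ p := charP_of_injective_ringHom (f := (C : k →+* k⟦X⟧)) C_injective p
  obtain ⟨r, hr, hr0, hr1⟩ := exists_root n hnk (-(X ^ n) ^ (q + 1)) (by simp [hn.ne'])
  refine ⟨r, hr0, ?_, ?_⟩
  · refine dvd_trans ?_ hr1
    rw [dvd_neg, pow_succ']
    exact dvd_mul_right _ _
  · refine root_unique n hnk ?_ (by simp [hr0, hu1]) ?_
    · obtain ⟨c, hc⟩ := hr1
      rw [sub_eq_iff_eq_add] at hc
      simp [hc, substAlgHom_X, hn.ne']
    have hT : sig u (X ^ n) = X ^ n * u ^ n := by rw [map_pow, substAlgHom_X, mul_pow]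
    have hF : (1 + X ^ n : k⟦X⟧) ^ p = 1 + (X ^ n) ^ p := by rw [add_pow_char, one_pow]
    have hU : (u ^ n) ^ p * (1 + (X ^ n) ^ p) = 1 := by rw [← hF, ← mul_pow, hun, one_pow]
    rw [← map_pow, hr, mul_pow, hr, map_add, map_one, map_neg, map_pow, hT, ← pow_mul u p n, mul_comm p n,
      pow_mul u n p]
    set T : k⟦X⟧ := X ^ n
    set w := u ^ n
    rw [hq] at hU ⊢
    linear_combination -hU + (T * w) ^ (q + 1) * hun

include hu1 hun hnk in
/-- `u` is `1 + (-1/n) t^n` up to order `n`. -/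
lemma exists_expansion (hn : 0 < n) : ∃ w : k⟦X⟧, u = 1 + X ^ n * w ∧ constantCoeff w ≠ 0 := by
  have e := geom_sum_mul u n
  have e2 : (∑ i ∈ Finset.range n, u ^ i) * (u - 1) = -(u ^ n * X ^ n) := by
    rw [e]; linear_combination hun
  have hunit : IsUnit (∑ i ∈ Finset.range n, u ^ i) := by
    rw [isUnit_iff_constantCoeff]
    simp [hu1, hnk]
  refine ⟨-(↑hunit.unit⁻¹ * u ^ n), ?_, ?_⟩
  · have := congrArg ((↑hunit.unit⁻¹ : k⟦X⟧) * ·) e2
    simp only [← mul_assoc, IsUnit.val_inv_mul, one_mul] at this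
    linear_combination this
  · simp [hu1]
    intro h
    exact hnk h

include hu1 hun hnk in
lemma pow_succ_dvd_sigma_sub (hn : 0 < n) (G : k⟦X⟧) : X ^ (n + 1) ∣ sig u G - G := by
  obtain ⟨w, hw, -⟩ := exists_expansion n u hu1 hun hnk hn
  suffices ∀ j ≤ n + 1, ∀ G : k⟦X⟧, X ^ j ∣ sig u G - G from this _ le_rfl G
  intro j
  induction j with
  | zero => simp
  | succ j ih =>
    intro hj G
    obtain ⟨G', hG⟩ : X ∣ G - C (constantCoeff G) := X_dvd_iff.2 (by simp)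
    have hG2 : G = C (constantCoeff G) + X * G' := by rw [← hG]; ring
    have hC : sig u (C (constantCoeff G)) = C (constantCoeff G) := by
      rw [← algebraMap_eq]; exact AlgHom.commutes _ _
    have : sig u G - G = X * (sig u G' - G') + X ^ (n + 1) * (w * sig u G') := by
      conv_lhs => rw [hG2]
      rw [map_add, hC, map_mul, substAlgHom_X]
      linear_combination (X * sig u G') * hw
    rw [this]
    refine dvd_add ?_ ((pow_dvd_pow X hj).trans (dvd_mul_right _ _))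
    rw [pow_succ']
    exact mul_dvd_mul_left X (ih (by omega) G')

include hu1 hun hnk in
lemma zpow_expansion (hn : 0 < n) (hu : IsUnit u) :
    ∃ w : k⟦X⟧, constantCoeff w ≠ 0 ∧ ∀ z : ℤ,
      X ^ (n + 1) ∣ ((hu.unit ^ z : k⟦X⟧ˣ) : k⟦X⟧) - (1 + (z : k⟦X⟧) * (X ^ n * w)) := by
  obtain ⟨w, hw, hw0⟩ := exists_expansion n u hu1 hun hnk hn
  have hsq : X ^ (n + 1) ∣ X ^ n * w * (X ^ n * w) := by
    refine (pow_dvd_pow X (show n + 1 ≤ n + n by omega)).trans ⟨w * w, ?_⟩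
    ring
  refine ⟨w, hw0, fun z => ?_⟩
  induction z using Int.induction_on with
  | zero => simp
  | succ i ih =>
    obtain ⟨b, hb⟩ := ih
    obtain ⟨c, hc⟩ := hsq
    refine ⟨b * u + (i : k⟦X⟧) * c, ?_⟩
    rw [zpow_add_one, Units.val_mul, IsUnit.unit_spec]
    push_cast at hb ⊢
    linear_combination u * hb + (i : k⟦X⟧) * hc + (1 + (i : k⟦X⟧) * (X ^ n * w)) * hw
  | pred i ih =>
    obtain ⟨b, hb⟩ := ih
    obtain ⟨c, hc⟩ := hsq
    have h1 : X ^ (n + 1) ∣ ((hu.unit ^ (-(i : ℤ) - 1) : k⟦X⟧ˣ) : k⟦X⟧) * u -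
        (1 + ((-(i : ℤ) - 1 : ℤ) : k⟦X⟧) * (X ^ n * w)) * u := by
      refine ⟨b + ((i : k⟦X⟧) + 1) * c, ?_⟩
      have e : ((hu.unit ^ (-(i : ℤ) - 1) : k⟦X⟧ˣ) : k⟦X⟧) * u = ((hu.unit ^ (-(i : ℤ)) : k⟦X⟧ˣ) : k⟦X⟧) := by
        rw [zpow_sub_one, Units.val_mul, mul_assoc]
        simp [IsUnit.val_inv_mul]
      rw [e]
      push_cast at hb ⊢
      linear_combination hb + ((i : k⟦X⟧) + 1) * hc + (-(1 + (-(i : k⟦X⟧) - 1) * (X ^ n * w))) * hw
    rw [← sub_mul] at h1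
    exact hu.dvd_mul_right.1 h1

end Groth.Misc6.AS
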