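import Mathlib
import Groth.Agent.Misc6.ASAuto

/-! `H¹` of the local Artin–Schreier action on `t^b k⟦t⟧`. -/

set_option autoImplicit false
open PowerSeries

namespace Groth.Misc6.AS

variable {k : Type*} [Field k] (n : ℕ) (u : k⟦X⟧)

/-- `u ^ z`. -/
noncomputable def U (hu : IsUnit u) (z : ℤ) : k⟦X⟧ := ((hu.unit ^ z : k⟦X⟧ˣ) : k⟦X⟧)

variable (hu : IsUnit u)

lemma U_add (x y : ℤ) : U u hu (x + y) = U u hu x * U u hu y := by simp only [U, zpow_add, Units.val_mul]

lemma U_natCast (m : ℕ) : U u hu (m : ℤ) = u ^ m := by simp [U]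

lemma U_zero : U u hu 0 = 1 := by simp [U]

/-- `h ↦ u^b σ h`. -/
noncomputable def tau (b : ℤ) : Module.End k k⟦X⟧ :=
  (LinearMap.mulLeft k (U u hu b)).comp (sig u).toLinearMap

lemma tau_apply (b : ℤ) (h : k⟦X⟧) : tau u hu b h = U u hu b * sig u h := rfl

/-- `τ - 1`. -/
noncomputable def dif (b : ℤ) : Module.End k k⟦X⟧ := tau u hu b - 1

lemma dif_apply (b : ℤ) (h : k⟦X⟧) : dif u hu b h = U u hu b * sig u h - h := rfl

/-- The norm `∑ τ^i`. -/
noncomputable def nrm (p : ℕ) (b : ℤ) : Module.End k k⟦X⟧ := ∑ i ∈ Finset.range p, tau u hu b ^ i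

lemma dif_X_pow_mul (b : ℤ) (m : ℕ) (h : k⟦X⟧) :
    dif u hu b (X ^ m * h) = X ^ m * dif u hu (b + m) h := by
  simp only [dif_apply, map_mul, map_pow, substAlgHom_X, mul_pow, U_add, U_natCast]
  ring

lemma tau_X_pow_mul (b : ℤ) (m : ℕ) (h : k⟦X⟧) :
    tau u hu b (X ^ m * h) = X ^ m * tau u hu (b + m) h := by
  simp only [tau_apply, map_mul, map_pow, substAlgHom_X, mul_pow, U_add, U_natCast]
  ring

lemma tau_pow_X_pow_mul (b : ℤ) (m : ℕ) (i : ℕ) (h : k⟦X⟧) :
    (tau u hu b ^ i) (X ^ m * h) = X ^ m * (tau u hu (b + m) ^ i) h := by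
  induction i with
  | zero => simp
  | succ i ih => rw [pow_succ', pow_succ', Module.End.mul_apply, ih, tau_X_pow_mul, Module.End.mul_apply]

lemma nrm_X_pow_mul (p : ℕ) (b : ℤ) (m : ℕ) (h : k⟦X⟧) :
    nrm u hu p b (X ^ m * h) = X ^ m * nrm u hu p (b + m) h := by
  simp only [nrm, LinearMap.sum_apply, tau_pow_X_pow_mul, Finset.mul_sum]

variable (p : ℕ) [Fact p.Prime] [CharP k p]
variable (hu1 : constantCoeff u = 1) (hun : u ^ n * (1 + X ^ n) = 1) (hnk : (n : k) ≠ 0) (hn : 0 < n)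

include hu1 hun hnk hn in
lemma tau_pow_prime (b : ℤ) : tau u hu b ^ p = 1 := by
  -- `σ^i X = X * W i`, `τ^i h = (W i)^b σ^i h`
  have key : ∀ i : ℕ, ∃ W : k⟦X⟧ˣ, constantCoeff (W : k⟦X⟧) = 1 ∧
      (W : k⟦X⟧) ^ n * (1 + (i : k⟦X⟧) * X ^ n) = 1 ∧
      ((sig u)^[i]) X = (X : k⟦X⟧) * (W : k⟦X⟧) ∧
      ∀ h, (tau u hu b ^ i) h = ((W ^ b : k⟦X⟧ˣ) : k⟦X⟧) * ((sig u)^[i]) h := by
    intro i
    induction i with
    | zero => exact ⟨1, by simp, by simp, by simp, fun h => by simp⟩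
    | succ i ih =>
      obtain ⟨W, h0, h1, h2, h3⟩ := ih
      refine ⟨hu.unit * Units.map (sig u).toMonoidHom W, ?_, ?_, ?_, fun h => ?_⟩
      · simp only [Units.val_mul, IsUnit.unit_spec, Units.coe_map, map_mul, hu1, one_mul]
        show constantCoeff (sig u (W : k⟦X⟧)) = 1
        obtain ⟨c, hc⟩ : X ∣ (W : k⟦X⟧) - 1 := X_dvd_iff.2 (by simp [h0])
        rw [sub_eq_iff_eq_add] at hc
        simp [hc, substAlgHom_X]
      · have h4 := congrArg (sig u) h1
        simp only [map_mul, map_add, map_one, map_pow, map_natCast, substAlgHom_X, mul_pow] at h4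
        simp only [Units.val_mul, IsUnit.unit_spec, Units.coe_map, mul_pow]
        show u ^ n * (sig u (W : k⟦X⟧)) ^ n * _ = 1
        push_cast
        linear_combination h4 + (sig u (W : k⟦X⟧)) ^ n * hun
      · rw [Function.iterate_succ_apply', h2, map_mul, substAlgHom_X]
        simp only [Units.val_mul, IsUnit.unit_spec, Units.coe_map, mul_assoc]
        rfl
      · rw [pow_succ', Module.End.mul_apply, h3, tau_apply, map_mul, Function.iterate_succ_apply',
          mul_zpow, Units.val_mul, ← map_zpow, Units.coe_map, ← mul_assoc]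
        rfl
  obtain ⟨W, h0, h1, h2, h3⟩ := key p
  have hp' : CharP k⟦X⟧ p := charP_of_injective_ringHom (f := (C : k →+* k⟦X⟧)) C_injective p
  rw [CharP.cast_eq_zero, zero_mul, add_zero, mul_one] at h1
  have hW : (W : k⟦X⟧) = 1 := root_unique n hnk h0 (by simp) (by rw [h1, one_pow])
  have hW' : W = 1 := Units.ext hW
  subst hW'
  rw [Units.val_one, mul_one] at h2
  refine LinearMap.ext fun h => ?_
  rw [h3, one_zpow, Units.val_one, one_mul, Module.End.one_apply]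
  have hit : ∀ i : ℕ, ((sig u)^[i]) h = ((sig u) ^ i) h := fun i => by rw [AlgHom.coe_pow]
  have : (sig u) ^ p = AlgHom.id k k⟦X⟧ := Groth.Misc6.psEnd_ext (by
    rw [← h2.trans rfl]
    simp [AlgHom.coe_pow, h2])
  rw [hit, this, AlgHom.id_apply]

include hu1 hun hnk hn in
lemma nrm_dif (b : ℤ) (h : k⟦X⟧) : nrm u hu p b (dif u hu b h) = 0 := by
  have e := geom_sum_mul (tau u hu b) p
  rw [tau_pow_prime n u hu p hu1 hun hnk hn b, sub_self] at e
  exact LinearMap.congr_fun e h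

lemma nrm_eq_dif_pow (b : ℤ) (h : k⟦X⟧) : nrm u hu p b h = (dif u hu b ^ (p - 1)) h := by
  have hpoly : (∑ i ∈ Finset.range p, (Polynomial.X : Polynomial k) ^ i) = (Polynomial.X - 1) ^ (p - 1) := by
    refine mul_right_cancel₀ (show (Polynomial.X - 1 : Polynomial k) ≠ 0 from
      (Polynomial.monic_X_sub_C 1).ne_zero) ?_
    rw [geom_sum_mul, ← pow_succ, Nat.sub_add_cancel (Fact.out (p := p.Prime)).one_le, sub_pow_char, one_pow]
  have := congrArg (Polynomial.aeval (tau u hu b)) hpoly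
  simp only [map_sum, map_pow, map_sub, Polynomial.aeval_X, map_one] at this
  exact LinearMap.congr_fun this h

/-- The coefficient of `t^n` in `u`. -/
noncomputable def w0 : k := coeff n u

include hu1 hun hnk hn in
lemma w0_ne : w0 n u ≠ 0 ∧ ∀ (b : ℤ) (d : ℕ) (h : k⟦X⟧), X ^ d ∣ h →
    X ^ (d + n) ∣ dif u hu b h ∧
      coeff (d + n) (dif u hu b h) = ((b + d : ℤ) : k) * w0 n u * coeff d h := by
  obtain ⟨w, hw0, hexp⟩ := zpow_expansion n u hu1 hun hnk hn hu
  have hw : w0 n u = constantCoeff w := by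
    obtain ⟨e, he⟩ := hexp 1
    rw [zpow_one, IsUnit.unit_spec, sub_eq_iff_eq_add] at he
    rw [w0, he]
    simp [coeff_X_pow_mul', coeff_one, hn.ne']
  refine ⟨hw ▸ hw0, fun b d h hd => ?_⟩
  obtain ⟨G, rfl⟩ := hd
  obtain ⟨e, he⟩ := hexp (b + d)
  obtain ⟨c, hc⟩ := pow_succ_dvd_sigma_sub n u hu1 hun hnk hn G
  change U u hu (b + d) - _ = _ at he
  have key : dif u hu (b + d) G = X ^ n * (((b + d : ℤ) : k⟦X⟧) * w * G +
      X * (e * sig u G + c + ((b + d : ℤ) : k⟦X⟧) * (X ^ n * w) * c)) := by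
    rw [dif_apply]
    linear_combination sig u G * he + (1 + ((b + d : ℤ) : k⟦X⟧) * (X ^ n * w)) * hc
  rw [dif_X_pow_mul, key, ← mul_assoc, ← pow_add]
  refine ⟨dvd_mul_right _ _, ?_⟩
  rw [coeff_X_pow_mul', if_pos le_rfl, Nat.sub_self, coeff_X_pow_mul', if_pos le_rfl, Nat.sub_self,
    coeff_zero_eq_constantCoeff_apply, coeff_zero_eq_constantCoeff_apply, hw]
  simp only [map_add, map_mul, map_intCast, constantCoeff_X, zero_mul, add_zero]

include hu1 hun hnk hn in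
lemma dif_pow_coeff (b : ℤ) (d : ℕ) (h : k⟦X⟧) (hd : X ^ d ∣ h) : ∀ i : ℕ,
    X ^ (d + i * n) ∣ (dif u hu b ^ i) h ∧
      coeff (d + i * n) ((dif u hu b ^ i) h) =
        (∏ l ∈ Finset.range i, ((b + d + l * n : ℤ) : k) * w0 n u) * coeff d h := by
  intro i
  induction i with
  | zero => simpa using hd
  | succ i ih =>
    rw [pow_succ', Module.End.mul_apply, Nat.add_mul, one_mul, ← Nat.add_assoc]
    obtain ⟨h1, h2⟩ := (w0_ne n u hu hu1 hun hnk hn).2 b _ _ ih.1
    refine ⟨h1, ?_⟩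
    rw [h2, ih.2, Finset.prod_range_succ]
    push_cast
    ring

include hu1 hun hnk hn in
/-- If the norm kills `z` of exact order `d` then `p ∤ b + d - n`. -/
lemma not_dvd_of_nrm_eq_zero (b : ℤ) {d : ℕ} {z : k⟦X⟧} (hd : X ^ d ∣ z) (hc : coeff d z ≠ 0)
    (hz : nrm u hu p b z = 0) : ¬ (p : ℤ) ∣ b + d - n := by
  intro hdvd
  obtain ⟨-, h2⟩ := dif_pow_coeff n u hu hu1 hun hnk hn b d z hd (p - 1)
  rw [← nrm_eq_dif_pow, hz, map_zero] at h2
  rcases mul_eq_zero.1 h2.symm with h3 | h3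
  swap
  · exact hc h3
  obtain ⟨l, hl, hl0⟩ := Finset.prod_eq_zero_iff.1 h3
  rcases mul_eq_zero.1 hl0 with h4 | h4
  swap
  · exact (w0_ne n u hu hu1 hun hnk hn).1 h4
  rw [CharP.intCast_eq_zero_iff k p] at h4
  rw [Finset.mem_range] at hl
  have h5 : (p : ℤ) ∣ ((l + 1 : ℕ) : ℤ) * (n : ℤ) := by
    rw [show ((l + 1 : ℕ) : ℤ) * (n : ℤ) = (b + d + l * n) - (b + d - n) by push_cast; ring]
    exact dvd_sub h4 hdvd
  rcases (Nat.prime_iff_prime_int.1 (Fact.out (p := p.Prime))).dvd_or_dvd h5 with h6 | h6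
  · rw [Int.natCast_dvd_natCast] at h6
    have := Nat.le_of_dvd (by omega) h6
    omega
  · rw [Int.natCast_dvd_natCast] at h6
    exact hnk ((CharP.cast_eq_zero_iff k p n).2 h6)

include hu1 hun hnk hn in
lemma exists_class (b : ℤ) (m : ℕ) (hm : m ≤ n) : ∃ c : k⟦X⟧,
    X ^ m * c = U u hu (b - m) - 1 ∧ X ^ (n - m) ∣ c ∧
      coeff (n - m) c = ((b - m : ℤ) : k) * w0 n u ∧ nrm u hu p b c = 0 := by
  have h0 : X ^ 0 ∣ (1 : k⟦X⟧) := by simp
  obtain ⟨h1, h2⟩ := (w0_ne n u hu hu1 hun hnk hn).2 (b - m) 0 1 h0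
  have e : dif u hu (b - m) 1 = U u hu (b - m) - 1 := by rw [dif_apply, map_one, mul_one]
  rw [Nat.zero_add] at h1 h2
  obtain ⟨G, hG⟩ := h1
  have hc : X ^ m * (X ^ (n - m) * G) = dif u hu (b - m) 1 := by
    rw [← mul_assoc, ← pow_add, Nat.add_sub_cancel' hm, hG]
  refine ⟨X ^ (n - m) * G, by rw [hc, e], dvd_mul_right _ _, ?_, ?_⟩
  · rw [hG, coeff_X_pow_mul', if_pos le_rfl, Nat.sub_self] at h2
    rw [coeff_X_pow_mul', if_pos le_rfl, Nat.sub_self, h2]
    simp
  · have h3 := nrm_dif n u hu p hu1 hun hnk hn (b - m) 1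
    rw [← hc, nrm_X_pow_mul, sub_add_cancel] at h3
    exact (mul_eq_zero.1 h3).resolve_left (pow_ne_zero _ X_ne_zero)

open Classical in
/-- The class of `t^(b-m)`. -/
noncomputable def cls (b : ℤ) (m : ℕ) : k⟦X⟧ :=
  if h : m ≤ n ∧ n ≠ 0 ∧ (n : k) ≠ 0 ∧ constantCoeff u = 1 ∧ u ^ n * (1 + X ^ n) = 1 then
    Classical.choose (exists_class n u hu p h.2.2.2.1 h.2.2.2.2 h.2.2.1 (Nat.pos_of_ne_zero h.2.1) b m h.1)
  else 0

include hu1 hun hnk hn in
lemma cls_spec (b : ℤ) (m : ℕ) (hm : m ≤ n) :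
    X ^ m * cls n u hu p b m = U u hu (b - m) - 1 ∧ X ^ (n - m) ∣ cls n u hu p b m ∧
      coeff (n - m) (cls n u hu p b m) = ((b - m : ℤ) : k) * w0 n u ∧
      nrm u hu p b (cls n u hu p b m) = 0 := by
  rw [cls, dif_pos ⟨hm, hn.ne', hnk, hu1, hun⟩]
  exact Classical.choose_spec (exists_class n u hu p hu1 hun hnk hn b m hm)

/-- The index set of the basis. -/
def idx (b : ℤ) : Finset ℕ := (Finset.Icc 1 n).filter (fun m : ℕ => ¬ (p : ℤ) ∣ b - (m : ℤ))

omit [Fact p.Prime] in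
lemma mem_idx {b : ℤ} {m : ℕ} : m ∈ idx n p b ↔ (1 ≤ m ∧ m ≤ n) ∧ ¬ (p : ℤ) ∣ b - (m : ℤ) := by
  simp [idx]

/-- The combination of the classes. -/
noncomputable def comb (b : ℤ) : (idx n p b → k) →ₗ[k] k⟦X⟧ :=
  Fintype.linearCombination k (fun m : idx n p b => cls n u hu p b m)

include hu1 hun hnk hn in
lemma nrm_comb (b : ℤ) (l : idx n p b → k) : nrm u hu p b (comb n u hu p b l) = 0 := by
  rw [comb, Fintype.linearCombination_apply, map_sum]
  refine Finset.sum_eq_zero fun m _ => ?_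
  rw [map_smul, (cls_spec n u hu p hu1 hun hnk hn b m ((mem_idx n p).1 m.2).1.2).2.2.2, smul_zero]

include hu1 hun hnk hn in
lemma comb_indep (b : ℤ) (l : idx n p b → k) (h : k⟦X⟧) (e : comb n u hu p b l = dif u hu b h) : l = 0 := by
  classical
  by_contra hl
  obtain ⟨m₀, hm₀⟩ : ∃ m, l m ≠ 0 := Function.ne_iff.1 hl
  have hne : (Finset.univ.filter fun m => l m ≠ 0).Nonempty := ⟨m₀, by simp [hm₀]⟩
  obtain ⟨m, hm, hmax⟩ := Finset.exists_max_image _ (fun m : idx n p b => (m : ℕ)) hne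
  rw [Finset.mem_filter] at hm
  have hmI := (mem_idx n p).1 m.2
  obtain ⟨h1, -⟩ := (w0_ne n u hu hu1 hun hnk hn).2 b 0 h (by simp)
  rw [Nat.zero_add, X_pow_dvd_iff] at h1
  have h2 := h1 (n - m) (by omega)
  rw [← e, comb, Fintype.linearCombination_apply, map_sum, Finset.sum_eq_single m] at h2
  · rw [map_smul, (cls_spec n u hu p hu1 hun hnk hn b m hmI.1.2).2.2.1, smul_eq_mul] at h2
    have h3 : ((b - (m : ℕ) : ℤ) : k) ≠ 0 := by
      rw [Ne, CharP.intCast_eq_zero_iff k p]; exact hmI.2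
    exact mul_ne_zero hm.2 (mul_ne_zero h3 (w0_ne n u hu hu1 hun hnk hn).1) h2
  · intro m' _ hne'
    by_cases hz : l m' = 0
    · simp [hz]
    have hle := hmax m' (by simp [hz])
    have hlt : (m' : ℕ) < (m : ℕ) := lt_of_le_of_ne hle fun he => hne' (Subtype.ext he)
    obtain ⟨-, hdiv, -, -⟩ := cls_spec n u hu p hu1 hun hnk hn b m' ((mem_idx n p).1 m'.2).1.2
    rw [map_smul, X_pow_dvd_iff.1 hdiv _ (by omega), smul_zero]
  · intro h; exact absurd (Finset.mem_univ m) h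

include hu1 hun hnk hn in
lemma comb_span (b : ℤ) (z : k⟦X⟧) (hz : nrm u hu p b z = 0) :
    ∃ l h, z = comb n u hu p b l + dif u hu b h := by
  obtain ⟨hw, hdif⟩ := w0_ne n u hu hu1 hun hnk hn
  -- first kill the coefficients below `n`
  obtain ⟨l, hl⟩ : ∃ l, X ^ n ∣ z - comb n u hu p b l := by
    suffices ∀ j ≤ n, ∃ l, X ^ j ∣ z - comb n u hu p b l from this n le_rfl
    intro j
    induction j with
    | zero => exact fun _ => ⟨0, by simp⟩
    | succ j ih =>
      intro hj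
      obtain ⟨l, hl⟩ := ih (by omega)
      by_cases hc : coeff j (z - comb n u hu p b l) = 0
      · refine ⟨l, X_pow_dvd_iff.2 fun i hi => ?_⟩
        rcases Nat.lt_succ_iff_lt_or_eq.1 hi with h | h
        · exact X_pow_dvd_iff.1 hl i h
        · exact h ▸ hc
      have hnd := not_dvd_of_nrm_eq_zero n u hu p hu1 hun hnk hn b hl hc
        (by rw [map_sub, hz, nrm_comb n u hu p hu1 hun hnk hn, sub_zero])
      have hmI : n - j ∈ idx n p b := by
        rw [mem_idx]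
        refine ⟨⟨by omega, by omega⟩, fun h => hnd ?_⟩
        rwa [show b + (j : ℤ) - n = b - ((n - j : ℕ) : ℤ) by omega]
      obtain ⟨-, hd2, hd3, -⟩ := cls_spec n u hu p hu1 hun hnk hn b (n - j) (by omega)
      rw [show n - (n - j) = j by omega] at hd2 hd3
      have h3 : ((b - ((n - j : ℕ) : ℤ) : ℤ) : k) * w0 n u ≠ 0 := by
        refine mul_ne_zero ?_ hw
        rw [Ne, CharP.intCast_eq_zero_iff k p]
        exact ((mem_idx n p).1 hmI).2
      set c := cls n u hu p b (n - j)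
      set v := coeff j (z - comb n u hu p b l) / (((b - ((n - j : ℕ) : ℤ) : ℤ) : k) * w0 n u)
      refine ⟨l + Pi.single ⟨n - j, hmI⟩ v, ?_⟩
      have e : comb n u hu p b (l + Pi.single ⟨n - j, hmI⟩ v) = comb n u hu p b l + v • c := by
        rw [map_add, comb, Fintype.linearCombination_apply_single]
      rw [e, X_pow_dvd_iff]
      intro i hi
      rw [← sub_sub, map_sub, map_smul]
      rcases Nat.lt_succ_iff_lt_or_eq.1 hi with h | h
      · rw [X_pow_dvd_iff.1 hl i h, X_pow_dvd_iff.1 hd2 i h, smul_zero, sub_zero]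
      · subst h
        rw [hd3, smul_eq_mul, div_mul_cancel₀ _ h3, sub_self]
  set y := z - comb n u hu p b l with hy
  have hy0 : nrm u hu p b y = 0 := by rw [hy, map_sub, hz, nrm_comb n u hu p hu1 hun hnk hn, sub_zero]
  -- successive approximation of a preimage under `τ - 1`
  have step : ∀ (e : ℕ) (h : k⟦X⟧), X ^ (e + n) ∣ y - dif u hu b h →
      ∃ h', (∀ i < e, coeff i h' = coeff i h) ∧ X ^ (e + 1 + n) ∣ y - dif u hu b h' := by
    intro e h he
    set y' := y - dif u hu b h with hy'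
    have key : ∀ v : k, v • (((b + e : ℤ) : k) * w0 n u) = coeff (e + n) y' →
        X ^ (e + 1 + n) ∣ y - dif u hu b (h + v • X ^ e) := by
      intro v hv
      obtain ⟨h1, h2⟩ := hdif b e (X ^ e) dvd_rfl
      rw [coeff_X_pow, if_pos rfl, mul_one] at h2
      rw [map_add, map_smul, ← sub_sub, ← hy', X_pow_dvd_iff]
      intro i hi
      rw [map_sub, map_smul]
      rcases Nat.lt_or_ge i (e + n) with h' | h'
      · rw [X_pow_dvd_iff.1 he i h', X_pow_dvd_iff.1 h1 i h', smul_zero, sub_zero]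
      · rw [show i = e + n by omega, h2, hv, sub_self]
    by_cases hc : coeff (e + n) y' = 0
    · refine ⟨h + (0 : k) • X ^ e, fun i hi => ?_, key 0 (by rw [hc, zero_smul])⟩
      simp
    have hnd := not_dvd_of_nrm_eq_zero n u hu p hu1 hun hnk hn b he hc
      (by rw [hy', map_sub, hy0, nrm_dif n u hu p hu1 hun hnk hn, sub_zero])
    have h3 : ((b + e : ℤ) : k) * w0 n u ≠ 0 := by
      refine mul_ne_zero ?_ hw
      rw [Ne, CharP.intCast_eq_zero_iff k p]
      intro h'; apply hnd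
      rwa [show b + ((e + n : ℕ) : ℤ) - n = b + e by push_cast; ring]
    refine ⟨h + (coeff (e + n) y' / (((b + e : ℤ) : k) * w0 n u)) • X ^ e, fun i hi => ?_,
      key _ (by rw [smul_eq_mul, div_mul_cancel₀ _ h3])⟩
    rw [map_add, map_smul, coeff_X_pow, if_neg hi.ne, smul_zero, add_zero]
  choose f hf1 hf2 using step
  let seq : (e : ℕ) → {h : k⟦X⟧ // X ^ (e + n) ∣ y - dif u hu b h} := fun e =>
    Nat.rec ⟨0, by simpa using hl⟩ (fun e h => ⟨f e h.1 h.2, hf2 e h.1 h.2⟩) e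
  refine ⟨l, mk fun i => coeff i (seq (i + 1)).1, ?_⟩
  set H := mk fun i => coeff i (seq (i + 1)).1
  have hstab : ∀ e i, i < e → coeff i (seq e).1 = coeff i H := by
    intro e
    induction e with
    | zero => intro i hi; omega
    | succ e ih =>
      intro i hi
      rcases Nat.lt_succ_iff_lt_or_eq.1 hi with h | h
      · rw [show (seq (e + 1)).1 = f e (seq e).1 (seq e).2 from rfl, hf1 e _ _ i h, ih i h]
      · subst h; simp [H]
  have : y - dif u hu b H = 0 := by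
    ext i
    have h1 : X ^ (i + 1) ∣ (seq (i + 1)).1 - H := X_pow_dvd_iff.2 fun j hj => by
      rw [map_sub, hstab _ _ hj, sub_self]
    have h2 := (hdif b (i + 1) _ h1).1
    have h4 : y - dif u hu b H = (y - dif u hu b (seq (i + 1)).1) + dif u hu b ((seq (i + 1)).1 - H) := by
      rw [map_sub]; ring
    rw [h4, map_add, X_pow_dvd_iff.1 (seq (i + 1)).2 i (by omega), X_pow_dvd_iff.1 h2 i (by omega)]
    simp
  rw [← sub_eq_zero.1 this, hy]
  ring

end Groth.Misc6.AS
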