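import Mathlib

/-! One-cocycles of a cyclic group of order `p` are determined by the value at the generator. -/

set_option autoImplicit false
universe u
open CategoryTheory groupCohomology

namespace Groth.Misc6.CyclicH1

variable {k G : Type u} [CommRing k] [Group G] [Finite G] (A : Rep k G) (g : G)
  (hg : ∀ x : G, x ∈ Subgroup.zpowers g)

/-- Partial norms. -/
noncomputable def part (z : A.V) (i : ℕ) : A.V := ∑ l ∈ Finset.range i, (A.ρ g ^ l) z

lemma part_add (z : A.V) (i j : ℕ) : part A g z (i + j) = part A g z i + (A.ρ g ^ i) (part A g z j) := by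
  simp only [part, Finset.sum_range_add, map_sum, pow_add, Module.End.mul_apply]

include hg in
lemma exists_pow (x : G) : ∃ i : ℕ, g ^ i = x := by
  obtain ⟨i, hi⟩ := (mem_powers_iff_mem_zpowers.2 (hg x))
  exact ⟨i, hi⟩

include hg in
lemma orderOf_eq : orderOf g = Nat.card G := orderOf_eq_card_of_forall_mem_zpowers hg

lemma part_mul_card (z : A.V) (h : part A g z (orderOf g) = 0) (q : ℕ) : part A g z (orderOf g * q) = 0 := by
  induction q with
  | zero => simp [part]
  | succ q ih => rw [Nat.mul_succ, part_add, ih, h, map_zero, add_zero]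

lemma part_mod (z : A.V) (h : part A g z (orderOf g) = 0) (i : ℕ) :
    part A g z i = part A g z (i % orderOf g) := by
  conv_lhs => rw [← Nat.mod_add_div i (orderOf g), part_add, part_mul_card A g z h, map_zero, add_zero]

include hg in
lemma exists_cocycle (z : A.V) (h : part A g z (orderOf g) = 0) : ∃ f : cocycles₁ A, f g = z := by
  classical
  let f : G → A.V := fun x => part A g z (Nat.find (exists_pow g hg x))
  have hf : ∀ i : ℕ, f (g ^ i) = part A g z i := fun i => by
    have := Nat.find_spec (exists_pow g hg (g ^ i))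
    rw [pow_eq_pow_iff_modEq] at this
    simp only [f]
    rw [part_mod A g z h, this, ← part_mod A g z h]
  refine ⟨⟨f, (mem_cocycles₁_iff f).2 fun x y => ?_⟩, ?_⟩
  · obtain ⟨i, rfl⟩ := exists_pow g hg x
    obtain ⟨j, rfl⟩ := exists_pow g hg y
    rw [← pow_add, hf, hf, hf, part_add, map_pow, add_comm]
  · have := hf 1
    rw [pow_one] at this
    simpa [part] using this

omit [Finite G] in
include hg in
lemma cocycle_ext_of_finite [Finite G] {f f' : cocycles₁ A} (h : f g = f' g) : f = f' := by
  refine cocycles₁_ext fun x => ?_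
  obtain ⟨i, rfl⟩ := exists_pow g hg x
  induction i with
  | zero => simp
  | succ i ih => rw [pow_succ, (mem_cocycles₁_iff f).1 f.2, (mem_cocycles₁_iff f').1 f'.2, ih, h]

lemma cocycle_pow (f : cocycles₁ A) (i : ℕ) : f (g ^ i) = part A g (f g) i := by
  induction i with
  | zero => simp [part]
  | succ i ih =>
    rw [pow_succ', (mem_cocycles₁_iff f).1 f.2, ih, Nat.add_comm i 1, part_add]
    simp [part, add_comm]

lemma part_cocycle (f : cocycles₁ A) : part A g (f g) (orderOf g) = 0 := by
  rw [← cocycle_pow, pow_orderOf_eq_one, cocycles₁_map_one]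

include hg in
lemma exists_linear {V : Type*} [AddCommGroup V] [Module k V] (C : V →ₗ[k] A.V)
    (hC : ∀ v, part A g (C v) (orderOf g) = 0) :
    ∃ L : V →ₗ[k] cocycles₁ A, ∀ v, (L v) g = C v := by
  choose f hf using fun v => exists_cocycle A g hg (C v) (hC v)
  refine ⟨{ toFun := f, map_add' := fun v w => ?_, map_smul' := fun c v => ?_ }, hf⟩
  · refine cocycle_ext_of_finite A g hg ?_
    rw [hf, map_add, ← hf v, ← hf w]; rfl
  · refine cocycle_ext_of_finite A g hg ?_
    rw [hf, map_smul, ← hf v]; rfl

include hg in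
lemma H1π_eq_zero_iff_exists (f : cocycles₁ A) : H1π A f = 0 ↔ ∃ v, A.ρ g v - v = f g := by
  rw [H1π_eq_zero_iff]
  constructor
  · rintro ⟨v, hv⟩
    exact ⟨v, congrFun hv g⟩
  · rintro ⟨v, hv⟩
    have : f = ⟨_, d₀₁_apply_mem_cocycles₁ v⟩ := cocycle_ext_of_finite A g hg hv.symm
    rw [this]
    exact ⟨v, rfl⟩

end Groth.Misc6.CyclicH1
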