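import Mathlib
import Groth.Agent.Misc6.ASCoh
import Groth.Agent.Misc6.CyclicH1

/-! `H¹(ℤ/p, t^b k⟦t⟧)` for the Artin–Schreier action. -/

set_option autoImplicit false
universe u
open PowerSeries CategoryTheory groupCohomology

namespace Groth.Misc6.AS

variable {k G : Type u} [Field k] [Group G] [Finite G] (n : ℕ) (u : k⟦X⟧) (hu : IsUnit u)
  (p : ℕ) [Fact p.Prime] [CharP k p]
  (hu1 : constantCoeff u = 1) (hun : u ^ n * (1 + X ^ n) = 1) (hnk : (n : k) ≠ 0) (hn : 0 < n)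
  (g : G) (hG : Nat.card G = p) (hg : ∀ x : G, x ∈ Subgroup.zpowers g)

include hG hg in
lemma part_eq_nrm (b : ℤ) (ρ : Representation k G k⟦X⟧) (hρ : ρ g = tau u hu b) (z : k⟦X⟧) :
    CyclicH1.part (Rep.of ρ) g z (orderOf g) = nrm u hu p b z := by
  rw [orderOf_eq_card_of_forall_mem_zpowers hg, hG]
  simp only [CyclicH1.part, nrm, LinearMap.sum_apply]
  refine Finset.sum_congr rfl fun i _ => ?_
  show (ρ g ^ i) z = _
  rw [hρ]

include hu1 hun hnk hn hG hg in
theorem exists_H1_equiv (b : ℤ) (ρ : Representation k G k⟦X⟧) (hρ : ρ g = tau u hu b) :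
    ∃ (Ψ : (idx n p b → k) →ₗ[k] H1 (Rep.of ρ)), Function.Bijective Ψ ∧
      (∀ l (f : cocycles₁ (Rep.of ρ)), f g = comb n u hu p b l → Ψ l = H1π (Rep.of ρ) f) ∧
      ∀ f : cocycles₁ (Rep.of ρ), (∃ v, f g = dif u hu b v) → H1π (Rep.of ρ) f = 0 := by
  have hd : ∀ v, ρ g v - v = dif u hu b v := fun v => by rw [hρ]; rfl
  obtain ⟨L, hL⟩ := CyclicH1.exists_linear (Rep.of ρ) g hg (comb n u hu p b) fun v => by
    rw [part_eq_nrm u hu p g hG hg b ρ hρ, nrm_comb n u hu p hu1 hun hnk hn]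
  have hzero : ∀ f : cocycles₁ (Rep.of ρ), (∃ v, f g = dif u hu b v) → H1π (Rep.of ρ) f = 0 := by
    rintro f ⟨v, hv⟩
    exact (CyclicH1.H1π_eq_zero_iff_exists (Rep.of ρ) g hg f).2 ⟨v, (hd v).trans hv.symm⟩
  refine ⟨(H1π (Rep.of ρ)).hom ∘ₗ L, ⟨?_, ?_⟩, fun l f hf => ?_, hzero⟩
  · rw [injective_iff_map_eq_zero]
    intro l hl
    obtain ⟨v, hv⟩ := (CyclicH1.H1π_eq_zero_iff_exists (Rep.of ρ) g hg (L l)).1 hl
    exact comb_indep n u hu p hu1 hun hnk hn b l v ((hL l).symm.trans (hv.symm.trans (hd v)))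
  · intro x
    induction x using H1_induction_on with
    | h f =>
      obtain ⟨l, h, e⟩ := comb_span n u hu p hu1 hun hnk hn b (f g) (by
        rw [← part_eq_nrm u hu p g hG hg b ρ hρ]; exact CyclicH1.part_cocycle (Rep.of ρ) g f)
      refine ⟨l, ?_⟩
      symm
      rw [LinearMap.comp_apply, ← sub_eq_zero, ← map_sub]
      refine hzero _ ⟨h, ?_⟩
      show f g - (L l) g = _
      rw [hL, e, add_sub_cancel_left]
  · rw [LinearMap.comp_apply]
    congr 1
    exact CyclicH1.cocycle_ext_of_finite (Rep.of ρ) g hg ((hL l).trans hf.symm)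

omit [Fact p.Prime] in
lemma card_filter_dvd (hp : 0 < p) (b : ℤ) : ∀ m : ℕ,
    (((Finset.Icc 1 m).filter (fun i : ℕ => (p : ℤ) ∣ b - (i : ℤ))).card : ℤ) =
      (b - 1) / p - (b - 1 - m) / p := by
  intro m
  induction m with
  | zero => simp
  | succ m ih =>
    rw [show Finset.Icc 1 (m + 1) = insert (m + 1) (Finset.Icc 1 m) by ext; simp; omega, Finset.filter_insert]
    have hs := Int.emod_add_mul_ediv (b - 1 - m) p
    have h1 := Int.emod_nonneg (b - 1 - m) (show (p : ℤ) ≠ 0 by omega)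
    have h2 := Int.emod_lt_of_pos (b - 1 - m) (show (0 : ℤ) < p by omega)
    set q := (b - 1 - m) / (p : ℤ)
    set r := (b - 1 - m) % (p : ℤ)
    have hx : (b - ((m + 1 : ℕ) : ℤ)) = r + p * q := by push_cast; linarith
    by_cases hdvd : (p : ℤ) ∣ b - ((m + 1 : ℕ) : ℤ)
    · rw [if_pos hdvd, Finset.card_insert_of_notMem (by simp), Nat.cast_add, ih, Nat.cast_one]
      have hr : r = 0 := by
        rw [hx, dvd_add_left (dvd_mul_right _ _)] at hdvd
        exact Int.eq_zero_of_dvd_of_nonneg_of_lt h1 h2 hdvd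
      have : (b - 1 - ((m + 1 : ℕ) : ℤ)) / (p : ℤ) = q - 1 := by
        rw [show b - 1 - ((m + 1 : ℕ) : ℤ) = (p - 1) + p * (q - 1) by push_cast at hx ⊢; linarith,
          Int.add_mul_ediv_left _ _ (by omega), Int.ediv_eq_zero_of_lt (by omega) (by omega), zero_add]
      rw [this]; ring
    · rw [if_neg hdvd, ih]
      have hr : r ≠ 0 := fun h => hdvd (by rw [hx, h, zero_add]; exact dvd_mul_right _ _)
      have : (b - 1 - ((m + 1 : ℕ) : ℤ)) / (p : ℤ) = q := by
        rw [show b - 1 - ((m + 1 : ℕ) : ℤ) = (r - 1) + p * q by push_cast at hx ⊢; linarith,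
          Int.add_mul_ediv_left _ _ (by omega), Int.ediv_eq_zero_of_lt (by omega) (by omega), zero_add]
      rw [this]

lemma card_idx (b : ℤ) : ((idx n p b).card : ℤ) = n - (b - 1) / p + (b - 1 - n) / p := by
  have h := Finset.card_filter_add_card_filter_not (s := Finset.Icc 1 n) (fun i : ℕ => (p : ℤ) ∣ b - (i : ℤ))
  rw [Nat.card_Icc, Nat.add_sub_cancel] at h
  have h1 := card_filter_dvd p (Fact.out (p := p.Prime)).pos b n
  unfold idx
  omega

end Groth.Misc6.AS
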