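import Mathlib
import Groth.Prelude.Def_W4c1arstab1appArSing

/-!
Structure of `k⟦x,y⟧/(y² - x^(r+1))`: every element is uniquely `a(x) + b(x) y`; endomorphisms are
determined by, and can be prescribed on, `x` and `y`; bijectivity from the linear parts.
-/

set_option autoImplicit false
universe u
open scoped BigOperators

namespace Groth.Misc6.Ar

open ArSing

variable (k : Type u) [Field k] (r : ℕ)

/-- The exponent `(m, l)`. -/
noncomputable def E (m l : ℕ) : Fin 2 →₀ ℕ := Finsupp.single 0 m + Finsupp.single 1 l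

@[simp] lemma E_zero (m l : ℕ) : E m l 0 = m := by simp [E]
@[simp] lemma E_one (m l : ℕ) : E m l 1 = l := by simp [E]

lemma E_eq (d : Fin 2 →₀ ℕ) : E (d 0) (d 1) = d := by
  ext i; fin_cases i <;> simp [E]

lemma E_le_iff {m l m' l' : ℕ} : E m l ≤ E m' l' ↔ m ≤ m' ∧ l ≤ l' := by
  refine ⟨fun h => ⟨by simpa using h 0, by simpa using h 1⟩, fun h i => ?_⟩
  fin_cases i
  · simpa using h.1
  · simpa using h.2

lemma E_sub {m l m' l' : ℕ} : E m' l' - E m l = E (m' - m) (l' - l) := by
  ext i; fin_cases i <;> simp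

variable {k}

open MvPowerSeries in
lemma coeff_X_zero_pow_mul (n m l : ℕ) (F : MvPowerSeries (Fin 2) k) :
    coeff (E m l) (X 0 ^ n * F) = if n ≤ m then coeff (E (m - n) l) F else 0 := by
  rw [X_pow_eq, coeff_monomial_mul, show Finsupp.single (0 : Fin 2) n = E n 0 by simp [E]]
  by_cases h : n ≤ m
  · rw [if_pos (E_le_iff.2 ⟨h, Nat.zero_le _⟩), if_pos h, one_mul, E_sub, Nat.sub_zero]
  · rw [if_neg (fun hh => h (E_le_iff.1 hh).1), if_neg h]

open MvPowerSeries in
lemma coeff_X_one_pow_mul (n m l : ℕ) (F : MvPowerSeries (Fin 2) k) :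
    coeff (E m l) (X 1 ^ n * F) = if n ≤ l then coeff (E m (l - n)) F else 0 := by
  rw [X_pow_eq, coeff_monomial_mul, show Finsupp.single (1 : Fin 2) n = E 0 n by simp [E]]
  by_cases h : n ≤ l
  · rw [if_pos (E_le_iff.2 ⟨Nat.zero_le _, h⟩), if_pos h, one_mul, E_sub, Nat.sub_zero]
  · rw [if_neg (fun hh => h (E_le_iff.1 hh).2), if_neg h]

variable (k) in
lemma hasSubst_X0 : PowerSeries.HasSubst (MvPowerSeries.X (0 : Fin 2) : MvPowerSeries (Fin 2) k) :=
  PowerSeries.HasSubst.of_constantCoeff_zero (MvPowerSeries.constantCoeff_X _)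

variable (k) in
/-- `a(t) ↦ a(x)`. -/
noncomputable def sx : PowerSeries k →ₐ[k] MvPowerSeries (Fin 2) k :=
  PowerSeries.substAlgHom (hasSubst_X0 k)

lemma coeff_sx (a : PowerSeries k) (m l : ℕ) :
    MvPowerSeries.coeff (E m l) (sx k a) = if l = 0 then PowerSeries.coeff m a else 0 := by
  classical
  rw [sx, PowerSeries.coe_substAlgHom, PowerSeries.coeff_subst (hasSubst_X0 k)]
  by_cases hl : l = 0
  · subst hl
    rw [finsum_eq_single _ m]
    · simp [MvPowerSeries.coeff_X_pow, E]
    · intro d hd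
      rw [MvPowerSeries.coeff_X_pow, if_neg, smul_zero]
      intro h
      exact hd (by simpa using (DFunLike.congr_fun h (0 : Fin 2)).symm)
  · rw [if_neg hl, finsum_eq_zero_of_forall_eq_zero]
    intro d
    rw [MvPowerSeries.coeff_X_pow, if_neg, smul_zero]
    intro h
    exact hl (by simpa using DFunLike.congr_fun h (1 : Fin 2))

lemma xMap_eq (a : PowerSeries k) : xMap k r a = Ideal.Quotient.mk _ (sx k a) := rfl

@[simp] lemma xMap_X : xMap k r PowerSeries.X = x k r := by
  rw [xMap_eq, sx, PowerSeries.substAlgHom_X]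

lemma y_sq : y k r * y k r = xMap k r (PowerSeries.X ^ (r + 1)) := by
  rw [map_pow, xMap_X, ← map_mul, ← map_pow, Ideal.Quotient.eq]
  refine Ideal.mem_span_singleton.2 ⟨1, ?_⟩
  rw [eqn]; ring

open MvPowerSeries in
theorem exists_normal (z : ring k r) : ∃ a b : PowerSeries k, z = xMap k r a + xMap k r b * y k r := by
  classical
  obtain ⟨F, rfl⟩ := Ideal.Quotient.mk_surjective z
  set R := r + 1 with hR
  let S : ℕ → ℕ → k := fun m l => ∑ j ∈ Finset.range (m + 1), if R * j ≤ m then coeff (E (m - R * j) (l + 2 * j)) F else 0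
  have hS : ∀ m l, S m l = coeff (E m l) F + if R ≤ m then S (m - R) (l + 2) else 0 := by
    intro m l
    simp only [S]
    rw [Finset.sum_range_succ', add_comm]
    congr 1
    · by_cases h : R ≤ m
      · rw [if_pos h]
        have hsub : Finset.range (m - R + 1) ⊆ Finset.range m := by
          intro a ha; rw [Finset.mem_range] at ha ⊢; omega
        rw [← Finset.sum_subset hsub (fun j _ hj => by
          rw [Finset.mem_range] at hj
          rw [if_neg]
          intro hle
          have : j + 1 ≤ R * (j + 1) := Nat.le_mul_of_pos_left _ (by omega)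
          rw [Nat.mul_succ] at hle
          have : j ≤ R * j := Nat.le_mul_of_pos_left _ (by omega)
          omega)]
        refine Finset.sum_congr rfl fun j _ => ?_
        have e1 : R * (j + 1) = R * j + R := Nat.mul_succ R j
        by_cases hj : R * j ≤ m - R
        · rw [if_pos hj, if_pos (by omega), show m - R * (j + 1) = m - R - R * j by omega,
            show l + 2 * (j + 1) = l + 2 + 2 * j by omega]
        · rw [if_neg hj, if_neg (by omega)]
      · rw [if_neg h]
        refine Finset.sum_eq_zero fun j _ => if_neg ?_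
        intro hle
        rw [Nat.mul_succ] at hle
        omega
  refine ⟨PowerSeries.mk fun m => S m 0, PowerSeries.mk fun m => S m 1, ?_⟩
  rw [xMap_eq, xMap_eq, ← map_mul, ← map_add, Ideal.Quotient.eq]
  refine Ideal.mem_span_singleton.2 ⟨fun d => S (d 0) (d 1 + 2), ?_⟩
  ext d
  rw [← E_eq d]
  generalize d 0 = m
  generalize d 1 = l
  have hG : ∀ m l, coeff (E m l) (fun d => S (d 0) (d 1 + 2) : MvPowerSeries (Fin 2) k) = S m (l + 2) := by
    intro m l
    show S (E m l 0) (E m l 1 + 2) = _
    simp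
  rw [eqn, sub_mul, map_sub, map_sub, map_add, coeff_X_one_pow_mul, coeff_X_zero_pow_mul]
  simp only [hG]
  rw [mul_comm (sx k _) (X 1), ← pow_one (X (1 : Fin 2)), coeff_X_one_pow_mul, coeff_sx, coeff_sx]
  rcases l with _ | _ | l
  · simp [hS m 0, hR]
  · simp [hS m 1, hR]
  · have := hS m (l + 2)
    rw [show l + 1 + 1 = l + 2 from rfl]
    simp [hR] at this ⊢
    linear_combination -this

open MvPowerSeries in
theorem normal_eq_zero {a b : PowerSeries k} (h : xMap k r a + xMap k r b * y k r = 0) : a = 0 ∧ b = 0 := by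
  classical
  rw [xMap_eq, xMap_eq, ← map_mul, ← map_add, Ideal.Quotient.eq_zero_iff_mem, Ideal.mem_span_singleton] at h
  obtain ⟨G, hG⟩ := h
  have hc : ∀ m l, (if l = 0 then PowerSeries.coeff m a else 0) + (if l = 1 then PowerSeries.coeff m b else 0) =
      (if 2 ≤ l then coeff (E m (l - 2)) G else 0) - (if r + 1 ≤ m then coeff (E (m - (r + 1)) l) G else 0) := by
    intro m l
    have := congrArg (coeff (E m l)) hG
    rw [eqn, sub_mul, map_sub, map_add, coeff_X_one_pow_mul, coeff_X_zero_pow_mul,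
      mul_comm (sx k _) (X 1), ← pow_one (X (1 : Fin 2)), coeff_X_one_pow_mul, coeff_sx, coeff_sx] at this
    rw [← this]
    congr 1
    rcases l with _ | _ | l <;> simp
  have hG0 : ∀ m l, coeff (E m l) G = 0 := by
    intro m
    induction m using Nat.strong_induction_on with
    | _ m ih =>
      intro l
      have := hc m (l + 2)
      simp at this
      by_cases hm : r < m
      · rw [if_pos hm, ih (m - (r + 1)) (by omega) (l + 2), sub_zero] at this
        exact this.symm
      · rw [if_neg hm, sub_zero] at this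
        exact this.symm
  refine ⟨PowerSeries.ext fun m => ?_, PowerSeries.ext fun m => ?_⟩
  · simpa [hG0] using hc m 0
  · simpa [hG0] using hc m 1

theorem normal_unique {a b a' b' : PowerSeries k}
    (h : xMap k r a + xMap k r b * y k r = xMap k r a' + xMap k r b' * y k r) : a = a' ∧ b = b' := by
  have := normal_eq_zero r (a := a - a') (b := b - b') (by rw [map_sub, map_sub]; linear_combination h)
  exact ⟨sub_eq_zero.1 this.1, sub_eq_zero.1 this.2⟩

/-- The coefficient `a` in `a(x) + b(x) y`. -/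
noncomputable def pa : ring k r →ₗ[k] PowerSeries k where
  toFun z := (exists_normal r z).choose
  map_add' z w := by
    obtain ⟨b, hz⟩ := (exists_normal r z).choose_spec
    obtain ⟨d, hw⟩ := (exists_normal r w).choose_spec
    obtain ⟨f, hzw⟩ := (exists_normal r (z + w)).choose_spec
    refine (normal_unique r (b := f) (b' := b + d) ?_).1
    rw [← hzw, map_add, map_add]
    linear_combination hz + hw
  map_smul' c z := by
    obtain ⟨b, hz⟩ := (exists_normal r z).choose_spec
    obtain ⟨f, hcz⟩ := (exists_normal r (c • z)).choose_spec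
    refine (normal_unique r (b := f) (b' := c • b) ?_).1
    rw [← hcz, RingHom.id_apply, map_smul, map_smul, smul_mul_assoc, ← smul_add, ← hz]

/-- The coefficient `b` in `a(x) + b(x) y`. -/
noncomputable def pb : ring k r →ₗ[k] PowerSeries k where
  toFun z := (exists_normal r z).choose_spec.choose
  map_add' z w := by
    refine (normal_unique r (a := (exists_normal r (z + w)).choose)
      (a' := (exists_normal r z).choose + (exists_normal r w).choose) ?_).2
    rw [← (exists_normal r (z + w)).choose_spec.choose_spec, map_add, map_add]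
    linear_combination (exists_normal r z).choose_spec.choose_spec + (exists_normal r w).choose_spec.choose_spec
  map_smul' c z := by
    refine (normal_unique r (a := (exists_normal r (c • z)).choose) (a' := c • (exists_normal r z).choose) ?_).2
    rw [← (exists_normal r (c • z)).choose_spec.choose_spec, RingHom.id_apply, map_smul, map_smul,
      smul_mul_assoc, ← smul_add, ← (exists_normal r z).choose_spec.choose_spec]

theorem eq_normal (z : ring k r) : z = xMap k r (pa r z) + xMap k r (pb r z) * y k r :=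
  (exists_normal r z).choose_spec.choose_spec

theorem pa_normal (a b : PowerSeries k) : pa r (xMap k r a + xMap k r b * y k r) = a :=
  (normal_unique r (eq_normal r _)).1.symm

theorem pb_normal (a b : PowerSeries k) : pb r (xMap k r a + xMap k r b * y k r) = b :=
  (normal_unique r (eq_normal r _)).2.symm

theorem ext_normal {z w : ring k r} (ha : pa r z = pa r w) (hb : pb r z = pb r w) : z = w := by
  rw [eq_normal r z, eq_normal r w, ha, hb]

@[simp] theorem pa_xMap (a : PowerSeries k) : pa r (xMap k r a) = a := by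
  simpa using pa_normal r a 0

@[simp] theorem pb_xMap (a : PowerSeries k) : pb r (xMap k r a) = 0 := by
  simpa using pb_normal r a 0

@[simp] theorem pa_x : pa r (x k r) = PowerSeries.X := by rw [← xMap_X, pa_xMap]
@[simp] theorem pb_x : pb r (x k r) = 0 := by rw [← xMap_X, pb_xMap]
@[simp] theorem pa_y : pa r (y k r) = 0 := by simpa using pa_normal r (0 : PowerSeries k) 1
@[simp] theorem pb_y : pb r (y k r) = 1 := by simpa using pb_normal r (0 : PowerSeries k) 1

theorem mul_normal (z w : ring k r) :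
    z * w = xMap k r (pa r z * pa r w + pb r z * pb r w * PowerSeries.X ^ (r + 1)) +
      xMap k r (pa r z * pb r w + pb r z * pa r w) * y k r := by
  conv_lhs => rw [eq_normal r z, eq_normal r w]
  simp only [map_add, map_mul]
  linear_combination (xMap k r (pb r z) * xMap k r (pb r w)) * y_sq (k := k) r

theorem pa_mul (z w : ring k r) :
    pa r (z * w) = pa r z * pa r w + pb r z * pb r w * PowerSeries.X ^ (r + 1) := by
  rw [mul_normal, pa_normal]

theorem pb_mul (z w : ring k r) : pb r (z * w) = pa r z * pb r w + pb r z * pa r w := by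
  rw [mul_normal, pb_normal]

@[simp] theorem pa_one : pa r (1 : ring k r) = 1 := by simpa using pa_xMap r (1 : PowerSeries k)
@[simp] theorem pb_one : pb r (1 : ring k r) = 0 := by simpa using pb_xMap r (1 : PowerSeries k)

theorem isUnit_iff (z : ring k r) : IsUnit z ↔ PowerSeries.constantCoeff (pa r z) ≠ 0 := by
  constructor
  · rintro ⟨u, rfl⟩ h
    have e := congrArg (pa r) u.mul_inv
    rw [pa_mul, pa_one] at e
    have := congrArg PowerSeries.constantCoeff e
    simp [h] at this
  · intro h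
    have hu : IsUnit (pa r z ^ 2 - pb r z ^ 2 * PowerSeries.X ^ (r + 1)) := by
      rw [PowerSeries.isUnit_iff_constantCoeff]; simp [h]
    refine IsUnit.of_mul_eq_one ((xMap k r (pa r z) - xMap k r (pb r z) * y k r) * xMap k r ↑hu.unit⁻¹) ?_
    have e : z * (xMap k r (pa r z) - xMap k r (pb r z) * y k r) =
        xMap k r (pa r z ^ 2 - pb r z ^ 2 * PowerSeries.X ^ (r + 1)) := by
      conv_lhs => arg 1; rw [eq_normal r z]
      rw [map_sub (xMap k r), map_mul, map_pow, map_pow]
      linear_combination (-(xMap k r (pb r z)) ^ 2) * y_sq (k := k) r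
    rw [← mul_assoc, e, ← map_mul, hu.mul_val_inv, map_one]

instance : Nontrivial (ring k r) :=
  nontrivial_of_ne 1 0 fun h => by simpa using congrArg (pa r) h

instance : IsLocalRing (ring k r) :=
  IsLocalRing.of_surjective' (Ideal.Quotient.mk (Ideal.span {eqn k r})) Ideal.Quotient.mk_surjective

theorem mem_maximalIdeal_iff (z : ring k r) :
    z ∈ IsLocalRing.maximalIdeal (ring k r) ↔ PowerSeries.constantCoeff (pa r z) = 0 := by
  rw [IsLocalRing.mem_maximalIdeal, mem_nonunits_iff, isUnit_iff, not_not]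

theorem x_mem : x k r ∈ IsLocalRing.maximalIdeal (ring k r) := (mem_maximalIdeal_iff r _).2 (by simp)
theorem y_mem : y k r ∈ IsLocalRing.maximalIdeal (ring k r) := (mem_maximalIdeal_iff r _).2 (by simp)

theorem xMap_mem_span_x {a : PowerSeries k} {n : ℕ} (h : PowerSeries.X ^ n ∣ a) :
    xMap k r a ∈ Ideal.span {x k r ^ n} := by
  obtain ⟨b, rfl⟩ := h
  rw [map_mul, map_pow, xMap_X]
  exact Ideal.mul_mem_right _ _ (Ideal.mem_span_singleton_self _)

theorem mem_span_x_pow_iff (z : ring k r) (n : ℕ) :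
    z ∈ Ideal.span {x k r ^ n} ↔ PowerSeries.X ^ n ∣ pa r z ∧ PowerSeries.X ^ n ∣ pb r z := by
  constructor
  · rw [Ideal.mem_span_singleton]
    rintro ⟨w, rfl⟩
    rw [pa_mul, pb_mul, show x k r ^ n = xMap k r (PowerSeries.X ^ n) by rw [map_pow, xMap_X], pa_xMap, pb_xMap]
    simp
  · rintro ⟨h1, h2⟩
    rw [eq_normal r z]
    exact add_mem (xMap_mem_span_x r h1) (Ideal.mul_mem_right _ _ (xMap_mem_span_x r h2))

theorem maximalIdeal_eq : IsLocalRing.maximalIdeal (ring k r) = Ideal.span {x k r, y k r} := by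
  refine le_antisymm (fun z hz => ?_) ?_
  · rw [mem_maximalIdeal_iff] at hz
    rw [eq_normal r z]
    refine add_mem ?_ (Ideal.mul_mem_left _ _ (Ideal.subset_span (by simp)))
    obtain ⟨b, hb⟩ := PowerSeries.X_dvd_iff.2 hz
    rw [hb, map_mul, xMap_X]
    exact Ideal.mul_mem_right _ _ (Ideal.subset_span (by simp))
  · rw [Ideal.span_le]
    rintro w (rfl | rfl)
    · exact x_mem r
    · exact y_mem r

theorem maximalIdeal_sq_le : IsLocalRing.maximalIdeal (ring k r) ^ 2 ≤ Ideal.span {x k r} := by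
  rw [pow_two, maximalIdeal_eq, Ideal.span_mul_span', Ideal.span_le]
  rintro _ ⟨a, (rfl | rfl), b, (rfl | rfl), rfl⟩ <;> rw [SetLike.mem_coe, Ideal.mem_span_singleton]
  · exact dvd_mul_right _ _
  · exact dvd_mul_right _ _
  · exact dvd_mul_left _ _
  · refine ⟨xMap k r (PowerSeries.X ^ r), ?_⟩
    show y k r * y k r = _
    rw [y_sq, pow_succ', map_mul, xMap_X]

theorem dvd_of_mem_pow {z : ring k r} {n : ℕ} (h : z ∈ IsLocalRing.maximalIdeal (ring k r) ^ (2 * n)) :
    PowerSeries.X ^ n ∣ pa r z ∧ PowerSeries.X ^ n ∣ pb r z := by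
  refine (mem_span_x_pow_iff r z n).1 ?_
  rw [← Ideal.span_singleton_pow]
  rw [pow_mul] at h
  exact Ideal.pow_right_mono (maximalIdeal_sq_le r) n h

theorem eq_zero_of_forall_mem_pow {z : ring k r}
    (h : ∀ n, z ∈ IsLocalRing.maximalIdeal (ring k r) ^ n) : z = 0 := by
  refine ext_normal r ?_ ?_ <;> rw [map_zero] <;> ext i <;> rw [map_zero]
  · exact PowerSeries.X_pow_dvd_iff.1 (dvd_of_mem_pow r (h (2 * (i + 1)))).1 i (Nat.lt_succ_self i)
  · exact PowerSeries.X_pow_dvd_iff.1 (dvd_of_mem_pow r (h (2 * (i + 1)))).2 i (Nat.lt_succ_self i)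

/-- The linear part: the coefficients of `x` and `y`. -/
noncomputable def L (z : ring k r) : k × k :=
  (PowerSeries.coeff 1 (pa r z), PowerSeries.constantCoeff (pb r z))

theorem smul_eq (c : k) (z : ring k r) : c • z = algebraMap k (ring k r) c * z := Algebra.smul_def c z

theorem L_add (z w : ring k r) : L r (z + w) = L r z + L r w := by simp [L]
theorem L_smul (c : k) (z : ring k r) : L r (c • z) = c • L r z := by simp [L]
theorem L_sub (z w : ring k r) : L r (z - w) = L r z - L r w := by simp [L]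
theorem L_neg (z : ring k r) : L r (-z) = -L r z := by simp [L]
@[simp] theorem L_x : L r (x k r) = (1, 0) := by simp [L]
@[simp] theorem L_y : L r (y k r) = (0, 1) := by simp [L]

theorem L_mul (hr : 1 ≤ r) {z w : ring k r} (hz : z ∈ IsLocalRing.maximalIdeal (ring k r))
    (hw : w ∈ IsLocalRing.maximalIdeal (ring k r)) : L r (z * w) = 0 := by
  rw [mem_maximalIdeal_iff] at hz hw
  obtain ⟨a, ha⟩ := PowerSeries.X_dvd_iff.2 hz
  obtain ⟨c, hc⟩ := PowerSeries.X_dvd_iff.2 hw
  obtain ⟨s, rfl⟩ := Nat.exists_eq_add_of_le' hr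
  have e : pa (s + 1) (z * w) =
      PowerSeries.X ^ 2 * (a * c + pb (s + 1) z * pb (s + 1) w * PowerSeries.X ^ s) := by
    rw [pa_mul, ha, hc]; ring
  rw [L, pb_mul, e]
  simp [hz, hw, PowerSeries.coeff_X_pow_mul']

theorem L_eq_zero_of_mem_sq (hr : 1 ≤ r) {z : ring k r} (h : z ∈ IsLocalRing.maximalIdeal (ring k r) ^ 2) :
    L r z = 0 := by
  rw [pow_two] at h
  refine Submodule.mul_induction_on h (fun a ha b hb => L_mul r hr ha hb) fun a b ha hb => ?_
  rw [L_add, ha, hb, add_zero]

theorem sub_linear_mem_sq {z : ring k r} (hz : z ∈ IsLocalRing.maximalIdeal (ring k r)) :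
    z - ((L r z).1 • x k r + (L r z).2 • y k r) ∈ IsLocalRing.maximalIdeal (ring k r) ^ 2 := by
  rw [mem_maximalIdeal_iff] at hz
  obtain ⟨b', hb'⟩ := PowerSeries.X_dvd_iff.2 (show PowerSeries.constantCoeff
    (pb r z - PowerSeries.C (PowerSeries.constantCoeff (pb r z))) = 0 by simp)
  obtain ⟨a', ha'⟩ : PowerSeries.X ^ 2 ∣ pa r z - PowerSeries.C (PowerSeries.coeff 1 (pa r z)) * PowerSeries.X := by
    rw [PowerSeries.X_pow_dvd_iff]
    intro i hi
    interval_cases i
    · simp [hz]
    · rw [map_sub, PowerSeries.coeff_C_mul, PowerSeries.coeff_one_X, mul_one, sub_self]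
  have hC : ∀ c : k, xMap k r (PowerSeries.C c) = algebraMap k _ c := fun c => by
    rw [← PowerSeries.algebraMap_eq, AlgHom.commutes]
  have e : z - ((L r z).1 • x k r + (L r z).2 • y k r) = x k r ^ 2 * xMap k r a' + x k r * y k r * xMap k r b' := by
    conv_lhs => arg 1; rw [eq_normal r z]
    have e1 := congrArg (xMap k r) ha'
    have e2 := congrArg (xMap k r) hb'
    simp only [map_sub, map_mul, map_pow, xMap_X, hC] at e1 e2
    simp only [L, smul_eq]
    linear_combination e1 + y k r * e2
  rw [e]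
  refine add_mem (Ideal.mul_mem_right _ _ (Ideal.pow_mem_pow (x_mem r) 2)) (Ideal.mul_mem_right _ _ ?_)
  rw [pow_two]; exact Ideal.mul_mem_mul (x_mem r) (y_mem r)

variable {r} {s : ℕ}

/-- Endomorphisms map the maximal ideal into itself. -/
theorem map_mem_maximalIdeal (φ : ring k r →ₐ[k] ring k s) {z : ring k r}
    (hz : z ∈ IsLocalRing.maximalIdeal (ring k r)) : φ z ∈ IsLocalRing.maximalIdeal (ring k s) := by
  by_contra h
  set c := PowerSeries.constantCoeff (pa s (φ z)) with hc
  rw [mem_maximalIdeal_iff, ← hc] at h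
  have hpa : ∀ t : ℕ, pa t (algebraMap k (ring k t) c) = PowerSeries.C c := fun t => by
    rw [Algebra.algebraMap_eq_smul_one, map_smul, pa_one, PowerSeries.smul_eq_C_mul, mul_one]
  have hu : IsUnit (z - algebraMap k _ c) := by
    rw [isUnit_iff, map_sub, hpa]
    rw [mem_maximalIdeal_iff] at hz
    simpa [hz] using h
  have := (isUnit_iff s _).1 (hu.map φ)
  rw [map_sub φ, AlgHom.commutes, map_sub, hpa] at this
  simp [← hc] at this

theorem map_mem_pow (φ : ring k r →ₐ[k] ring k s) {z : ring k r} {n : ℕ}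
    (hz : z ∈ IsLocalRing.maximalIdeal (ring k r) ^ n) : φ z ∈ IsLocalRing.maximalIdeal (ring k s) ^ n := by
  have h : (IsLocalRing.maximalIdeal (ring k r)).map φ ≤ IsLocalRing.maximalIdeal (ring k s) :=
    Ideal.map_le_iff_le_comap.2 fun w hw => map_mem_maximalIdeal φ hw
  have h1 := Ideal.mem_map_of_mem φ hz
  rw [Ideal.map_pow] at h1
  exact Ideal.pow_right_mono h n h1

/-- Algebra maps are determined by the images of `x` and `y`. -/
theorem algHom_ext {φ ψ : ring k r →ₐ[k] ring k s} (hx : φ (x k r) = ψ (x k r)) (hy : φ (y k r) = ψ (y k r)) :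
    φ = ψ := by
  have key : ∀ a : PowerSeries k, φ (xMap k r a) = ψ (xMap k r a) := by
    intro a
    rw [← sub_eq_zero]
    refine eq_zero_of_forall_mem_pow s fun n => ?_
    obtain ⟨g, hg⟩ : PowerSeries.X ^ n ∣ a - ((PowerSeries.trunc n a : Polynomial k) : PowerSeries k) := by
      rw [PowerSeries.X_pow_dvd_iff]
      intro i hi; simp [PowerSeries.coeff_trunc, hi]
    have hp : φ (xMap k r ((PowerSeries.trunc n a : Polynomial k) : PowerSeries k)) =
        ψ (xMap k r ((PowerSeries.trunc n a : Polynomial k) : PowerSeries k)) := by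
      have : (φ.comp (xMap k r)).comp (Polynomial.coeToPowerSeries.algHom k) =
          (ψ.comp (xMap k r)).comp (Polynomial.coeToPowerSeries.algHom k) := by
        apply Polynomial.algHom_ext; simp [hx]
      simpa using DFunLike.congr_fun this (PowerSeries.trunc n a)
    rw [sub_eq_iff_eq_add] at hg
    rw [hg, map_add, map_add, map_add, hp, add_sub_add_right_eq_sub, map_mul, map_mul, map_mul, map_pow,
      map_pow, map_pow, xMap_X]
    exact sub_mem (Ideal.mul_mem_right _ _ (Ideal.pow_mem_pow (map_mem_maximalIdeal φ (x_mem r)) n))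
      (Ideal.mul_mem_right _ _ (Ideal.pow_mem_pow (map_mem_maximalIdeal ψ (x_mem r)) n))
  ext z
  rw [eq_normal r z, map_add, map_add, map_mul, map_mul, key, key, hy]

theorem algEquiv_eq_refl {σ : ring k r ≃ₐ[k] ring k r} (hx : σ (x k r) = x k r) (hy : σ (y k r) = y k r) :
    σ = AlgEquiv.refl := by
  have := algHom_ext (φ := σ.toAlgHom) (ψ := AlgHom.id k _) hx hy
  exact AlgEquiv.ext fun z => DFunLike.congr_fun this z

/-- An algebra map with prescribed images of `x` and `y`. -/
theorem exists_algHom {u w : ring k s} (hu : u ∈ IsLocalRing.maximalIdeal (ring k s))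
    (hw : w ∈ IsLocalRing.maximalIdeal (ring k s)) (hrel : w ^ 2 = u ^ (r + 1)) :
    ∃ φ : ring k r →ₐ[k] ring k s, φ (x k r) = u ∧ φ (y k r) = w := by
  have lift : ∀ t ∈ IsLocalRing.maximalIdeal (ring k s), ∃ T : MvPowerSeries (Fin 2) k,
      MvPowerSeries.constantCoeff T = 0 ∧ Ideal.Quotient.mk _ T = t := fun t ht => by
    refine ⟨sx k (pa s t) + sx k (pb s t) * MvPowerSeries.X 1, ?_, (eq_normal s t).symm⟩
    rw [mem_maximalIdeal_iff] at ht
    obtain ⟨c, hc⟩ := PowerSeries.X_dvd_iff.2 ht
    simp [hc, sx, PowerSeries.substAlgHom_X]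
  obtain ⟨U, hU, rfl⟩ := lift u hu
  obtain ⟨W, hW, rfl⟩ := lift w hw
  have hs : MvPowerSeries.HasSubst ![U, W] := MvPowerSeries.hasSubst_of_constantCoeff_zero fun i => by
    fin_cases i <;> simpa
  let g : MvPowerSeries (Fin 2) k →ₐ[k] ring k s := (Ideal.Quotient.mkₐ k (Ideal.span {eqn k s})).comp (MvPowerSeries.substAlgHom hs)
  have hg0 : g (MvPowerSeries.X 0) = Ideal.Quotient.mk _ U := by
    simp [g, MvPowerSeries.subst_X hs]
  have hg1 : g (MvPowerSeries.X 1) = Ideal.Quotient.mk _ W := by
    simp [g, MvPowerSeries.subst_X hs]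
  refine ⟨Ideal.Quotient.liftₐ _ g fun a ha => ?_, hg0, hg1⟩
  obtain ⟨c, rfl⟩ := Ideal.mem_span_singleton.1 ha
  rw [map_mul, show g (eqn k r) = 0 by
    change g (MvPowerSeries.X 1 ^ 2 - MvPowerSeries.X 0 ^ (r + 1)) = 0
    rw [map_sub, map_pow, map_pow, hg0, hg1, hrel, sub_self], zero_mul]

theorem L_map (hs : 1 ≤ s) (φ : ring k r →ₐ[k] ring k s) {z : ring k r}
    (hz : z ∈ IsLocalRing.maximalIdeal (ring k r)) :
    L s (φ z) = (L r z).1 • L s (φ (x k r)) + (L r z).2 • L s (φ (y k r)) := by
  have h := L_eq_zero_of_mem_sq s hs (map_mem_pow φ (sub_linear_mem_sq r hz))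
  rwa [map_sub, map_add, map_smul, map_smul, L_sub, L_add, L_smul, L_smul, sub_eq_zero] at h

/-- For an automorphism the linear parts of the images of `x` and `y` are independent. -/
theorem det_ne_zero (hr : 1 ≤ r) (σ : ring k r ≃ₐ[k] ring k r) :
    (L r (σ (x k r))).1 * (L r (σ (y k r))).2 - (L r (σ (x k r))).2 * (L r (σ (y k r))).1 ≠ 0 := by
  intro h
  have e1 : L r (σ (σ.symm (x k r))) = (L r (σ.symm (x k r))).1 • L r (σ (x k r)) +
      (L r (σ.symm (x k r))).2 • L r (σ (y k r)) := L_map hr σ.toAlgHom (map_mem_maximalIdeal σ.symm.toAlgHom (x_mem r))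
  have e2 : L r (σ (σ.symm (y k r))) = (L r (σ.symm (y k r))).1 • L r (σ (x k r)) +
      (L r (σ.symm (y k r))).2 • L r (σ (y k r)) := L_map hr σ.toAlgHom (map_mem_maximalIdeal σ.symm.toAlgHom (y_mem r))
  rw [AlgEquiv.apply_symm_apply, L_x] at e1
  rw [AlgEquiv.apply_symm_apply, L_y] at e2
  simp only [Prod.ext_iff, Prod.fst_add, Prod.snd_add, Prod.smul_fst, Prod.smul_snd, smul_eq_mul] at e1 e2
  obtain ⟨a1, a2⟩ := e1
  obtain ⟨b1, b2⟩ := e2
  set p1 := (L r (σ.symm (x k r))).1
  set p2 := (L r (σ.symm (x k r))).2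
  set q1 := (L r (σ.symm (y k r))).1
  set q2 := (L r (σ.symm (y k r))).2
  set A := (L r (σ (x k r))).1
  set B := (L r (σ (x k r))).2
  set C := (L r (σ (y k r))).1
  set D := (L r (σ (y k r))).2
  have : (1 : k) = (p1 * q2 - p2 * q1) * (A * D - B * C) := by
    linear_combination (q1 * B + q2 * D) * a1 + b2 - (q1 * A + q2 * C) * a2
  rw [h, mul_zero] at this
  exact one_ne_zero this

theorem surjective_of_det (φ : ring k r →ₐ[k] ring k r)
    (hdet : (L r (φ (x k r))).1 * (L r (φ (y k r))).2 - (L r (φ (x k r))).2 * (L r (φ (y k r))).1 ≠ 0) :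
    Function.Surjective φ := by
  set M := IsLocalRing.maximalIdeal (ring k r) with hM
  set u := φ (x k r) with hu
  set w := φ (y k r) with hw
  have hum : u ∈ M := map_mem_maximalIdeal φ (x_mem r)
  have hwm : w ∈ M := map_mem_maximalIdeal φ (y_mem r)
  set J := Ideal.span {u, w} with hJ
  -- `M ≤ J + M²`
  have hMJ : M ≤ J ⊔ M ^ 2 := by
    have h1 := sub_linear_mem_sq r hum
    have h2 := sub_linear_mem_sq r hwm
    set A := (L r u).1
    set B := (L r u).2
    set C := (L r w).1
    set D := (L r w).2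
    have huJ : u ∈ J := Ideal.subset_span (by simp)
    have hwJ : w ∈ J := Ideal.subset_span (by simp)
    have hlin1 : A • x k r + B • y k r ∈ J ⊔ M ^ 2 := by
      rw [show A • x k r + B • y k r = u - (u - (A • x k r + B • y k r)) by ring]
      exact sub_mem (Ideal.mem_sup_left huJ) (Ideal.mem_sup_right h1)
    have hlin2 : C • x k r + D • y k r ∈ J ⊔ M ^ 2 := by
      rw [show C • x k r + D • y k r = w - (w - (C • x k r + D • y k r)) by ring]
      exact sub_mem (Ideal.mem_sup_left hwJ) (Ideal.mem_sup_right h2)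
    have hsm : ∀ (c : k) (t : ring k r), t ∈ J ⊔ M ^ 2 → c • t ∈ J ⊔ M ^ 2 := fun c t ht => by
      rw [smul_eq]; exact Ideal.mul_mem_left _ _ ht
    have hx' : x k r ∈ J ⊔ M ^ 2 := by
      rw [← smul_inv_smul₀ hdet (x k r)]
      have : x k r = (A * D - B * C)⁻¹ • ((A * D - B * C) • x k r) := (inv_smul_smul₀ hdet _).symm
      rw [smul_comm, inv_smul_smul₀ hdet]
      rw [this]
      refine hsm _ _ ?_
      rw [show (A * D - B * C) • x k r = D • (A • x k r + B • y k r) - B • (C • x k r + D • y k r) by module]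
      exact sub_mem (hsm _ _ hlin1) (hsm _ _ hlin2)
    have hy' : y k r ∈ J ⊔ M ^ 2 := by
      rw [← inv_smul_smul₀ hdet (y k r)]
      refine hsm _ _ ?_
      rw [show (A * D - B * C) • y k r = A • (C • x k r + D • y k r) - C • (A • x k r + B • y k r) by module]
      exact sub_mem (hsm _ _ hlin2) (hsm _ _ hlin1)
    rw [hM, maximalIdeal_eq, Ideal.span_le, ← maximalIdeal_eq, ← hM]
    rintro t (rfl | rfl) <;> assumption
  have hJM : J ≤ M := Ideal.span_le.2 (by rintro t (rfl | rfl) <;> assumption)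
  -- residue field is `k`
  have hres : ∀ t : ring k r, ∃ c : k, t - algebraMap k _ c ∈ M := fun t => by
    refine ⟨PowerSeries.constantCoeff (pa r t), ?_⟩
    rw [hM, mem_maximalIdeal_iff, map_sub, Algebra.algebraMap_eq_smul_one, map_smul, pa_one]
    simp
  have hgen : ∀ n : ℕ, ∀ t ∈ J ^ n, ∃ q ∈ M ^ n, t - φ q ∈ M ^ (n + 1) := by
    intro n
    induction n with
    | zero =>
      intro t _
      obtain ⟨c, hc⟩ := hres t
      refine ⟨algebraMap k _ c, by simp, ?_⟩
      rw [AlgHom.commutes, zero_add, pow_one]; exact hc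
    | succ n ih =>
      intro t ht
      replace ht : t ∈ J ^ n * J := by rwa [← Submodule.pow_succ]
      refine Submodule.mul_induction_on ht (fun a ha b hb => ?_) ?_
      · obtain ⟨q, hq, hq'⟩ := ih a ha
        obtain ⟨c, d, rfl⟩ := Ideal.mem_span_pair.1 hb
        obtain ⟨c', hc'⟩ := hres c
        obtain ⟨d', hd'⟩ := hres d
        refine ⟨q * (c' • x k r + d' • y k r), ?_, ?_⟩
        · rw [pow_succ]
          refine Ideal.mul_mem_mul hq (add_mem ?_ ?_) <;> rw [smul_eq]
          · exact Ideal.mul_mem_left _ _ (x_mem r)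
          · exact Ideal.mul_mem_left _ _ (y_mem r)
        · rw [map_mul, map_add, map_smul, map_smul, ← hu, ← hw]
          have e : a * (c * u + d * w) - φ q * (c' • u + d' • w) =
              (a - φ q) * (c * u + d * w) + φ q * ((c - algebraMap k _ c') * u + (d - algebraMap k _ d') * w) := by
            simp only [smul_eq]; ring
          rw [e]
          refine add_mem ?_ ?_
          · rw [pow_succ]
            exact Ideal.mul_mem_mul hq' (hJM hb)
          · rw [show n + 1 + 1 = n + 2 from rfl, pow_add]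
            refine Ideal.mul_mem_mul (map_mem_pow φ hq) (add_mem ?_ ?_) <;> rw [pow_two]
            · exact Ideal.mul_mem_mul hc' hum
            · exact Ideal.mul_mem_mul hd' hwm
      · rintro a b ⟨q, hq, hq'⟩ ⟨q', hq2, hq2'⟩
        exact ⟨q + q', add_mem hq hq2, by rw [map_add, add_sub_add_comm]; exact add_mem hq' hq2'⟩
  have hpow : ∀ n : ℕ, M ^ n ≤ J ^ n ⊔ M ^ (n + 1) := by
    intro n
    induction n with
    | zero => simp
    | succ n ih =>
      calc M ^ (n + 1) = M ^ n * M := pow_succ _ _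
        _ ≤ (J ^ n ⊔ M ^ (n + 1)) * (J ⊔ M ^ 2) := Ideal.mul_mono ih hMJ
        _ ≤ J ^ (n + 1) ⊔ M ^ (n + 1 + 1) := by
          have hM' : ∀ {a b c : ℕ}, c ≤ a + b → M ^ a * M ^ b ≤ M ^ c := fun h => by
            rw [← pow_add]; exact Ideal.pow_le_pow_right h
          rw [Ideal.sup_mul, Ideal.mul_sup, Ideal.mul_sup]
          refine sup_le (sup_le (by rw [pow_succ]; exact le_sup_left) ?_) (sup_le ?_ ?_) <;>
            refine le_trans ?_ le_sup_right
          · exact (Ideal.mul_mono_left (Ideal.pow_right_mono hJM n)).trans (hM' (by omega))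
          · calc M ^ (n + 1) * J ≤ M ^ (n + 1) * M ^ 1 := by rw [pow_one]; exact Ideal.mul_mono_right hJM
              _ ≤ _ := hM' (by omega)
          · exact hM' (by omega)
  have step : ∀ (n : ℕ) (z p : ring k r), z - φ p ∈ M ^ n →
      ∃ p', p' - p ∈ M ^ n ∧ z - φ p' ∈ M ^ (n + 1) := by
    intro n z p h
    obtain ⟨t, ht, e, he, hte⟩ := Submodule.mem_sup.1 (hpow n h)
    obtain ⟨q, hq, hq'⟩ := hgen n t ht
    refine ⟨p + q, by simpa using hq, ?_⟩
    rw [map_add, show z - (φ p + φ q) = (t - φ q) + e by linear_combination -hte]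
    exact add_mem hq' he
  choose f hf1 hf2 using step
  intro z
  let seq : (n : ℕ) → {p : ring k r // z - φ p ∈ M ^ n} := fun n =>
    Nat.rec ⟨0, by simp⟩ (fun n p => ⟨f n z p.1 p.2, hf2 n z p.1 p.2⟩) n
  have hcauchy : ∀ n m, n ≤ m → (seq m).1 - (seq n).1 ∈ M ^ n := by
    intro n m h
    induction m, h using Nat.le_induction with
    | base => simp
    | succ m hnm ih =>
      rw [show (seq (m + 1)).1 - (seq n).1 = ((seq (m + 1)).1 - (seq m).1) + ((seq m).1 - (seq n).1) by ring]
      exact add_mem (Ideal.pow_le_pow_right hnm (hf1 m z (seq m).1 (seq m).2)) ih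
  set p := xMap k r (PowerSeries.mk fun i => PowerSeries.coeff i (pa r (seq (2 * (i + 1))).1)) +
    xMap k r (PowerSeries.mk fun i => PowerSeries.coeff i (pb r (seq (2 * (i + 1))).1)) * y k r with hp
  refine ⟨p, ?_⟩
  rw [← sub_eq_zero]
  refine eq_zero_of_forall_mem_pow r fun n => ?_
  have hpm : p - (seq (2 * n)).1 ∈ M ^ n := by
    have hdvd : PowerSeries.X ^ n ∣ pa r (p - (seq (2 * n)).1) ∧ PowerSeries.X ^ n ∣ pb r (p - (seq (2 * n)).1) := by
      rw [map_sub, map_sub, hp, pa_normal, pb_normal]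
      refine ⟨PowerSeries.X_pow_dvd_iff.2 fun i hi => ?_, PowerSeries.X_pow_dvd_iff.2 fun i hi => ?_⟩ <;>
        rw [map_sub, PowerSeries.coeff_mk, ← map_sub, ← map_sub]
      · have h := dvd_of_mem_pow r (hcauchy (2 * (i + 1)) (2 * n) (by omega))
        have h1 := PowerSeries.X_pow_dvd_iff.1 h.1 i (Nat.lt_succ_self i)
        simp only [map_sub] at h1 ⊢
        linear_combination -h1
      · have h := dvd_of_mem_pow r (hcauchy (2 * (i + 1)) (2 * n) (by omega))
        have h1 := PowerSeries.X_pow_dvd_iff.1 h.2 i (Nat.lt_succ_self i)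
        simp only [map_sub] at h1 ⊢
        linear_combination -h1
    have := (mem_span_x_pow_iff r _ n).2 hdvd
    exact (Ideal.span_le.2 (Set.singleton_subset_iff.2 (Ideal.pow_mem_pow (x_mem r) n))) this
  have h2 := map_mem_pow φ hpm
  rw [map_sub] at h2
  rw [show φ p - z = (φ p - φ (seq (2 * n)).1) - (z - φ (seq (2 * n)).1) by ring]
  exact sub_mem h2 (Ideal.pow_le_pow_right (by omega) (seq (2 * n)).2)

theorem bijective_of_det (φ : ring k r →ₐ[k] ring k r)
    (hdet : (L r (φ (x k r))).1 * (L r (φ (y k r))).2 - (L r (φ (x k r))).2 * (L r (φ (y k r))).1 ≠ 0) :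
    Function.Bijective φ := by
  have hs := surjective_of_det φ hdet
  refine ⟨?_, hs⟩
  let chain : ℕ →o Ideal (ring k r) :=
    ⟨fun n => RingHom.ker (φ ^ n : ring k r →ₐ[k] ring k r), monotone_nat_of_le_succ fun n z hz => by
      rw [RingHom.mem_ker] at hz ⊢
      rw [pow_succ']
      show φ ((φ ^ n) z) = 0
      rw [hz, map_zero]⟩
  obtain ⟨n, hn⟩ := monotone_stabilizes_iff_noetherian.2 (inferInstance : IsNoetherian (ring k r) (ring k r)) chain
  have hsn : ∀ m : ℕ, Function.Surjective ⇑(φ ^ m : ring k r →ₐ[k] ring k r) := by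
    intro m
    induction m with
    | zero => exact fun z => ⟨z, rfl⟩
    | succ m ih => rw [pow_succ']; exact hs.comp ih
  rw [injective_iff_map_eq_zero]
  intro z hz
  obtain ⟨w, rfl⟩ := hsn n z
  have h1 : w ∈ chain (n + 1) := by
    show (φ ^ (n + 1)) w = 0
    rw [pow_succ']; exact hz
  rw [← hn (n + 1) (Nat.le_succ n)] at h1
  exact h1

end Groth.Misc6.Ar
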