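import Mathlib
import Groth.Prelude.Def_W4c1hurwitzcptBd

/-! Lattices over `k⟦t⟧`, and in `k⟦x⟧` with `t = x ^ p`. -/

namespace Groth.Misc6

open PowerSeries

variable {k : Type*} [Field k]

theorem disk_eq_X_pow_mul_unit {c : k⟦X⟧} (hc : c ≠ 0) : ∃ (j : ℕ) (u : (k⟦X⟧)ˣ), c = (X : k⟦X⟧) ^ j * (u : k⟦X⟧) := by
  obtain ⟨j, u, h⟩ := IsDiscreteValuationRing.eq_unit_mul_pow_irreducible hc PowerSeries.X_irreducible
  exact ⟨j, u, h.trans (mul_comm _ _)⟩

theorem disk_pow_dvd_pow {a b : ℕ} : (X : k⟦X⟧) ^ a ∣ X ^ b ↔ a ≤ b :=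
  pow_dvd_pow_iff X_ne_zero X_irreducible.not_isUnit

theorem disk_span_inj {a b : ℕ} (h : Ideal.span {(X : k⟦X⟧) ^ a} = Ideal.span {(X : k⟦X⟧) ^ b}) : a = b := by
  rw [Ideal.span_singleton_eq_span_singleton] at h
  exact le_antisymm (disk_pow_dvd_pow.1 h.dvd) (disk_pow_dvd_pow.1 h.symm.dvd)

theorem disk_length_quot (j : ℕ) : Module.length k⟦X⟧ (k⟦X⟧ ⧸ Ideal.span {(X : k⟦X⟧) ^ j}) = j := by
  rw [← Ideal.span_singleton_pow, ← PowerSeries.maximalIdeal_eq_span_X]
  exact IsDiscreteValuationRing.length_quotient_pow_maximalIdeal (R := k⟦X⟧) j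

theorem disk_smith {M : Type*} [AddCommGroup M] [Module k⟦X⟧ M] {d : ℕ} (bt : Module.Basis (Fin d) k⟦X⟧ M)
    {N : Submodule k⟦X⟧ M} (bs : Module.Basis (Fin d) k⟦X⟧ N) :
    ∃ (bM : Module.Basis (Fin d) k⟦X⟧ M) (bN : Module.Basis (Fin d) k⟦X⟧ N) (e : Fin d → ℕ),
      ∀ i, (bN i : M) = (X : k⟦X⟧) ^ e i • bM i := by
  have hfin : Module.finrank k⟦X⟧ N = Module.finrank k⟦X⟧ M := by
    rw [Module.finrank_eq_card_basis bt, Module.finrank_eq_card_basis bs]
  obtain ⟨b', a, ab', h⟩ := Submodule.exists_smith_normal_form_of_rank_eq bt hfin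
  have hne : ∀ i, a i ≠ 0 := fun i hi => ab'.ne_zero i (Subtype.ext (by simp [h, hi]))
  choose e u hu using fun i => disk_eq_X_pow_mul_unit (hne i)
  refine ⟨b'.unitsSMul u, ab', e, fun i => ?_⟩
  rw [h, hu, mul_smul, Module.Basis.unitsSMul_apply, Units.smul_def]

theorem disk_mem_iff {M : Type*} [AddCommGroup M] [Module k⟦X⟧ M] {d : ℕ}
    {N : Submodule k⟦X⟧ M} (bM : Module.Basis (Fin d) k⟦X⟧ M) (bN : Module.Basis (Fin d) k⟦X⟧ N)
    (e : Fin d → ℕ) (h : ∀ i, (bN i : M) = (X : k⟦X⟧) ^ e i • bM i) (m : M) :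
    m ∈ N ↔ ∀ i, (X : k⟦X⟧) ^ e i ∣ bM.repr m i := by
  constructor
  · intro hm i
    have := congrArg Subtype.val (bN.sum_repr ⟨m, hm⟩)
    simp only [Submodule.coe_sum, Submodule.coe_smul, h, smul_smul] at this
    rw [← this, bM.repr_sum_self]
    exact dvd_mul_left _ _
  · intro hdiv
    choose c hc using hdiv
    rw [← bM.sum_repr m]
    refine Submodule.sum_mem _ fun i _ => ?_
    rw [hc, mul_comm, mul_smul, ← h]
    exact N.smul_mem _ (bN i).2

theorem disk_length {M : Type*} [AddCommGroup M] [Module k⟦X⟧ M] {d : ℕ}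
    {N : Submodule k⟦X⟧ M} (bM : Module.Basis (Fin d) k⟦X⟧ M) (bN : Module.Basis (Fin d) k⟦X⟧ N)
    (e : Fin d → ℕ) (h : ∀ i, (bN i : M) = (X : k⟦X⟧) ^ e i • bM i) :
    Module.length k⟦X⟧ (M ⧸ N) = ((∑ i, e i : ℕ) : ℕ∞) := by
  let φ : M →ₗ[k⟦X⟧] (∀ i, k⟦X⟧ ⧸ Ideal.span {(X : k⟦X⟧) ^ e i}) :=
    LinearMap.pi fun i => (Ideal.span {(X : k⟦X⟧) ^ e i}).mkQ ∘ₗ (Finsupp.lapply i) ∘ₗ bM.repr.toLinearMap
  have hs : Function.Surjective φ := by
    intro v
    choose c hc using fun i => Submodule.mkQ_surjective _ (v i)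
    refine ⟨∑ i, c i • bM i, funext fun i => ?_⟩
    show Submodule.mkQ _ (bM.repr (∑ j, c j • bM j) i) = v i
    rw [bM.repr_sum_self, hc]
  have hk : LinearMap.ker φ = N := by
    ext m
    rw [LinearMap.mem_ker, disk_mem_iff bM bN e h, funext_iff]
    refine forall_congr' fun i => ?_
    show Submodule.Quotient.mk _ = 0 ↔ _
    rw [Submodule.Quotient.mk_eq_zero, Ideal.mem_span_singleton]
    rfl
  rw [← ((Submodule.quotEquivOfEq _ _ hk.symm).trans (φ.quotKerEquivOfSurjective hs)).symm.length_eq,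
    Module.length_pi_of_fintype]
  simp [disk_length_quot]

theorem disk_kill {M : Type*} [AddCommGroup M] [Module k⟦X⟧ M] {d : ℕ}
    {N : Submodule k⟦X⟧ M} (bM : Module.Basis (Fin d) k⟦X⟧ M) (bN : Module.Basis (Fin d) k⟦X⟧ N)
    (e : Fin d → ℕ) (h : ∀ i, (bN i : M) = (X : k⟦X⟧) ^ e i • bM i) {E : ℕ} (hE : ∀ i, e i ≤ E) (m : M) :
    (X : k⟦X⟧) ^ E • m ∈ N := by
  rw [disk_mem_iff bM bN e h]
  intro i
  rw [map_smul, Finsupp.smul_apply, smul_eq_mul]
  exact (pow_dvd_pow _ (hE i)).mul_right _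

theorem indep_of_span {R : Type*} [CommRing R] {M : Type*} [AddCommGroup M] [Module R M] {d : ℕ}
    (b : Module.Basis (Fin d) R M) (w : Fin d → M) (hw : ⊤ ≤ Submodule.span R (Set.range w)) :
    LinearIndependent R w := by
  have hs : Function.Surjective (b.equivFun.toLinearMap ∘ₗ Fintype.linearCombination R w) :=
    b.equivFun.surjective.comp (LinearMap.range_eq_top.1 (by
      rw [Fintype.range_linearCombination]; exact top_le_iff.1 hw))
  have hi := OrzechProperty.injective_of_surjective_endomorphism _ hs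
  rw [Fintype.linearIndependent_iff]
  intro g hg
  have : g = 0 := hi (by simp [Fintype.linearCombination_apply, hg])
  simp [this]

open W4c1hurwitzcpt

variable {p : ℕ} [NeZero p]

theorem rootDisk_val_smul (c : k⟦X⟧) (f : RootDisk p k) :
    RootDisk.val (c • f) = PowerSeries.expand p (NeZero.ne p) c * RootDisk.val f := by
  rw [Algebra.smul_def, map_mul]
  rfl

theorem rootDisk_coeff_expand_X_pow (c : k⟦X⟧) (i : Fin p) (n : ℕ) :
    coeff n (PowerSeries.expand p (NeZero.ne p) c * X ^ (i : ℕ)) =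
      if n % p = i then coeff (n / p) c else 0 := by
  have hp := NeZero.pos p
  rw [coeff_mul_X_pow']
  by_cases h : n % p = i
  · rw [if_pos h, if_pos (h ▸ Nat.mod_le n p)]
    have : n - (i : ℕ) = p * (n / p) := by
      have := Nat.mod_add_div n p
      omega
    rw [this, coeff_expand_mul]
  · rw [if_neg h]
    split_ifs with hle
    · rw [coeff_expand_of_not_dvd]
      intro ⟨q, hq⟩
      apply h
      have : n = (i : ℕ) + p * q := by omega
      rw [this, Nat.add_mul_mod_self_left, Nat.mod_eq_of_lt i.2]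
    · rfl

theorem rootDisk_basis : Nonempty (Module.Basis (Fin p) k⟦X⟧ (RootDisk p k)) := by
  let φ : (Fin p → k⟦X⟧) →ₗ[k⟦X⟧] RootDisk p k :=
    Fintype.linearCombination k⟦X⟧ (fun i => RootDisk.val.symm (X ^ (i : ℕ)))
  have hc : ∀ c (i : Fin p) (j : ℕ), coeff (j * p + i) (RootDisk.val (φ c)) = coeff j (c i) := by
    intro c i j
    simp only [φ, Fintype.linearCombination_apply, map_sum, rootDisk_val_smul, RingEquiv.apply_symm_apply,
      rootDisk_coeff_expand_X_pow]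
    rw [Finset.sum_eq_single i]
    · rw [if_pos (by rw [Nat.mul_add_mod', Nat.mod_eq_of_lt i.2]),
        mul_comm j p, Nat.mul_add_div (NeZero.pos p), Nat.div_eq_of_lt i.2, add_zero]
    · intro l _ hl
      rw [if_neg]
      rw [Nat.mul_add_mod', Nat.mod_eq_of_lt i.2]
      exact fun h => hl (Fin.ext h.symm)
    · simp
  refine ⟨Module.Basis.ofEquivFun (LinearEquiv.ofBijective φ ⟨fun c c' h => ?_, fun f => ?_⟩).symm⟩
  · funext i; ext j
    rw [← hc c i j, h, hc]
  · refine ⟨fun i => PowerSeries.mk fun j => coeff (j * p + i) (RootDisk.val f), RootDisk.val.injective ?_⟩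
    ext n
    have h := hc (fun i => PowerSeries.mk fun j => coeff (j * p + i) (RootDisk.val f)) ⟨n % p, Nat.mod_lt _ (NeZero.pos p)⟩ (n / p)
    rw [coeff_mk] at h
    simpa [Nat.div_add_mod'] using h

theorem rootDisk_order_smul (c : k⟦X⟧) (f : RootDisk p k) :
    (RootDisk.val (c • f)).order = p • c.order + (RootDisk.val f).order := by
  rw [rootDisk_val_smul, order_mul, order_expand]

/-- A lattice in `k⟦x⟧` is spanned by elements with orders in each residue class mod `p`. -/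
theorem rootDisk_generators (M : Submodule k⟦X⟧ (RootDisk p k)) (hfg : M.FG)
    (hfull : ∃ N : ℕ, ∀ s, (X : k⟦X⟧) ^ N • s ∈ M) :
    ∃ g : Fin p → RootDisk p k, (∀ i, ∃ o : ℕ, (RootDisk.val (g i)).order = (o : ℕ∞) ∧ o % p = i) ∧
      Submodule.span k⟦X⟧ (Set.range g) = M := by
  classical
  obtain ⟨N, hN⟩ := hfull
  have hp := NeZero.pos p
  have hex : ∀ i : Fin p, ∃ o : ℕ, o % p = i ∧ ∃ f ∈ M, (RootDisk.val f).order = (o : ℕ∞) := by
    intro i
    refine ⟨N * p + i, by rw [Nat.mul_add_mod', Nat.mod_eq_of_lt i.2], _, hN (RootDisk.val.symm (X ^ (i : ℕ))), ?_⟩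
    rw [rootDisk_order_smul, RingEquiv.apply_symm_apply, order_X_pow, order_X_pow, nsmul_eq_mul]
    push_cast
    ring
  choose g hgM hg using fun i => (Nat.find_spec (hex i)).2
  refine ⟨g, fun i => ⟨_, hg i, (Nat.find_spec (hex i)).1⟩, le_antisymm ?_ ?_⟩
  · rw [Submodule.span_le]; rintro _ ⟨i, rfl⟩; exact hgM i
  set G := Submodule.span k⟦X⟧ (Set.range g) with hG
  have hGM : G ≤ M := by rw [hG, Submodule.span_le]; rintro _ ⟨i, rfl⟩; exact hgM i
  have key : ∀ L : ℕ, ∀ f ∈ M, ∃ γ ∈ G, (L : ℕ∞) ≤ (RootDisk.val (f - γ)).order := by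
    intro L
    induction L with
    | zero => exact fun f _ => ⟨0, zero_mem _, zero_le⟩
    | succ L ih =>
      intro f hf
      obtain ⟨γ, hγ, hle⟩ := ih f hf
      rcases hle.eq_or_lt with heq | hlt
      · have hh : f - γ ∈ M := M.sub_mem hf (hGM hγ)
        let i : Fin p := ⟨L % p, Nat.mod_lt _ hp⟩
        have hmin : Nat.find (hex i) ≤ L := Nat.find_min' (hex i) ⟨rfl, _, hh, heq.symm⟩
        have hmod : Nat.find (hex i) % p = L % p := (Nat.find_spec (hex i)).1
        obtain ⟨j, hj⟩ : ∃ j, L = Nat.find (hex i) + p * j := by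
          obtain ⟨j, hj⟩ := (Nat.modEq_iff_dvd' hmin).1 hmod
          exact ⟨j, by omega⟩
        have hne : coeff (Nat.find (hex i)) (RootDisk.val (g i)) ≠ 0 := ((order_eq_nat).1 (hg i)).1
        obtain ⟨r, hr⟩ : ∃ r : k, r * coeff (Nat.find (hex i)) (RootDisk.val (g i)) = coeff L (RootDisk.val (f - γ)) :=
          ⟨_, div_mul_cancel₀ _ hne⟩
        refine ⟨γ + (C r * X ^ j) • g i, add_mem hγ (G.smul_mem _ (Submodule.subset_span ⟨i, rfl⟩)), ?_⟩
        rw [show f - (γ + (C r * X ^ j) • g i) = (f - γ) - (C r * X ^ j) • g i by abel, map_sub, rootDisk_val_smul,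
          map_mul, map_pow, PowerSeries.expand_C, PowerSeries.expand_X, ← pow_mul, mul_assoc]
        refine nat_le_order _ _ fun n hn => ?_
        rw [map_sub, coeff_C_mul, coeff_X_pow_mul']
        rcases Nat.lt_succ_iff_lt_or_eq.1 hn with h' | rfl
        · rw [coeff_of_lt_order n (lt_of_lt_of_le (Nat.cast_lt.2 h') hle)]
          split_ifs with hh'
          · rw [coeff_of_lt_order _ (by rw [hg i]; exact Nat.cast_lt.2 (by omega)), mul_zero, sub_zero]
          · simp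
        · rw [if_pos (by omega), show n - p * j = Nat.find (hex i) by omega, hr, sub_self]
      · exact ⟨γ, hγ, by push_cast; exact Order.add_one_le_of_lt hlt⟩
  refine Submodule.le_of_le_smul_of_le_jacobson_bot (I := Ideal.span {(X : k⟦X⟧)}) hfg ?_ ?_
  · rw [IsLocalRing.jacobson_eq_maximalIdeal ⊥ bot_ne_top, PowerSeries.maximalIdeal_eq_span_X]
  · intro f hf
    obtain ⟨γ, hγ, hle⟩ := key (p * (N + 1)) f hf
    obtain ⟨w, hw⟩ : (X : k⟦X⟧) ^ (p * (N + 1)) ∣ RootDisk.val (f - γ) := X_pow_dvd_iff.2 fun m hm =>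
      coeff_of_lt_order m (lt_of_lt_of_le (Nat.cast_lt.2 hm) hle)
    have : f - γ = (X : k⟦X⟧) • (X : k⟦X⟧) ^ N • RootDisk.val.symm w := by
      apply RootDisk.val.injective
      rw [hw, smul_smul, rootDisk_val_smul, RingEquiv.apply_symm_apply, ← pow_succ', map_pow, PowerSeries.expand_X, ← pow_mul]
    rw [← add_sub_cancel γ f]
    refine Submodule.add_mem_sup hγ ?_
    rw [this]
    exact Submodule.smul_mem_smul (Ideal.mem_span_singleton_self _) (hN _)

end Groth.Misc6
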