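import Mathlib
import Groth.Agent.Misc6.ArBase
import Groth.Agent.Misc6.DiskLattice

/-! Helpers for fixed rings of involutions of the `A_r` algebras. -/

set_option autoImplicit false
universe u
open ArSing

namespace Groth.Misc6.Ar

variable {k : Type u} [Field k] {r s : ℕ}

theorem psHom_ext {f g : PowerSeries k →ₐ[k] ring k r}
    (hf : f PowerSeries.X ∈ IsLocalRing.maximalIdeal (ring k r)) (h : f PowerSeries.X = g PowerSeries.X) :
    f = g := by
  ext a
  rw [← sub_eq_zero]
  refine eq_zero_of_forall_mem_pow r fun n => ?_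
  obtain ⟨b, hb⟩ : PowerSeries.X ^ n ∣ a - ((PowerSeries.trunc n a : Polynomial k) : PowerSeries k) := by
    rw [PowerSeries.X_pow_dvd_iff]
    intro i hi; simp [PowerSeries.coeff_trunc, hi]
  have hp : f ((PowerSeries.trunc n a : Polynomial k) : PowerSeries k) =
      g ((PowerSeries.trunc n a : Polynomial k) : PowerSeries k) := by
    have : f.comp (Polynomial.coeToPowerSeries.algHom k) = g.comp (Polynomial.coeToPowerSeries.algHom k) := by
      apply Polynomial.algHom_ext; simp [h]
    simpa using DFunLike.congr_fun this (PowerSeries.trunc n a)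
  rw [sub_eq_iff_eq_add] at hb
  rw [hb, map_add, map_add, hp, add_sub_add_right_eq_sub, map_mul, map_mul, map_pow, map_pow]
  exact sub_mem (Ideal.mul_mem_right _ _ (Ideal.pow_mem_pow hf n))
    (Ideal.mul_mem_right _ _ (Ideal.pow_mem_pow (h ▸ hf) n))

/-- `rescale` as an algebra map. -/
noncomputable def resc (c : k) : PowerSeries k →ₐ[k] PowerSeries k :=
  { PowerSeries.rescale c with
    commutes' := fun a => by
      show PowerSeries.rescale c (algebraMap k (PowerSeries k) a) = _
      ext n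
      rw [PowerSeries.coeff_rescale, PowerSeries.algebraMap_eq]
      rcases n with _ | n <;> simp }

lemma resc_apply (c : k) (a : PowerSeries k) : resc c a = PowerSeries.rescale c a := rfl

lemma coeff_resc (c : k) (a : PowerSeries k) (n : ℕ) :
    PowerSeries.coeff n (resc c a) = c ^ n * PowerSeries.coeff n a :=
  PowerSeries.coeff_rescale a c n

lemma resc_X (c : k) : resc c (PowerSeries.X : PowerSeries k) = c • PowerSeries.X := by
  rw [resc_apply, PowerSeries.rescale_X, PowerSeries.smul_eq_C_mul]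

theorem map_xMap_resc (φ : ring k r →ₐ[k] ring k s) (c : k) (h : φ (x k r) = c • x k s) (a : PowerSeries k) :
    φ (xMap k r a) = xMap k s (resc c a) := by
  have : φ.comp (xMap k r) = (xMap k s).comp (resc c) := by
    refine psHom_ext (by simp only [AlgHom.comp_apply, xMap_X]; exact map_mem_maximalIdeal φ (x_mem r)) ?_
    simp only [AlgHom.comp_apply, xMap_X, resc_X, map_smul, h]
  exact DFunLike.congr_fun this a

/-- `a(t) ↦ a(t²)`. -/
noncomputable abbrev dbl : PowerSeries k →ₐ[k] PowerSeries k := PowerSeries.expand 2 two_ne_zero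

theorem map_xMap_dbl (φ : ring k r →ₐ[k] ring k s) (h : φ (x k r) = x k s ^ 2) (a : PowerSeries k) :
    φ (xMap k r a) = xMap k s (dbl a) := by
  have : φ.comp (xMap k r) = (xMap k s).comp dbl := by
    refine psHom_ext (by simp only [AlgHom.comp_apply, xMap_X]; exact map_mem_maximalIdeal φ (x_mem r)) ?_
    simp only [AlgHom.comp_apply, xMap_X, PowerSeries.expand_X, map_pow, h]
  exact DFunLike.congr_fun this a

lemma coeff_dbl_even (a : PowerSeries k) (n : ℕ) : PowerSeries.coeff (2 * n) (dbl a) = PowerSeries.coeff n a :=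
  PowerSeries.coeff_expand_mul 2 two_ne_zero a n

lemma coeff_dbl_odd (a : PowerSeries k) (n : ℕ) : PowerSeries.coeff (2 * n + 1) (dbl a) = 0 :=
  PowerSeries.coeff_expand_of_not_dvd 2 two_ne_zero a (by omega)

theorem even_odd_decomp (a : PowerSeries k) :
    ∃ a₀ a₁, a = dbl a₀ + PowerSeries.X * dbl a₁ := by
  refine ⟨PowerSeries.mk fun n => PowerSeries.coeff (2 * n) a,
    PowerSeries.mk fun n => PowerSeries.coeff (2 * n + 1) a, ?_⟩
  ext n
  rcases Nat.even_or_odd' n with ⟨m, rfl | rfl⟩
  · rw [map_add, coeff_dbl_even, PowerSeries.coeff_mk]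
    rcases m with _ | m
    · simp
    · rw [show 2 * (m + 1) = (2 * m + 1) + 1 by ring, PowerSeries.coeff_succ_X_mul, coeff_dbl_odd, add_zero]
  · rw [map_add, coeff_dbl_odd, PowerSeries.coeff_succ_X_mul, coeff_dbl_even, PowerSeries.coeff_mk, zero_add]

theorem even_odd_unique {a₀ a₁ : PowerSeries k} (h : dbl a₀ + PowerSeries.X * dbl a₁ = 0) : a₀ = 0 ∧ a₁ = 0 := by
  constructor <;> ext n
  · have := congrArg (PowerSeries.coeff (2 * n)) h
    rw [map_add, coeff_dbl_even] at this
    rcases n with _ | m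
    · simpa using this
    · rw [show 2 * (m + 1) = (2 * m + 1) + 1 by ring, PowerSeries.coeff_succ_X_mul, coeff_dbl_odd, add_zero] at this
      simpa using this
  · have := congrArg (PowerSeries.coeff (2 * n + 1)) h
    rw [map_add, coeff_dbl_odd, PowerSeries.coeff_succ_X_mul, coeff_dbl_even, zero_add] at this
    simpa using this

lemma dbl_injective : Function.Injective (dbl : PowerSeries k → PowerSeries k) := fun a b h => by
  have := even_odd_unique (a₀ := a - b) (a₁ := 0) (by rw [map_sub, h, map_zero, mul_zero, sub_self, add_zero])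
  exact sub_eq_zero.1 this.1

lemma resc_dbl (a : PowerSeries k) : resc (-1) (dbl a) = dbl a := by
  ext n
  rw [coeff_resc]
  rcases Nat.even_or_odd' n with ⟨m, rfl | rfl⟩
  · rw [pow_mul]; simp
  · rw [coeff_dbl_odd, mul_zero]

lemma resc_neg_decomp (a₀ a₁ : PowerSeries k) :
    resc (-1) (dbl a₀ + PowerSeries.X * dbl a₁) = dbl a₀ - PowerSeries.X * dbl a₁ := by
  rw [map_add, map_mul, resc_dbl, resc_dbl, resc_X, neg_one_smul]
  ring

lemma ne_zero_two (h2 : (2 : k) ≠ 0) : (2 : PowerSeries k) ≠ 0 := fun h => h2 (by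
  have := congrArg PowerSeries.constantCoeff h
  simpa [map_ofNat] using this)

theorem resc_neg_eq_self (h2 : (2 : k) ≠ 0) {a : PowerSeries k} (h : resc (-1) a = a) : ∃ b, a = dbl b := by
  obtain ⟨a₀, a₁, rfl⟩ := even_odd_decomp a
  rw [resc_neg_decomp] at h
  have h1 : PowerSeries.X * dbl a₁ = 0 :=
    (mul_eq_zero.1 (show 2 * (PowerSeries.X * dbl a₁) = 0 by linear_combination -h)).resolve_left (ne_zero_two h2)
  exact ⟨a₀, by rw [h1, add_zero]⟩

theorem resc_neg_eq_neg (h2 : (2 : k) ≠ 0) {a : PowerSeries k} (h : resc (-1) a = -a) :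
    ∃ b, a = PowerSeries.X * dbl b := by
  obtain ⟨a₀, a₁, rfl⟩ := even_odd_decomp a
  rw [resc_neg_decomp] at h
  have h1 : dbl a₀ = 0 :=
    (mul_eq_zero.1 (show 2 * dbl a₀ = 0 by linear_combination h)).resolve_left (ne_zero_two h2)
  exact ⟨a₁, by rw [h1, zero_add]⟩

theorem length_quot_comap {P A : Type*} [CommRing P] [CommRing A] (f : P →+* A) (I : Ideal A)
    (hs : ∀ z, ∃ a, z - f a ∈ I) : Module.length A (A ⧸ I) = Module.length P (P ⧸ I.comap f) := by
  let g : P →+* A ⧸ I := (Ideal.Quotient.mk I).comp f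
  have hg : Function.Surjective g := fun q => by
    obtain ⟨z, rfl⟩ := Ideal.Quotient.mk_surjective q
    obtain ⟨a, ha⟩ := hs z
    exact ⟨a, (Ideal.Quotient.eq.2 ha).symm⟩
  let _ : Algebra P (A ⧸ I) := g.toAlgebra
  rw [Module.length_eq_of_surjective (S := A) (R := A ⧸ I) (M := A ⧸ I)
      (show Function.Surjective (algebraMap A (A ⧸ I)) from Ideal.Quotient.mk_surjective),
    ← Module.length_eq_of_surjective (S := P) (R := A ⧸ I) (M := A ⧸ I) hg]
  have hk : LinearMap.ker (Algebra.linearMap P (A ⧸ I)) = I.comap f := by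
    ext a
    rw [LinearMap.mem_ker, Ideal.mem_comap]
    exact Ideal.Quotient.eq_zero_iff_mem
  exact ((Submodule.quotEquivOfEq _ _ hk.symm).trans
    ((Algebra.linearMap P (A ⧸ I)).quotKerEquivOfSurjective hg)).length_eq.symm

/-- Length of a quotient uniformised by a power series map. -/
theorem length_quot_of (f : PowerSeries k →ₐ[k] ring k r) (I : Ideal (ring k r)) (n : ℕ)
    (hs : ∀ z, ∃ a, z - f a ∈ I) (hker : ∀ a, f a ∈ I ↔ PowerSeries.X ^ n ∣ a) :
    Module.length (ring k r) (ring k r ⧸ I) = n := by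
  rw [length_quot_comap f.toRingHom I hs, show I.comap f.toRingHom = Ideal.span {(PowerSeries.X : PowerSeries k) ^ n} by
    ext a; rw [Ideal.mem_comap, Ideal.mem_span_singleton, ← hker]; rfl]
  exact Groth.Misc6.disk_length_quot n

theorem sub_mem_span {σ : ring k r ≃ₐ[k] ring k r} {I : Ideal (ring k r)} (h : ∀ a, σ a - a ∈ I) :
    Ideal.span (Set.range fun a : ring k r => σ a - a) ≤ I :=
  Ideal.span_le.2 (by rintro _ ⟨a, rfl⟩; exact h a)

theorem mem_span_of_neg (h2 : (2 : k) ≠ 0) {σ : ring k r ≃ₐ[k] ring k r} {g : ring k r} (h : σ g = -g) :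
    g ∈ Ideal.span (Set.range fun a : ring k r => σ a - a) := by
  have : g = algebraMap k _ (-(2 : k)⁻¹) * (σ g - g) := by
    rw [h, show -g - g = algebraMap k (ring k r) (-2) * g by rw [map_neg, map_ofNat]; ring, ← mul_assoc, ← map_mul,
      neg_mul_neg, inv_mul_cancel₀ h2, map_one, one_mul]
  rw [this]
  exact Ideal.mul_mem_left _ _ (Ideal.subset_span ⟨g, rfl⟩)

end Groth.Misc6.Ar
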