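import Mathlib
import Groth.Agent.Misc6.ArBase
import Groth.Agent.Misc6.ASAuto

/-! Involutions of the `A_r` algebras. -/

set_option autoImplicit false
universe u
open ArSing

namespace Groth.Misc6.Ar

variable {k : Type u} [Field k] (h2 : (2 : k) ≠ 0)

include h2 in
lemma exists_sqrt_one_add (z : PowerSeries k) (hz : PowerSeries.constantCoeff z = 0) :
    ∃ d : PowerSeries k, d ^ 2 = 1 + z ∧ PowerSeries.constantCoeff d = 1 := by
  obtain ⟨d, h, h0, -⟩ := Groth.Misc6.AS.exists_root 2 (by exact_mod_cast h2) z hz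
  exact ⟨d, h, h0⟩

include h2 in
lemma exists_sqrt (s : PowerSeries k) (hs : PowerSeries.constantCoeff s = 1) :
    ∃ d : PowerSeries k, d ^ 2 = s ∧ PowerSeries.constantCoeff d = 1 := by
  obtain ⟨d, h, h0⟩ := exists_sqrt_one_add h2 (s - 1) (by simp [hs])
  exact ⟨d, by rw [h]; ring, h0⟩

/-- `A_r ⊆ k⟦x⟧[η]`, `η = y/x`. -/
abbrev B (k : Type u) [Field k] (n : ℕ) := QuadraticAlgebra (PowerSeries k) (PowerSeries.X ^ n) 0

include h2 in
lemma exists_sqrt_B {n : ℕ} (hn : 1 ≤ n) (α β : PowerSeries k) (hα : PowerSeries.constantCoeff α = 1) :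
    ∃ p q : PowerSeries k, (⟨p, q⟩ * ⟨p, q⟩ : B k n) = ⟨α, β⟩ ∧ PowerSeries.constantCoeff p = 1 := by
  obtain ⟨δ, hδ, hδ0⟩ := exists_sqrt h2 (α ^ 2 - β ^ 2 * PowerSeries.X ^ n)
    (by obtain ⟨m, rfl⟩ := Nat.exists_eq_add_of_le' hn; simp [hα])
  set i2 : PowerSeries k := PowerSeries.C (2 : k)⁻¹
  have hi2 : 2 * i2 = 1 := by
    rw [show (2 : PowerSeries k) = PowerSeries.C (2 : k) by rw [map_ofNat], ← map_mul, mul_inv_cancel₀ h2, map_one]
  obtain ⟨p, hp, hp0⟩ := exists_sqrt h2 ((α + δ) * i2) (by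
    simp [i2, hα, hδ0]; field_simp; norm_num)
  have hpu : IsUnit p := PowerSeries.isUnit_iff_constantCoeff.2 (by simp [hp0])
  set iv : PowerSeries k := ((hpu.unit⁻¹ : (PowerSeries k)ˣ) : PowerSeries k)
  refine ⟨p, β * i2 * iv, ?_, hp0⟩
  have hv : p * iv = 1 := hpu.mul_val_inv
  have key : p * p + PowerSeries.X ^ n * (β * i2 * iv) * (β * i2 * iv) = α := by
    refine mul_left_cancel₀ (pow_ne_zero 2 hpu.ne_zero) ?_
    have e : p ^ 2 * (PowerSeries.X ^ n * (β * i2 * iv) * (β * i2 * iv)) =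
        PowerSeries.X ^ n * (β * i2) ^ 2 := by
      linear_combination (PowerSeries.X ^ n * (β * i2) ^ 2 * (p * iv + 1)) * hv
    rw [mul_add, e]
    linear_combination (p ^ 2 + (α + δ) * i2 - α) * hp + (i2 ^ 2) * hδ + ((α + δ) * i2 * α) * hi2
  ext1
  · simp only [QuadraticAlgebra.re_mul]
    linear_combination key
  · simp only [QuadraticAlgebra.im_mul]
    linear_combination (2 * i2 * β) * hv + β * hi2

variable {r : ℕ}

/-- The embedding `a + b y ↦ a + x b η`. -/
noncomputable def toB (hr : 1 ≤ r) : ring k r →+* B k (r - 1) where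
  toFun z := ⟨pa r z, PowerSeries.X * pb r z⟩
  map_one' := by ext1 <;> simp [QuadraticAlgebra.re_one, QuadraticAlgebra.im_one]
  map_zero' := by ext1 <;> simp
  map_add' z w := by ext1 <;> simp [mul_add]
  map_mul' z w := by
    obtain ⟨m, rfl⟩ := Nat.exists_eq_add_of_le' hr
    ext1
    · simp only [QuadraticAlgebra.re_mul, pa_mul, Nat.add_sub_cancel]
      ring
    · simp only [QuadraticAlgebra.im_mul, pb_mul]
      ring

lemma toB_re (hr : 1 ≤ r) (z : ring k r) : (toB hr z).re = pa r z := rfl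
lemma toB_im (hr : 1 ≤ r) (z : ring k r) : (toB hr z).im = PowerSeries.X * pb r z := rfl

lemma toB_injective (hr : 1 ≤ r) : Function.Injective (toB (k := k) hr) := fun z w h =>
  ext_normal r (congrArg QuadraticAlgebra.re h)
    (mul_left_cancel₀ PowerSeries.X_ne_zero (congrArg QuadraticAlgebra.im h))

include h2 in
/-- An element with linear part `(1, ν)` is the image of `x` under an automorphism (`r ≥ 2`). -/
theorem exists_algEquiv_x (hr : 2 ≤ r) (X' : ring k r) (hX : X' ∈ IsLocalRing.maximalIdeal (ring k r))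
    (hX1 : (L r X').1 = 1) : ∃ φ : ring k r ≃ₐ[k] ring k r, φ (x k r) = X' := by
  obtain ⟨m, rfl⟩ := Nat.exists_eq_add_of_le' hr
  have h1r : 1 ≤ m + 2 := by omega
  rw [mem_maximalIdeal_iff] at hX
  obtain ⟨e1, he1⟩ := PowerSeries.X_dvd_iff.2 hX
  have he10 : PowerSeries.constantCoeff e1 = 1 := by
    have h : PowerSeries.coeff 1 (pa (m + 2) X') = 1 := hX1
    rwa [he1, PowerSeries.coeff_succ_X_mul 0, PowerSeries.coeff_zero_eq_constantCoeff_apply] at h
  obtain ⟨p, q, hpq, hp0⟩ := exists_sqrt_B h2 (n := m + 2 - 1) (by omega) e1 (pb (m + 2) X') he10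
  set R := m + 2 + 1 with hR
  set t : B k (m + 2 - 1) := (⟨p, q⟩ : B k (m + 2 - 1)) ^ R with ht
  have ht0 : PowerSeries.constantCoeff t.re = 1 := by
    let ε : B k (m + 2 - 1) →+* k :=
      { toFun := fun b => PowerSeries.constantCoeff b.re
        map_one' := by simp [QuadraticAlgebra.re_one]
        map_zero' := by simp
        map_add' := fun a b => by simp
        map_mul' := fun a b => by simp }
    show ε t = 1
    rw [ht, map_pow]
    show PowerSeries.constantCoeff p ^ R = 1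
    rw [hp0, one_pow]
  set Y := xMap k (m + 2) (t.im * PowerSeries.X ^ (m + 2)) + xMap k (m + 2) t.re * y k (m + 2) with hY
  have hYB : toB h1r Y = ⟨0, PowerSeries.X⟩ * t := by
    ext1
    · rw [toB_re, hY, pa_normal, QuadraticAlgebra.re_mul]
      simp only [show m + 2 - 1 = m + 1 by omega]
      ring
    · rw [toB_im, hY, pb_normal, QuadraticAlgebra.im_mul]
      ring
  have hXB : toB h1r X' = ⟨PowerSeries.X, 0⟩ * (⟨e1, pb (m + 2) X'⟩ : B k (m + 2 - 1)) := by
    ext1
    · rw [toB_re]; simp [he1]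
    · rw [toB_im]; simp
  have hrel : Y ^ 2 = X' ^ R := by
    apply toB_injective h1r
    rw [map_pow, map_pow, hYB, hXB, mul_pow, mul_pow, ← hpq]
    have e : (⟨0, PowerSeries.X⟩ : B k (m + 2 - 1)) ^ 2 = (⟨PowerSeries.X, 0⟩ : B k (m + 2 - 1)) ^ R := by
      have hC : (⟨PowerSeries.X, 0⟩ : B k (m + 2 - 1)) = algebraMap (PowerSeries k) (B k (m + 2 - 1)) PowerSeries.X := by
        rw [QuadraticAlgebra.algebraMap_eq]
      rw [hC, ← map_pow, QuadraticAlgebra.algebraMap_eq, pow_two]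
      ext1
      · simp only [QuadraticAlgebra.re_mul, hR, show m + 2 - 1 = m + 1 by omega]
        ring
      · simp
    rw [e, ht, ← pow_mul, mul_comm R 2, pow_mul, pow_two (⟨p, q⟩ : B k (m + 2 - 1))]
  have hYm : Y ∈ IsLocalRing.maximalIdeal (ring k (m + 2)) := by
    rw [mem_maximalIdeal_iff, hY, pa_normal]; simp
  obtain ⟨φ, hφx, hφy⟩ := exists_algHom ((mem_maximalIdeal_iff _ _).2 hX) hYm hrel
  have hbij : Function.Bijective φ := bijective_of_det φ (by
    rw [hφx, hφy, hX1]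
    simp only [L, hY, pa_normal, pb_normal]
    simp [ht0, PowerSeries.coeff_mul_X_pow'])
  exact ⟨AlgEquiv.ofBijective φ hbij, hφx⟩

include h2 in
/-- Involutions of `A_r`, `r ≥ 2`, are diagonalisable. -/
theorem involution_diag (hr : 2 ≤ r) (σ : ring k r ≃ₐ[k] ring k r) (hσ : ∀ a, σ (σ a) = a)
    (hne : σ ≠ AlgEquiv.refl) :
    ∃ (φ : ring k r ≃ₐ[k] ring k r) (μ c : k), μ ^ 2 = 1 ∧ c ^ 2 = 1 ∧ μ ^ (r + 1) = 1 ∧
      ¬ (μ = 1 ∧ c = 1) ∧
      φ.symm (σ (φ (x k r))) = μ • x k r ∧ φ.symm (σ (φ (y k r))) = c • y k r := by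
  have h1r : 1 ≤ r := by omega
  have hm : ∀ z ∈ IsLocalRing.maximalIdeal (ring k r), σ z ∈ IsLocalRing.maximalIdeal (ring k r) :=
    fun z hz => map_mem_maximalIdeal σ.toAlgHom hz
  -- the linear part of `σ y` has no `x`-component
  have hy1 : (L r (σ (y k r))).1 = 0 := by
    obtain ⟨g, hg⟩ := PowerSeries.X_dvd_iff.2 ((mem_maximalIdeal_iff r _).1 (hm _ (y_mem r)))
    have e : σ (y k r) * σ (y k r) = σ (xMap k r (PowerSeries.X ^ (r + 1))) := by rw [← map_mul, y_sq]
    rw [map_pow, xMap_X, map_pow] at e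
    have hdvd : PowerSeries.X ^ 3 ∣ pa r (σ (y k r) * σ (y k r)) := by
      rw [e]
      have h6 : σ (x k r) ^ (r + 1) ∈ IsLocalRing.maximalIdeal (ring k r) ^ 3 :=
        Ideal.pow_le_pow_right (show 3 ≤ r + 1 by omega) (Ideal.pow_mem_pow (hm _ (x_mem r)) (r + 1))
      have : ∀ z : ring k r, z ∈ IsLocalRing.maximalIdeal (ring k r) ^ 3 → PowerSeries.X ^ 3 ∣ pa r z := by
        intro z hz
        rw [pow_succ, pow_two] at hz
        refine Submodule.mul_induction_on hz (fun a ha b hb => ?_) fun a b ha hb => by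
          rw [map_add]; exact dvd_add ha hb
        have ha2 : PowerSeries.X ^ 2 ∣ pa r a ∧ PowerSeries.X ∣ pb r a := by
          refine Submodule.mul_induction_on ha (fun c hc d hd => ?_) fun c d hc hd => by
            rw [map_add, map_add]; exact ⟨dvd_add hc.1 hd.1, dvd_add hc.2 hd.2⟩
          rw [mem_maximalIdeal_iff, ← PowerSeries.X_dvd_iff] at hc hd
          rw [pa_mul, pb_mul]
          refine ⟨dvd_add ?_ (dvd_mul_of_dvd_right (pow_dvd_pow _ (by omega)) _),
            dvd_add (dvd_mul_of_dvd_left hc _) (dvd_mul_of_dvd_right hd _)⟩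
          rw [pow_two]; exact mul_dvd_mul hc hd
        rw [mem_maximalIdeal_iff, ← PowerSeries.X_dvd_iff] at hb
        rw [pa_mul]
        refine dvd_add ?_ (dvd_mul_of_dvd_right (pow_dvd_pow _ (by omega)) _)
        rw [pow_succ]; exact mul_dvd_mul ha2.1 hb
      exact this _ h6
    rw [pa_mul, hg, PowerSeries.X_pow_dvd_iff] at hdvd
    have h := hdvd 2 (by omega)
    rw [show PowerSeries.X * g * (PowerSeries.X * g) + pb r (σ (y k r)) * pb r (σ (y k r)) * PowerSeries.X ^ (r + 1) =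
      PowerSeries.X ^ 2 * (g * g + pb r (σ (y k r)) * pb r (σ (y k r)) * PowerSeries.X ^ (r - 1)) by
        rw [show r + 1 = 2 + (r - 1) by omega, pow_add]; ring] at h
    rw [PowerSeries.coeff_X_pow_mul', if_pos le_rfl, Nat.sub_self, PowerSeries.coeff_zero_eq_constantCoeff_apply] at h
    simp [zero_pow (show r - 1 ≠ 0 by omega)] at h
    show PowerSeries.coeff 1 (pa r (σ (y k r))) = 0
    rw [hg, PowerSeries.coeff_succ_X_mul 0, PowerSeries.coeff_zero_eq_constantCoeff_apply, h]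
  set μ := (L r (σ (x k r))).1 with hμdef
  have hμ : μ ^ 2 = 1 := by
    have e : L r (σ (σ (x k r))) = (L r (σ (x k r))).1 • L r (σ (x k r)) +
        (L r (σ (x k r))).2 • L r (σ (y k r)) := L_map h1r σ.toAlgHom (hm _ (x_mem r))
    rw [hσ, L_x] at e
    have := congrArg Prod.fst e
    simp [hy1] at this
    rw [pow_two]; exact this.symm
  set X' := (2 : k)⁻¹ • (x k r + μ • σ (x k r)) with hX'def
  have hσX : σ X' = μ • X' := by
    rw [hX'def, map_smul, map_add, map_smul, hσ, smul_comm μ (2 : k)⁻¹, smul_add μ, smul_smul μ μ,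
      show μ * μ = 1 by rw [← pow_two]; exact hμ, one_smul, add_comm]
  have hX'm : X' ∈ IsLocalRing.maximalIdeal (ring k r) := by
    rw [hX'def, smul_eq, smul_eq]
    exact Ideal.mul_mem_left _ _ (add_mem (x_mem r) (Ideal.mul_mem_left _ _ (hm _ (x_mem r))))
  have hX'1 : (L r X').1 = 1 := by
    rw [hX'def, L_smul, L_add, L_smul, L_x]
    simp only [Prod.smul_fst, Prod.fst_add, smul_eq_mul, ← hμdef]
    rw [← pow_two, hμ, one_add_one_eq_two, inv_mul_cancel₀ h2]
  obtain ⟨φ, hφ⟩ := exists_algEquiv_x h2 hr X' hX'm hX'1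
  set τ : ring k r ≃ₐ[k] ring k r := φ.trans (σ.trans φ.symm) with hτdef
  have hτ : ∀ z, τ z = φ.symm (σ (φ z)) := fun z => rfl
  have hτx : τ (x k r) = μ • x k r := by
    rw [hτ, hφ, hσX, map_smul]
    congr 1
    rw [← hφ, AlgEquiv.symm_apply_apply]
  have hττ : ∀ z, τ (τ z) = z := fun z => by
    rw [hτ, hτ, AlgEquiv.apply_symm_apply, hσ, AlgEquiv.symm_apply_apply]
  have e : τ (y k r) * τ (y k r) = xMap k r (PowerSeries.C (μ ^ (r + 1)) * PowerSeries.X ^ (r + 1)) := by
    rw [← map_mul, y_sq, map_mul, ← PowerSeries.algebraMap_eq, AlgHom.commutes, map_pow, map_pow, xMap_X, hτx,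
      smul_pow, smul_eq]
  have ea := congrArg (pa r) e
  have eb := congrArg (pb r) e
  rw [pa_mul, pa_xMap] at ea
  rw [pb_mul, pb_xMap] at eb
  set γ := pa r (τ (y k r))
  set δ := pb r (τ (y k r))
  have hδ : δ ≠ 0 := by
    intro hδ
    have h := det_ne_zero h1r τ
    rw [hτx, L_smul, L_x] at h
    have : (L r (τ (y k r))).2 = 0 := by
      show PowerSeries.constantCoeff δ = 0
      rw [hδ, map_zero]
    simp [this] at h
  have h2P : (2 : PowerSeries k) ≠ 0 := fun h => h2 (by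
    have := congrArg PowerSeries.constantCoeff h
    simpa [map_ofNat] using this)
  have hγ : γ = 0 := by
    have : (2 : PowerSeries k) * γ * δ = 0 := by linear_combination eb
    rcases mul_eq_zero.1 this with h | h
    · exact (mul_eq_zero.1 h).resolve_left h2P
    · exact absurd h hδ
  have hδ2 : δ * δ = PowerSeries.C (μ ^ (r + 1)) := by
    rw [hγ] at ea
    refine mul_right_cancel₀ (pow_ne_zero (r + 1) PowerSeries.X_ne_zero) ?_
    linear_combination ea
  have hμne : μ ≠ 0 := fun h => by rw [h] at hμ; simp at hμ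
  have hδu : IsUnit δ := by
    rw [PowerSeries.isUnit_iff_constantCoeff, isUnit_iff_ne_zero]
    intro h
    have := congrArg PowerSeries.constantCoeff hδ2
    rw [map_mul, h, zero_mul, PowerSeries.constantCoeff_C] at this
    exact pow_ne_zero _ hμne this.symm
  set c := PowerSeries.constantCoeff δ with hc
  have hδc : δ = PowerSeries.C c := by
    have hsq : (δ - PowerSeries.C c) * (δ + PowerSeries.C c) = 0 := by
      have : PowerSeries.C c * PowerSeries.C c = PowerSeries.C (μ ^ (r + 1)) := by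
        rw [← map_mul]; congr 1
        have := congrArg PowerSeries.constantCoeff hδ2
        rwa [map_mul, PowerSeries.constantCoeff_C] at this
      linear_combination hδ2 - this
    refine sub_eq_zero.1 ((mul_eq_zero.1 hsq).resolve_right fun h => ?_)
    have := congrArg PowerSeries.constantCoeff h
    simp only [map_add, PowerSeries.constantCoeff_C, ← hc, map_zero, ← two_mul] at this
    exact (PowerSeries.isUnit_iff_constantCoeff.1 hδu).ne_zero ((mul_eq_zero.1 this).resolve_left h2)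
  have hτy : τ (y k r) = c • y k r := by
    conv_lhs => rw [eq_normal r (τ (y k r))]
    show xMap k r γ + xMap k r δ * y k r = _
    rw [hγ, hδc, map_zero, zero_add, ← PowerSeries.algebraMap_eq, AlgHom.commutes, smul_eq]
  have hc2 : c ^ 2 = 1 := by
    have := hττ (y k r)
    rw [hτy, map_smul, hτy, smul_smul] at this
    have := congrArg (fun z => (L r z).2) this
    simpa [L_smul, pow_two] using this
  refine ⟨φ, μ, c, hμ, hc2, ?_, fun h => hne ?_, hτx, hτy⟩
  · rw [← hc2, pow_two, hc, ← map_mul, hδ2, PowerSeries.constantCoeff_C]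
  · obtain ⟨h1, h1'⟩ := h
    have hid : τ = AlgEquiv.refl := algEquiv_eq_refl (by rw [hτx, h1, one_smul]) (by rw [hτy, h1', one_smul])
    ext z
    have := congrArg φ (DFunLike.congr_fun hid (φ.symm z))
    rw [hτ, AlgEquiv.apply_symm_apply, AlgEquiv.apply_symm_apply] at this
    simpa using this

/-! ### The node -/

/-- The two branches of the node. -/
noncomputable def br (ε : k) (hε : ε * ε = 1) : ring k 1 →+* PowerSeries k where
  toFun z := pa 1 z + PowerSeries.C ε * PowerSeries.X * pb 1 z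
  map_one' := by simp
  map_zero' := by simp
  map_add' z w := by simp only [map_add]; ring
  map_mul' z w := by
    simp only [pa_mul, pb_mul]
    have : PowerSeries.C ε * PowerSeries.C ε = 1 := by rw [← map_mul, hε, map_one]
    linear_combination (-(PowerSeries.X ^ 2 * pb 1 z * pb 1 w)) * this

lemma coeff_one_br (ε : k) (hε : ε * ε = 1) (z : ring k 1) :
    PowerSeries.coeff 1 (br ε hε z) = (L 1 z).1 + ε * (L 1 z).2 := by
  show PowerSeries.coeff 1 (pa 1 z + PowerSeries.C ε * PowerSeries.X * pb 1 z) = _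
  rw [map_add, mul_assoc, PowerSeries.coeff_C_mul, PowerSeries.coeff_succ_X_mul 0]
  simp [L]

include h2 in
lemma eq_zero_of_br {z : ring k 1} (hp : br (1 : k) (by simp) z = 0) (hm : br (-1 : k) (by simp) z = 0) : z = 0 := by
  change pa 1 z + PowerSeries.C 1 * PowerSeries.X * pb 1 z = 0 at hp
  change pa 1 z + PowerSeries.C (-1) * PowerSeries.X * pb 1 z = 0 at hm
  rw [map_one] at hp
  rw [map_neg, map_one] at hm
  have h2P : (2 : PowerSeries k) ≠ 0 := fun h => h2 (by
    have := congrArg PowerSeries.constantCoeff h; simpa [map_ofNat] using this)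
  have ha : pa 1 z = 0 := (mul_eq_zero.1 (show 2 * pa 1 z = 0 by linear_combination hp + hm)).resolve_left h2P
  refine ext_normal 1 (by rw [ha, map_zero]) ?_
  rw [map_zero]
  rw [ha] at hp
  exact (mul_eq_zero.1 (show PowerSeries.X * pb 1 z = 0 by linear_combination hp)).resolve_left PowerSeries.X_ne_zero

/-- The node in branch coordinates. -/
theorem node_algEquiv (U V : ring k 1) (hU : U ∈ IsLocalRing.maximalIdeal (ring k 1))
    (hV : V ∈ IsLocalRing.maximalIdeal (ring k 1)) (h : U * U = V * V)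
    (hdet : (L 1 V).1 * (L 1 U).2 - (L 1 V).2 * (L 1 U).1 ≠ 0) :
    ∃ φ : ring k 1 ≃ₐ[k] ring k 1, φ (x k 1) = V ∧ φ (y k 1) = U := by
  obtain ⟨φ, hx, hy⟩ := exists_algHom (r := 1) hV hU (by rw [pow_two, pow_two]; exact h)
  exact ⟨AlgEquiv.ofBijective φ (bijective_of_det φ (by rw [hx, hy]; exact hdet)), hx, hy⟩

include h2 in
theorem involution_node (σ : ring k 1 ≃ₐ[k] ring k 1) (hσ : ∀ a, σ (σ a) = a) (hne : σ ≠ AlgEquiv.refl) :
    ∃ φ : ring k 1 ≃ₐ[k] ring k 1,
      (φ.symm (σ (φ (x k 1))) = x k 1 ∧ φ.symm (σ (φ (y k 1))) = -y k 1) ∨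
      (φ.symm (σ (φ (x k 1))) = -x k 1 ∧ φ.symm (σ (φ (y k 1))) = -y k 1) ∨
      (φ.symm (σ (φ (x k 1))) = y k 1 ∧ φ.symm (σ (φ (y k 1))) = x k 1) := by
  set u := x k 1 + y k 1 with hu
  set v := y k 1 - x k 1 with hv
  have huv : u * v = 0 := by
    have := y_sq (k := k) 1
    rw [map_pow, xMap_X] at this
    rw [hu, hv]; linear_combination this
  have hσuv : σ u * σ v = 0 := by rw [← map_mul, huv, map_zero]
  have hm : ∀ z ∈ IsLocalRing.maximalIdeal (ring k 1), σ z ∈ IsLocalRing.maximalIdeal (ring k 1) :=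
    fun z hz => map_mem_maximalIdeal σ.toAlgHom hz
  have hum : u ∈ IsLocalRing.maximalIdeal (ring k 1) := add_mem (x_mem 1) (y_mem 1)
  have hvm : v ∈ IsLocalRing.maximalIdeal (ring k 1) := sub_mem (y_mem 1) (x_mem 1)
  have hLu : L 1 u = (1, 1) := by rw [hu, L_add, L_x, L_y]; simp
  have hLv : L 1 v = (-1, 1) := by rw [hv, L_sub, L_x, L_y]; simp
  -- the linear parts of the images span
  have hd : (L 1 (σ u)).1 * (L 1 (σ v)).2 - (L 1 (σ u)).2 * (L 1 (σ v)).1 ≠ 0 := by
    have h := det_ne_zero le_rfl σ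
    rw [hu, hv, map_add, map_sub, L_add, L_sub]
    simp only [Prod.fst_add, Prod.snd_add, Prod.fst_sub, Prod.snd_sub]
    intro h'
    refine mul_ne_zero h2 h ?_
    linear_combination h'
  have hinj : Function.Injective σ := σ.injective
  have huz : u ≠ 0 := fun h => by simp [h, L, Prod.ext_iff] at hLu
  have hvz : v ≠ 0 := fun h => by simp [h, L, Prod.ext_iff] at hLv
  have hbru : br (-1 : k) (by simp) u = 0 := by
    show pa 1 u + PowerSeries.C (-1 : k) * PowerSeries.X * pb 1 u = 0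
    simp [hu]
  have hbrv : br (1 : k) (by simp) v = 0 := by
    show pa 1 v + PowerSeries.C (1 : k) * PowerSeries.X * pb 1 v = 0
    simp [hv]
  have hprod : ∀ (ε : k) (hε : ε * ε = 1), br ε hε (σ u) = 0 ∨ br ε hε (σ v) = 0 := fun ε hε => by
    rw [← mul_eq_zero, ← map_mul, hσuv, map_zero]
  have hu0 : σ u ≠ 0 := fun h => huz (hinj (h.trans (map_zero σ).symm))
  have hv0 : σ v ≠ 0 := fun h => hvz (hinj (h.trans (map_zero σ).symm))
  have i2 : (2 : k)⁻¹ + (2 : k)⁻¹ = 1 := by rw [← two_mul, mul_inv_cancel₀ h2]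
  rcases hprod 1 (by simp) with hup | hvp
  · -- the branches are exchanged
    have hum' : br (-1 : k) (by simp) (σ u) ≠ 0 := fun h => hu0 (eq_zero_of_br h2 hup h)
    set U := (2 : k)⁻¹ • (u - σ u) with hU
    set V := (2 : k)⁻¹ • (u + σ u) with hV
    have hmul : u * σ u = 0 := eq_zero_of_br h2 (by rw [map_mul, hup, mul_zero]) (by rw [map_mul, hbru, zero_mul])
    have hσu1 : (L 1 (σ u)).1 + (L 1 (σ u)).2 = 0 := by
      have h := coeff_one_br (1 : k) (by simp) (σ u)
      rw [hup, map_zero, one_mul] at h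
      exact h.symm
    obtain ⟨φ, hφx, hφy⟩ := node_algEquiv U V
      (by rw [hU, smul_eq]; exact Ideal.mul_mem_left _ _ (sub_mem hum (hm _ hum)))
      (by rw [hV, smul_eq]; exact Ideal.mul_mem_left _ _ (add_mem hum (hm _ hum)))
      (by
        rw [hU, hV, smul_mul_smul_comm, smul_mul_smul_comm]
        congr 1
        linear_combination (-4) * hmul) (by
        rw [hU, hV, L_smul, L_smul, L_sub, L_add, hLu]
        simp only [Prod.smul_fst, Prod.smul_snd, Prod.fst_add, Prod.snd_add, Prod.fst_sub, Prod.snd_sub, smul_eq_mul]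
        intro h'
        have hne' : (L 1 (σ u)).1 ≠ 0 := fun h0 => hd (by
          rw [h0] at hσu1 ⊢
          rw [zero_add] at hσu1
          simp [hσu1])
        refine mul_ne_zero h2 (mul_ne_zero (inv_ne_zero h2) (mul_ne_zero (inv_ne_zero h2) (mul_ne_zero h2 hne'))) ?_
        linear_combination h' + (2 * (2 : k)⁻¹ * (2 : k)⁻¹) * hσu1)
    refine ⟨φ, Or.inl ⟨?_, ?_⟩⟩
    · rw [hφx, hV, map_smul σ, map_add σ, hσ, add_comm, ← hV, ← hφx, AlgEquiv.symm_apply_apply]
    · rw [hφy, hU, map_smul σ, map_sub σ, hσ, ← neg_sub, smul_neg, ← hU, ← hφy, map_neg φ.symm,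
        AlgEquiv.symm_apply_apply]
  · -- the branches are preserved
    have hum' : br (-1 : k) (by simp) (σ v) ≠ 0 := fun h => hv0 (eq_zero_of_br h2 hvp h)
    have hup : br (-1 : k) (by simp) (σ u) = 0 := (hprod (-1) (by simp)).resolve_right hum'
    have hσu : (L 1 (σ u)).1 = (L 1 (σ u)).2 := by
      have h := coeff_one_br (-1 : k) (by simp) (σ u)
      rw [hup, map_zero] at h
      linear_combination -h
    have hσv : (L 1 (σ v)).1 = -(L 1 (σ v)).2 := by
      have h := coeff_one_br (1 : k) (by simp) (σ v)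
      rw [hvp, map_zero] at h
      linear_combination -h
    set l := (L 1 (σ u)).1 with hl
    set n := (L 1 (σ v)).2 with hn
    have hLσ : ∀ z ∈ IsLocalRing.maximalIdeal (ring k 1), L 1 (σ z) =
        (L 1 z).1 • L 1 (σ (x k 1)) + (L 1 z).2 • L 1 (σ (y k 1)) := fun z hz => L_map le_rfl σ.toAlgHom hz
    have hl2 : l * l = 1 := by
      have h := hLσ _ (hm _ hum)
      change L 1 (σ (σ u)) = _ at h
      rw [hσ, hLu] at h
      change (1, 1) = (L 1 (σ u)).1 • L 1 (σ (x k 1)) + (L 1 (σ u)).2 • L 1 (σ (y k 1)) at h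
      rw [← hσu, ← smul_add, ← L_add, show σ (x k 1) + σ (y k 1) = σ u by rw [hu, map_add]] at h
      simpa using (congrArg Prod.fst h).symm
    have hn2 : n * n = 1 := by
      have h := hLσ _ (hm _ hvm)
      change L 1 (σ (σ v)) = _ at h
      rw [hσ, hLv] at h
      change (-1, 1) = (L 1 (σ v)).1 • L 1 (σ (x k 1)) + (L 1 (σ v)).2 • L 1 (σ (y k 1)) at h
      rw [hσv, neg_smul, ← sub_eq_neg_add, ← smul_sub, ← L_sub, show σ (y k 1) - σ (x k 1) = σ v by rw [hv, map_sub]] at h
      simpa using (congrArg Prod.snd h).symm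
    set U := (2 : k)⁻¹ • (u + l • σ u) with hU
    set V := (2 : k)⁻¹ • (v + n • σ v) with hV
    have avg : ∀ (c : k) (a : ring k 1), c * c = 1 →
        σ ((2 : k)⁻¹ • (a + c • σ a)) = c • ((2 : k)⁻¹ • (a + c • σ a)) := fun c a hc => by
      rw [map_smul σ, map_add σ, map_smul σ, hσ, smul_comm c, smul_add c, smul_smul c c, hc, one_smul, add_comm]
    have hσU : σ U = l • U := avg l u hl2
    have hσV : σ V = n • V := avg n v hn2
    have hUV : U * V = 0 := by
      apply eq_zero_of_br h2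
      · rw [map_mul]
        have : br (1 : k) (by simp) V = 0 := by
          rw [hV, smul_eq, smul_eq, map_mul, map_add, map_mul, hvp, hbrv]; simp
        rw [this, mul_zero]
      · rw [map_mul]
        have : br (-1 : k) (by simp) U = 0 := by
          rw [hU, smul_eq, smul_eq, map_mul, map_add, map_mul, hup, hbru]; simp
        rw [this, zero_mul]
    have hLU : L 1 U = (1, 1) := by
      rw [hU, L_smul, L_add, L_smul, hLu]
      ext
      · simp only [Prod.smul_fst, Prod.fst_add, smul_eq_mul, ← hl]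
        linear_combination (2 : k)⁻¹ * hl2 + i2
      · simp only [Prod.smul_snd, Prod.snd_add, smul_eq_mul, ← hσu]
        linear_combination (2 : k)⁻¹ * hl2 + i2
    have hLV : L 1 V = (-1, 1) := by
      rw [hV, L_smul, L_add, L_smul, hLv]
      ext
      · simp only [Prod.smul_fst, Prod.fst_add, smul_eq_mul, hσv]
        linear_combination (-(2 : k)⁻¹) * hn2 - i2
      · simp only [Prod.smul_snd, Prod.snd_add, smul_eq_mul, ← hn]
        linear_combination (2 : k)⁻¹ * hn2 + i2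
    have hUm : U ∈ IsLocalRing.maximalIdeal (ring k 1) := by
      rw [hU, smul_eq, smul_eq]
      exact Ideal.mul_mem_left _ _ (add_mem hum (Ideal.mul_mem_left _ _ (hm _ hum)))
    have hVm : V ∈ IsLocalRing.maximalIdeal (ring k 1) := by
      rw [hV, smul_eq, smul_eq]
      exact Ideal.mul_mem_left _ _ (add_mem hvm (Ideal.mul_mem_left _ _ (hm _ hvm)))
    -- coordinates `x' = ± (U - V) / 2`, `y' = (U + V) / 2`
    have mk : ∀ s : k, s * s = 1 → ∃ φ : ring k 1 ≃ₐ[k] ring k 1,
        φ (x k 1) = (s * (2 : k)⁻¹) • (U - V) ∧ φ (y k 1) = (2 : k)⁻¹ • (U + V) := by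
      intro s hs
      refine node_algEquiv _ _ ?_ ?_ ?_ ?_
      · rw [smul_eq]; exact Ideal.mul_mem_left _ _ (add_mem hUm hVm)
      · rw [smul_eq]; exact Ideal.mul_mem_left _ _ (sub_mem hUm hVm)
      · rw [smul_mul_smul_comm, smul_mul_smul_comm,
          show s * (2 : k)⁻¹ * (s * (2 : k)⁻¹) = (2 : k)⁻¹ * (2 : k)⁻¹ by
            linear_combination ((2 : k)⁻¹ * (2 : k)⁻¹) * hs]
        congr 1
        linear_combination 4 * hUV
      · rw [L_smul, L_smul, L_add, L_sub, hLU, hLV]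
        simp only [Prod.smul_fst, Prod.smul_snd, Prod.fst_add, Prod.snd_add, Prod.fst_sub, Prod.snd_sub, smul_eq_mul]
        intro h'
        have hs0 : s ≠ 0 := fun h => by rw [h] at hs; simp at hs
        refine mul_ne_zero hs0 (mul_ne_zero (mul_ne_zero h2 h2) (mul_ne_zero (inv_ne_zero h2) (inv_ne_zero h2))) ?_
        linear_combination h'
    have hcases : ∀ {a : k}, a * a = 1 → a = 1 ∨ a = -1 := fun h => mul_self_eq_one_iff.1 h
    rcases hcases hl2 with hl1 | hl1 <;> rcases hcases hn2 with hn1 | hn1 <;>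
      rw [hl1] at hσU <;> rw [hn1] at hσV <;> (try rw [one_smul] at hσU) <;> (try rw [one_smul] at hσV) <;>
      (try rw [neg_one_smul] at hσU) <;> (try rw [neg_one_smul] at hσV)
    · obtain ⟨φ, hφx, hφy⟩ := mk 1 (by simp)
      exfalso; apply hne
      have hτ : φ.trans (σ.trans φ.symm) = AlgEquiv.refl := by
        apply algEquiv_eq_refl
        · show φ.symm (σ (φ (x k 1))) = _
          rw [hφx, map_smul σ, map_sub σ, hσU, hσV, ← hφx, AlgEquiv.symm_apply_apply]
        · show φ.symm (σ (φ (y k 1))) = _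
          rw [hφy, map_smul σ, map_add σ, hσU, hσV, ← hφy, AlgEquiv.symm_apply_apply]
      ext z
      have := congrArg φ (DFunLike.congr_fun hτ (φ.symm z))
      simpa using this
    · obtain ⟨φ, hφx, hφy⟩ := mk 1 (by simp)
      rw [one_mul] at hφx
      refine ⟨φ, Or.inr (Or.inr ⟨?_, ?_⟩)⟩
      · rw [hφx, map_smul σ, map_sub σ, hσU, hσV, sub_neg_eq_add, ← hφy, AlgEquiv.symm_apply_apply]
      · rw [hφy, map_smul σ, map_add σ, hσU, hσV, ← sub_eq_add_neg, ← hφx, AlgEquiv.symm_apply_apply]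
    · obtain ⟨φ, hφx, hφy⟩ := mk (-1) (by simp)
      rw [neg_one_mul, neg_smul, ← smul_neg, neg_sub] at hφx
      refine ⟨φ, Or.inr (Or.inr ⟨?_, ?_⟩)⟩
      · rw [hφx, map_smul σ, map_sub σ, hσU, hσV, sub_neg_eq_add, add_comm, ← hφy, AlgEquiv.symm_apply_apply]
      · rw [hφy, map_smul σ, map_add σ, hσU, hσV, ← sub_eq_neg_add, ← hφx, AlgEquiv.symm_apply_apply]
    · obtain ⟨φ, hφx, hφy⟩ := mk 1 (by simp)
      rw [one_mul] at hφx
      refine ⟨φ, Or.inr (Or.inl ⟨?_, ?_⟩)⟩
      · rw [hφx, map_smul σ, map_sub σ, hσU, hσV, ← neg_sub', smul_neg, ← hφx, map_neg φ.symm, AlgEquiv.symm_apply_apply]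
      · rw [hφy, map_smul σ, map_add σ, hσU, hσV, ← neg_add, smul_neg, ← hφy, map_neg φ.symm, AlgEquiv.symm_apply_apply]

include h2 in
/-- `A_0`, a smooth branch. -/
theorem involution_zero (σ : ring k 0 ≃ₐ[k] ring k 0) (hσ : ∀ a, σ (σ a) = a) (hne : σ ≠ AlgEquiv.refl) :
    ∃ φ : ring k 0 ≃ₐ[k] ring k 0,
      φ.symm (σ (φ (x k 0))) = x k 0 ∧ φ.symm (σ (φ (y k 0))) = -y k 0 := by
  have hm : ∀ z ∈ IsLocalRing.maximalIdeal (ring k 0), σ z ∈ IsLocalRing.maximalIdeal (ring k 0) :=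
    fun z hz => map_mem_maximalIdeal σ.toAlgHom hz
  have hx2 : x k 0 = y k 0 * y k 0 := by rw [y_sq, zero_add, pow_one, xMap_X]
  have hD : ∀ z ∈ IsLocalRing.maximalIdeal (ring k 0) ^ 2, (L 0 z).2 = 0 := by
    intro z hz
    rw [pow_two] at hz
    refine Submodule.mul_induction_on hz (fun a ha b hb => ?_) fun a b ha hb => by
      rw [L_add, Prod.snd_add, ha, hb, add_zero]
    rw [mem_maximalIdeal_iff] at ha hb
    show PowerSeries.constantCoeff (pb 0 (a * b)) = 0
    rw [pb_mul]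
    simp [ha, hb]
  set lam := (L 0 (σ (y k 0))).2 with hlam
  have hlin : ∀ z ∈ IsLocalRing.maximalIdeal (ring k 0), (L 0 (σ z)).2 = (L 0 z).2 * lam := by
    intro z hz
    have h : σ (z - ((L 0 z).1 • x k 0 + (L 0 z).2 • y k 0)) ∈ IsLocalRing.maximalIdeal (ring k 0) ^ 2 :=
      map_mem_pow σ.toAlgHom (sub_linear_mem_sq 0 hz)
    have h1 := hD _ h
    have hx' : (L 0 (σ (x k 0))).2 = 0 := hD _ (by
      rw [hx2, map_mul, pow_two]
      exact Ideal.mul_mem_mul (hm _ (y_mem 0)) (hm _ (y_mem 0)))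
    rw [map_sub σ, map_add σ, map_smul σ, map_smul σ, L_sub, L_add, L_smul, L_smul] at h1
    simp only [Prod.snd_sub, Prod.snd_add, Prod.smul_snd, smul_eq_mul, hx', mul_zero, zero_add, sub_eq_zero] at h1
    exact h1
  have hl2 : lam * lam = 1 := by
    have := hlin _ (hm _ (y_mem 0))
    rw [hσ, L_y] at this
    exact this.symm
  set Y := (2 : k)⁻¹ • (y k 0 + lam • σ (y k 0)) with hY
  have hσY : σ Y = lam • Y := by
    rw [hY, map_smul σ, map_add σ, map_smul σ, hσ, smul_comm lam, smul_add lam, smul_smul lam lam, hl2, one_smul,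
      add_comm]
  have hYm : Y ∈ IsLocalRing.maximalIdeal (ring k 0) := by
    rw [hY, smul_eq, smul_eq]
    exact Ideal.mul_mem_left _ _ (add_mem (y_mem 0) (Ideal.mul_mem_left _ _ (hm _ (y_mem 0))))
  have hY1 : (L 0 Y).2 = 1 := by
    rw [hY, L_smul, L_add, L_smul, L_y]
    simp only [Prod.smul_snd, Prod.snd_add, smul_eq_mul, ← hlam]
    rw [hl2, one_add_one_eq_two, inv_mul_cancel₀ h2]
  obtain ⟨φ₀, hφx, hφy⟩ := exists_algHom (r := 0) (u := Y * Y) (w := Y)
    (Ideal.mul_mem_left _ _ hYm) hYm (by rw [pow_two, zero_add, pow_one])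
  have hb : Function.Bijective φ₀ := bijective_of_det φ₀ (by
    rw [hφx, hφy, hY1]
    have hY2 : (L 0 (Y * Y)).2 = 0 := hD _ (by rw [pow_two]; exact Ideal.mul_mem_mul hYm hYm)
    have hY3 : (L 0 (Y * Y)).1 = 1 := by
      obtain ⟨g, hg⟩ := PowerSeries.X_dvd_iff.2 ((mem_maximalIdeal_iff 0 _).1 hYm)
      show PowerSeries.coeff 1 (pa 0 (Y * Y)) = 1
      have h1 : PowerSeries.constantCoeff (pb 0 Y) = 1 := hY1
      rw [pa_mul, hg, show PowerSeries.X * g * (PowerSeries.X * g) + pb 0 Y * pb 0 Y * PowerSeries.X ^ (0 + 1) =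
        PowerSeries.X * (PowerSeries.X * g * g + pb 0 Y * pb 0 Y) by ring, PowerSeries.coeff_succ_X_mul 0,
        PowerSeries.coeff_zero_eq_constantCoeff_apply]
      simp [h1]
    rw [hY2, hY3]; simp)
  set φ := AlgEquiv.ofBijective φ₀ hb
  have ey : φ (y k 0) = Y := hφy
  have ex : φ (x k 0) = Y * Y := hφx
  have hsy : φ.symm (σ (φ (y k 0))) = lam • y k 0 := by
    rw [ey, hσY, ← ey, map_smul φ.symm, AlgEquiv.symm_apply_apply]
  have hsx : φ.symm (σ (φ (x k 0))) = x k 0 := by
    rw [ex, map_mul σ, hσY, smul_mul_smul_comm, hl2, one_smul, ← ex, AlgEquiv.symm_apply_apply]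
  refine ⟨φ, hsx, ?_⟩
  rcases mul_self_eq_one_iff.1 hl2 with h1 | h1
  · exfalso; apply hne
    have hτ : φ.trans (σ.trans φ.symm) = AlgEquiv.refl :=
      algEquiv_eq_refl hsx (hsy.trans (by rw [h1, one_smul]))
    ext z
    have := congrArg φ (DFunLike.congr_fun hτ (φ.symm z))
    simpa using this
  · rw [hsy, h1, neg_one_smul]

end Groth.Misc6.Ar
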