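import Mathlib
import Groth.Prelude.Def_CAlg
import Groth.Prelude.Def_EGA4b
import Groth.Agent.LocCohBase.DepthLocal
import Groth.Agent.FiltBlProj.DegreeZero

/-!
Flatness and reducedness of the fibre over an Artinian local ring, from codimension one:
`B` satisfies (S₁), `B_red` satisfies (S₂), and in codimension ≤ 1 `B` is flat with reduced fibre.
-/

set_option autoImplicit false

universe u v

open IsLocalRing TensorProduct

namespace Groth.Misc6.ArtinFlat

variable {A : Type u} [CommRing A] [IsLocalRing A]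

/-- A covering pair of ideals is generated over the smaller one by a socle element. -/
lemma exists_eq_sup_of_covBy [IsArtinianRing A] {J I : Ideal A} (h : J ⋖ I) :
    ∃ e ∉ J, I = J ⊔ Ideal.span {e} ∧ ∀ a ∈ maximalIdeal A, a * e ∈ J := by
  obtain ⟨e, heI, heJ⟩ := SetLike.exists_of_lt h.lt
  refine ⟨e, heJ, ?_, fun a ha => ?_⟩
  · refine ((h.eq_or_eq le_sup_left (sup_le h.le ((Ideal.span_singleton_le_iff_mem I).2 heI))).resolve_left ?_).symm
    intro he
    exact heJ (he ▸ Ideal.mem_sup_right (Ideal.mem_span_singleton_self e))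
  · by_contra hae
    have hI : J ⊔ Ideal.span {a * e} = I := by
      refine (h.eq_or_eq le_sup_left (sup_le h.le ?_)).resolve_left ?_
      · exact (Ideal.span_singleton_le_iff_mem I).2 (I.mul_mem_left a heI)
      · intro he
        exact hae (he ▸ Ideal.mem_sup_right (Ideal.mem_span_singleton_self _))
    rw [← hI] at heI
    obtain ⟨j, hj, r, hr, e1⟩ := Submodule.mem_sup.1 heI
    obtain ⟨c, rfl⟩ := Ideal.mem_span_singleton'.1 hr
    have hu : IsUnit (1 - c * a) := IsLocalRing.isUnit_one_sub_self_of_mem_nonunits _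
      ((IsLocalRing.mem_maximalIdeal _).1 (Ideal.mul_mem_left _ c ha))
    refine heJ ((Ideal.unit_mul_mem_iff_mem J hu).1 ?_)
    have : (1 - c * a) * e = j := by linear_combination -e1
    rw [this]; exact hj

/-- For a flat module, `e • c ∈ J M` with `e ∉ J` forces `c ∈ m M`. -/
lemma mem_smul_top_of_smul_mem {M : Type v} [AddCommGroup M] [Module A M] [Module.Flat A M]
    {J : Ideal A} {e : A} (he : e ∉ J) (hme : ∀ a ∈ maximalIdeal A, a * e ∈ J) {c : M}
    (hc : e • c ∈ J • (⊤ : Submodule A M)) : c ∈ maximalIdeal A • (⊤ : Submodule A M) := by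
  let u : A ⧸ maximalIdeal A →ₗ[A] A ⧸ J := Submodule.liftQ _
    (LinearMap.toSpanSingleton A (A ⧸ J) (Ideal.Quotient.mk J e)) fun a ha => by
      rw [LinearMap.mem_ker, LinearMap.toSpanSingleton_apply, Algebra.smul_def,
        Ideal.Quotient.algebraMap_eq, ← map_mul, Ideal.Quotient.eq_zero_iff_mem]
      exact hme a ha
  have hu : Function.Injective u := by
    rw [injective_iff_map_eq_zero]
    intro x hx
    induction x using Submodule.Quotient.induction_on with
    | _ a =>
      rw [Submodule.Quotient.mk_eq_zero]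
      by_contra ha
      apply he
      have h1 : a * e ∈ J := by
        rw [← Ideal.Quotient.eq_zero_iff_mem, map_mul, ← Ideal.Quotient.algebraMap_eq, ← Algebra.smul_def]
        exact hx
      exact (Ideal.unit_mul_mem_iff_mem J (IsLocalRing.notMem_maximalIdeal.1 ha)).1 h1
  rw [← LinearMap.ker_tensorProductMk (Q := M) (I := J), LinearMap.mem_ker] at hc
  rw [← LinearMap.ker_tensorProductMk (Q := M) (I := maximalIdeal A), LinearMap.mem_ker]
  apply Module.Flat.rTensor_preserves_injective_linearMap (M := M) u hu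
  rw [map_zero, ← hc, TensorProduct.mk_apply, TensorProduct.mk_apply, LinearMap.rTensor_tmul, ← smul_tmul]
  congr 1
  change (1 : A) • Ideal.Quotient.mk J e = _
  rw [one_smul, Algebra.smul_def, Ideal.Quotient.algebraMap_eq, mul_one]

variable [IsArtinianRing A] {B : Type u} [CommRing B] [Algebra A B]

lemma map_maximalIdeal_le (P : Ideal B) [P.IsPrime] : (maximalIdeal A).map (algebraMap A B) ≤ P := by
  refine Ideal.map_le_iff_le_comap.2 ?_
  have := IsArtinianRing.isMaximal_of_isPrime (P.comap (algebraMap A B))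
  rw [IsLocalRing.eq_maximalIdeal this]

lemma map_maximalIdeal_le_nilradical :
    (maximalIdeal A).map (algebraMap A B) ≤ nilradical B := by
  rw [nilradical_eq_sInf]
  exact le_sInf fun P (hP : P.IsPrime) => map_maximalIdeal_le P

/-- Regularity modulo `m` of multiplication by `x` gives regularity modulo every ideal. -/
lemma mem_map_of_mul_mem [Module.Flat A B] {x : B}
    (hx : ∀ c, x * c ∈ (maximalIdeal A).map (algebraMap A B) → c ∈ (maximalIdeal A).map (algebraMap A B))
    (J : Ideal A) : ∀ z, x * z ∈ J.map (algebraMap A B) → z ∈ J.map (algebraMap A B) := by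
  induction J using WellFoundedGT.induction with
  | _ J ih =>
    intro z hz
    by_cases hJ : J = ⊤
    · subst hJ; rw [Ideal.map_top]; trivial
    obtain ⟨I, hcov, -⟩ := exists_covBy_le_of_lt (lt_top_iff_ne_top.2 hJ)
    obtain ⟨e, heJ, rfl, hme⟩ := exists_eq_sup_of_covBy hcov
    have h1 := ih _ hcov.lt z (Ideal.map_mono hcov.le hz)
    rw [Ideal.map_sup, Ideal.map_span, Set.image_singleton] at h1
    obtain ⟨w, hw, r, hr, rfl⟩ := Submodule.mem_sup.1 h1
    obtain ⟨c, rfl⟩ := Ideal.mem_span_singleton'.1 hr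
    have h2 : algebraMap A B e * (x * c) ∈ J.map (algebraMap A B) := by
      have : algebraMap A B e * (x * c) = x * (w + c * algebraMap A B e) - x * w := by ring
      rw [this]
      exact sub_mem hz (Ideal.mul_mem_left _ x hw)
    have h3 : x * c ∈ (maximalIdeal A).map (algebraMap A B) := by
      have := mem_smul_top_of_smul_mem (M := B) heJ hme (c := x * c)
        (by rw [Ideal.smul_top_eq_map, Submodule.restrictScalars_mem, Algebra.smul_def]; exact h2)
      rwa [Ideal.smul_top_eq_map, Submodule.restrictScalars_mem] at this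
    refine add_mem hw ?_
    have h4 := Ideal.mul_mem_mul (hx c h3) (Ideal.mem_span_singleton_self (algebraMap A B e))
    rw [← Set.image_singleton, ← Ideal.map_span, ← Ideal.map_mul] at h4
    refine Ideal.map_mono ?_ h4
    rw [Ideal.mul_le]
    intro a ha r hr
    obtain ⟨t, rfl⟩ := Ideal.mem_span_singleton'.1 hr
    rw [mul_left_comm]
    exact J.mul_mem_left t (hme a ha)

variable [IsNoetherianRing B]

omit [Algebra A B] in
lemma exists_mem_of_notMem_minimalPrimes {P : Ideal B} [P.IsPrime] (hP : P ∉ minimalPrimes B) :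
    ∃ x ∈ P, ∀ q ∈ minimalPrimes B, x ∉ q := by
  have h : ¬ (P : Set B) ⊆ ⋃ q ∈ minimalPrimes B, (q : Set B) := by
    intro hsub
    obtain ⟨q, hq, hle⟩ := (Ideal.subset_union_prime_finite (minimalPrimes.finite_of_isNoetherianRing B)
      (f := id) 0 0 fun _ hq _ _ => Ideal.minimalPrimes_isPrime hq).1 hsub
    exact hP (le_antisymm hle (hq.2 ⟨‹_›, bot_le⟩ hle) ▸ hq)
  obtain ⟨x, hx, hx'⟩ := Set.not_subset.1 h
  exact ⟨x, hx, fun q hq hxq => hx' (Set.mem_biUnion hq hxq)⟩

omit [Algebra A B] [IsNoetherianRing B] in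
lemma mem_nilradical_of_forall_minimalPrimes {b : B} (h : ∀ q ∈ minimalPrimes B, b ∈ q) :
    b ∈ nilradical B := by
  rw [nilradical_eq_sInf, Ideal.mem_sInf]
  intro P hP
  have : P.IsPrime := hP
  obtain ⟨q, hq, hle⟩ := Ideal.exists_minimalPrimes_le (bot_le : ⊥ ≤ P)
  exact hle (h q hq)

omit [Algebra A B] in
/-- The elementary form of (S₂) for the reduction. -/
lemma exists_smul_mem_of_hasSk_two (hS2 : LocCoh.HasSk 2 (B ⧸ nilradical B) (B ⧸ nilradical B))
    (P : Ideal B) [P.IsPrime] (hht : 2 ≤ P.height) {x : B} (hxP : x ∈ P)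
    (hx : ∀ q ∈ minimalPrimes B, x ∉ q) {y : B}
    (hy : ∀ r ∈ P, r * y ∈ Ideal.span {x} ⊔ nilradical B) :
    ∃ s ∉ P, s * y ∈ Ideal.span {x} ⊔ nilradical B := by
  set N := nilradical B with hN
  set π := Ideal.Quotient.mk N with hπ
  have hπs : Function.Surjective π := Ideal.Quotient.mk_surjective
  have hker : ∀ Q : Ideal B, Q.IsPrime → RingHom.ker π ≤ Q := fun Q hQ => by
    rw [hπ, Ideal.mk_ker, hN, nilradical_eq_sInf]; exact sInf_le hQ
  have hcm : ∀ Q : Ideal B, Q.IsPrime → (Q.map π).comap π = Q := fun Q hQ => by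
    rw [Ideal.comap_map_of_surjective π hπs]; exact sup_eq_left.2 (hker Q hQ)
  set P' := P.map π with hP'
  have : P'.IsPrime := Ideal.map_isPrime_of_surjective hπs (hker P ‹_›)
  have hht' : 2 ≤ P'.height := by
    refine hht.trans ?_
    let f : PrimeSpectrum B → PrimeSpectrum (B ⧸ N) := fun Q =>
      ⟨Q.asIdeal.map π, Ideal.map_isPrime_of_surjective hπs (hker _ Q.2)⟩
    have hf : StrictMono f := fun Q Q' h => by
      refine lt_of_le_of_ne (Ideal.map_mono h.le) fun he => h.ne (PrimeSpectrum.ext ?_)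
      rw [← hcm _ Q.2, ← hcm _ Q'.2]
      exact congrArg (Ideal.comap π) (congrArg PrimeSpectrum.asIdeal he)
    have := Order.height_le_height_apply_of_strictMono f hf ⟨P, ‹_›⟩
    rwa [← PrimeSpectrum.height_eq_orderHeight, ← PrimeSpectrum.height_eq_orderHeight] at this
  set L := Localization.AtPrime P'
  have hd := hS2 P'
  have hdim : Module.supportDim L (LocalizedModule P'.primeCompl (B ⧸ N)) = (P'.height : WithBot ℕ∞) := by
    have e : Module.supportDim L (LocalizedModule P'.primeCompl (B ⧸ N)) = ringKrullDim L :=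
      Module.supportDim_self_eq_ringKrullDim _
    rw [e, IsLocalization.AtPrime.ringKrullDim_eq_height P' L]
  rw [hdim, ← WithBot.coe_natCast, ← WithBot.coe_min, WithBot.coe_le_coe, min_eq_left (show ((2 : ℕ) : ℕ∞) ≤ _ from hht')] at hd
  replace hd : ((2 : ℕ) : ℕ∞) ≤ LocCoh.idealDepth (maximalIdeal L) L := hd
  set x' := algebraMap (B ⧸ N) L (π x) with hx'
  have hx'm : x' ∈ maximalIdeal L :=
    (IsLocalization.AtPrime.to_map_mem_maximal_iff L P' _).2 (Ideal.mem_map_of_mem π hxP)
  have hnzd : ∀ c : B ⧸ N, π x * c = 0 → c = 0 := by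
    intro c hc
    obtain ⟨c, rfl⟩ := hπs c
    rw [← map_mul, hπ, Ideal.Quotient.eq_zero_iff_mem] at hc
    rw [hπ, Ideal.Quotient.eq_zero_iff_mem]
    refine mem_nilradical_of_forall_minimalPrimes fun q hq => ?_
    have hqp := Ideal.minimalPrimes_isPrime hq
    refine (hqp.mem_or_mem ?_).resolve_left (hx q hq)
    exact hker q hqp (by rwa [hπ, Ideal.mk_ker])
  have hreg : IsSMulRegular L x' := by
    suffices h0 : ∀ m : L, x' * m = 0 → m = 0 from
      fun a b hab => sub_eq_zero.1 (h0 _ (by simpa only [mul_sub, sub_eq_zero, smul_eq_mul] using hab))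
    intro m hm
    obtain ⟨c, s, rfl⟩ := IsLocalization.exists_mk'_eq P'.primeCompl m
    rw [hx', IsLocalization.mul_mk'_eq_mk'_of_mul, IsLocalization.mk'_eq_zero_iff] at hm
    obtain ⟨t, ht⟩ := hm
    rw [IsLocalization.mk'_eq_zero_iff]
    exact ⟨t, hnzd _ (by rwa [mul_left_comm])⟩
  have hIM : maximalIdeal L • (⊤ : Submodule L L) ≠ ⊤ :=
    (Submodule.top_ne_ideal_smul_of_le_jacobson_annihilator (IsLocalRing.maximalIdeal_le_jacobson _)).symm
  have hd1 : ((1 : ℕ) : ℕ∞) ≤ LocCoh.idealDepth (maximalIdeal L) (QuotSMulTop x' L) := by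
    rw [← Groth.LocCohBase.idealDepth_quotSMulTop_add_one _ L hIM hx'm hreg] at hd
    exact (ENat.add_le_add_iff_right ENat.one_ne_top).1 (le_trans (by norm_num) hd)
  obtain ⟨rs, hlen, hrs, hmem⟩ := (Groth.LocCohBase.le_idealDepth_iff_exists _
    (Groth.LocCohBase.smul_top_quotSMulTop_ne_top hx'm hIM) 1).1 hd1
  obtain ⟨w, rfl⟩ := List.length_eq_one_iff.1 hlen
  have hwreg := (RingTheory.Sequence.isWeaklyRegular_singleton_iff _ _).1 hrs
  have hkill : ∀ t ∈ maximalIdeal L, t * algebraMap _ L (π y) ∈ Ideal.span {x'} := by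
    intro t ht
    rw [← Localization.AtPrime.map_eq_maximalIdeal] at ht
    have : P'.map (algebraMap (B ⧸ N) L) ≤
        (Ideal.span {x'}).colon {algebraMap (B ⧸ N) L (π y)} := by
      refine Ideal.map_le_iff_le_comap.2 (Ideal.map_le_iff_le_comap.2 ?_)
      intro r hr
      rw [Ideal.mem_comap, Ideal.mem_comap, Submodule.mem_colon_singleton, smul_eq_mul, ← map_mul, ← map_mul]
      have := Ideal.mem_map_of_mem ((algebraMap (B ⧸ N) L).comp π) (hy r hr)
      rw [Ideal.map_sup, Ideal.map_span, Set.image_singleton] at this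
      obtain ⟨a, ha, b, hb, e⟩ := Submodule.mem_sup.1 this
      have hb0 : N.map ((algebraMap (B ⧸ N) L).comp π) = ⊥ := by
        rw [← Ideal.map_map, hπ, Ideal.map_quotient_self, Ideal.map_bot]
      rw [hb0, Ideal.mem_bot] at hb
      rw [hb, add_zero] at e
      rw [RingHom.comp_apply] at e
      exact e ▸ ha
    have := this ht
    rwa [Submodule.mem_colon_singleton, smul_eq_mul] at this
  have hy0 : (Submodule.Quotient.mk (algebraMap _ L (π y)) : QuotSMulTop x' L) = 0 := by
    refine hwreg.right_eq_zero_of_smul ?_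
    rw [← Submodule.Quotient.mk_smul, Submodule.Quotient.mk_eq_zero,
      Submodule.mem_smul_pointwise_iff_exists]
    obtain ⟨a, ha⟩ := Ideal.mem_span_singleton'.1 (hkill w (hmem w (by simp)))
    exact ⟨a, trivial, by rw [smul_eq_mul, smul_eq_mul, ← ha, mul_comm]⟩
  rw [Submodule.Quotient.mk_eq_zero, Submodule.mem_smul_pointwise_iff_exists] at hy0
  obtain ⟨a, -, ha⟩ := hy0
  have hmem' : algebraMap (B ⧸ N) L (π y) ∈ (Ideal.span {π x}).map (algebraMap (B ⧸ N) L) := by
    rw [← ha, Ideal.map_span, Set.image_singleton, smul_eq_mul]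
    exact Ideal.mul_mem_right a _ (Ideal.mem_span_singleton_self _)
  rw [IsLocalization.algebraMap_mem_map_algebraMap_iff P'.primeCompl L] at hmem'
  obtain ⟨s, hs, hsy⟩ := hmem'
  obtain ⟨s, rfl⟩ := hπs s
  refine ⟨s, fun h => hs (Ideal.mem_map_of_mem π h), ?_⟩
  rw [← map_mul, ← Set.image_singleton, ← Ideal.map_span, ← Ideal.mem_comap,
    Ideal.comap_map_of_surjective π hπs] at hsy
  rwa [← RingHom.ker_eq_comap_bot, hπ, Ideal.mk_ker] at hsy

variable (A B) in
/-- The hypotheses. -/
structure Hyp : Prop where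
  ass : ∀ P ∈ associatedPrimes B B, P ∈ minimalPrimes B
  sTwo : LocCoh.HasSk 2 (B ⧸ nilradical B) (B ⧸ nilradical B)
  flat : ∀ (q : Ideal B) [q.IsPrime], q.height ≤ 1 → Module.Flat A (Localization.AtPrime q)
  red : ∀ (q : Ideal B) [q.IsPrime], q.height ≤ 1 →
    IsReduced (Localization.AtPrime q ⧸ (maximalIdeal A).map (algebraMap A (Localization.AtPrime q)))

variable (A B) in
lemma hyp_of (hS1 : LocCoh.HasSk 1 B B) (hS2 : LocCoh.HasSk 2 (B ⧸ nilradical B) (B ⧸ nilradical B))
    (hcodim : ∀ (q : Ideal B) [q.IsPrime], q.height ≤ 1 →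
      Module.Flat A (Localization.AtPrime q) ∧ IsReduced (EGA4.FibLocRing A B q)) : Hyp A B where
  ass P hP := Groth.FiltBlProj.mem_minimalPrimes_of_mem_associatedPrimes hS1 hP
  sTwo := hS2
  flat q _ h := (hcodim q h).1
  red q _ h := by
    have hm : q.comap (algebraMap A B) = maximalIdeal A :=
      IsLocalRing.eq_maximalIdeal (IsArtinianRing.isMaximal_of_isPrime _)
    have := (hcodim q h).2
    change IsReduced (Localization.AtPrime q ⧸ (q.comap (algebraMap A B)).map (algebraMap A (Localization.AtPrime q))) at this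
    rwa [hm] at this

/-- Elements of `B` lying in `m B_q` locally, for `n` in the nilradical. -/
lemma Hyp.exists_mul_mem_map_maximalIdeal (H : Hyp A B) {n : B} (hn : n ∈ nilradical B)
    (q : Ideal B) [q.IsPrime] (hq : q.height ≤ 1) :
    ∃ s ∉ q, s * n ∈ (maximalIdeal A).map (algebraMap A B) := by
  have := H.red q hq
  have h : algebraMap B (Localization.AtPrime q) n ∈
      (maximalIdeal A).map (algebraMap A (Localization.AtPrime q)) := by
    rw [← Ideal.Quotient.eq_zero_iff_mem]
    refine IsNilpotent.eq_zero ?_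
    exact ((mem_nilradical.1 hn).map (algebraMap B (Localization.AtPrime q))).map (Ideal.Quotient.mk _)
  rw [IsScalarTower.algebraMap_eq A B (Localization.AtPrime q), ← Ideal.map_map,
    IsLocalization.algebraMap_mem_map_algebraMap_iff q.primeCompl] at h
  exact h

/-- `J B` has no embedded primes. -/
def NoEmb (J : Ideal A) : Prop :=
  ∀ b : B, (∀ q ∈ minimalPrimes B, ∃ s ∉ q, s * b ∈ J.map (algebraMap A B)) →
    b ∈ J.map (algebraMap A B)

lemma Hyp.mem_nilradical_of_mul_mem (H : Hyp A B) {J : Ideal A} {e : A} (he : e ∉ J)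
    (hme : ∀ a ∈ maximalIdeal A, a * e ∈ J) {c : B}
    (hc : algebraMap A B e * c ∈ J.map (algebraMap A B)) : c ∈ nilradical B := by
  refine mem_nilradical_of_forall_minimalPrimes fun q hq => ?_
  have := Ideal.minimalPrimes_isPrime hq
  set L := Localization.AtPrime q
  have : Module.Flat A L := H.flat q (by rw [Ideal.height_eq_zero_iff.2 hq]; exact zero_le)
  have h := mem_smul_top_of_smul_mem (M := L) he hme (c := algebraMap B L c) (by
    rw [Ideal.smul_top_eq_map, Submodule.restrictScalars_mem, Algebra.smul_def,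
      IsScalarTower.algebraMap_apply A B L, ← map_mul, IsScalarTower.algebraMap_eq A B L,
      ← Ideal.map_map]
    exact Ideal.mem_map_of_mem _ hc)
  rw [Ideal.smul_top_eq_map, Submodule.restrictScalars_mem] at h
  exact (IsLocalization.AtPrime.to_map_mem_maximal_iff L q c).1 (map_maximalIdeal_le _ h)

lemma Hyp.mul_mem_of_mem_nilradical (H : Hyp A B) {J : Ideal A} (hJ : NoEmb (B := B) J) {e : A}
    (hme : ∀ a ∈ maximalIdeal A, a * e ∈ J) {c : B} (hc : c ∈ nilradical B) :
    algebraMap A B e * c ∈ J.map (algebraMap A B) := by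
  refine hJ _ fun q hq => ?_
  have := Ideal.minimalPrimes_isPrime hq
  obtain ⟨s, hs, hsc⟩ := H.exists_mul_mem_map_maximalIdeal hc q
    (by rw [Ideal.height_eq_zero_iff.2 hq]; exact zero_le)
  refine ⟨s, hs, ?_⟩
  rw [mul_left_comm, mul_comm]
  have h4 := Ideal.mul_mem_mul hsc (Ideal.mem_span_singleton_self (algebraMap A B e))
  rw [← Set.image_singleton, ← Ideal.map_span, ← Ideal.map_mul] at h4
  refine Ideal.map_mono ?_ h4
  rw [Ideal.mul_le]
  intro a ha r hr
  obtain ⟨t, rfl⟩ := Ideal.mem_span_singleton'.1 hr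
  rw [mul_left_comm]
  exact J.mul_mem_left t (hme a ha)

lemma mem_map_sup_span {J : Ideal A} {e : A} {b : B} :
    b ∈ (J ⊔ Ideal.span {e}).map (algebraMap A B) ↔
      ∃ w ∈ J.map (algebraMap A B), ∃ c, w + algebraMap A B e * c = b := by
  rw [Ideal.map_sup, Ideal.map_span, Set.image_singleton, Submodule.mem_sup]
  refine exists_congr fun w => and_congr_right fun _ => ?_
  constructor
  · rintro ⟨r, hr, e1⟩
    obtain ⟨c, rfl⟩ := Ideal.mem_span_singleton'.1 hr
    exact ⟨c, by rw [mul_comm]; exact e1⟩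
  · rintro ⟨c, e1⟩
    exact ⟨_, Ideal.mul_mem_right c _ (Ideal.mem_span_singleton_self _), e1⟩

lemma Hyp.noEmb (H : Hyp A B) (I : Ideal A) : NoEmb (B := B) I := by
  induction I using WellFoundedLT.induction with
  | _ I ih =>
    intro b hb
    by_contra hbI
    obtain ⟨P, hPass, hle⟩ := exists_le_isAssociatedPrime_of_isNoetherianRing B
      (Ideal.Quotient.mk (I.map (algebraMap A B)) b)
      (fun h => hbI (Ideal.Quotient.eq_zero_iff_mem.1 h))
    obtain ⟨hPp, z, hz⟩ := isAssociatedPrime_iff.1 hPass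
    obtain ⟨z, rfl⟩ := Ideal.Quotient.mk_surjective z
    have hmem : ∀ r, r ∈ P ↔ r * z ∈ I.map (algebraMap A B) := fun r => by
      rw [hz, Submodule.mem_colon_singleton, Submodule.mem_bot, Algebra.smul_def,
        Ideal.Quotient.algebraMap_eq, ← map_mul, Ideal.Quotient.eq_zero_iff_mem]
    by_cases hI : I = ⊥
    · subst hI
      rw [Ideal.map_bot] at hmem
      have hA : P ∈ associatedPrimes B B := isAssociatedPrime_iff.2 ⟨hPp, z, by
        ext r; rw [hmem r, Submodule.mem_colon_singleton, smul_eq_mul]⟩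
      obtain ⟨s, hs, hsb⟩ := hb P (H.ass P hA)
      refine hs (hle ?_)
      rw [Submodule.mem_colon_singleton, Submodule.mem_bot, Algebra.smul_def,
        Ideal.Quotient.algebraMap_eq, ← map_mul, Ideal.Quotient.eq_zero_iff_mem]
      exact hsb
    obtain ⟨J, -, hcov⟩ := exists_le_covBy_of_lt (bot_lt_iff_ne_bot.2 hI)
    obtain ⟨e, heJ, rfl, hme⟩ := exists_eq_sup_of_covBy hcov
    have hJ := ih J hcov.lt
    by_cases hmin : P ∈ minimalPrimes B
    · obtain ⟨s, hs, hsb⟩ := hb P hmin
      refine hs (hle ?_)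
      rw [Submodule.mem_colon_singleton, Submodule.mem_bot, Algebra.smul_def,
        Ideal.Quotient.algebraMap_eq, ← map_mul, Ideal.Quotient.eq_zero_iff_mem]
      exact hsb
    obtain ⟨x, hxP, hx⟩ := exists_mem_of_notMem_minimalPrimes hmin
    by_cases hht : P.height ≤ 1
    · -- codimension one: `x` is regular modulo every ideal on the flat algebra `B_P`
      set L := Localization.AtPrime P
      have : Module.Flat A L := H.flat P hht
      have := H.red P hht
      have hxL : ∀ c, algebraMap B L x * c ∈ (maximalIdeal A).map (algebraMap A L) →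
          c ∈ (maximalIdeal A).map (algebraMap A L) := by
        intro c hc
        rw [← Ideal.Quotient.eq_zero_iff_mem]
        refine IsNilpotent.eq_zero ?_
        obtain ⟨c₀, s, rfl⟩ := IsLocalization.exists_mk'_eq P.primeCompl c
        rw [IsLocalization.mul_mk'_eq_mk'_of_mul, IsScalarTower.algebraMap_eq A B L, ← Ideal.map_map,
          IsLocalization.mk'_mem_map_algebraMap_iff] at hc
        obtain ⟨t, ht, htc⟩ := hc
        have hn : t * c₀ ∈ nilradical B := mem_nilradical_of_forall_minimalPrimes fun q hq => by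
          have hqp := Ideal.minimalPrimes_isPrime hq
          have h5 : x * (t * c₀) ∈ q := by
            have e1 : x * (t * c₀) = t * (x * c₀) := mul_left_comm _ _ _
            rw [e1]; exact map_maximalIdeal_le q htc
          exact (hqp.mem_or_mem h5).resolve_left (hx q hq)
        have hu : IsUnit (algebraMap B L t) := IsLocalization.map_units L ⟨t, ht⟩
        have h6 : IsNilpotent (algebraMap B L c₀) := by
          have h7 := (mem_nilradical.1 hn).map (algebraMap B L)
          rw [map_mul] at h7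
          exact ((Commute.all _ _).isNilpotent_mul_left_iff hu.isRegular.left.mem_nonZeroDivisorsLeft).1 h7
        have h8 : IsNilpotent (IsLocalization.mk' L c₀ s) := by
          rw [IsLocalization.mk'_eq_mul_mk'_one]
          exact (Commute.all _ _).isNilpotent_mul_right h6
        exact h8.map _
      have hxz : algebraMap B L x * algebraMap B L z ∈
          (J ⊔ Ideal.span {e}).map (algebraMap A L) := by
        rw [← map_mul, IsScalarTower.algebraMap_eq A B L, ← Ideal.map_map]
        exact Ideal.mem_map_of_mem _ ((hmem x).1 hxP)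
      have hzL := mem_map_of_mul_mem hxL _ _ hxz
      rw [IsScalarTower.algebraMap_eq A B L, ← Ideal.map_map,
        IsLocalization.algebraMap_mem_map_algebraMap_iff P.primeCompl] at hzL
      obtain ⟨s, hs, hsz⟩ := hzL
      exact hs ((hmem s).2 hsz)
    · -- codimension ≥ 2: use (S₂) of the reduction
      have hht2 : 2 ≤ P.height := by
        have := lt_of_not_ge hht
        exact Order.add_one_le_of_lt this
      obtain ⟨w, hw, y, hy⟩ := mem_map_sup_span.1 ((hmem x).1 hxP)
      have hyP : ∀ r ∈ P, r * y ∈ Ideal.span {x} ⊔ nilradical B := by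
        intro r hr
        obtain ⟨w', hw', y', hy'⟩ := mem_map_sup_span.1 ((hmem r).1 hr)
        have h1 : algebraMap A B e * (r * y - x * y') ∈ J.map (algebraMap A B) := by
          have : algebraMap A B e * (r * y - x * y') = x * w' - r * w := by
            linear_combination r * hy - x * hy'
          rw [this]
          exact sub_mem (Ideal.mul_mem_left _ x hw') (Ideal.mul_mem_left _ r hw)
        have h2 := H.mem_nilradical_of_mul_mem heJ hme h1
        have : r * y = x * y' + (r * y - x * y') := by ring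
        rw [this]
        exact Submodule.add_mem_sup (Ideal.mul_mem_right y' _ (Ideal.mem_span_singleton_self x)) h2
      obtain ⟨s, hs, hsy⟩ := exists_smul_mem_of_hasSk_two H.sTwo P hht2 hxP hx hyP
      obtain ⟨a, ha, n, hn, hsum⟩ := Submodule.mem_sup.1 hsy
      obtain ⟨t, rfl⟩ := Ideal.mem_span_singleton'.1 ha
      have h3 : x * (s * z - algebraMap A B e * t) ∈ J.map (algebraMap A B) := by
        have : x * (s * z - algebraMap A B e * t) = s * w + algebraMap A B e * n := by
          linear_combination -s * hy - algebraMap A B e * hsum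
        rw [this]
        exact add_mem (Ideal.mul_mem_left _ s hw) (H.mul_mem_of_mem_nilradical hJ hme hn)
      have h4 : s * z - algebraMap A B e * t ∈ J.map (algebraMap A B) :=
        hJ _ fun q hq => ⟨x, hx q hq, h3⟩
      exact hs ((hmem s).2 (mem_map_sup_span.2 ⟨_, h4, t, by ring⟩))

theorem Hyp.map_maximalIdeal_eq_nilradical (H : Hyp A B) :
    (maximalIdeal A).map (algebraMap A B) = nilradical B := by
  refine le_antisymm map_maximalIdeal_le_nilradical fun n hn => H.noEmb _ n fun q hq => ?_
  have := Ideal.minimalPrimes_isPrime hq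
  exact H.exists_mul_mem_map_maximalIdeal hn q (by rw [Ideal.height_eq_zero_iff.2 hq]; exact zero_le)

theorem Hyp.isReduced (H : Hyp A B) :
    IsReduced (B ⧸ (maximalIdeal A).map (algebraMap A B)) := by
  rw [H.map_maximalIdeal_eq_nilradical, ← Ideal.isRadical_iff_quotient_reduced]
  exact le_of_eq (Ideal.radical_idem _)

theorem Hyp.flat' (H : Hyp A B) : Module.Flat A B := by
  rw [Module.Flat.iff_rTensor_injective]
  intro I _
  induction I using WellFoundedLT.induction with
  | _ I ih =>
    rw [injective_iff_map_eq_zero]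
    intro z hz
    by_cases hI : I = ⊥
    · subst hI
      exact Subsingleton.elim _ _
    obtain ⟨J, -, hcov⟩ := exists_le_covBy_of_lt (bot_lt_iff_ne_bot.2 hI)
    obtain ⟨e, heJ, hIe, hme⟩ := exists_eq_sup_of_covBy hcov
    have heI : e ∈ I := hIe ▸ Ideal.mem_sup_right (Ideal.mem_span_singleton_self e)
    let i : J →ₗ[A] I := Submodule.inclusion hcov.le
    have hdec : ∀ z : I ⊗[A] B, ∃ z' c, z = i.rTensor B z' + (⟨e, heI⟩ : I) ⊗ₜ[A] c := by
      intro z
      induction z with
      | zero => exact ⟨0, 0, by simp⟩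
      | tmul r b =>
        have hr : (r : A) ∈ J ⊔ Ideal.span {e} := hIe ▸ r.2
        obtain ⟨j, hj, a, ha, hja⟩ := Submodule.mem_sup.1 hr
        obtain ⟨t, rfl⟩ := Ideal.mem_span_singleton'.1 ha
        refine ⟨⟨j, hj⟩ ⊗ₜ b, t • b, ?_⟩
        rw [LinearMap.rTensor_tmul, ← smul_tmul, ← add_tmul]
        congr 1
        exact Subtype.ext hja.symm
      | add z₁ z₂ h₁ h₂ =>
        obtain ⟨a₁, c₁, rfl⟩ := h₁
        obtain ⟨a₂, c₂, rfl⟩ := h₂
        exact ⟨a₁ + a₂, c₁ + c₂, by rw [map_add, tmul_add]; abel⟩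
    obtain ⟨z', c, rfl⟩ := hdec z
    let μ := TensorProduct.lid A B
    have hμ : ∀ w, μ (J.subtype.rTensor B w) ∈ J.map (algebraMap A B) := by
      intro w
      induction w with
      | zero => simp
      | tmul j b =>
        simp only [μ, LinearMap.rTensor_tmul, TensorProduct.lid_tmul, Submodule.subtype_apply, Algebra.smul_def]
        exact Ideal.mul_mem_right _ _ (Ideal.mem_map_of_mem _ j.2)
      | add a b ha hb => simpa only [map_add] using add_mem ha hb
    have hcomp : ∀ w, I.subtype.rTensor B (i.rTensor B w) = J.subtype.rTensor B w := fun w => by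
      rw [← LinearMap.rTensor_comp_apply]; rfl
    rw [map_add, hcomp, LinearMap.rTensor_tmul] at hz
    have hec : algebraMap A B e * c ∈ J.map (algebraMap A B) := by
      have h1 := congrArg μ hz
      rw [map_add, map_zero, add_eq_zero_iff_eq_neg] at h1
      have h2 := hμ z'
      rw [h1, neg_mem_iff] at h2
      simpa [μ, Algebra.smul_def] using h2
    have hcm : c ∈ (maximalIdeal A) • (⊤ : Submodule A B) := by
      rw [Ideal.smul_top_eq_map, Submodule.restrictScalars_mem, H.map_maximalIdeal_eq_nilradical]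
      exact H.mem_nilradical_of_mul_mem heJ hme hec
    have hec' : ∀ c ∈ (maximalIdeal A) • (⊤ : Submodule A B),
        ∃ w, (⟨e, heI⟩ : I) ⊗ₜ[A] c = i.rTensor B w := by
      intro c hc
      refine Submodule.smul_induction_on hc (fun a ha b _ => ⟨⟨a * e, hme a ha⟩ ⊗ₜ b, ?_⟩) ?_
      · rw [LinearMap.rTensor_tmul, ← smul_tmul]
        rfl
      · rintro a b ⟨w₁, h₁⟩ ⟨w₂, h₂⟩
        exact ⟨w₁ + w₂, by rw [tmul_add, h₁, h₂, map_add]⟩
    obtain ⟨w, hw⟩ := hec' c hcm
    rw [hw, ← map_add]
    rw [← hcomp, ← LinearMap.rTensor_tmul, ← map_add] at hz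
    have h3 : J.subtype.rTensor B (z' + w) = 0 := by rw [← hcomp, map_add, ← hw]; exact hz
    rw [(injective_iff_map_eq_zero _).1 (ih J hcov.lt ((IsNoetherian.noetherian J))) _ h3, map_zero]

end Groth.Misc6.ArtinFlat
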