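import Groth.Agent.VectorBundles.RefHullStalk
import Groth.Agent.KTheory.LocFree
import Groth.Agent.LocFree.Hom

/-!
# Finite locally free modules are reflexive (no Noetherian hypothesis)
-/

set_option autoImplicit false

universe u

open CategoryTheory AlgebraicGeometry Opposite TopologicalSpace

namespace Groth.Misc6.BidualLocFree

open Groth.QCohMod Groth.VectorBundles.RefHullStalk

variable {X : Scheme.{u}}

/-- Basis data near a point of a finite locally free module. -/
theorem exists_data {F : X.Modules} (hF : FlatMod.IsFinLocFree F) (x : X) :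
    ∃ (V : X.Opens) (_ : x ∈ V) (ι : Type u) (_ : Fintype ι) (s : ι → Γ(F, V))
      (κ : Type u) (_ : Finite κ) (rel : κ → ι → Γ(X, V)),
      Spans F s ∧ Rels F s rel := by
  obtain ⟨U, n, s, hxU, hs⟩ := Groth.PicAux.exists_basis_of_isFinLocFree hF x
  refine ⟨U, hxU, ULift.{u} (Fin n), inferInstance, fun i => s i.down, PEmpty.{u + 1}, inferInstance,
    fun j => j.elim, fun y hy => ?_, fun j => j.elim, fun y hy c hc => ?_⟩
  · refine eq_top_iff.2 fun t _ => ?_
    obtain ⟨W, hyW, m, rfl⟩ := exists_germ F y t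
    obtain ⟨r, hr⟩ := (hs (U ⊓ W) inf_le_left).2 (res F inf_le_right m)
    have hy' : y ∈ U ⊓ W := ⟨hy, hyW⟩
    rw [← germ_res F inf_le_right y hy' m, ← hr, germ_sum_smul]
    refine Submodule.sum_mem _ fun i _ => Submodule.smul_mem _ _ ?_
    refine Submodule.subset_span ⟨⟨i⟩, ?_⟩
    exact (germ_res F inf_le_left y hy' (s i)).symm
  · suffices c = 0 from this ▸ Submodule.zero_mem _
    choose A hA q hq using fun i => TopCat.Presheaf.exists_germ_eq X.presheaf (c i)
    obtain ⟨B, hyB, hBU, hBA⟩ := exists_open_forall (x := y) (V := U) hy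
      (fun i B => B ≤ A i) (fun _ _ _ h h' => h.trans h') (fun i => ⟨A i, hA i, le_rfl⟩)
    have h0 : germ F y hyB (∑ i, resFun X (hBA i) (q i) • res F hBU (s i.down)) = germ F y hyB 0 := by
      rw [map_zero, germ_sum_smul, ← hc]
      refine Finset.sum_congr rfl fun i _ => ?_
      rw [germ_res, ← hq i]
      congr 1
      exact TopCat.Presheaf.germ_res_apply X.presheaf (homOfLE (hBA i)) y hyB (q i)
    obtain ⟨W, hyW, h1, _h2, e⟩ :=
      Groth.VectorBundles.RefHullStalk.exists_res_eq F y hyB hyB _ _ h0
    rw [map_zero, map_sum] at e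
    simp only [res_smul, res_res, resFun_resFun] at e
    have hz := (hs W (h1.trans hBU)).1 (a₁ := fun i => resFun X (h1.trans (hBA ⟨i⟩)) (q ⟨i⟩))
      (a₂ := 0) (by
        simp only [Pi.zero_apply, zero_smul, Finset.sum_const_zero]
        rw [← e]
        exact (Fintype.sum_equiv Equiv.ulift _ _ fun i => rfl).symm)
    funext i
    have e3 := congrArg (X.presheaf.germ W y hyW) (congrFun hz i.down)
    rw [← hq i]
    refine (TopCat.Presheaf.germ_res_apply X.presheaf (homOfLE (h1.trans (hBA i))) y hyW (q i)).symm.trans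
      (e3.trans (map_zero _))

/-- A finite locally free module is isomorphic to its bidual. -/
theorem isReflexive_of_isFinLocFree {F : X.Modules} (hF : FlatMod.IsFinLocFree F) :
    RefHull.IsReflexive F := by
  refine Groth.QCohMod.isIso_of_stalk _ fun x => ?_
  obtain ⟨V, hx, ι, _, s, κ, _, rel, hs, hr⟩ := exists_data hF x
  obtain ⟨V', hx', ρ, _, g, σ, _, rel', hg, hrg⟩ :=
    exists_data (F := RefHull.dual F) (Groth.LocFree.isFinLocFree_homSh hF (Groth.LocFree.isFinLocFree_unit X)) x
  have hb := evalStalk_bijective (Coh.structureModule X) hg hrg hx'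
  let ε := (oneEquiv x).symm
  let E : (RefHull.dual F).presheaf.stalk x ≃ₗ[X.presheaf.stalk x]
      Module.Dual (X.presheaf.stalk x) (F.presheaf.stalk x) :=
    (LinearEquiv.ofBijective _ (evalStalk_bijective (Coh.structureModule X) hs hr hx)).trans
      (LinearEquiv.congrRight ε)
  let Ψ : RefHull.StalkHom (RefHull.dual F) (Coh.structureModule X) x ≃ₗ[X.presheaf.stalk x]
      Module.Dual (X.presheaf.stalk x) (Module.Dual (X.presheaf.stalk x) (F.presheaf.stalk x)) :=
    LinearEquiv.arrowCongr E ε
  have h1 : ⇑(Module.Dual.eval (X.presheaf.stalk x) (F.presheaf.stalk x)) =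
      Ψ ∘ RefHull.evalStalk (RefHull.dual F) (Coh.structureModule X) x ∘
        RefHull.stalkMapₗ (RefHull.bidualMap F) x := by
    funext v
    refine LinearMap.ext fun φ => ?_
    simp only [Function.comp_apply, stalkMapₗ_bidualMap, Ψ, LinearEquiv.arrowCongr_apply,
      RefHull.bidualAt_apply, Module.Dual.eval_apply]
    conv_lhs => rw [← E.apply_symm_apply φ]
    rfl
  have := Groth.KTheory.LocFree.free_stalk hF x
  have : Module.Finite (X.presheaf.stalk x) (F.presheaf.stalk x) :=
    ⟨Submodule.fg_def.2 ⟨_, Set.finite_range _, hs x hx⟩⟩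
  have hbij : Function.Bijective (Module.Dual.eval (X.presheaf.stalk x) (F.presheaf.stalk x)) :=
    Module.bijective_dual_eval _ _
  rw [h1, Function.Bijective.of_comp_iff' Ψ.bijective, Function.Bijective.of_comp_iff' hb] at hbij
  exact (ConcreteCategory.isIso_iff_bijective _).2 hbij

end Groth.Misc6.BidualLocFree
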