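import Mathlib.LinearAlgebra.Projectivization.Basic
import Mathlib.LinearAlgebra.Projectivization.Independence
import Mathlib.RingTheory.MvPolynomial.Homogeneous
import Mathlib.Algebra.Module.Submodule.Union
import Mathlib.LinearAlgebra.Dual.Lemmas

/-!
Finite point sets of projective space with the Cayley–Bacharach property.
-/

set_option linter.unusedSectionVars false

universe u

open Module MvPolynomial

namespace Groth.Misc6.CB

variable {k : Type u} [Field k] {ι : Type} [Fintype ι] [DecidableEq ι]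

local notation "P" => Projectivization k (ι → k)

/-- The Cayley–Bacharach property in degree `n`. -/
def Prop' (Z : Finset P) (n : ℕ) : Prop :=
  ∀ z ∈ Z, ∀ p : MvPolynomial ι k, p.IsHomogeneous n →
    (∀ z' ∈ Z, z' ≠ z → eval z'.rep p = 0) → eval z.rep p = 0

/-- The linear form of a functional. -/
noncomputable def form (f : Dual k (ι → k)) : MvPolynomial ι k :=
  ∑ i, C (f (Pi.single i 1)) * X i

lemma form_isHomogeneous (f : Dual k (ι → k)) : (form f).IsHomogeneous 1 :=
  IsHomogeneous.sum _ _ _ fun i _ => (isHomogeneous_X k i).C_mul _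

@[simp] lemma eval_form (f : Dual k (ι → k)) (v : ι → k) : eval v (form f) = f v := by
  rw [form, map_sum]
  simp only [map_mul, eval_C, eval_X]
  conv_rhs => rw [pi_eq_sum_univ' v, map_sum]
  simp [mul_comm]

lemma rep_mem_iff (z : P) (W : Submodule k (ι → k)) : z.submodule ≤ W ↔ z.rep ∈ W := by
  rw [Projectivization.submodule_eq, Submodule.span_singleton_le_iff_mem]

lemma eq_of_rep_mem {z x : P} (h : z.rep ∈ x.submodule) : z = x := by
  rw [← rep_mem_iff] at h
  apply Projectivization.submodule_injective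
  exact Submodule.eq_of_le_of_finrank_eq h
    (by rw [Projectivization.finrank_submodule, Projectivization.finrank_submodule])

variable [Infinite k]

/-- A functional vanishing on `W` and at no point of a finite set outside `W`. -/
lemma exists_avoid (W : Submodule k (ι → k)) (Z : Finset P) :
    ∃ f : Dual k (ι → k), (∀ v ∈ W, f v = 0) ∧ ∀ z ∈ Z, z.rep ∉ W → f z.rep ≠ 0 := by
  classical
  let T := Z.filter fun z => z.rep ∉ W
  obtain ⟨f, hf, hne⟩ := Module.Dual.exists_forall_mem_ne_zero_of_forall_exists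
    W.dualAnnihilator (fun z : T => Dual.eval k (ι → k) z.1.rep) fun z => by
      obtain ⟨f, hf, hf'⟩ := Submodule.exists_dual_map_eq_bot_of_notMem
        (Finset.mem_filter.1 z.2).2 inferInstance
      exact ⟨f, (Submodule.mem_dualAnnihilator f).2 fun w hw =>
        (Submodule.eq_bot_iff _).1 hf' _ (Submodule.mem_map_of_mem hw), hf⟩
  exact ⟨f, fun v hv => (Submodule.mem_dualAnnihilator f).1 hf v hv,
    fun z hz hzW => hne ⟨z, Finset.mem_filter.2 ⟨hz, hzW⟩⟩⟩

open Classical in
/-- The points outside a subspace. -/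
noncomputable def off (Z : Finset P) (W : Submodule k (ι → k)) : Finset P :=
  Z.filter fun z => z.rep ∉ W

omit [Infinite k] in
lemma mem_off {Z : Finset P} {W : Submodule k (ι → k)} {z : P} :
    z ∈ off Z W ↔ z ∈ Z ∧ z.rep ∉ W := by
  classical
  simp [off]

/-- Residual points with respect to a subspace. -/
lemma Prop'.off {Z : Finset P} {n : ℕ} (h : Prop' Z (n + 1)) (W : Submodule k (ι → k)) :
    Prop' (CB.off Z W) n := by
  intro z hz p hp h0
  obtain ⟨f, hf, hf'⟩ := exists_avoid W Z
  have := h z (mem_off.1 hz).1 (p * form f) (hp.mul (form_isHomogeneous f)) fun z' hz' hne => by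
    rw [map_mul, eval_form]
    by_cases hW : z'.rep ∈ W
    · rw [hf _ hW, mul_zero]
    · rw [h0 z' (mem_off.2 ⟨hz', hW⟩) hne, zero_mul]
  rw [map_mul, eval_form] at this
  exact (mul_eq_zero.1 this).resolve_right (hf' z (mem_off.1 hz).1 (mem_off.1 hz).2)

/-- No point is separated from the others by `n` subspaces. -/
lemma Prop'.not_separated {Z : Finset P} {n : ℕ} (h : Prop' Z n) {z : P} (hz : z ∈ Z)
    {α : Type*} (s : Finset α) (W : α → Submodule k (ι → k)) (hs : s.card ≤ n)
    (hzW : ∀ i ∈ s, z.rep ∉ W i) (hcov : ∀ z' ∈ Z, z' ≠ z → ∃ i ∈ s, z'.rep ∈ W i) : False := by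
  choose f hf hf' using fun i => exists_avoid (W i) Z
  obtain ⟨g, -, hg⟩ := exists_avoid (⊥ : Submodule k (ι → k)) Z
  let p := (∏ i ∈ s, form (f i)) * form g ^ (n - s.card)
  have hp : p.IsHomogeneous n := by
    have h1 := (IsHomogeneous.prod s (fun i => form (f i)) (fun _ => 1)
      fun i _ => form_isHomogeneous (f i)).mul ((form_isHomogeneous g).pow (n - s.card))
    have e : (∑ _i ∈ s, 1) + 1 * (n - s.card) = n := by
      rw [Finset.sum_const, smul_eq_mul, mul_one, one_mul]
      omega
    exact e ▸ h1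
  have := h z hz p hp fun z' hz' hne => by
    obtain ⟨i, hi, hW⟩ := hcov z' hz' hne
    rw [map_mul, map_prod]
    exact mul_eq_zero_of_left (Finset.prod_eq_zero hi (by rw [eval_form]; exact hf i _ hW)) _
  simp only [p, map_mul, map_prod, map_pow, eval_form, mul_eq_zero, Finset.prod_eq_zero_iff] at this
  rcases this with ⟨i, hi, h0⟩ | h0
  · exact hf' i z hz (hzW i hi) h0
  · exact hg z hz (by simpa using z.rep_nonzero) (eq_zero_of_pow_eq_zero h0)

/-- A nonempty set with the property in degree `n` has at least `n + 2` points. -/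
lemma Prop'.card_ge {Z : Finset P} {n : ℕ} (h : Prop' Z n) (hne : Z.Nonempty) : n + 2 ≤ Z.card := by
  classical
  obtain ⟨z, hz⟩ := hne
  by_contra hlt
  refine h.not_separated hz (Z.erase z) (fun x => x.submodule)
    (by rw [Finset.card_erase_of_mem hz]; omega)
    (fun x hx hmem => (Finset.ne_of_mem_erase hx).symm (eq_of_rep_mem hmem))
    fun z' hz' hne => ⟨z', Finset.mem_erase.2 ⟨hne, hz'⟩, (rep_mem_iff z' _).1 le_rfl⟩

omit [Infinite k] in
lemma finrank_sup_point_le (W : Submodule k (ι → k)) (x : P) :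
    finrank k ↥(W ⊔ x.submodule) ≤ finrank k W + 1 := by
  have := Submodule.finrank_add_le_finrank_add_finrank W x.submodule
  rwa [x.finrank_submodule] at this

omit [Infinite k] in
lemma finrank_pair {x y : P} (h : x ≠ y) : finrank k ↥(x.submodule ⊔ y.submodule) = 2 := by
  have hinf : x.submodule ⊓ y.submodule = ⊥ := by
    refine (Submodule.eq_bot_iff _).2 fun v hv => ?_
    by_contra hv0
    apply h
    obtain ⟨hx, hy⟩ := Submodule.mem_inf.1 hv
    have ex := Submodule.eq_of_le_of_finrank_eq ((Submodule.span_singleton_le_iff_mem v _).2 hx)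
      (by rw [finrank_span_singleton hv0, x.finrank_submodule])
    have ey := Submodule.eq_of_le_of_finrank_eq ((Submodule.span_singleton_le_iff_mem v _).2 hy)
      (by rw [finrank_span_singleton hv0, y.finrank_submodule])
    exact Projectivization.submodule_injective (ex.symm.trans ey)
  have := Submodule.finrank_sup_add_finrank_inf_eq x.submodule y.submodule
  rw [hinf, finrank_bot, x.finrank_submodule, y.finrank_submodule] at this
  omega

omit [Infinite k] in
/-- Two points determine their line. -/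
lemma line_eq {x y : P} (h : x ≠ y) {W : Submodule k (ι → k)} (hW : finrank k W ≤ 2)
    (hx : x.rep ∈ W) (hy : y.rep ∈ W) : x.submodule ⊔ y.submodule = W :=
  Submodule.eq_of_le_of_finrank_le (sup_le ((rep_mem_iff x W).2 hx) ((rep_mem_iff y W).2 hy))
    (hW.trans (finrank_pair h).ge)

/-- Few points with the property lie on a line. -/
theorem Prop'.collinear : ∀ {n : ℕ} {Z : Finset P}, Prop' Z n → Z.Nonempty → Z.card ≤ 2 * n + 1 →
    ∃ W : Submodule k (ι → k), finrank k W = 2 ∧ ∀ z ∈ Z, z.rep ∈ W := by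
  intro n
  induction n with
  | zero => intro Z h hne hc; have := h.card_ge hne; omega
  | succ n ih =>
    intro Z h hne hc
    classical
    have h2 := h.card_ge hne
    obtain ⟨x, hx, y, hy, hxy⟩ := Finset.one_lt_card.1 (show 1 < Z.card by omega)
    let W := x.submodule ⊔ y.submodule
    have hxW : x.rep ∈ W := (rep_mem_iff x W).1 le_sup_left
    have hyW : y.rep ∈ W := (rep_mem_iff y W).1 le_sup_right
    by_cases hR : (CB.off Z W).Nonempty
    · have hsub : CB.off Z W ⊆ (Z.erase x).erase y := fun z hz => by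
        obtain ⟨hzZ, hzW⟩ := mem_off.1 hz
        refine Finset.mem_erase.2 ⟨?_, Finset.mem_erase.2 ⟨?_, hzZ⟩⟩ <;> rintro rfl
        · exact hzW hyW
        · exact hzW hxW
      have hcard := Finset.card_le_card hsub
      rw [Finset.card_erase_of_mem (Finset.mem_erase.2 ⟨hxy.symm, hy⟩),
        Finset.card_erase_of_mem hx] at hcard
      obtain ⟨W', hW', hall⟩ := ih (h.off W) hR (by omega)
      refine ⟨W', hW', fun z hz => ?_⟩
      by_contra hzW'
      have h3 := (h.off W').card_ge ⟨z, mem_off.2 ⟨hz, hzW'⟩⟩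
      have h4 := (h.off W).card_ge hR
      have hdisj : Disjoint (CB.off Z W) (CB.off Z W') :=
        Finset.disjoint_left.2 fun a ha ha' => (mem_off.1 ha').2 (hall a ha)
      have h5 : (CB.off Z W ∪ CB.off Z W').card ≤ Z.card := Finset.card_le_card fun a ha => by
        rcases Finset.mem_union.1 ha with ha | ha <;> exact (mem_off.1 ha).1
      rw [Finset.card_union_of_disjoint hdisj] at h5
      omega
    · refine ⟨W, finrank_pair hxy, fun z hz => ?_⟩
      by_contra hzW
      exact hR ⟨z, mem_off.2 ⟨hz, hzW⟩⟩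

/-- `Z` lies in a plane. -/
def Coplanar (Z : Finset P) : Prop :=
  ∃ W : Submodule k (ι → k), finrank k W ≤ 3 ∧ ∀ z ∈ Z, z.rep ∈ W

/-- `Z` lies on two skew lines carrying at least `n + 2` points each. -/
def Skew (Z : Finset P) (n : ℕ) : Prop :=
  ∃ L M : Submodule k (ι → k), finrank k L = 2 ∧ finrank k M = 2 ∧ L ⊓ M = ⊥ ∧
    (∀ z ∈ Z, z.rep ∈ L ∨ z.rep ∈ M) ∧
    n + 2 ≤ (CB.off Z M).card ∧ n + 2 ≤ (CB.off Z L).card

omit [Infinite k] in
lemma card_split (Z : Finset P) (W : Submodule k (ι → k)) (S : Finset P) (hS : S ⊆ Z)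
    (hW : ∀ z ∈ S, z.rep ∈ W) : (CB.off Z W).card + S.card ≤ Z.card := by
  classical
  rw [← Finset.card_union_of_disjoint
    (Finset.disjoint_left.2 fun a ha ha' => (mem_off.1 ha).2 (hW a ha'))]
  exact Finset.card_le_card (Finset.union_subset (fun a ha => (mem_off.1 ha).1) hS)

omit [Infinite k] in
lemma off_nonempty {Z : Finset P} (h : ¬ Coplanar Z) {W : Submodule k (ι → k)}
    (hW : finrank k W ≤ 3) : (CB.off Z W).Nonempty := by
  by_contra hne
  refine h ⟨W, hW, fun z hz => ?_⟩
  by_contra hzW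
  exact hne ⟨z, mem_off.2 ⟨hz, hzW⟩⟩

omit [Infinite k] in
lemma eq_of_mem_sup_point {L M : Submodule k (ι → k)} (hLM : L ⊓ M = ⊥) {x z : P}
    (hx : x.rep ∈ L) (hz : z.rep ∈ L) (h : z.rep ∈ M ⊔ x.submodule) : z = x := by
  obtain ⟨m, hm, w, hw, e⟩ := Submodule.mem_sup.1 h
  have hm' : m ∈ L := by
    rw [eq_sub_of_add_eq e]
    exact sub_mem hz ((rep_mem_iff x L).2 hx hw)
  have : m = 0 := (Submodule.eq_bot_iff _).1 hLM m ⟨hm', hm⟩
  rw [this, zero_add] at e
  exact eq_of_rep_mem (e ▸ hw)

/-- A line with many points splits a noncoplanar set into two skew lines. -/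
theorem Prop'.skew_of_line {Z : Finset P} {n : ℕ} (h : Prop' Z (n + 2))
    (hc : Z.card ≤ 3 * (n + 2) + 1) (hnc : ¬ Coplanar Z) {L : Submodule k (ι → k)}
    (hL : finrank k L = 2) {S : Finset P} (hSZ : S ⊆ Z) (hS : ∀ z ∈ S, z.rep ∈ L)
    (hScard : n + 3 ≤ S.card) : Skew Z (n + 2) := by
  classical
  obtain ⟨q, hq⟩ := off_nonempty hnc (hL.le.trans (by norm_num))
  obtain ⟨hqZ, hqL⟩ := mem_off.1 hq
  let H := L ⊔ q.submodule
  have hH : finrank k H ≤ 3 := (finrank_sup_point_le L q).trans (by omega)
  have hqS : q ∉ S := fun hh => hqL (hS q hh)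
  have hc1 := card_split Z H (insert q S) (Finset.insert_subset hqZ hSZ) fun z hz => by
    rcases Finset.mem_insert.1 hz with rfl | hz
    · exact (rep_mem_iff z H).1 le_sup_right
    · exact Submodule.mem_sup_left (hS z hz)
  rw [Finset.card_insert_of_notMem hqS] at hc1
  have hR := off_nonempty hnc hH
  obtain ⟨M, hM, hMall⟩ := (h.off H).collinear hR (by omega)
  let T := CB.off Z H
  have hTcard : n + 3 ≤ T.card := (h.off H).card_ge hR
  have hTZ : T ⊆ Z := fun z hz => (mem_off.1 hz).1
  have hTL : ∀ z ∈ T, z.rep ∉ L := fun z hz hh => (mem_off.1 hz).2 (Submodule.mem_sup_left hh)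
  have hskew : L ⊓ M = ⊥ := by
    by_contra hne
    have hsum := Submodule.finrank_sup_add_finrank_inf_eq L M
    have hpos : finrank k ↥(L ⊓ M) ≠ 0 := fun h0 => hne (Submodule.finrank_eq_zero.1 h0)
    have hrk : finrank k ↥(L ⊔ M) ≤ 3 := by omega
    have hne' := off_nonempty hnc hrk
    have h1 := (h.off (L ⊔ M)).card_ge hne'
    have h2 := card_split Z (L ⊔ M) (S ∪ T) (Finset.union_subset hSZ hTZ) fun z hz => by
      rcases Finset.mem_union.1 hz with hz | hz
      · exact Submodule.mem_sup_left (hS z hz)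
      · exact Submodule.mem_sup_right (hMall z hz)
    rw [Finset.card_union_of_disjoint
      (Finset.disjoint_left.2 fun a ha ha' => hTL a ha' (hS a ha))] at h2
    omega
  have hkey : ∀ x ∈ S, ∀ z ∈ Z, z.rep ∈ L ∨ z.rep ∈ M ⊔ x.submodule := by
    intro x hx z hz
    let H' := M ⊔ x.submodule
    have hH' : finrank k H' ≤ 3 := (finrank_sup_point_le M x).trans (by omega)
    have hxT : x ∉ T := fun hh => hTL x hh (hS x hx)
    have hc2 := card_split Z H' (insert x T) (Finset.insert_subset (hSZ hx) hTZ) fun z hz => by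
      rcases Finset.mem_insert.1 hz with rfl | hz
      · exact (rep_mem_iff z H').1 le_sup_right
      · exact Submodule.mem_sup_left (hMall z hz)
    rw [Finset.card_insert_of_notMem hxT] at hc2
    obtain ⟨L', hL', hall⟩ := (h.off H').collinear (off_nonempty hnc hH') (by omega)
    obtain ⟨a, ha, b, hb, hab⟩ := Finset.one_lt_card.1
      (show 1 < (S.erase x).card by rw [Finset.card_erase_of_mem hx]; omega)
    have hin : ∀ c ∈ S.erase x, c.rep ∈ L' := fun c hc => hall c (mem_off.2
      ⟨hSZ (Finset.mem_of_mem_erase hc), fun hh => Finset.ne_of_mem_erase hc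
        (eq_of_mem_sup_point hskew (hS x hx) (hS c (Finset.mem_of_mem_erase hc)) hh)⟩)
    have hLL : L' = L := (line_eq hab hL'.le (hin a ha) (hin b hb)).symm.trans
      (line_eq hab hL.le (hS a (Finset.mem_of_mem_erase ha)) (hS b (Finset.mem_of_mem_erase hb)))
    by_cases hzH : z.rep ∈ H'
    · exact .inr hzH
    · exact .inl (hLL ▸ hall z (mem_off.2 ⟨hz, hzH⟩))
  have hcov : ∀ z ∈ Z, z.rep ∈ L ∨ z.rep ∈ M := by
    intro z hz
    by_contra! hzLM
    obtain ⟨x, hx, y, hy, hxy⟩ := Finset.one_lt_card.1 (show 1 < S.card by omega)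
    obtain ⟨m, hm, v, hv, e⟩ := Submodule.mem_sup.1 ((hkey x hx z hz).resolve_left hzLM.1)
    obtain ⟨m', hm', v', hv', e'⟩ := Submodule.mem_sup.1 ((hkey y hy z hz).resolve_left hzLM.1)
    have hd : m - m' = v' - v := by
      have h3 := e.trans e'.symm
      calc m - m' = (m + v) - v - m' := by abel
        _ = (m' + v') - v - m' := by rw [h3]
        _ = v' - v := by abel
    have hmm : m - m' = 0 := (Submodule.eq_bot_iff _).1 hskew _
      ⟨hd ▸ sub_mem ((rep_mem_iff y L).2 (hS y hy) hv') ((rep_mem_iff x L).2 (hS x hx) hv),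
        sub_mem hm hm'⟩
    rw [hmm] at hd
    have hvv : v' = v := sub_eq_zero.1 hd.symm
    have hinf : v ∈ x.submodule ⊓ y.submodule := ⟨hv, hvv ▸ hv'⟩
    have h4 := Submodule.finrank_sup_add_finrank_inf_eq x.submodule y.submodule
    rw [finrank_pair hxy, x.finrank_submodule, y.finrank_submodule] at h4
    have hbot : x.submodule ⊓ y.submodule = ⊥ := Submodule.finrank_eq_zero.1 (by omega)
    rw [hbot, Submodule.mem_bot] at hinf
    rw [hinf, add_zero] at e
    exact hzLM.2 (e ▸ hm)
  have count : ∀ {A B : Submodule k (ι → k)}, A ⊓ B = ⊥ → (∀ z ∈ Z, z.rep ∈ A ∨ z.rep ∈ B) →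
      1 < (CB.off Z B).card → n + 2 + 2 ≤ (CB.off Z B).card := by
    intro A B hAB hcov h1
    by_contra hlt
    obtain ⟨z, hz, x₀, hx₀, hne⟩ := Finset.one_lt_card.1 h1
    have hA : ∀ w ∈ CB.off Z B, w.rep ∈ A := fun w hw =>
      (hcov w (mem_off.1 hw).1).resolve_right (mem_off.1 hw).2
    refine h.not_separated (mem_off.1 hz).1 ((CB.off Z B).erase z)
      (fun x => B ⊔ x.submodule) (by rw [Finset.card_erase_of_mem hz]; omega)
      (fun x hx hh => (Finset.ne_of_mem_erase hx).symm
        (eq_of_mem_sup_point hAB (hA x (Finset.mem_of_mem_erase hx)) (hA z hz) hh))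
      fun z' hz' hne' => ?_
    by_cases hB : z'.rep ∈ B
    · exact ⟨x₀, Finset.mem_erase.2 ⟨hne.symm, hx₀⟩, Submodule.mem_sup_left hB⟩
    · exact ⟨z', Finset.mem_erase.2 ⟨hne', mem_off.2 ⟨hz', hB⟩⟩,
        Submodule.mem_sup_right ((rep_mem_iff z' _).1 le_rfl)⟩
  refine ⟨L, M, hL, hM, hskew, hcov, count hskew hcov ?_,
    count (inf_comm L M ▸ hskew) (fun z hz => (hcov z hz).symm) ?_⟩
  · refine lt_of_lt_of_le (show 1 < S.card by omega) (Finset.card_le_card fun z hz => ?_)
    exact mem_off.2 ⟨hSZ hz, fun hh =>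
      z.rep_nonzero ((Submodule.eq_bot_iff _).1 hskew _ ⟨hS z hz, hh⟩)⟩
  · exact lt_of_lt_of_le (show 1 < T.card by omega)
      (Finset.card_le_card fun z hz => mem_off.2 ⟨hTZ hz, hTL z hz⟩)

/-- At most `3n+1` points with the property are coplanar or lie on two skew lines. -/
theorem Prop'.coplanar_or_skew : ∀ {n : ℕ} {Z : Finset P}, Prop' Z n → Z.card ≤ 3 * n + 1 →
    Coplanar Z ∨ (1 ≤ n ∧ Skew Z n) := by
  intro n
  induction n with
  | zero =>
    intro Z h hc
    refine .inl ⟨⊥, by simp, fun z hz => absurd (h.card_ge ⟨z, hz⟩) (by omega)⟩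
  | succ n ih =>
    intro Z h hc
    classical
    by_cases hnc : Coplanar Z
    · exact .inl hnc
    refine .inr ⟨by omega, ?_⟩
    have hne : Z.Nonempty := by
      obtain ⟨z, hz⟩ := off_nonempty hnc (W := ⊥) (by simp)
      exact ⟨z, (mem_off.1 hz).1⟩
    have h3 : 3 ≤ Z.card := by have := h.card_ge hne; omega
    let C := Z.powerset.filter fun S => Coplanar S
    have hsmall : ∀ S : Finset P, S ⊆ Z → S.card = 3 → S ∈ C := by
      intro S hS hcard
      refine Finset.mem_filter.2 ⟨Finset.mem_powerset.2 hS, ?_⟩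
      obtain ⟨a, b, c, -, -, -, rfl⟩ := Finset.card_eq_three.1 hcard
      refine ⟨a.submodule ⊔ b.submodule ⊔ c.submodule, ?_, ?_⟩
      · have := finrank_sup_point_le (a.submodule ⊔ b.submodule) c
        have := finrank_sup_point_le a.submodule b
        rw [a.finrank_submodule] at this
        omega
      · simp only [Finset.mem_insert, Finset.mem_singleton]
        rintro z (rfl | rfl | rfl) <;> rw [← rep_mem_iff]
        · exact le_sup_left.trans le_sup_left
        · exact le_sup_right.trans le_sup_left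
        · exact le_sup_right
    obtain ⟨S₀, hS₀, hS₀c⟩ := Finset.exists_subset_card_eq h3
    obtain ⟨S, hSC, hmax⟩ := C.exists_max_image Finset.card ⟨S₀, hsmall S₀ hS₀ hS₀c⟩
    obtain ⟨hSZ, W, hW, hWS⟩ := Finset.mem_filter.1 hSC
    rw [Finset.mem_powerset] at hSZ
    have hS3 : 3 ≤ S.card := hS₀c ▸ hmax S₀ (hsmall S₀ hS₀ hS₀c)
    have hR := off_nonempty hnc hW
    have hsplit := card_split Z W S hSZ hWS
    have hRZ : CB.off Z W ⊆ Z := fun z hz => (mem_off.1 hz).1
    match n with
    | 0 =>
      have := (h.off W).card_ge hR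
      omega
    | m + 1 =>
      rcases ih (h.off W) (by omega) with hcop | ⟨-, L, M, hL, hM, hLM, hcov, c1, c2⟩
      · have hle := hmax _ (Finset.mem_filter.2 ⟨Finset.mem_powerset.2 hRZ, hcop⟩)
        obtain ⟨L, hL, hall⟩ := (h.off W).collinear hR (by omega)
        exact h.skew_of_line (by omega) hnc hL hRZ hall ((h.off W).card_ge hR)
      · exfalso
        set R := CB.off Z W
        obtain ⟨q, hq⟩ : (CB.off R L).Nonempty := Finset.card_pos.1 (by omega)
        have hP : Coplanar (insert q (CB.off R M)) := by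
          refine ⟨L ⊔ q.submodule, (finrank_sup_point_le L q).trans (by omega), fun z hz => ?_⟩
          rcases Finset.mem_insert.1 hz with rfl | hz
          · exact (rep_mem_iff z _).1 le_sup_right
          · exact Submodule.mem_sup_left
              ((hcov z (mem_off.1 hz).1).resolve_right (mem_off.1 hz).2)
        have hqn : q ∉ CB.off R M := fun hh => (mem_off.1 hq).2
          ((hcov q (mem_off.1 hh).1).resolve_right (mem_off.1 hh).2)
        have hle := hmax _ (Finset.mem_filter.2 ⟨Finset.mem_powerset.2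
          (Finset.insert_subset (hRZ (mem_off.1 hq).1)
            fun z hz => hRZ (mem_off.1 hz).1), hP⟩)
        rw [Finset.card_insert_of_notMem hqn] at hle
        have hdisj : Disjoint (CB.off R M) (CB.off R L) := Finset.disjoint_left.2 fun a ha ha' =>
          ((hcov a (mem_off.1 ha).1).elim (mem_off.1 ha').2 (mem_off.1 ha).2)
        have hsub : (CB.off R M ∪ CB.off R L).card ≤ R.card := Finset.card_le_card
          (Finset.union_subset (fun a ha => (mem_off.1 ha).1) fun a ha => (mem_off.1 ha).1)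
        rw [Finset.card_union_of_disjoint hdisj] at hsub
        omega

/-- A subspace of dimension at most `d` is contained in one of dimension `d`. -/
lemma exists_ge_finrank_eq {V : Type*} [AddCommGroup V] [Module k V] [FiniteDimensional k V]
    (W : Submodule k V) {d : ℕ} (h : finrank k W ≤ d) (hd : d ≤ finrank k V) :
    ∃ W' : Submodule k V, W ≤ W' ∧ finrank k W' = d := by
  induction d with
  | zero => exact ⟨W, le_rfl, by omega⟩
  | succ d ih =>
    rcases h.lt_or_eq with h | h
    · obtain ⟨W', hle, hW'⟩ := ih (by omega) (by omega)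
      have hne : W' ≠ ⊤ := fun e => by rw [e, finrank_top] at hW'; omega
      obtain ⟨v, -, hv⟩ := SetLike.exists_of_lt hne.lt_top
      refine ⟨W' ⊔ Submodule.span k {v}, hle.trans le_sup_left, ?_⟩
      have h0 : v ≠ 0 := fun e => hv (e ▸ zero_mem W')
      have hinf : W' ⊓ Submodule.span k {v} = ⊥ := (Submodule.disjoint_span_singleton' h0).2 hv |>.eq_bot
      have := Submodule.finrank_sup_add_finrank_inf_eq W' (Submodule.span k {v})
      rw [hinf, finrank_bot, finrank_span_singleton h0] at this
      omega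
    · exact ⟨W, le_rfl, h⟩

end Groth.Misc6.CB
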