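import Groth.Agent.Misc6.ConeDim

/-!
# The codimension of the locus of non-regular sequences of forms

Tuples of forms of degrees `e j` in `m + 1` variables, given by their coefficient vectors
`x : (Σ j, Mon (Fin (m+1)) (e j)) → k`. `Good x i` says that the first `i` forms cut out a cone of
dimension `≤ m + 1 - i`. The bad tuples form a closed set (`exists_sep`) of codimension at least
`c` as soon as `c ≤ choose (m + 1 - j + e j - 1) (e j)` for all `j` (`ringKrullDim_add_le`).
-/

set_option autoImplicit false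

namespace Groth.Misc6.SeqCodim

open MvPolynomial ConeDim

variable {k : Type} [Field k]

/-- Coordinates on tuples of forms. -/
abbrev Coord {d : ℕ} (m : ℕ) (e : Fin d → ℕ) : Type := Σ j : Fin d, Mon (Fin (m + 1)) (e j)

/-- The `j`-th form of a tuple. -/
noncomputable def G {d m : ℕ} {e : Fin d → ℕ} (x : Coord m e → k) (j : Fin d) :
    MvPolynomial (Fin (m + 1)) k :=
  formOf (e j) fun a => x ⟨j, a⟩

theorem isHomogeneous_G {d m : ℕ} {e : Fin d → ℕ} (x : Coord m e → k) (j : Fin d) :
    (G x j).IsHomogeneous (e j) := isHomogeneous_formOf _ _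

/-- The first `i` forms cut out a cone of dimension at most `m + 1 - i`. -/
def Good {d m : ℕ} {e : Fin d → ℕ} (x : Coord m e → k) (i : ℕ) : Prop :=
  ∃ L : Fin (m + 1 - i) → Fin (m + 1) → k, ∀ z : Fin (m + 1) → k,
    (∀ j : Fin d, j.1 < i → eval z (G x j) = 0) → (∀ l, ∑ a, L l a * z a = 0) → z = 0

theorem good_zero {d m : ℕ} {e : Fin d → ℕ} (x : Coord m e → k) : Good x 0 :=
  ⟨fun l => Pi.single ⟨l.1, by have := l.2; omega⟩ 1, fun z _ h => funext fun a => by
    simpa [Pi.single_apply, ite_mul, Finset.sum_ite_eq'] using h ⟨a.1, by have := a.2; omega⟩⟩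

theorem good_iff [IsAlgClosed k] {d m : ℕ} {e : Fin d → ℕ} (x : Coord m e → k) (i : ℕ) :
    Good x i ↔ ringKrullDim (MvPolynomial (Fin (m + 1)) k ⧸
      Ideal.span (Set.range fun j : {j : Fin d // j.1 < i} => G x j.1)) ≤ (m + 1 - i : ℕ) := by
  refine ⟨fun ⟨L, hL⟩ => ?_, fun h => ?_⟩
  · exact ringKrullDim_quotient_le_of_cut (fun j : {j : Fin d // j.1 < i} => e j.1) _
      (fun j => isHomogeneous_G x j.1) L fun z hz => hL z fun j hj => hz ⟨j, hj⟩
  · obtain ⟨L, hL⟩ := exists_cut (m + 1 - i) (fun j : {j : Fin d // j.1 < i} => e j.1) _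
      (fun j => isHomogeneous_G x j.1) h
    exact ⟨L, fun z hz => hL z fun j => hz j.1 j.2⟩

/-- The bad tuples form a closed set. -/
theorem exists_sep [IsAlgClosed k] {d m : ℕ} {e : Fin d → ℕ} (i : ℕ) (x : Coord m e → k)
    (hx : Good x i) :
    ∃ f : MvPolynomial (Coord m e) k, eval x f ≠ 0 ∧ ∀ y, ¬ Good y i → eval y f = 0 := by
  classical
  obtain ⟨L, hL⟩ := hx
  let F : {j : Fin d // j.1 < i} ⊕ Fin (m + 1 - i) →
      MvPolynomial (Fin (m + 1)) (MvPolynomial (Coord m e) k) :=
    Sum.elim (fun j => ∑ a, monomial a.1 (X ⟨j.1, a⟩)) fun l => MvPolynomial.map C (lin (L l))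
  have hF : ∀ (y : Coord m e → k) j (z : Fin (m + 1) → k),
      eval₂ (eval y) z (F (Sum.inl j)) = eval z (G y j.1) := by
    intro y j z
    simp only [F, Sum.elim_inl, G, formOf_apply, map_sum, eval₂_sum, eval₂_monomial, eval_X,
      eval_monomial]
  have hL' : ∀ (y : Coord m e → k) l (z : Fin (m + 1) → k),
      eval₂ (eval y) z (F (Sum.inr l)) = ∑ a, L l a * z a := by
    intro y l z
    simp only [F, Sum.elim_inr, eval₂_map,
      show (eval y).comp (C : k →+* MvPolynomial (Coord m e) k) = RingHom.id k from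
        RingHom.ext fun c => eval_C c]
    exact eval_lin _ _
  have hhom : ∀ s, (F s).IsHomogeneous (Sum.elim (fun j => e j.1) (fun _ => 1) s) := by
    rintro (j | l)
    · exact IsHomogeneous.sum _ _ _ fun a _ => isHomogeneous_monomial _ (mem_mon_iff.1 a.2)
    · exact (isHomogeneous_lin _).map _
  obtain ⟨E, h, hE0, -, hh, hid⟩ := exists_elim _ F hhom x fun z hz => hL z
    (fun j hj => (hF x ⟨j, hj⟩ z).symm.trans (hz _)) fun l => (hL' x l z).symm.trans (hz _)
  refine ⟨h, hh, fun y hy => ?_⟩
  by_contra hne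
  refine hy ⟨L, fun z hz hl => funext fun a => ?_⟩
  obtain ⟨c, -, hc⟩ := hid (Finsupp.single a E) (Finsupp.degree_single a E)
  have h1 := congrArg (eval₂Hom (eval y) z) hc
  rw [map_mul, map_sum, Finset.sum_eq_zero fun s _ => by
    rw [map_mul]
    rcases s with j | l
    · rw [show eval₂Hom (eval y) z (F (Sum.inl j)) = eval z (G y j.1) from hF y j z,
        hz j.1 j.2, mul_zero]
    · rw [show eval₂Hom (eval y) z (F (Sum.inr l)) = _ from hL' y l z, hl l, mul_zero]] at h1
  simp only [coe_eval₂Hom, eval₂_C, eval₂_monomial, map_one, one_mul, Finsupp.prod_single_index,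
    pow_zero, mul_eq_zero, hne, false_or] at h1
  exact eq_zero_of_pow_eq_zero h1

theorem mem_of_forall_eval_eq_zero [IsAlgClosed k] {σ : Type} [Finite σ]
    (Q : Ideal (MvPolynomial σ k)) [hQ : Q.IsPrime] {f : MvPolynomial σ k}
    (h : ∀ x : σ → k, (∀ g ∈ Q, eval x g = 0) → eval x f = 0) : f ∈ Q := by
  rw [← hQ.radical, ← vanishingIdeal_zeroLocus_eq_radical (K := k)]
  intro x hx
  rw [aeval_eq_eval]
  exact h x fun g hg => by rw [← aeval_eq_eval]; exact hx g hg

theorem eval_homogeneousComponent_eq_zero [Infinite k] {σ : Type} (f : MvPolynomial σ k)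
    (z : σ → k) (h : ∀ t : k, t ≠ 0 → eval (t • z) f = 0) (n : ℕ) :
    eval z (homogeneousComponent n f) = 0 := by
  classical
  let q : Polynomial k := ∑ j ∈ Finset.range (f.totalDegree + 1),
    Polynomial.C (eval z (homogeneousComponent j f)) * Polynomial.X ^ j
  have hq : ∀ t, q.eval t = eval (t • z) f := by
    intro t
    conv_rhs => rw [← sum_homogeneousComponent f]
    simp only [q, Polynomial.eval_finsetSum, Polynomial.eval_mul, Polynomial.eval_C,
      Polynomial.eval_pow, Polynomial.eval_X, map_sum]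
    refine Finset.sum_congr rfl fun j _ => ?_
    rw [eval_eq, eval_eq, Finset.sum_mul]
    refine Finset.sum_congr rfl fun a ha => ?_
    have hdeg : ∑ i ∈ a.support, a i = j := by
      rw [← Finsupp.degree_apply, Finsupp.degree_eq_weight_one]
      exact homogeneousComponent_isHomogeneous j f (mem_support_iff.1 ha)
    simp only [Pi.smul_apply, smul_eq_mul, mul_pow, Finset.prod_mul_distrib]
    rw [Finset.prod_pow_eq_pow_sum, hdeg]
    ring
  have hq0 : q = 0 := Polynomial.eq_zero_of_infinite_isRoot q
    ((Set.finite_singleton (0 : k)).infinite_compl.mono fun t (ht : t ≠ 0) => (hq t).trans (h t ht))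
  have := congrArg (Polynomial.coeff · n) hq0
  simp only [q, Polynomial.finsetSum_coeff, Polynomial.coeff_C_mul_X_pow,
    Polynomial.coeff_zero, Finset.sum_ite_eq, Finset.mem_range] at this
  by_cases hn : n < f.totalDegree + 1
  · rwa [if_pos hn] at this
  · rw [homogeneousComponent_eq_zero n f (by omega), map_zero]

theorem succ_le_choose : ∀ {n j : ℕ}, 1 ≤ j → j < n → n ≤ Nat.choose n j
  | 0, _, _, h => absurd h (Nat.not_lt_zero _)
  | n + 1, 0, h, _ => absurd h (by omega)
  | n + 1, j + 1, _, h => by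
    rw [Nat.choose_succ_succ']
    rcases Nat.eq_zero_or_pos j with rfl | hj
    · simp [Nat.choose_one_right]
    · have h1 := succ_le_choose (n := n) hj (by omega)
      have h2 : 0 < Nat.choose n (j + 1) := Nat.choose_pos (by omega)
      omega

theorem map_homogeneousComponent' {σ R S : Type} [CommRing R] [CommRing S] (f : R →+* S) (n : ℕ)
    (g : MvPolynomial σ R) :
    MvPolynomial.map f (homogeneousComponent n g) = homogeneousComponent n (MvPolynomial.map f g) := by
  classical
  ext a
  simp only [coeff_map, coeff_homogeneousComponent, apply_ite f, map_zero]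

/-- The main codimension bound. -/
theorem ringKrullDim_add_le [IsAlgClosed k] {d m : ℕ} {e : Fin d → ℕ} (hd : d ≤ m + 1) (c : ℕ)
    (hc : ∀ j : Fin d, c ≤ Nat.choose (m + 1 - j.1 + e j - 1) (e j))
    (Q : Ideal (MvPolynomial (Coord m e) k)) [Q.IsPrime]
    (hQ : ∀ x, (∀ f ∈ Q, eval x f = 0) → ¬ Good x d) :
    ringKrullDim (MvPolynomial (Coord m e) k ⧸ Q) + c ≤ (Fintype.card (Coord m e) : ℕ) := by
  classical
  let P : ℕ → Prop := fun i => ∀ x, (∀ f ∈ Q, eval x f = 0) → ¬ Good x i
  have hP : ∃ i, P i := ⟨d, hQ⟩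
  have hi0 : Nat.find hP ≠ 0 := fun h0 => by
    obtain ⟨x, hx⟩ : ∃ x : Coord m e → k, ∀ f ∈ Q, eval x f = 0 := by
      by_contra! hne
      refine ‹Q.IsPrime›.ne_top ((Ideal.eq_top_iff_one _).2 (mem_of_forall_eval_eq_zero Q fun x hx => ?_))
      obtain ⟨f, hf, hne⟩ := hne x
      exact absurd (hx f hf) hne
    exact (h0 ▸ Nat.find_spec hP) x hx (good_zero x)
  obtain ⟨jj, hjj⟩ : ∃ jj, Nat.find hP = jj + 1 := ⟨Nat.find hP - 1, by omega⟩
  have hjd : jj < d := by have := Nat.find_min' hP hQ; omega
  have hall : ∀ x, (∀ f ∈ Q, eval x f = 0) → ¬ Good x (jj + 1) := hjj ▸ Nat.find_spec hP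
  obtain ⟨x0, hx0, hgood⟩ : ∃ x, (∀ f ∈ Q, eval x f = 0) ∧ Good x jj := by
    have := Nat.find_min hP (show jj < Nat.find hP by omega)
    simp only [P, not_forall, not_not] at this
    obtain ⟨x, hx, hg⟩ := this
    exact ⟨x, hx, hg⟩
  let J : Fin d := ⟨jj, hjd⟩
  let σ := {v : Coord m e // v.1 = J}
  let τ := {v : Coord m e // ¬ v.1 = J}
  let a : Mon (Fin (m + 1)) (e J) → σ := fun b => ⟨⟨J, b⟩, rfl⟩
  have habij : Function.Bijective a :=
    ⟨fun b b' h => eq_of_heq (Sigma.mk.inj_iff.1 (congrArg Subtype.val h)).2, fun ⟨⟨j, b⟩, h⟩ => by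
      change j = J at h
      subst h
      exact ⟨b, rfl⟩⟩
  let sp : Coord m e → σ ⊕ τ := (Equiv.sumCompl fun v : Coord m e => v.1 = J).symm
  let merge : (τ → k) → (σ → k) → Coord m e → k := fun p z => Sum.elim z p ∘ sp
  let φ : MvPolynomial (Coord m e) k →ₐ[k] MvPolynomial σ (MvPolynomial τ k) :=
    aeval (Sum.elim X (fun v => C (X v)) ∘ sp)
  have hφ : ∀ p z f, eval₂ (eval p) z (φ f) = eval (merge p z) f := by
    intro p z f
    have : (eval₂Hom (eval p) z).comp φ.toRingHom = eval (merge p z) := by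
      refine MvPolynomial.ringHom_ext (fun c => ?_) fun v => ?_
      · simp [φ, MvPolynomial.algebraMap_eq, MvPolynomial.algebraMap_apply]
      · simp only [φ, merge, RingHom.comp_apply, AlgHom.toRingHom_eq_coe, RingHom.coe_coe, aeval_X,
          Function.comp_apply, eval_X]
        rcases sp v with s | t <;> simp
    exact RingHom.congr_fun this f
  let ψ : MvPolynomial σ (MvPolynomial τ k) →+* MvPolynomial (Coord m e) k :=
    eval₂Hom (rename Subtype.val).toRingHom fun v => X v.1
  have hψ : ∀ x g, eval x (ψ g) = eval₂ (eval fun t : τ => x t.1) (fun s : σ => x s.1) g := by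
    intro x g
    have : (eval x).comp ψ = eval₂Hom (eval fun t : τ => x t.1) (fun s : σ => x s.1) := by
      refine MvPolynomial.ringHom_ext (fun c => ?_) fun v => ?_
      · simp [ψ, eval_rename, Function.comp_def]
        rfl
      · simp [ψ]
    exact RingHom.congr_fun this g
  have hG : ∀ x p z (j : Fin d), (∀ t : τ, p t = x t.1) → j ≠ J → G (merge p z) j = G x j := by
    intro x p z j hp hj
    have : (fun b => merge p z ⟨j, b⟩) = fun b => x ⟨j, b⟩ := funext fun b => by
      simp only [merge, sp, Function.comp_apply]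
      rw [Equiv.sumCompl_symm_apply_of_neg (p := fun v : Coord m e => v.1 = J) (a := ⟨j, b⟩) hj]
      exact hp _
    rw [G, this]
    rfl
  have hGJ : ∀ p z, G (merge p z) J = formOf (e J) (fun b => z (a b)) := by
    intro p z
    have : (fun b => merge p z ⟨J, b⟩) = fun b => z (a b) := funext fun b => by
      simp only [merge, sp, Function.comp_apply]
      rw [Equiv.sumCompl_symm_apply_of_pos (p := fun v : Coord m e => v.1 = J) (a := ⟨J, b⟩) rfl]
      rfl
    rw [G, this]
  have hscale : ∀ p z (t : k), t ≠ 0 → Good (merge p (t • z)) (jj + 1) → Good (merge p z) (jj + 1) := by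
    rintro p z t ht ⟨L, hL⟩
    refine ⟨L, fun w hw => hL w fun j hj => ?_⟩
    have h1 := hw j hj
    by_cases h : j = J
    · subst h
      rw [hGJ] at h1 ⊢
      have : (fun b => (t • z) (a b)) = t • fun b => z (a b) := rfl
      rw [this, map_smul, smul_eval, h1, mul_zero]
    · rw [hG (merge p z) p (t • z) j (fun s => ?_) h, h1]
      simp only [merge, sp, Function.comp_apply]
      rw [Equiv.sumCompl_symm_apply_of_neg (p := fun v : Coord m e => v.1 = J) (a := s.1) s.2]
      rfl
  obtain ⟨gn, hgn⟩ := (inferInstance : IsNoetherian (MvPolynomial (Coord m e) k)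
    (MvPolynomial (Coord m e) k)).noetherian
      (vanishingIdeal k {y : Coord m e → k | ¬ Good y (jj + 1)})
  let μ := Σ g : gn, Fin ((φ g.1).totalDegree + 1)
  let F : μ → MvPolynomial σ (MvPolynomial τ k) := fun q => homogeneousComponent q.2.1 (φ q.1.1)
  set r := m + 1 - jj with hr
  have hdim0 := (good_iff x0 jj).1 hgood
  set I0 := Ideal.span (Set.range fun j : {j : Fin d // j.1 < jj} => G x0 j.1) with hI0
  let S : Set (Ideal (MvPolynomial (Fin (m + 1)) k)) :=
    {P | P ∈ I0.minimalPrimes ∧ ¬ ringKrullDim (MvPolynomial (Fin (m + 1)) k ⧸ P) ≤ (r - 1 : ℕ)}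
  have hSfin : S.Finite :=
    (Ideal.finite_minimalPrimes_of_isNoetherianRing _ I0).subset fun _ h => h.1
  let FJ : (σ → k) →ₗ[k] MvPolynomial (Fin (m + 1)) k :=
    (formOf (e J)).comp (LinearMap.funLeft k k a)
  let eq : (σ → k) ≃ₗ[k] (Mon (Fin (m + 1)) (e J) → k) :=
    LinearEquiv.funCongrLeft k k (Equiv.ofBijective a habij)
  have hcard : Fintype.card (Mon (Fin (m + 1)) (e J)) = Fintype.card σ :=
    Fintype.card_congr (Equiv.ofBijective a habij)
  obtain ⟨K, hK, hKS⟩ := exists_avoiding (k := k) (V := σ → k)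
    (hSfin.image fun P => (P.restrictScalars k).comap FJ) c
    (by
      rw [Module.finrank_fintype_fun_eq_card, ← hcard, Fintype.card_coe,
        Finset.card_finsuppAntidiag_nat_eq_choose, Finset.card_univ, Fintype.card_fin]
      exact (hc J).trans (Nat.choose_le_choose _ (by omega)))
    (by
      rintro _ ⟨P, ⟨hPmin, hPdim⟩, rfl⟩
      have := hPmin.1.1
      obtain ⟨n, -, hn, -⟩ := Variety2.Dim.exists_dim (k := k) (A := MvPolynomial (Fin (m + 1)) k ⧸ P)
      have hnr : n = r := by
        have h1 := (ringKrullDim_le_of_surjective _ (Ideal.Quotient.factor_surjective hPmin.1.2)).trans hdim0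
        rw [hn] at h1 hPdim
        norm_cast at h1 hPdim
        omega
      have h2 := finrank_add_choose_le P r (e J) (hn.trans (by rw [hnr]))
      have h3 : Module.finrank k ↥((P.restrictScalars k).comap FJ) =
          Module.finrank k ↥((P.restrictScalars k).comap (formOf (σ := Fin (m + 1)) (e J))) := by
        rw [← LinearEquiv.finrank_map_eq eq]
        refine congrArg (fun W : Submodule k (Mon (Fin (m + 1)) (e J) → k) => Module.finrank k ↥W)
          (Submodule.ext fun w => ⟨?_, fun hw => ?_⟩)
        · rintro ⟨y, hy, rfl⟩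
          exact hy
        · exact ⟨eq.symm w, by
            change formOf (e J) (eq (eq.symm w)) ∈ P
            rw [LinearEquiv.apply_symm_apply]; exact hw, eq.apply_symm_apply w⟩
      rw [h3, Module.finrank_fintype_fun_eq_card, ← hcard]
      have : c ≤ Nat.choose (r + e J - 1) (e J) := hc J
      omega)
  let bb := Module.finBasis k ((σ → k) ⧸ K)
  let u : Fin (Module.finrank k ((σ → k) ⧸ K)) → MvPolynomial σ k :=
    fun l => lin fun v => bb.coord l (K.mkQ (Pi.single v 1))
  have hu : ∀ l z, eval z (u l) = bb.coord l (K.mkQ z) := by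
    intro l z
    rw [eval_lin]
    conv_rhs => rw [pi_eq_sum_univ' z]
    simp only [map_sum, map_smul, smul_eq_mul]
    exact Finset.sum_congr rfl fun v _ => mul_comm _ _
  have hgenA : Algebra.adjoin k
      (Set.range (fun t : τ => Ideal.Quotient.mk Q (X t.1)) ∪
        Set.range (fun s : σ => Ideal.Quotient.mk Q (X s.1))) = ⊤ := by
    rw [eq_top_iff]
    intro x _
    obtain ⟨f, rfl⟩ := Ideal.Quotient.mk_surjective x
    induction f using MvPolynomial.induction_on with
    | C c =>
      exact Subalgebra.algebraMap_mem _ c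
    | add f g hf hg => rw [map_add]; exact add_mem (hf trivial) (hg trivial)
    | mul_X f v hf =>
      rw [map_mul]
      refine mul_mem (hf trivial) (Algebra.subset_adjoin ?_)
      by_cases h : v.1 = J
      · exact Or.inr ⟨⟨v, h⟩, rfl⟩
      · exact Or.inl ⟨⟨v, h⟩, rfl⟩
  have hmk : ∀ g, eval₂ (aeval fun t : τ => Ideal.Quotient.mk Q (X t.1)).toRingHom
      (fun s : σ => Ideal.Quotient.mk Q (X s.1)) g = Ideal.Quotient.mk Q (ψ g) := by
    intro g
    have : (Ideal.Quotient.mk Q).comp ψ =
        eval₂Hom (aeval (R := k) fun t : τ => Ideal.Quotient.mk Q (X t.1)).toRingHom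
          (fun s : σ => Ideal.Quotient.mk Q (X s.1)) := by
      refine MvPolynomial.ringHom_ext (fun c => ?_) fun v => ?_
      · simp only [ψ, RingHom.comp_apply, eval₂Hom_C, AlgHom.toRingHom_eq_coe, RingHom.coe_coe]
        exact AlgHom.congr_fun (algHom_ext (f := (Ideal.Quotient.mkₐ k Q).comp (rename Subtype.val))
          (g := aeval fun t : τ => Ideal.Quotient.mk Q (X t.1)) fun t => by simp) c
      · simp [ψ]
    exact (RingHom.congr_fun this g).symm
  have key := ringKrullDim_le (σ := σ) (τ := τ) (μ := μ) (fun q => q.2.1) F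
    (fun q => homogeneousComponent_isHomogeneous _ _) u (fun l => isHomogeneous_lin _)
    (A := MvPolynomial (Coord m e) k ⧸ Q) _ _ hgenA
    (fun q => by
      rw [hmk, Ideal.Quotient.eq_zero_iff_mem]
      refine mem_of_forall_eval_eq_zero Q fun x hx => ?_
      rw [hψ, ← eval_map, show MvPolynomial.map (eval fun t : τ => x t.1) (F q) =
        homogeneousComponent q.2.1 (MvPolynomial.map (eval fun t : τ => x t.1) (φ q.1.1)) from
          map_homogeneousComponent' _ _ _]
      refine eval_homogeneousComponent_eq_zero _ _ (fun t ht => ?_) _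
      rw [eval_map, hφ]
      have hbad : ¬ Good (merge (fun t : τ => x t.1) (t • fun s : σ => x s.1)) (jj + 1) := by
        intro hg
        refine hall x hx ?_
        have hx' : merge (fun t : τ => x t.1) (fun s : σ => x s.1) = x := funext fun v => by
          simp only [merge, Function.comp_apply, sp]
          by_cases h : v.1 = J
          · rw [Equiv.sumCompl_symm_apply_of_pos (p := fun v : Coord m e => v.1 = J) h]; rfl
          · rw [Equiv.sumCompl_symm_apply_of_neg (p := fun v : Coord m e => v.1 = J) h]; rfl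
        exact hx' ▸ hscale _ _ t ht hg
      have : q.1.1 ∈ vanishingIdeal k {y : Coord m e → k | ¬ Good y (jj + 1)} := by
        rw [← hgn]; exact Submodule.subset_span q.1.2
      rw [← aeval_eq_eval]
      exact this _ hbad)
    (fun t : τ => x0 t.1)
    (fun f hf => by
      have : rename Subtype.val f ∈ Q := by
        rw [← Ideal.Quotient.eq_zero_iff_mem, ← hf]
        exact AlgHom.congr_fun (algHom_ext (f := (Ideal.Quotient.mkₐ k Q).comp (rename Subtype.val))
          (g := aeval fun t : τ => Ideal.Quotient.mk Q (X t.1)) fun t => by simp) f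
      have := hx0 _ this
      rwa [eval_rename] at this)
    fun z hzF hzu => by
      by_contra hz
      set x' := merge (fun t : τ => x0 t.1) z with hx'
      have hvan : ∀ f ∈ vanishingIdeal k {y : Coord m e → k | ¬ Good y (jj + 1)}, eval x' f = 0 := by
        intro f hf
        rw [← hgn] at hf
        induction hf using Submodule.span_induction with
        | zero => simp
        | add f g _ _ hf hg => simp [hf, hg]
        | smul c f _ hf => simp [hf]
        | mem g hg =>
          rw [hx', ← hφ, ← sum_homogeneousComponent (φ g), eval₂_sum]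
          exact Finset.sum_eq_zero fun n hn => hzF ⟨⟨g, hg⟩, ⟨n, Finset.mem_range.1 hn⟩⟩
      have hzK : z ∈ K := by
        have : K.mkQ z = 0 := bb.forall_coord_eq_zero_iff.1 fun l => (hu l z).symm.trans (hzu l)
        exact (Submodule.Quotient.mk_eq_zero K).1 this
      have hgood' : Good x' (jj + 1) := by
        rw [good_iff]
        refine ringKrullDim_quotient_le _ fun P hP hle => ?_
        have hI0P : I0 ≤ P := by
          refine le_trans (Ideal.span_le.2 ?_) hle
          rintro _ ⟨j, rfl⟩
          exact Ideal.subset_span ⟨⟨j.1, by have := j.2; omega⟩,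
            hG x0 _ z j.1 (fun _ => rfl) (fun h => by have := j.2; rw [h] at this; exact lt_irrefl _ this)⟩
        obtain ⟨P0, hP0, hP0P⟩ := Ideal.exists_minimalPrimes_le hI0P
        by_cases hd0 : ringKrullDim (MvPolynomial (Fin (m + 1)) k ⧸ P0) ≤ (r - 1 : ℕ)
        · exact (ringKrullDim_le_of_surjective _ (Ideal.Quotient.factor_surjective hP0P)).trans
            (hd0.trans (by exact_mod_cast (by omega : r - 1 ≤ m + 1 - (jj + 1))))
        · have := hP0.1.1
          have hgP : FJ z ∉ P0 := fun h => hz ((hKS _ ⟨P0, ⟨hP0, hd0⟩, rfl⟩).le ⟨hzK, h⟩)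
          have hgP' : FJ z ∈ P := hle (Ideal.subset_span ⟨⟨J, Nat.lt_succ_self jj⟩, hGJ _ z⟩)
          have h1 := (ringKrullDim_quotient_succ_le hP0P hgP hgP').trans
            ((ringKrullDim_le_of_surjective _ (Ideal.Quotient.factor_surjective hP0.1.2)).trans hdim0)
          obtain ⟨n, -, hn, -⟩ :=
            Variety2.Dim.exists_dim (k := k) (A := MvPolynomial (Fin (m + 1)) k ⧸ P)
          rw [hn] at h1 ⊢
          norm_cast at h1 ⊢
          omega
      obtain ⟨f, hf, hf'⟩ := exists_sep _ x' hgood'
      exact hf (hvan f fun y hy => by rw [aeval_eq_eval]; exact hf' y hy)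
  obtain ⟨n, -, hn, -⟩ := Variety2.Dim.exists_dim (k := k) (A := MvPolynomial (Coord m e) k ⧸ Q)
  rw [hn] at key ⊢
  have hsum := Submodule.finrank_quotient_add_finrank K
  rw [hK, Module.finrank_fintype_fun_eq_card] at hsum
  have hcard' : Fintype.card σ + Fintype.card τ = Fintype.card (Coord m e) := by
    rw [← Fintype.card_sum]
    exact Fintype.card_congr (Equiv.sumCompl _)
  norm_cast at key ⊢
  simp only [Nat.card_eq_fintype_card, Fintype.card_fin] at key
  omega

end Groth.Misc6.SeqCodim
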