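import Groth.Prelude.Def_W4c2ratcurvhypCodim
import Groth.Agent.Misc6.SeqCodim
import Groth.Agent.Ega41Adic.KaehlerRank

/-!
# `LefPen.CodimGE` through coordinates
-/

set_option autoImplicit false

namespace Groth.Misc6.CodimFun

open MvPolynomial

variable {k : Type} [Field k] [Infinite k] {V : Type} [AddCommGroup V] [Module k V]

theorem isPolyFun_eval {ι : Type} (b : V →ₗ[k] (ι → k)) (f : MvPolynomial ι k) :
    LefPen.IsPolyFun k (fun v => eval (b v) f) := by
  have hmem : aeval (fun (i : ι) (v : V) => b v i) f ∈ LefPen.polyFunAlg k V := by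
    have h1 : aeval (fun (i : ι) (v : V) => b v i) f ∈
        Algebra.adjoin k (Set.range fun (i : ι) (v : V) => b v i) := by
      rw [Algebra.adjoin_range_eq_range_aeval]
      exact AlgHom.mem_range_self _ _
    refine Algebra.adjoin_le ?_ h1
    rintro _ ⟨i, rfl⟩
    exact Algebra.subset_adjoin ⟨(LinearMap.proj i).comp b, rfl⟩
  have : aeval (fun (i : ι) (v : V) => b v i) f = fun v => eval (b v) f := by
    funext v
    change (Pi.evalAlgHom k (fun _ : V => k) v) (aeval (fun (i : ι) (v : V) => b v i) f) = _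
    rw [comp_aeval_apply, aeval_eq_eval]
    rfl
  rw [this] at hmem
  exact hmem

/-- Evaluation identifies the polynomial ring on coordinates with the polynomial functions. -/
noncomputable def evHom {ι : Type} (b : V ≃ₗ[k] (ι → k)) :
    MvPolynomial ι k →ₐ[k] ↥(LefPen.polyFunAlg k V) :=
  aeval fun i => ⟨fun v => b v i, Algebra.subset_adjoin ⟨(LinearMap.proj i).comp b.toLinearMap, rfl⟩⟩

theorem evHom_apply {ι : Type} (b : V ≃ₗ[k] (ι → k)) (f : MvPolynomial ι k) (v : V) :
    (evHom b f).1 v = eval (b v) f := by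
  change ((Pi.evalAlgHom k (fun _ : V => k) v).comp (LefPen.polyFunAlg k V).val) (evHom b f) = _
  rw [evHom, comp_aeval_apply, aeval_eq_eval]
  rfl

theorem evHom_bijective {ι : Type} [Fintype ι] (b : V ≃ₗ[k] (ι → k)) :
    Function.Bijective (evHom b) := by
  classical
  refine ⟨(injective_iff_map_eq_zero _).2 fun f hf => MvPolynomial.funext fun x => ?_, fun g => ?_⟩
  · rw [map_zero, ← b.apply_symm_apply x, ← evHom_apply, hf]
    rfl
  · obtain ⟨g, hg⟩ := g
    have hle : LefPen.polyFunAlg k V ≤ ((LefPen.polyFunAlg k V).val.comp (evHom b)).range := by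
      refine Algebra.adjoin_le ?_
      rintro _ ⟨l, rfl⟩
      refine ⟨∑ i, C (l (b.symm (Pi.single i 1))) * X i, funext fun v => ?_⟩
      change (evHom b (∑ i, C (l (b.symm (Pi.single i 1))) * X i)).1 v = l v
      rw [evHom_apply]
      simp only [map_sum, map_mul, eval_C, eval_X]
      conv_rhs => rw [← b.symm_apply_apply v, pi_eq_sum_univ' (b v)]
      simp only [map_sum, map_smul, smul_eq_mul]
      exact Finset.sum_congr rfl fun i _ => mul_comm _ _
    obtain ⟨f, hf⟩ := hle hg
    exact ⟨f, Subtype.ext hf⟩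

theorem codimGE_of {ι : Type} [Fintype ι] (b : V ≃ₗ[k] (ι → k)) (D : Set V) (c : ℕ)
    (h : ∀ Q : Ideal (MvPolynomial ι k), Q.IsPrime →
      (∀ f, (∀ v ∈ D, eval (b v) f = 0) → f ∈ Q) →
        ringKrullDim (MvPolynomial ι k ⧸ Q) + c ≤ (Fintype.card ι : ℕ)) :
    LefPen.CodimGE k D c := by
  let e : MvPolynomial ι k ≃+* ↥(LefPen.polyFunAlg k V) :=
    RingEquiv.ofBijective (evHom b).toRingHom (evHom_bijective b)
  rw [LefPen.CodimGE, ← e.height_comap, Ideal.height_eq_inf_minimalPrimes]
  refine le_iInf₂ fun Q hQ => ?_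
  have := hQ.1.1
  have h1 := h Q hQ.1.1 fun f hf => hQ.1.2 fun v hv => by
    change (evHom b f).1 v = 0
    rw [evHom_apply]
    exact hf v hv
  have h2 := Groth.Ega41Adic.height_add_ringKrullDim_quotient k ι Q
  rw [Nat.card_eq_fintype_card] at h2
  obtain ⟨n, -, hn, -⟩ := Variety2.Dim.exists_dim (k := k) (A := MvPolynomial ι k ⧸ Q)
  rw [hn] at h1 h2
  have hfin : Q.height ≠ ⊤ := Ideal.height_ne_top (Ideal.IsPrime.ne_top inferInstance)
  lift Q.height to ℕ using hfin with q hq
  norm_cast at h1 h2 ⊢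
  omega

end Groth.Misc6.CodimFun
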