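import Groth.Agent.CohTwo.Devissage
import Groth.Agent.KTheory.CohProps
import Mathlib.RingTheory.Nakayama

/-!
# Serre classes of coherent modules and supports (Gabriel)
-/

universe u

open CategoryTheory CategoryTheory.Limits AlgebraicGeometry TopologicalSpace Opposite

namespace Groth.Misc6.CohGab

open Groth.QCohMod Groth.CohTwo

variable {X : Scheme.{u}}

/-- `P` is a Serre class on coherent modules. -/
def IsSerre (P : ObjectProperty X.Modules) : Prop :=
  ∀ S : ShortComplex X.Modules, S.ShortExact → Coh.IsCoh S.X₁ → Coh.IsCoh S.X₂ → Coh.IsCoh S.X₃ →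
    (P S.X₂ ↔ P S.X₁ ∧ P S.X₃)

lemma support_subset_union {S : ShortComplex X.Modules} (h : S.ShortExact) :
    CohB1.support S.X₂ ⊆ CohB1.support S.X₁ ∪ CohB1.support S.X₃ := by
  intro x hx
  by_contra hc
  rw [Set.mem_union, not_or, notMem_support_iff, notMem_support_iff] at hc
  haveI := h.mono_f
  haveI := h.epi_g
  have z1 : IsZero ((stalk x).obj S.X₁) :=
    haveI := hc.1; AddCommGrpCat.isZero_of_subsingleton _
  have z3 : IsZero ((stalk x).obj S.X₃) :=
    haveI := hc.2; AddCommGrpCat.isZero_of_subsingleton _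
  have e : cokernel S.f ≅ S.X₃ := (cokernelIsCokernel S.f).coconePointUniqueUpToIso h.gIsCokernel
  have z2 : IsZero ((stalk x).obj S.X₂) :=
    z3.of_iso (((stalk x).mapIso e).symm ≪≫ PreservesCokernel.iso (stalk x) S.f ≪≫
      cokernelIsoOfEq (z1.eq_of_src ((stalk x).map S.f) 0) ≪≫ cokernelZeroIsoTarget).symm
  exact hx (AddCommGrpCat.subsingleton_of_isZero z2)

/-- The modules supported in a given set form a Serre class. -/
theorem serre_supported (Z : Set X) : IsSerre (X := X) fun M => CohB1.support M ⊆ Z := by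
  intro S hS _ _ _
  haveI := hS.mono_f
  haveI := hS.epi_g
  exact ⟨fun h => ⟨(support_subset_of_mono S.f).trans h, (support_subset_of_epi S.g).trans h⟩,
    fun h => (support_subset_union hS).trans (Set.union_subset h.1 h.2)⟩

variable [IsNoetherian X]

theorem IsSerre.sub {P : ObjectProperty X.Modules} (hP : IsSerre P) {M N : X.Modules} (f : M ⟶ N) [Mono f]
    (hM : Coh.IsCoh M) (hN : Coh.IsCoh N) (h : P N) : P M ∧ P (cokernel f) :=
  haveI := hM.1
  (hP _ (cokerSeq_shortExact f) hM hN (isCoh_cokernel f hN)).1 h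

theorem IsSerre.zero {P : ObjectProperty X.Modules} (hP : IsSerre P) {G : X.Modules} (hG : Coh.IsCoh G)
    (h : P G) {M : X.Modules} (hM : IsZero M) : P M :=
  haveI : Mono (0 : M ⟶ G) := ⟨fun _ _ _ => hM.eq_of_tgt _ _⟩
  (hP.sub (0 : M ⟶ G) (Groth.KTheory.isCoh_of_isZero hM) hG h).1

theorem IsSerre.of_iso {P : ObjectProperty X.Modules} (hP : IsSerre P) {M N : X.Modules} (e : M ≅ N)
    (hM : Coh.IsCoh M) (h : P M) : P N :=
  (hP.sub e.inv (isCoh_of_iso e hM) hM h).1

/-- Nakayama: the quotient `F / J F` is nonzero wherever `F` is and `J` vanishes. -/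
theorem mem_support_cokernel_idealMul {F : X.Modules} (hF : Coh.IsCoh F) (J : X.IdealSheafData) {x : X}
    (hx : x ∈ CohB1.support F) (hJ : x ∈ (J.support : Set X)) :
    x ∈ CohB1.support (cokernel (Dual3.idealMulι J F)) := by
  haveI := hF.1
  haveI := isQCoh_idealMul J F
  haveI := finite_stalk F hF.2 x
  let m := IsLocalRing.maximalIdeal (X.presheaf.stalk x)
  intro h
  obtain ⟨V, hV, hxV⟩ := Groth.QCohMod.exists_affine_mem x
  have hsurj : Function.Surjective ((stalk x).map (Dual3.idealMulι J F)) := by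
    haveI : Subsingleton ↑((stalk x).obj (cokernel (Dual3.idealMulι J F))) := h
    have z := (AddCommGrpCat.isZero_of_subsingleton ((stalk x).obj (cokernel (Dual3.idealMulι J F)))).of_iso
      (PreservesCokernel.iso (stalk x) (Dual3.idealMulι J F)).symm
    haveI := Preadditive.epi_of_isZero_cokernel _ z
    exact (AddCommGrpCat.epi_iff_surjective _).1 inferInstance
  have hle : (⊤ : Submodule (X.presheaf.stalk x) ↑(F.presheaf.stalk x)) ≤ m • ⊤ := by
    intro t _
    obtain ⟨w, hw⟩ := hsurj t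
    obtain ⟨c, s, hc, hcs⟩ := exists_smul_germ_eq ((Dual3.idealMul J).obj F) hV x hxV w
    have hu := (Scheme.mem_basicOpen X c x hxV).1 hc
    refine (Submodule.smul_mem_iff_of_isUnit _ hu).1 ?_
    have himg := (mem_range_idealMulι_iff J F hV _).1 ⟨s, rfl⟩
    have key : X.presheaf.germ V x hxV c • t = Groth.QCohMod.germ F x hxV ((Dual3.idealMulι J F).app V s) := by
      rw [← hw]
      show X.presheaf.germ V x hxV c • stalkLin (Dual3.idealMulι J F) x w = _
      rw [← map_smul, hcs]
      exact stalk_map_germ _ _ _ _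
    rw [key]
    refine Submodule.smul_induction_on himg (fun a ha z _ => ?_) (fun p q hp hq => ?_)
    · rw [stalk_germ_smul]
      refine Submodule.smul_mem_smul ?_ trivial
      rw [IsLocalRing.mem_maximalIdeal, mem_nonunits_iff]
      intro hunit
      have hxb := (Scheme.mem_basicOpen X a x hxV).2 hunit
      exact (Scheme.mem_zeroLocus_iff _ _ _).1
        ((Scheme.IdealSheafData.mem_support_iff_of_mem (U := ⟨V, hV⟩) hxV).1 hJ) a ha hxb
    · rw [map_add]; exact add_mem hp hq
  have hbot := Submodule.eq_bot_of_le_smul_of_le_jacobson_bot m (⊤ : Submodule (X.presheaf.stalk x) ↑(F.presheaf.stalk x))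
    (Module.Finite.fg_top) hle (IsLocalRing.jacobson_eq_maximalIdeal (⊥ : Ideal _) bot_ne_top).ge
  exact hx ⟨fun p q => by
    have hp : p ∈ (⊤ : Submodule (X.presheaf.stalk x) ↑(F.presheaf.stalk x)) := trivial
    have hq : q ∈ (⊤ : Submodule (X.presheaf.stalk x) ↑(F.presheaf.stalk x)) := trivial
    rw [hbot, Submodule.mem_bot] at hp hq
    rw [hp, hq]⟩

/-- Some coherent module has a given closed set as support. -/
theorem exists_support_eq (Z : Closeds X) : ∃ F : X.Modules, Coh.IsCoh F ∧ CohB1.support F = (Z : Set X) := by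
  let J := Scheme.IdealSheafData.vanishingIdeal Z
  have hO := isCoh_unit (X := X)
  haveI := hO.1
  haveI := isQCoh_idealMul J (Coh.structureModule X)
  have hJ : (J.support : Set X) = Z := Scheme.IdealSheafData.coe_support_vanishingIdeal _
  refine ⟨cokernel (Dual3.idealMulι J (Coh.structureModule X)), isCoh_cokernel _ hO, subset_antisymm ?_ ?_⟩
  · intro x hx
    by_contra hxZ
    exact notMem_support_cokernel _ x
      (bijective_stalk_idealMulι _ _ (by rw [hJ]; exact hxZ)).2 hx
  · intro x hx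
    refine mem_support_cokernel_idealMul hO J ?_ (hJ ▸ hx)
    intro h
    haveI : Subsingleton ↑((Coh.structureModule X).presheaf.stalk x) := h
    exact not_subsingleton (X.presheaf.stalk x) ((bijective_toSpanSingleton_one x).1.subsingleton)

/-- A Serre class meeting every point of a closed set contains everything supported there. -/
theorem IsSerre.of_points {P : ObjectProperty X.Modules} (hP : IsSerre P) {G₀ : X.Modules}
    (hG₀ : Coh.IsCoh G₀) (hPG₀ : P G₀) {Z : Set X} (hZ : IsClosed Z)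
    (h : ∀ ξ ∈ Z, ∃ G : X.Modules, Coh.IsCoh G ∧ P G ∧ ξ ∈ CohB1.support G)
    {F : X.Modules} (hF : Coh.IsCoh F) (hsupp : CohB1.support F ⊆ Z) : P F := by
  refine (coh_induction (fun M => Coh.IsCoh M → P M) (fun M N ⟨e⟩ hM hN => hP.of_iso e (isCoh_of_iso e.symm hN)
      (hM (isCoh_of_iso e.symm hN)))
    (fun M hM _ => hP.zero hG₀ hPG₀ hM)
    (fun S hS h1 h2 h3 p1 p3 _ => (hP S hS h1 h2 h3).2 ⟨p1 h1, p3 h3⟩) Z ?_ hZ F hF hsupp) hF
  intro Y ξ hY hYZ F hF hk hsmall _
  haveI := hF.1
  have hYJ : ((Scheme.IdealSheafData.vanishingIdeal Y).support : Set X) = Y :=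
    Scheme.IdealSheafData.coe_support_vanishingIdeal _
  have hξY : ξ ∈ (Y : Set X) := hY ▸ subset_closure rfl
  obtain ⟨G, hG, hPG, hξG⟩ := h ξ (hYZ hξY)
  haveI := hG.1
  let J := Scheme.IdealSheafData.vanishingIdeal Y
  haveI := isQCoh_idealMul J G
  have hJG := isCoh_idealMul J G hG
  have hC := isCoh_cokernel (Dual3.idealMulι J G) hG
  haveI := hC.1
  have hPC := (hP.sub (Dual3.idealMulι J G) hJG hG hPG).2
  have hCk : Killed J (cokernel (Dual3.idealMulι J G)) := killed_of_smul_eq_zero fun V hV a ha m => by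
    obtain ⟨m', rfl⟩ := app_surjective_of_epi (cokernel.π (Dual3.idealMulι J G)) hV m
    rw [← Scheme.Modules.Hom.app_smul]
    obtain ⟨z, hz⟩ := (mem_range_idealMulι_iff J G hV _).2
      (Submodule.smul_mem_smul ha (trivial : m' ∈ (⊤ : Submodule Γ(X, V) Γ(G, V))))
    rw [← hz]
    exact congr(($(cokernel.condition (Dual3.idealMulι J G))).app V z)
  haveI : Nontrivial ↑((cokernel (Dual3.idealMulι J G)).presheaf.stalk ξ) :=
    not_subsingleton_iff_nontrivial.1 (mem_support_cokernel_idealMul hG J hξG (hYJ.symm ▸ hξY))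
  refine step_two (fun M => Coh.IsCoh M → P M) (fun M hM _ => hP.zero hG₀ hPG₀ hM)
    (fun S hS h1 h2 h3 => ⟨fun p2 _ _ => ((hP S hS h1 h2 h3).1 (p2 h2)).1,
      fun p1 p3 _ => (hP S hS h1 h2 h3).2 ⟨p1 h1, p3 h3⟩⟩)
    (fun M d hd hM pM _ => ?_) (Y := (Y : Set X)) (fun M hM h1 h2 => hsmall M hM h1 h2) hC (fun _ => hPC)
    (hYJ ▸ hCk.support_subset) (hCk.stalk_maximalIdeal hY) hF (hYJ ▸ hk.support_subset) (hk.stalk_maximalIdeal hY) hF
  haveI := hM.1
  haveI : Mono (Sigma.ι (fun _ : Fin d => M) ⟨0, hd⟩) := by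
    haveI : IsSplitMono (Sigma.ι (fun _ : Fin d => M) ⟨0, hd⟩) :=
      IsSplitMono.mk' ⟨powProj M ⟨0, hd⟩, by rw [ι_powProj, if_pos rfl]⟩
    infer_instance
  exact (hP.sub (Sigma.ι (fun _ : Fin d => M) ⟨0, hd⟩) hM (isCoh_powMod hM d) (pM (isCoh_powMod hM d))).1

/-- A Serre class containing `G` contains all coherent modules supported in `supp G`. -/
theorem IsSerre.of_support {P : ObjectProperty X.Modules} (hP : IsSerre P) {G : X.Modules} (hG : Coh.IsCoh G)
    (hPG : P G) {F : X.Modules} (hF : Coh.IsCoh F) (h : CohB1.support F ⊆ CohB1.support G) : P F :=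
  hP.of_points hG hPG (isClosed_support G hG) (fun _ hξ => ⟨G, hG, hPG, hξ⟩) hF h

end Groth.Misc6.CohGab
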