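import Groth.Agent.Variety2.DimAffine

/-!
# Cones: projective elimination with parameters and dimension bounds

* `exists_elim`: homogeneous `F` with parameters having no nonzero common zero at the parameter `p`
  give identities `h ⋅ (monomial of degree E) = ∑ c F` with `h p ≠ 0`.
* `ringKrullDim_le`: a domain generated by `s` and `y`, where `(s, y)` satisfies such equations,
  has dimension at most the number of parameters plus the number of extra linear forms.
* `exists_cut`: a homogeneous ideal of dimension `≤ r` has only the zero as common zero with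
  `r` suitable linear forms.
-/

set_option autoImplicit false

namespace Groth.Misc6.ConeDim

open MvPolynomial

variable {k : Type} [Field k]

theorem exists_elim [IsAlgClosed k] {σ τ μ : Type} [Finite σ] [Fintype μ] (e : μ → ℕ)
    (F : μ → MvPolynomial σ (MvPolynomial τ k)) (hF : ∀ m, (F m).IsHomogeneous (e m)) (p : τ → k)
    (h0 : ∀ z : σ → k, (∀ m, eval₂ (eval p) z (F m) = 0) → z = 0) :
    ∃ (E : ℕ) (h : MvPolynomial τ k), 0 < E ∧ (∀ m, e m < E) ∧ eval p h ≠ 0 ∧
      ∀ a : σ →₀ ℕ, a.degree = E → ∃ c : μ → MvPolynomial σ (MvPolynomial τ k),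
        (∀ m, (c m).IsHomogeneous (E - e m)) ∧ C h * monomial a 1 = ∑ m, c m * F m := by
  classical
  cases nonempty_fintype σ
  let F0 : μ → MvPolynomial σ k := fun m => MvPolynomial.map (eval p) (F m)
  have hrad : ∀ i : σ, ∃ N : ℕ, (X i : MvPolynomial σ k) ^ N ∈ Ideal.span (Set.range F0) := by
    intro i
    have : (X i : MvPolynomial σ k) ∈ (Ideal.span (Set.range F0)).radical := by
      rw [← vanishingIdeal_zeroLocus_eq_radical (K := k)]
      intro x hx
      have : x = 0 := h0 x fun m => by
        have := hx (F0 m) (Ideal.subset_span ⟨m, rfl⟩)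
        rwa [← eval_map, ← aeval_eq_eval]
      simp [this]
    exact this
  choose n hn using hrad
  set D := (∑ i, n i) + 1
  set E := (Fintype.card σ) * D + ∑ m, e m + 1 with hE
  have hme : ∀ m, e m ≤ ∑ m, e m :=
    fun m => Finset.single_le_sum (fun _ _ => Nat.zero_le _) (Finset.mem_univ m)
  have hDpow : ∀ a : σ →₀ ℕ, a.degree = E → monomial a (1 : k) ∈ Ideal.span (Set.range F0) := by
    intro a ha
    rcases isEmpty_or_nonempty σ with hσ | hσ
    · rw [Finsupp.degree_eq_sum] at ha
      simp [hE] at ha
    obtain ⟨i, hi⟩ : ∃ i, n i ≤ a i := by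
      by_contra hc
      push Not at hc
      have h1 : a.degree ≤ ∑ i, n i := by
        rw [Finsupp.degree_eq_sum]
        exact Finset.sum_le_sum fun i _ => (hc i).le
      have : D ≤ Fintype.card σ * D := Nat.le_mul_of_pos_left D Fintype.card_pos
      omega
    have h2 : monomial a (1 : k) =
        monomial (a - Finsupp.single i (n i)) 1 * (X i : MvPolynomial σ k) ^ (n i) := by
      rw [X_pow_eq_monomial, monomial_mul, one_mul,
        tsub_add_cancel_of_le (Finsupp.single_le_iff.2 hi)]
    rw [h2]
    exact Ideal.mul_mem_left _ _ (hn i)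
  have : Finite {a : σ →₀ ℕ // a.degree = E} :=
    (Set.Finite.subset (Finsupp.finite_of_degree_le E) fun a (ha : a.degree = E) => ha.le).to_subtype
  let _ := Fintype.ofFinite {a : σ →₀ ℕ // a.degree = E}
  have hex : ∀ a : {a : σ →₀ ℕ // a.degree = E}, ∃ g : μ → MvPolynomial σ k,
      (∀ m, (g m).IsHomogeneous (E - e m)) ∧ ∑ m, g m * F0 m = monomial a.1 1 := by
    intro a
    obtain ⟨c, hc⟩ := Ideal.mem_span_range_iff_exists_fun.1 (hDpow a.1 a.2)
    refine ⟨fun m => homogeneousComponent (E - e m) (c m),
      fun m => homogeneousComponent_isHomogeneous _ _, ?_⟩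
    have h1 := congrArg (homogeneousComponent E) hc
    rw [map_sum, homogeneousComponent_of_mem (m := E) (n := E)
      (isHomogeneous_monomial _ a.2), if_pos rfl] at h1
    rw [← h1]
    refine Finset.sum_congr rfl fun m _ => ?_
    have hm := hme m
    have hh : (F0 m).IsHomogeneous (e m) := (hF m).map _
    conv_rhs => rw [← sum_homogeneousComponent (c m)]
    rw [Finset.sum_mul, map_sum, Finset.sum_eq_single (E - e m)]
    · rw [homogeneousComponent_of_mem
        ((homogeneousComponent_isHomogeneous (E - e m) (c m)).mul hh), if_pos (by omega)]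
    · intro j _ hj
      rw [homogeneousComponent_of_mem ((homogeneousComponent_isHomogeneous j (c m)).mul hh),
        if_neg]
      omega
    · intro hj
      simp only [Finset.mem_range, not_lt] at hj
      rw [homogeneousComponent_eq_zero (E - e m) (c m) (by omega)]
      simp
  choose g hg hgsum using hex
  let P : {a : σ →₀ ℕ // a.degree = E} → MvPolynomial σ (MvPolynomial τ k) :=
    fun a => ∑ m, MvPolynomial.map C (g a m) * F m
  have hP : ∀ a, (P a).IsHomogeneous E := fun a => IsHomogeneous.sum _ _ _ fun m _ => by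
    have hm := hme m
    have := ((hg a m).map (C : k →+* MvPolynomial τ k)).mul (hF m)
    rwa [show E - e m + e m = E by omega] at this
  let M : Matrix {a : σ →₀ ℕ // a.degree = E} {a : σ →₀ ℕ // a.degree = E} (MvPolynomial τ k) :=
    Matrix.of fun a b => coeff b.1 (P a)
  have hPM : ∀ a, P a = ∑ b : {a : σ →₀ ℕ // a.degree = E}, C (M a b) * monomial b.1 1 := by
    intro a
    ext1 x
    simp only [M, Matrix.of_apply]
    conv_rhs => rw [coeff_sum]
    simp only [coeff_C_mul, coeff_monomial, mul_ite, mul_one, mul_zero]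
    by_cases hx : x.degree = E
    · rw [Finset.sum_eq_single ⟨x, hx⟩]
      · simp
      · intro b _ hb
        rw [if_neg fun h => hb (Subtype.ext h)]
      · simp
    · rw [Finset.sum_eq_zero fun b _ => if_neg fun h : b.1 = x => hx (by rw [← h]; exact b.2)]
      exact (hP a).coeff_eq_zero hx
  have hM1 : M.map (eval p) = 1 := by
    ext a b
    have : MvPolynomial.map (eval p) (P a) = monomial a.1 1 := by
      simp only [P, map_sum, map_mul, MvPolynomial.map_map]
      rw [← hgsum a]
      refine Finset.sum_congr rfl fun m _ => ?_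
      rw [show (eval p).comp (C : k →+* MvPolynomial τ k) = RingHom.id k from
        RingHom.ext fun c => eval_C c, MvPolynomial.map_id]
    change eval p (coeff b.1 (P a)) = _
    rw [← coeff_map, this, coeff_monomial, Matrix.one_apply]
    simp only [Subtype.ext_iff]
  refine ⟨E, M.det, by omega, fun m => by have := hme m; omega, ?_, fun a ha => ?_⟩
  · rw [RingHom.map_det, RingHom.mapMatrix_apply, hM1, Matrix.det_one]
    exact one_ne_zero
  · refine ⟨fun m => ∑ b, C (M.adjugate ⟨a, ha⟩ b) * MvPolynomial.map C (g b m), fun m =>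
      IsHomogeneous.sum _ _ _ fun b _ => ((hg b m).map _).C_mul _, ?_⟩
    calc C M.det * monomial a 1
        = ∑ b, C ((M.adjugate * M) ⟨a, ha⟩ b) * monomial b.1 1 := by
          rw [Matrix.adjugate_mul, Finset.sum_eq_single ⟨a, ha⟩]
          · simp [Matrix.smul_apply]
          · intro b _ hb
            simp [Matrix.smul_apply, Matrix.one_apply_ne (Ne.symm hb)]
          · simp
      _ = ∑ b, C (M.adjugate ⟨a, ha⟩ b) * P b := by
          simp only [hPM, Matrix.mul_apply, map_sum, map_mul, Finset.sum_mul, Finset.mul_sum,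
            mul_assoc]
          exact Finset.sum_comm
      _ = _ := by
          simp only [P, Finset.mul_sum, Finset.sum_mul, mul_assoc]
          exact Finset.sum_comm

/-- Dimension bound for a family of cones. -/
theorem ringKrullDim_le [IsAlgClosed k] {σ τ μ ρ : Type} [Finite σ] [Finite τ] [Finite μ] [Finite ρ]
    (e : μ → ℕ) (F : μ → MvPolynomial σ (MvPolynomial τ k)) (hF : ∀ m, (F m).IsHomogeneous (e m))
    (u : ρ → MvPolynomial σ k) (hu : ∀ r, (u r).IsHomogeneous 1)
    {A : Type} [CommRing A] [IsDomain A] [Algebra k A] (s : τ → A) (y : σ → A)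
    (hgen : Algebra.adjoin k (Set.range s ∪ Set.range y) = ⊤)
    (hFA : ∀ m, eval₂ (aeval s).toRingHom y (F m) = 0)
    (p : τ → k) (hp : ∀ f, aeval s f = 0 → eval p f = 0)
    (h0 : ∀ z : σ → k, (∀ m, eval₂ (eval p) z (F m) = 0) → (∀ r, eval z (u r) = 0) → z = 0) :
    ringKrullDim A ≤ (Nat.card τ + Nat.card ρ : ℕ) := by
  classical
  cases nonempty_fintype σ
  cases nonempty_fintype μ
  cases nonempty_fintype ρ
  have : Algebra.FiniteType k A := by
    refine ⟨Subalgebra.fg_def.2 ⟨_, ?_, hgen⟩⟩
    exact (Set.finite_range s).union (Set.finite_range y)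
  obtain ⟨E, h, hE0, hE, hph, hid⟩ := exists_elim (Sum.elim e fun _ : ρ => 1)
    (Sum.elim F fun r => MvPolynomial.map C (u r))
    (Sum.rec hF fun r => (hu r).map _) p fun z hz => h0 z (fun m => hz (Sum.inl m)) fun r => by
      have := hz (Sum.inr r)
      simp only [Sum.elim_inr, eval₂_map] at this
      rwa [show (eval p).comp (C : k →+* MvPolynomial τ k) = RingHom.id k from
        RingHom.ext fun c => eval_C c] at this
  have hhA : aeval s h ≠ 0 := fun h' => hph (hp h h')
  let L := FractionRing A
  let ι : A →ₐ[k] L := IsScalarTower.toAlgHom k A L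
  have hι : Function.Injective ι := IsFractionRing.injective A L
  let s' : τ → L := fun t => ι (s t)
  let y' : σ → L := fun i => ι (y i)
  let T : Set L := Set.range s' ∪ Set.range fun r => aeval y' (u r)
  let K : IntermediateField k L := IntermediateField.adjoin k T
  let ψ : MvPolynomial σ (MvPolynomial τ k) →+* L := eval₂Hom (aeval s').toRingHom y'
  have hψι : ∀ f, ψ f = ι (eval₂ (aeval s).toRingHom y f) := by
    have : ψ = (ι.toRingHom).comp (eval₂Hom (aeval s).toRingHom y) := by
      refine MvPolynomial.ringHom_ext (fun f => ?_) fun i => ?_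
      · simp only [ψ, RingHom.comp_apply, eval₂Hom_C]
        exact AlgHom.congr_fun (comp_aeval s ι).symm f
      · simp [ψ, y']
    exact fun f => RingHom.congr_fun this f
  have hS : ∀ f : MvPolynomial τ k, aeval s' f ∈ K := by
    intro f
    have : aeval s' f ∈ Algebra.adjoin k (Set.range s') := by
      rw [Algebra.adjoin_range_eq_range_aeval]
      exact AlgHom.mem_range_self _ _
    exact IntermediateField.algebra_adjoin_le_adjoin k T
      (Algebra.adjoin_mono Set.subset_union_left this)
  let N : Submodule K L := Submodule.span K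
    ((fun a : σ →₀ ℕ => ψ (monomial a 1)) '' {a | a.degree < E})
  have hN : N.FG := Submodule.fg_span (((Finsupp.finite_of_degree_le E).subset
    fun a (ha : a.degree < E) => ha.le).image _)
  have hmem : ∀ q : MvPolynomial σ (MvPolynomial τ k), ∀ d, d < E → q.IsHomogeneous d → ψ q ∈ N := by
    intro q d hd hq
    rw [q.as_sum, map_sum]
    refine Submodule.sum_mem _ fun a ha => ?_
    have hda : a.degree = d := by
      rw [Finsupp.degree_eq_weight_one]; exact hq (mem_support_iff.1 ha)
    have : ψ (monomial a (coeff a q)) =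
        (⟨aeval s' (coeff a q), hS _⟩ : K) • ψ (monomial a 1) := by
      rw [show monomial a (coeff a q) = C (coeff a q) * monomial a 1 by
        rw [C_mul_monomial, mul_one], map_mul, IntermediateField.smul_def]
      simp [ψ]
    rw [this]
    exact N.smul_mem _ (Submodule.subset_span ⟨a, by simpa [hda] using hd, rfl⟩)
  have hhK : (⟨aeval s' h, hS h⟩ : K) ≠ 0 := by
    intro h'
    apply hhA
    apply hι
    rw [map_zero, ← AlgHom.comp_apply, comp_aeval]
    exact congrArg Subtype.val h'
  have hy : ∀ i, IsAlgebraic K (y' i) := fun i => by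
    refine IsIntegral.isAlgebraic (isIntegral_of_smul_mem_submodule (M := L) N ?_ hN (y' i) ?_)
    · refine Submodule.ne_bot_iff _ |>.2 ⟨ψ (monomial 0 1), Submodule.subset_span ⟨0, by simpa, rfl⟩, ?_⟩
      rw [monomial_zero', map_one, map_one]
      exact one_ne_zero
    · intro x hx
      induction hx using Submodule.span_induction with
      | zero => simp
      | add x z _ _ hx hz => rw [smul_add]; exact N.add_mem hx hz
      | smul c x _ hx => rw [smul_comm]; exact N.smul_mem c hx
      | mem x hx =>
        obtain ⟨a, ha, rfl⟩ := hx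
        change a.degree < E at ha
        have e1 : y' i • ψ (monomial a 1) = ψ (monomial (Finsupp.single i 1 + a) 1) := by
          rw [monomial_single_add, pow_one, map_mul, smul_eq_mul]
          simp [ψ]
        rw [e1]
        have hdeg : (Finsupp.single i 1 + a).degree = a.degree + 1 := by
          rw [map_add, Finsupp.degree_single, add_comm]
        rcases lt_or_eq_of_le (Nat.succ_le_of_lt ha) with hlt | heq
        · exact Submodule.subset_span ⟨_, by simpa [hdeg] using hlt, rfl⟩
        · obtain ⟨c, hc, hceq⟩ := hid (Finsupp.single i 1 + a) (by omega)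
          have hr := congrArg ψ hceq
          rw [map_mul, Fintype.sum_sum_type, map_add, map_sum, map_sum,
            Finset.sum_eq_zero (s := (Finset.univ : Finset μ)) fun m _ => by
              rw [map_mul, Sum.elim_inl, hψι (F m), hFA m, map_zero, mul_zero], zero_add] at hr
          have hmemr : ψ (C h) * ψ (monomial (Finsupp.single i 1 + a) 1) ∈ N := by
            rw [hr]
            refine Submodule.sum_mem _ fun r _ => ?_
            have hur : ψ (MvPolynomial.map C (u r)) = aeval y' (u r) := by
              simp only [ψ, coe_eval₂Hom, eval₂_map, aeval_def]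
              congr 1
              exact RingHom.ext fun c => (aeval s').commutes c
            rw [map_mul, Sum.elim_inr, hur, mul_comm,
              show aeval y' (u r) * ψ (c (Sum.inr r)) =
                (⟨aeval y' (u r), IntermediateField.subset_adjoin k T (Or.inr ⟨r, rfl⟩)⟩ : K) •
                  ψ (c (Sum.inr r)) from rfl]
            exact N.smul_mem _ (hmem _ (E - 1) (by omega) (hc (Sum.inr r)))
          have hC : ψ (C h) = aeval s' h := by simp [ψ]
          rw [hC] at hmemr
          have := N.smul_mem (⟨aeval s' h, hS h⟩ : K)⁻¹ hmemr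
          rwa [IntermediateField.smul_def, smul_eq_mul, ← mul_assoc, IntermediateField.coe_inv,
            inv_mul_cancel₀ (fun h' => hhK (Subtype.ext h')), one_mul] at this
  have hall : ∀ x : L, IsAlgebraic K x := by
    have hA : ∀ a : A, ι a ∈ algebraicClosure K L := by
      intro a
      have : a ∈ (((algebraicClosure K L).toSubalgebra.restrictScalars k).comap ι) := by
        have ht : a ∈ Algebra.adjoin k (Set.range s ∪ Set.range y) := by rw [hgen]; trivial
        refine Algebra.adjoin_le ?_ ht
        rintro _ (⟨t, rfl⟩ | ⟨i, rfl⟩)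
        · exact (algebraicClosure K L).algebraMap_mem
            (⟨s' t, IntermediateField.subset_adjoin k T (Or.inl ⟨t, rfl⟩)⟩ : K)
        · exact mem_algebraicClosure_iff.2 (hy i)
      exact this
    intro x
    obtain ⟨a, b, -, rfl⟩ := IsFractionRing.div_surjective (A := A) x
    exact mem_algebraicClosure_iff.1 ((algebraicClosure K L).div_mem (hA a) (hA b))
  have : Algebra.IsAlgebraic (Algebra.adjoin k T) L :=
    ⟨fun x => IntermediateField.isAlgebraic_adjoin_iff.1 (hall x)⟩
  obtain ⟨n, hn, hdim, -⟩ := Variety2.Dim.exists_dim (k := k) (A := A)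
  rw [hdim]
  have h1 : (n : Cardinal) ≤ (Nat.card τ + Nat.card ρ : ℕ) := by
    rw [← hn]
    refine (Algebra.IsAlgebraic.trdeg_le_cardinalMk k T).trans ((Cardinal.mk_union_le _ _).trans ?_)
    rw [Nat.cast_add, Nat.cast_card, Nat.cast_card]
    exact add_le_add Cardinal.mk_range_le Cardinal.mk_range_le
  exact_mod_cast h1

/-! ### Dimension of quotients -/

theorem ringKrullDim_quotient_le {R : Type} [CommRing R] (I : Ideal R) {n : WithBot ℕ∞}
    (h : ∀ P : Ideal R, P.IsPrime → I ≤ P → ringKrullDim (R ⧸ P) ≤ n) :
    ringKrullDim (R ⧸ I) ≤ n := by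
  rw [ringKrullDim_quotient, Order.krullDim]
  refine iSup_le fun l => le_trans ?_ (h l.head.1.asIdeal l.head.1.2 l.head.2)
  rw [ringKrullDim_quotient]
  exact Order.LTSeries.length_le_krullDim (LTSeries.mk l.length
    (fun i => (⟨(l i).1, (l.head_le i : l.head.1 ≤ (l i).1)⟩ :
      PrimeSpectrum.zeroLocus (R := R) l.head.1.asIdeal)) fun _ _ hij => l.strictMono hij)

theorem ringKrullDim_quotient_succ_le {R : Type} [CommRing R] {P Q : Ideal R} [P.IsPrime]
    (hPQ : P ≤ Q) {r : R} (hrP : r ∉ P) (hrQ : r ∈ Q) :
    ringKrullDim (R ⧸ Q) + 1 ≤ ringKrullDim (R ⧸ P) :=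
  ringKrullDim_succ_le_of_surjective (Ideal.Quotient.factor hPQ)
    (Ideal.Quotient.factor_surjective hPQ) (r := Ideal.Quotient.mk P r)
    (mem_nonZeroDivisors_of_ne_zero fun h => hrP (Ideal.Quotient.eq_zero_iff_mem.1 h))
    (by rw [Ideal.Quotient.factor_mk]; exact Ideal.Quotient.eq_zero_iff_mem.2 hrQ)

/-! ### Linear forms and cutting down cones -/

/-- The linear form with coefficients `c`. -/
noncomputable def lin {σ : Type} [Fintype σ] : (σ → k) →ₗ[k] MvPolynomial σ k :=
  Fintype.linearCombination k X

theorem eval_lin {σ : Type} [Fintype σ] (c z : σ → k) : eval z (lin c) = ∑ i, c i * z i := by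
  simp [lin, Fintype.linearCombination_apply, map_sum, smul_eval]

theorem isHomogeneous_lin {σ : Type} [Fintype σ] (c : σ → k) : (lin c).IsHomogeneous 1 := by
  rw [lin, Fintype.linearCombination_apply]
  exact IsHomogeneous.sum _ _ _ fun i _ => by
    rw [smul_eq_C_mul]; exact (isHomogeneous_X k i).C_mul _

theorem ringKrullDim_quotient_le_of_cut [IsAlgClosed k] {σ μ : Type} [Fintype σ] [Finite μ]
    (e : μ → ℕ) (G : μ → MvPolynomial σ k) (hG : ∀ m, (G m).IsHomogeneous (e m)) {r : ℕ}
    (L : Fin r → σ → k)
    (h0 : ∀ z : σ → k, (∀ m, eval z (G m) = 0) → (∀ l, ∑ i, L l i * z i = 0) → z = 0) :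
    ringKrullDim (MvPolynomial σ k ⧸ Ideal.span (Set.range G)) ≤ r := by
  refine ringKrullDim_quotient_le _ fun P hP hle => ?_
  have hmap : ∀ f : MvPolynomial σ k,
      eval₂ (aeval (R := k) (fun t : Empty => t.elim)).toRingHom
        (fun i => Ideal.Quotient.mk P (X i)) (MvPolynomial.map C f) = Ideal.Quotient.mk P f := by
    intro f
    rw [eval₂_map,
      show (aeval (R := k) fun t : Empty => (t.elim : MvPolynomial σ k ⧸ P)).toRingHom.comp C =
        algebraMap k (MvPolynomial σ k ⧸ P) from RingHom.ext fun c => aeval_C _ c,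
      ← aeval_def]
    exact (comp_aeval_apply X (Ideal.Quotient.mkₐ k P) f).symm.trans (by rw [aeval_X_left]; rfl)
  have := ringKrullDim_le e (fun m => MvPolynomial.map C (G m)) (fun m => (hG m).map _)
    (fun l => lin (L l)) (fun l => isHomogeneous_lin _) (A := MvPolynomial σ k ⧸ P)
    (fun t : Empty => t.elim) (fun i => Ideal.Quotient.mk P (X i)) ?_ ?_ (fun t : Empty => t.elim) ?_ ?_
  · simpa using this
  · rw [eq_top_iff]
    intro x _
    obtain ⟨f, rfl⟩ := Ideal.Quotient.mk_surjective x
    refine Algebra.adjoin_mono Set.subset_union_right ?_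
    rw [Algebra.adjoin_range_eq_range_aeval]
    exact ⟨f, (comp_aeval_apply X (Ideal.Quotient.mkₐ k P) f).symm.trans (by rw [aeval_X_left]; rfl)⟩
  · intro m
    rw [hmap]
    exact Ideal.Quotient.eq_zero_iff_mem.2 (hle (Ideal.subset_span ⟨m, rfl⟩))
  · intro f hf
    rw [f.eq_C_of_isEmpty] at hf ⊢
    rw [aeval_C] at hf
    rw [(algebraMap k (MvPolynomial σ k ⧸ P)).injective (hf.trans (map_zero _).symm)]
    simp
  · intro z hz hu
    refine h0 z (fun m => ?_) fun l => by rw [← eval_lin]; exact hu l
    have := hz m
    rwa [eval₂_map, show (eval fun t : Empty => (t.elim : k)).comp C = RingHom.id k from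
      RingHom.ext fun c => eval_C c] at this

theorem exists_cut [IsAlgClosed k] {σ : Type} [Fintype σ] (r : ℕ) :
    ∀ {μ : Type} [Finite μ] (e : μ → ℕ) (G : μ → MvPolynomial σ k),
      (∀ m, (G m).IsHomogeneous (e m)) →
      ringKrullDim (MvPolynomial σ k ⧸ Ideal.span (Set.range G)) ≤ r →
      ∃ L : Fin r → σ → k, ∀ z : σ → k, (∀ m, eval z (G m) = 0) →
        (∀ l, ∑ i, L l i * z i = 0) → z = 0 := by
  classical
  induction r with
  | zero =>
    intro μ _ e G hG hdim
    refine ⟨Fin.elim0, fun z hz _ => ?_⟩
    set I := Ideal.span (Set.range G)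
    have : Ring.KrullDimLE 0 (MvPolynomial σ k ⧸ I) := (Order.krullDimLE_iff _ _).2 hdim
    have : IsArtinianRing (MvPolynomial σ k ⧸ I) :=
      isArtinianRing_iff_isNoetherianRing_krullDimLE_zero.2 ⟨inferInstance, inferInstance⟩
    have : Module.Finite k (MvPolynomial σ k ⧸ I) := (Module.finite_iff_isArtinianRing k _).2 this
    funext i
    obtain ⟨q, hq0, hq⟩ :=
      (IsIntegral.of_finite k (Ideal.Quotient.mk I (X i))).isAlgebraic
    by_contra hzi
    have hroot : ∀ t : k, q.IsRoot (t * z i) := by
      intro t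
      have hmem : Polynomial.aeval (X i : MvPolynomial σ k) q ∈ I := by
        rw [← Ideal.Quotient.eq_zero_iff_mem, ← hq]
        exact (Polynomial.aeval_algHom_apply (Ideal.Quotient.mkₐ k I) (X i) q).symm
      have hle : I ≤ RingHom.ker (eval (t • z)) := by
        rw [Ideal.span_le]
        rintro _ ⟨m, rfl⟩
        have hz' := hz m
        rw [SetLike.mem_coe, RingHom.mem_ker, eval_eq]
        rw [eval_eq] at hz'
        simp only [Pi.smul_apply, smul_eq_mul, mul_pow, Finset.prod_mul_distrib]
        calc _ = ∑ d ∈ (G m).support, t ^ e m * (coeff d (G m) * ∏ i ∈ d.support, z i ^ d i) := by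
              refine Finset.sum_congr rfl fun d hd => ?_
              rw [Finset.prod_pow_eq_pow_sum, show ∑ i ∈ d.support, d i = e m by
                rw [← Finsupp.degree_apply, Finsupp.degree_eq_weight_one]
                exact (hG m) (mem_support_iff.1 hd)]
              ring
          _ = 0 := by rw [← Finset.mul_sum, hz', mul_zero]
      have := hle hmem
      rw [RingHom.mem_ker] at this
      have h2 := Polynomial.aeval_algHom_apply (MvPolynomial.aeval (t • z)) (X i) q
      rw [aeval_X, Pi.smul_apply, smul_eq_mul] at h2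
      rw [Polynomial.IsRoot, ← Polynomial.coe_aeval_eq_eval, h2]
      exact this
    refine hq0 (Polynomial.eq_zero_of_infinite_isRoot q ?_)
    refine (Set.infinite_range_of_injective (mul_left_injective₀ hzi)).mono ?_
    rintro _ ⟨t, rfl⟩
    exact hroot t
  | succ r ih =>
    intro μ _ e G hG hdim
    set I := Ideal.span (Set.range G)
    let S : Set (Ideal (MvPolynomial σ k)) :=
      {P | P ∈ I.minimalPrimes ∧ ¬ ringKrullDim (MvPolynomial σ k ⧸ P) ≤ r}
    have hfin : S.Finite := (Ideal.finite_minimalPrimes_of_isNoetherianRing _ I).subset fun _ h => h.1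
    obtain ⟨c, hc⟩ : ∃ c : σ → k, ∀ P ∈ S, lin c ∉ P := by
      have := Subspace.biUnion_ne_univ_of_top_notMem (k := k) (E := σ → k)
        (s := hfin.toFinset.image fun P => (P.restrictScalars k).comap lin) ?_
      · rw [Set.ne_univ_iff_exists_notMem] at this
        obtain ⟨c, hc⟩ := this
        exact ⟨c, fun P hP hcP => hc (Set.mem_biUnion
          (Finset.mem_image_of_mem _ (hfin.mem_toFinset.2 hP)) hcP)⟩
      · intro htop
        obtain ⟨P, hP, hPt⟩ := Finset.mem_image.1 htop
        obtain ⟨hPmin, hPdim⟩ := hfin.mem_toFinset.1 hP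
        have := hPmin.1.1
        have hX : ∀ i, (X i : MvPolynomial σ k) ∈ P := fun i => by
          have : lin (Pi.single i 1) ∈ P.restrictScalars k :=
            (Submodule.eq_top_iff'.1 hPt (Pi.single i 1) : _)
          simpa [lin] using this
        apply hPdim
        have hsurj : Function.Surjective (algebraMap k (MvPolynomial σ k ⧸ P)) := fun x => by
          obtain ⟨f, rfl⟩ := Ideal.Quotient.mk_surjective x
          refine ⟨constantCoeff f, ?_⟩
          induction f using MvPolynomial.induction_on with
          | C a => simp only [constantCoeff_C]; rfl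
          | add f g hf hg => simp only [map_add, hf, hg]
          | mul_X f i _ => simp [Ideal.Quotient.eq_zero_iff_mem.2 (hX i)]
        exact (ringKrullDim_le_of_surjective _ hsurj).trans
          ((ringKrullDim_eq_zero_of_field k).le.trans (by exact_mod_cast Nat.zero_le r))
    let e' : μ ⊕ Unit → ℕ := Sum.elim e fun _ => 1
    let G' : μ ⊕ Unit → MvPolynomial σ k := Sum.elim G fun _ => lin c
    obtain ⟨L, hL⟩ := ih e' G' (Sum.rec hG fun _ => isHomogeneous_lin c)
      (ringKrullDim_quotient_le _ fun Q hQ hle => by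
        have hIQ : I ≤ Q := le_trans (Ideal.span_mono (by
          rintro _ ⟨m, rfl⟩; exact ⟨Sum.inl m, rfl⟩)) hle
        obtain ⟨P, hP, hPQ⟩ := Ideal.exists_minimalPrimes_le hIQ
        by_cases hPd : ringKrullDim (MvPolynomial σ k ⧸ P) ≤ r
        · exact (ringKrullDim_le_of_surjective _ (Ideal.Quotient.factor_surjective hPQ)).trans hPd
        · have := hP.1.1
          have h1 := (ringKrullDim_quotient_succ_le hPQ (hc P ⟨hP, hPd⟩)
            (hle (Ideal.subset_span ⟨Sum.inr (), rfl⟩))).trans
              ((ringKrullDim_le_of_surjective _ (Ideal.Quotient.factor_surjective hP.1.2)).trans hdim)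
          obtain ⟨n, -, hn, -⟩ := Variety2.Dim.exists_dim (k := k) (A := MvPolynomial σ k ⧸ Q)
          rw [hn] at h1 ⊢
          norm_cast at h1 ⊢
          omega)
    refine ⟨Fin.cons c L, fun z hz hl => hL z ?_ fun l => by simpa using hl l.succ⟩
    rintro (m | u)
    · exact hz m
    · simpa [G', eval_lin] using hl 0

/-! ### Forms by coefficient vectors -/

/-- The exponents of degree `e`. -/
abbrev Mon (σ : Type) [Fintype σ] [DecidableEq σ] (e : ℕ) : Type :=
  ↥((Finset.univ : Finset σ).finsuppAntidiag e)

theorem mem_mon_iff {σ : Type} [Fintype σ] [DecidableEq σ] {e : ℕ} {a : σ →₀ ℕ} :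
    a ∈ (Finset.univ : Finset σ).finsuppAntidiag e ↔ a.degree = e := by
  simp [Finset.mem_finsuppAntidiag, Finsupp.degree_eq_sum]

/-- The form with given coefficients. -/
noncomputable def formOf {σ : Type} [Fintype σ] [DecidableEq σ] (e : ℕ) :
    (Mon σ e → k) →ₗ[k] MvPolynomial σ k :=
  ∑ a : Mon σ e, (monomial a.1).comp (LinearMap.proj a)

theorem formOf_apply {σ : Type} [Fintype σ] [DecidableEq σ] (e : ℕ) (c : Mon σ e → k) :
    formOf e c = ∑ a, monomial a.1 (c a) := by
  simp [formOf]

theorem coeff_formOf {σ : Type} [Fintype σ] [DecidableEq σ] {e : ℕ} (c : Mon σ e → k)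
    (a : Mon σ e) : coeff a.1 (formOf e c) = c a := by
  rw [formOf_apply, coeff_sum, Finset.sum_eq_single a]
  · simp
  · intro b _ hb
    rw [coeff_monomial, if_neg fun h => hb (Subtype.ext h)]
  · simp

theorem isHomogeneous_formOf {σ : Type} [Fintype σ] [DecidableEq σ] (e : ℕ) (c : Mon σ e → k) :
    (formOf e c).IsHomogeneous e := by
  rw [formOf_apply]
  exact IsHomogeneous.sum _ _ _ fun a _ => isHomogeneous_monomial _ (mem_mon_iff.1 a.2)

theorem formOf_coeff {σ : Type} [Fintype σ] [DecidableEq σ] {e : ℕ} {G : MvPolynomial σ k}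
    (hG : G.IsHomogeneous e) : formOf e (fun a : Mon σ e => coeff a.1 G) = G := by
  ext x
  by_cases hx : x.degree = e
  · exact coeff_formOf _ ⟨x, mem_mon_iff.2 hx⟩
  · rw [hG.coeff_eq_zero hx, (isHomogeneous_formOf e _).coeff_eq_zero hx]

/-- The forms of degree `e` in a prime of coheight `r` form a subspace of codimension at least
`choose (r + e - 1) e`. -/
theorem finrank_add_choose_le {σ : Type} [Fintype σ] [DecidableEq σ] (P : Ideal (MvPolynomial σ k))
    [P.IsPrime] (r e : ℕ) (hdim : ringKrullDim (MvPolynomial σ k ⧸ P) = r) :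
    Module.finrank k ↥((P.restrictScalars k).comap (formOf (σ := σ) e)) + Nat.choose (r + e - 1) e ≤
      Fintype.card (Mon σ e) := by
  classical
  set A := MvPolynomial σ k ⧸ P
  have hgen : Algebra.adjoin k (Set.range fun i => Ideal.Quotient.mk P (X i)) = ⊤ := by
    rw [eq_top_iff]
    intro x _
    obtain ⟨f, rfl⟩ := Ideal.Quotient.mk_surjective x
    rw [Algebra.adjoin_range_eq_range_aeval]
    exact ⟨f, (comp_aeval_apply X (Ideal.Quotient.mkₐ k P) f).symm.trans (by rw [aeval_X_left]; rfl)⟩
  have : Algebra.IsAlgebraic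
      (Algebra.adjoin k (Set.range fun i => Ideal.Quotient.mk P (X i))) A := ⟨fun x =>
    isAlgebraic_algebraMap (⟨x, by rw [hgen]; trivial⟩ :
      Algebra.adjoin k (Set.range fun i => Ideal.Quotient.mk P (X i)))⟩
  have : FaithfulSMul k A :=
    (faithfulSMul_iff_algebraMap_injective k A).2 (algebraMap k A).injective
  obtain ⟨t, ht, htb⟩ := exists_isTranscendenceBasis_subset (R := k)
    (Set.range fun i => Ideal.Quotient.mk P (X i))
  have : Fintype t := ((Set.finite_range _).subset ht).fintype
  have htr : Fintype.card t = r := by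
    obtain ⟨n, hn, hn', -⟩ := Variety2.Dim.exists_dim (k := k) (A := A)
    have : Algebra.IsAlgebraic A (FractionRing A) := IsLocalization.isAlgebraic _ (nonZeroDivisors A)
    rw [← trdeg_add_eq k A (A := FractionRing A), trdeg_eq_zero (R := A) (A := FractionRing A),
      add_zero, ← htb.cardinalMk_eq_trdeg, Cardinal.mk_fintype, Nat.cast_inj] at hn
    rw [hn'] at hdim
    rw [hn]
    exact_mod_cast hdim
  choose idx hidx using fun q : t => ht q.2
  have hinj : Function.Injective idx := fun a b h => Subtype.ext (by rw [← hidx a, ← hidx b, h])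
  let S := (Finset.univ.map ⟨idx, hinj⟩).finsuppAntidiag e
  let D : Submodule k (Mon σ e → k) := ⨅ a ∈ {a : Mon σ e | a.1 ∉ S}, LinearMap.ker (LinearMap.proj a)
  have hSsub : S ⊆ (Finset.univ : Finset σ).finsuppAntidiag e := fun a ha => by
    rw [Finset.mem_finsuppAntidiag] at ha ⊢
    refine ⟨?_, Finset.subset_univ _⟩
    rw [← Finset.sum_subset (Finset.subset_univ (Finset.univ.map ⟨idx, hinj⟩))] <;>
      [exact ha.1; skip]
    intro i _ hi
    exact Finsupp.notMem_support_iff.1 fun h' => hi (ha.2 h')
  have hD : Module.finrank k D = Nat.choose (r + e - 1) e := by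
    rw [← LinearEquiv.finrank_eq (LinearMap.iInfKerProjEquiv k (fun _ : Mon σ e => k)
        (I := {a | a.1 ∈ S}) (J := {a | a.1 ∉ S})
        (Set.disjoint_left.2 fun a h h' => h' h) (fun a _ => em _)).symm,
      Module.finrank_fintype_fun_eq_card]
    rw [show Fintype.card ↥{a : Mon σ e | a.1 ∈ S} = S.card by
      rw [← Fintype.card_coe]
      exact Fintype.card_congr
        { toFun := fun a => ⟨a.1.1, a.2⟩
          invFun := fun a => ⟨⟨a.1, hSsub a.2⟩, a.2⟩
          left_inv := fun a => rfl
          right_inv := fun a => rfl }]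
    rw [Finset.card_finsuppAntidiag_nat_eq_choose, Finset.card_map, Finset.card_univ, htr]
  have hdisj : D ⊓ (P.restrictScalars k).comap (formOf (σ := σ) e) = ⊥ := by
    rw [eq_bot_iff]
    rintro c ⟨hcD, hcP⟩
    simp only [D, SetLike.mem_coe, Submodule.mem_iInf, LinearMap.mem_ker, LinearMap.proj_apply] at hcD
    obtain ⟨H, hH⟩ : ∃ H, rename idx H = formOf e c := by
      refine exists_rename_eq_of_vars_subset_range _ idx hinj fun i hi => ?_
      obtain ⟨a, ha, hia⟩ := (mem_vars_iff_mem_support i).1 hi
      have hd : a.degree = e := by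
        by_contra hne
        exact mem_support_iff.1 ha ((isHomogeneous_formOf e c).coeff_eq_zero hne)
      by_contra hne
      apply mem_support_iff.1 ha
      rw [show a = (⟨a, mem_mon_iff.2 hd⟩ : Mon σ e).1 from rfl, coeff_formOf]
      refine hcD _ fun h' => hne ?_
      obtain ⟨q, -, hq⟩ := Finset.mem_map.1 ((Finset.mem_finsuppAntidiag.1 h').2 hia)
      exact ⟨q, hq⟩
    have h0 : aeval ((↑) : t → A) H = 0 := by
      have h1 : Ideal.Quotient.mkₐ k P (formOf e c) = 0 := Ideal.Quotient.eq_zero_iff_mem.2 hcP
      rw [← hH, ← aeval_X_left_apply (rename idx H), comp_aeval_apply, aeval_rename] at h1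
      rw [← h1]
      congr 2
      funext q
      exact (hidx q).symm
    have hH0 : H = 0 := htb.1.eq_zero_of_aeval_eq_zero H h0
    funext a
    rw [← coeff_formOf c a, ← hH, hH0]
    simp
  have := Submodule.finrank_sup_add_finrank_inf_eq D ((P.restrictScalars k).comap (formOf (σ := σ) e))
  rw [hdisj, finrank_bot, add_zero] at this
  have h2 := Submodule.finrank_le (D ⊔ (P.restrictScalars k).comap (formOf (σ := σ) e))
  rw [Module.finrank_fintype_fun_eq_card] at h2
  omega

/-- A subspace meeting finitely many subspaces trivially. -/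
theorem exists_avoiding [Infinite k] {V : Type} [AddCommGroup V] [Module k V]
    [FiniteDimensional k V] {s : Set (Submodule k V)} (hs : s.Finite) :
    ∀ c, c ≤ Module.finrank k V → (∀ W ∈ s, Module.finrank k W + c ≤ Module.finrank k V) →
      ∃ K : Submodule k V, Module.finrank k K = c ∧ ∀ W ∈ s, K ⊓ W = ⊥ := by
  classical
  intro c
  induction c with
  | zero => exact fun _ _ => ⟨⊥, finrank_bot k V, fun W _ => bot_inf_eq W⟩
  | succ c ih =>
    intro hc hW
    obtain ⟨K, hK, hKW⟩ := ih (by omega) fun W h => by have := hW W h; omega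
    have := Subspace.biUnion_ne_univ_of_top_notMem (k := k) (E := V)
      (s := insert K (hs.toFinset.image fun W => K ⊔ W)) ?_
    · rw [Set.ne_univ_iff_exists_notMem] at this
      obtain ⟨v, hv⟩ := this
      have hvK : v ∉ K := fun h => hv (Set.mem_biUnion (Finset.mem_insert_self _ _) h)
      have hvW : ∀ W ∈ s, v ∉ K ⊔ W := fun W hWs h => hv (Set.mem_biUnion
        (Finset.mem_insert_of_mem (Finset.mem_image_of_mem _ (hs.mem_toFinset.2 hWs))) h)
      refine ⟨K ⊔ Submodule.span k {v}, ?_, fun W hWs => ?_⟩
      · have hbot : K ⊓ Submodule.span k {v} = ⊥ := by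
          rw [eq_bot_iff]
          rintro x ⟨hxK, hxv⟩
          obtain ⟨a, rfl⟩ := Submodule.mem_span_singleton.1 hxv
          rcases eq_or_ne a 0 with rfl | ha
          · simp
          · exact absurd ((Submodule.smul_mem_iff _ ha).1 hxK) hvK
        have := Submodule.finrank_sup_add_finrank_inf_eq K (Submodule.span k {v})
        rw [hbot, finrank_bot, add_zero, hK, finrank_span_singleton (fun h : v = 0 => hvK (by rw [h]; exact K.zero_mem))]
          at this
        exact this
      · rw [eq_bot_iff]
        rintro x ⟨hxK, hxW⟩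
        obtain ⟨y, hy, w, hw, rfl⟩ := Submodule.mem_sup.1 hxK
        obtain ⟨a, rfl⟩ := Submodule.mem_span_singleton.1 hw
        rcases eq_or_ne a 0 with rfl | ha
        · rw [zero_smul, add_zero] at hxW ⊢
          exact (hKW W hWs).le ⟨hy, hxW⟩
        · have : a • v ∈ K ⊔ W := by
            rw [show a • v = -y + (y + a • v) by abel]
            exact Submodule.add_mem_sup (K.neg_mem hy) hxW
          exact absurd ((Submodule.smul_mem_iff _ ha).1 this) (hvW W hWs)
    · intro htop
      rcases Finset.mem_insert.1 htop with h | h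
      · rw [← h, finrank_top] at hK
        omega
      · obtain ⟨W, hWs, h⟩ := Finset.mem_image.1 h
        have h1 := Submodule.finrank_sup_add_finrank_inf_eq K W
        rw [h, finrank_top, hK] at h1
        have := hW W (hs.mem_toFinset.1 hWs)
        omega

end Groth.Misc6.ConeDim
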