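import Mathlib

/-! Singular symmetric 3 × 3 matrices split into two linear forms. -/

namespace Groth.Misc6

open MvPolynomial Matrix

variable {k : Type*} [Field k]

theorem linForm_eval (a v : Fin 3 → k) :
    eval v (∑ i : Fin 3, a i • (X i : MvPolynomial (Fin 3) k)) = a ⬝ᵥ v := by
  simp [dotProduct]

theorem linForm_of_homogeneous {l : MvPolynomial (Fin 3) k} (hl : l.IsHomogeneous 1) :
    ∃ a : Fin 3 → k, l = ∑ i : Fin 3, a i • (X i : MvPolynomial (Fin 3) k) := by
  have h : l ∈ Submodule.span k (Set.range (X : Fin 3 → MvPolynomial (Fin 3) k)) := by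
    rw [← homogeneousSubmodule_one_eq_span_X]; exact hl
  obtain ⟨a, ha⟩ := (Submodule.mem_span_range_iff_exists_fun k).1 h
  exact ⟨a, ha.symm⟩

theorem conic_split [IsAlgClosed k] (h2 : (2 : k) ≠ 0) (Q : Matrix (Fin 3) (Fin 3) k) (hQ : Q.IsSymm)
    (hdet : Q.det = 0) : ∃ a b : Fin 3 → k, ∀ r s, 2 * Q r s = a r * b s + a s * b r := by
  obtain ⟨u, hu, hQu⟩ := exists_mulVec_eq_zero_iff.2 hdet
  obtain ⟨j, hj⟩ := Function.ne_iff.1 hu
  obtain ⟨i, l, hij, hlj, hil, hall⟩ : ∃ i l : Fin 3, i ≠ j ∧ l ≠ j ∧ i ≠ l ∧ ∀ r, r = i ∨ r = l ∨ r = j :=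
    ⟨j + 1, j + 2, by omega, by omega, by omega, fun r => by omega⟩
  obtain ⟨a1, a2, b1, b2, e1, e2, e3⟩ : ∃ a1 a2 b1 b2 : k,
      Q i i = a1 * b1 ∧ 2 * Q i l = a1 * b2 + a2 * b1 ∧ Q l l = a2 * b2 := by
    by_cases hA : Q i i = 0
    · exact ⟨0, 1, 2 * Q i l, Q l l, by simp [hA], by ring, by ring⟩
    · obtain ⟨s, hs⟩ := IsAlgClosed.exists_eq_mul_self (Q i l ^ 2 - Q i i * Q l l)
      refine ⟨Q i i, Q i l + s, 1, (Q i l - s) / Q i i, (mul_one _).symm, ?_, ?_⟩
      · field_simp; ring
      · field_simp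
        linear_combination -hs
  let ext : k → k → Fin 3 → k := fun p q r => if r = i then p else if r = l then q else -(p * u i + q * u l) / u j
  have hext : ∀ p q, ext p q i = p ∧ ext p q l = q ∧ ext p q i * u i + ext p q l * u l + ext p q j * u j = 0 := by
    intro p q
    have : ext p q j = -(p * u i + q * u l) / u j := by simp [ext, hij.symm, hlj.symm]
    refine ⟨by simp [ext], by simp [ext, hil.symm], ?_⟩
    rw [this, div_mul_cancel₀ _ (show u j ≠ 0 from hj)]
    simp [ext, hil.symm]
  obtain ⟨ai, al, au⟩ := hext a1 a2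
  obtain ⟨bi, bl, bu⟩ := hext b1 b2
  refine ⟨ext a1 a2, ext b1 b2, ?_⟩
  set a := ext a1 a2
  set b := ext b1 b2
  have hsum : ∀ f : Fin 3 → k, ∑ r, f r = f i + f l + f j := by
    intro f
    rw [Fintype.sum_eq_add_sum_compl i, show ({i}ᶜ : Finset (Fin 3)) = {l, j} by
      ext r; simp; constructor
      · intro h; rcases hall r with h' | h' | h' <;> simp_all
      · rintro (rfl | rfl); exacts [hil.symm, hij.symm],
      Finset.sum_pair hlj, add_assoc]
  let D : Fin 3 → Fin 3 → k := fun r s => 2 * Q r s - (a r * b s + a s * b r)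
  have Dsym : ∀ r s, D r s = D s r := fun r s => by simp only [D, hQ.apply r s]; ring
  have Du : ∀ r, D r i * u i + D r l * u l + D r j * u j = 0 := by
    intro r
    have h := congrFun hQu r
    rw [Matrix.mulVec, dotProduct, hsum] at h
    simp only [Pi.zero_apply] at h
    simp only [D]
    linear_combination 2 * h - a r * bu - b r * au
  have dii : D i i = 0 := by simp only [D, ai, bi]; linear_combination 2 * e1
  have dil : D i l = 0 := by simp only [D, ai, bi, al, bl]; linear_combination e2
  have dll : D l l = 0 := by simp only [D, al, bl]; linear_combination 2 * e3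
  have dij : D i j = 0 := by
    have := Du i; rw [dii, dil] at this; simpa [show u j ≠ 0 from hj] using this
  have dlj : D l j = 0 := by
    have := Du l; rw [Dsym l i, dil, dll] at this; simpa [show u j ≠ 0 from hj] using this
  have djj : D j j = 0 := by
    have := Du j; rw [Dsym j i, dij, Dsym j l, dlj] at this; simpa [show u j ≠ 0 from hj] using this
  intro r s
  refine sub_eq_zero.1 (show D r s = 0 from ?_)
  rcases hall r with e | e | e <;> rcases hall s with e' | e' | e' <;> subst r s <;>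
    first | assumption | (rw [Dsym]; assumption)

end Groth.Misc6
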