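import Groth.Agent.KTheory.DevissageAdj
import Mathlib.CategoryTheory.Limits.Preserves.Shapes.Products

/-!
# Dévissage for locally finite filtrations

A variant of `Groth.KTheory.DevissageAdj` where the iteration of the kernel of the unit only
terminates locally: the class of an object is defined through the coproduct of all its iterates.
-/

set_option autoImplicit false
set_option linter.unusedSectionVars false

universe w v v' u u'

open CategoryTheory CategoryTheory.Limits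

namespace Groth.Misc6.DevissageSum

open Groth.KTheory Groth.KTheory.DevissageAdj

section Sigma

variable {C : Type u} [Category.{v} C] [Abelian C] [HasCoproducts.{w} C]

/-- Interchange of two coproducts. -/
noncomputable def swapIso {α β : Type w} (M : α → β → C) :
    (∐ fun a => ∐ M a) ≅ ∐ fun b => ∐ fun a => M a b where
  hom := Sigma.desc fun a => Sigma.desc fun b =>
    Sigma.ι (fun a => M a b) a ≫ Sigma.ι (fun b => ∐ fun a => M a b) b
  inv := Sigma.desc fun b => Sigma.desc fun a =>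
    Sigma.ι (M a) b ≫ Sigma.ι (fun a => ∐ M a) a
  hom_inv_id := by ext a b; simp
  inv_hom_id := by ext b a; simp

/-- Splitting off one term of a coproduct. -/
noncomputable def splitIso {α β : Type w} (e : Option β ≃ α) (M : α → C) :
    ∐ M ≅ M (e none) ⊞ ∐ fun b => M (e (some b)) := by
  let φ : ∀ o, M (e o) ⟶ M (e none) ⊞ ∐ fun b => M (e (some b)) := fun o =>
    match o with
    | none => biprod.inl
    | some b => Sigma.ι (fun b => M (e (some b))) b ≫ biprod.inr
  let hom : ∐ M ⟶ _ := Sigma.desc fun a => eqToHom (by rw [e.apply_symm_apply]) ≫ φ (e.symm a)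
  have key : ∀ o, Sigma.ι M (e o) ≫ hom = φ o := fun o => by
    simp only [hom, Sigma.ι_desc]
    have : ∀ o' (h : e o = e o'), o' = o → eqToHom (congrArg M h) ≫ φ o' = φ o := by
      rintro _ h rfl; simp
    exact this _ (e.apply_symm_apply _).symm (e.symm_apply_apply o)
  exact
  { hom := hom
    inv := biprod.desc (Sigma.ι M _) (Sigma.desc fun b => Sigma.ι M _)
    hom_inv_id := Sigma.hom_ext _ _ fun a => by
      obtain ⟨o, rfl⟩ := e.surjective a
      rw [Category.comp_id, ← Category.assoc, key]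
      cases o <;> simp [φ]
    inv_hom_id := by
      apply biprod.hom_ext'
      · simp [key, φ]
      · apply Sigma.hom_ext; intro b; simp [key, φ] }

variable (hm : ∀ {α : Type w} {M N : α → C} (f : ∀ a, M a ⟶ N a), (∀ a, Mono (f a)) →
  Mono (Limits.Sigma.map f))

/-- The coproduct of a family of short complexes. -/
noncomputable abbrev sumC {α : Type w} (S : α → ShortComplex C) : ShortComplex C :=
  ShortComplex.mk (X₁ := ∐ fun a => (S a).X₁) (X₂ := ∐ fun a => (S a).X₂)
    (X₃ := ∐ fun a => (S a).X₃) (Limits.Sigma.map fun a => (S a).f) (Limits.Sigma.map fun a => (S a).g)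
    (Sigma.hom_ext _ _ fun a => by simp)

include hm in
theorem sumC_shortExact {α : Type w} (S : α → ShortComplex C) (hS : ∀ a, (S a).ShortExact) :
    (sumC S).ShortExact := by
  have : ∀ a, Epi (S a).g := fun a => (hS a).epi_g
  have hepi : Epi (Limits.Sigma.map fun a => (S a).g) := ⟨fun k k' h => Sigma.hom_ext _ _ fun a => by
    rw [← cancel_epi (S a).g]
    simpa using Sigma.ι (fun a => (S a).X₂) a ≫= h⟩
  refine { exact := ShortComplex.exact_of_g_is_cokernel _ ?_, mono_f := hm _ fun a => (hS a).mono_f, epi_g := hepi }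
  refine CokernelCofork.IsColimit.ofπ' _ _ fun {W} k hk => ?_
  refine ⟨Sigma.desc fun a => (hS a).exact.desc (Sigma.ι (fun a => (S a).X₂) a ≫ k) ?_,
    Sigma.hom_ext _ _ fun a => ?_⟩
  · have := Sigma.ι (fun a => (S a).X₁) a ≫= hk
    simpa using this
  · simp only [Sigma.ι_map_assoc, Sigma.ι_desc, (hS a).exact.g_desc]

include hm in
theorem nonempty_kerSigma {α : Type w} {M N : α → C} {X Y : C} (eM : ∐ M ≅ X) (eN : ∐ N ≅ Y)
    (f : ∀ a, M a ⟶ N a) (g : X ⟶ Y) (comm : Limits.Sigma.map f ≫ eN.hom = eM.hom ≫ g) :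
    Nonempty ((∐ fun a => kernel (f a)) ≅ kernel g) := by
  let S : α → ShortComplex C := fun a => ShortComplex.mk (kernel.ι (f a)) (Abelian.factorThruImage (f a))
    (by rw [← cancel_mono (Abelian.image.ι (f a))]; simp)
  have hS : ∀ a, (S a).ShortExact := fun a =>
    { exact := ShortComplex.exact_of_f_is_kernel _ (KernelFork.IsLimit.ofι' _ _ fun {W} k hk =>
        ⟨kernel.lift _ k (by rw [← Abelian.image.fac (f a), ← Category.assoc, show k ≫ _ = 0 from hk, zero_comp]),
          kernel.lift_ι _ _ _⟩) }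
  have hex := sumC_shortExact hm S hS
  have := hm (fun a => Abelian.image.ι (f a)) fun a => inferInstance
  have hf : Limits.Sigma.map f = (sumC S).g ≫ Limits.Sigma.map (fun a => Abelian.image.ι (f a)) :=
    Sigma.hom_ext _ _ fun a => by simp [S]
  exact ⟨hex.fIsKernel.conePointUniqueUpToIso (kernelIsKernel (sumC S).g) ≪≫
    (kernelCompMono (sumC S).g (Limits.Sigma.map fun a => Abelian.image.ι (f a))).symm ≪≫
    kernelIsoOfEq hf.symm ≪≫ kernel.mapIso _ _ eM eN comm⟩

/-- Two objects as a family indexed by `Option PUnit`. -/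
abbrev pr (X Y : C) : Option PUnit.{w + 1} → C := fun o => o.elim X fun _ => Y

/-- Binary coproducts through `Option PUnit`. -/
noncomputable def prIso (M : Option PUnit.{w + 1} → C) : ∐ M ≅ M none ⊞ M (some ⟨⟩) :=
  splitIso (Equiv.refl _) M ≪≫ biprod.mapIso (Iso.refl _) (coproductUniqueIso _)

end Sigma

variable {A : Type u} [Category.{v} A] [Abelian A] {B : Type u'} [Category.{v'} B] [Abelian B]
  [HasCoproducts.{w} A] [HasCoproducts.{w} B]
  {L : A ⥤ B} {R : B ⥤ A} (adj : L ⊣ R)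

/-- Iterates of the kernel of the unit. -/
noncomputable def Tn : ℕ → A → A
  | 0, X => X
  | n + 1, X => Tn n (T adj X)

theorem T_Tn : ∀ (n : ℕ) (X : A), T adj (Tn adj n X) = Tn adj n (T adj X)
  | 0, _ => rfl
  | n + 1, X => T_Tn n (T adj X)

/-- The index set of the iterates. -/
abbrev Idx : Type w := ULift.{w} ℕ

/-- The successor decomposition of the index set. -/
def idxEquiv : Option Idx.{w} ≃ Idx.{w} where
  toFun o := o.elim ⟨0⟩ fun k => ⟨k.down + 1⟩
  invFun k := match k.down with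
    | 0 => none
    | n + 1 => some ⟨n⟩
  left_inv o := by cases o <;> rfl
  right_inv k := by obtain ⟨k⟩ := k; cases k <;> rfl

/-- The coproduct of all iterates. -/
noncomputable def Ssum (X : A) : A := ∐ fun k : Idx.{w} => Tn adj k.down X

/-- `T` on isomorphisms. -/
noncomputable def TIso {X Y : A} (e : X ≅ Y) : T adj X ≅ T adj Y :=
  kernel.mapIso _ _ e (R.mapIso (L.mapIso e)) (eta_nat adj e.hom).symm

/-- `Tn` on isomorphisms. -/
noncomputable def TnIso : ∀ (n : ℕ) {X Y : A}, (X ≅ Y) → (Tn adj n X ≅ Tn adj n Y)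
  | 0, _, _, e => e
  | n + 1, _, _, e => TnIso n (TIso adj e)

/-- `Ssum` on isomorphisms. -/
noncomputable def SsumIso {X Y : A} (e : X ≅ Y) : Ssum.{w} adj X ≅ Ssum.{w} adj Y :=
  Sigma.mapIso fun k => TnIso adj k.down e

/-- The first step of `Ssum`. -/
noncomputable def SsumSucc (X : A) : Ssum.{w} adj X ≅ X ⊞ Ssum.{w} adj (T adj X) :=
  splitIso idxEquiv _

variable [R.Additive] [PreservesFiniteLimits R] [PreservesFiniteColimits R]
  [∀ α : Type w, PreservesColimitsOfShape (Discrete α) R]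
  (hmA : ∀ {α : Type w} {M N : α → A} (f : ∀ a, M a ⟶ N a), (∀ a, Mono (f a)) →
    Mono (Limits.Sigma.map f))
  (hmB : ∀ {α : Type w} {M N : α → B} (f : ∀ a, M a ⟶ N a), (∀ a, Mono (f a)) →
    Mono (Limits.Sigma.map f))

include hmA in
theorem nonempty_Tsigma {α : Type w} (M : α → A) :
    Nonempty ((∐ fun a => T adj (M a)) ≅ T adj (∐ M)) := by
  have := adj.leftAdjoint_preservesColimits
  refine nonempty_kerSigma hmA (Iso.refl _) (PreservesCoproduct.iso (L ⋙ R) M).symm
    (fun a => eta adj (M a)) (eta adj (∐ M)) (Sigma.hom_ext _ _ fun a => ?_)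
  simp only [Iso.symm_hom, PreservesCoproduct.inv_hom, Sigma.ι_map_assoc, Iso.refl_hom,
    Category.id_comp]
  exact (congrArg (eta adj (M a) ≫ ·) (ι_comp_sigmaComparison (L ⋙ R) M a)).trans
    (eta_nat adj (Sigma.ι M a)).symm

include hmA in
theorem nonempty_TnSigma {α : Type w} : ∀ (n : ℕ) (M : α → A),
    Nonempty ((∐ fun a => Tn adj n (M a)) ≅ Tn adj n (∐ M))
  | 0, _ => ⟨Iso.refl _⟩
  | n + 1, M => by
    obtain ⟨e⟩ := nonempty_TnSigma n fun a => T adj (M a)
    obtain ⟨e'⟩ := nonempty_Tsigma adj hmA M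
    exact ⟨e ≪≫ TnIso adj n e'⟩

include hmA in
theorem nonempty_SsumSigma {α : Type w} (M : α → A) :
    Nonempty ((∐ fun a => Ssum.{w} adj (M a)) ≅ Ssum.{w} adj (∐ M)) :=
  ⟨swapIso (fun a (k : Idx.{w}) => Tn adj k.down (M a)) ≪≫
    Sigma.mapIso fun k => (nonempty_TnSigma adj hmA k.down M).some⟩

include hmA in
theorem nonempty_T_Ssum (X : A) :
    Nonempty (T adj (Ssum.{w} adj X) ≅ Ssum.{w} adj (T adj X)) :=
  ⟨(nonempty_Tsigma adj hmA fun k : Idx.{w} => Tn adj k.down X).some.symm ≪≫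
    Sigma.mapIso fun k => eqToIso (T_Tn adj k.down X)⟩

/-- The object `K` of a short complex. -/
noncomputable abbrev Kobj (S : ShortComplex A) : A := kernel (eta adj S.X₁ ≫ R.map (L.map S.f))

/-- The first child of a short complex. -/
noncomputable abbrev child₁ (S : ShortComplex A) : ShortComplex A :=
  ShortComplex.mk (X₁ := T adj S.X₁) (X₂ := Kobj adj S) (X₃ := R.obj (kernel (L.map S.f)))
    (kernel.lift _ (kernel.ι _) (by simp))
    (kernel.lift _ (kernel.ι (eta adj S.X₁ ≫ R.map (L.map S.f)) ≫ eta adj S.X₁) (by simp) ≫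
      (PreservesKernel.iso R (L.map S.f)).inv)
    (by
      rw [← Category.assoc]
      refine (congrArg (· ≫ _) ?_).trans zero_comp
      rw [← cancel_mono (kernel.ι _)]
      simp)

/-- The second child of a short complex. -/
noncomputable abbrev child₂ (S : ShortComplex A) : ShortComplex A :=
  ShortComplex.mk (X₁ := Kobj adj S) (X₂ := T adj S.X₂) (X₃ := T adj S.X₃)
    (kernel.lift _ (kernel.ι (eta adj S.X₁ ≫ R.map (L.map S.f)) ≫ S.f) (by
      rw [Category.assoc, eta_nat, kernel.condition]))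
    (Tmap adj S.g)
    (by rw [← cancel_mono (kernel.ι _)]; simp)

variable (P : ObjectProperty A) (Q : ObjectProperty B)

theorem child₁_shortExact (S : ShortComplex A) [Epi (eta adj S.X₁)] :
    (child₁ adj S).ShortExact := by
  let j := kernel.ι (eta adj S.X₁ ≫ R.map (L.map S.f))
  have hm' : Mono (child₁ adj S).f := by
    change Mono (kernel.lift _ _ _)
    exact mono_of_mono_fac (h := kernel.ι (eta adj S.X₁)) (kernel.lift_ι _ _ _)
  refine { exact := ?_, mono_f := hm', epi_g := ?_ }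
  · refine ShortComplex.exact_of_f_is_kernel _ (KernelFork.IsLimit.ofι' _ _ fun {W} k hk => ?_)
    change k ≫ _ ≫ _ = 0 at hk
    rw [← Category.assoc] at hk
    replace hk := (cancel_mono _).mp (hk.trans zero_comp.symm)
    refine ⟨kernel.lift _ (k ≫ j) ?_, ?_⟩
    · have := hk =≫ kernel.ι _
      simpa [j] using this
    · apply (cancel_mono j).1
      change (kernel.lift _ _ _ ≫ kernel.lift _ _ _) ≫ j = _
      simp [j]
  · change Epi (kernel.lift _ _ _ ≫ _)
    have : Epi (kernel.lift (R.map (L.map S.f)) (j ≫ eta adj S.X₁) (by simp [j])) := by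
      rw [epi_iff_surjective_up_to_refinements]
      intro W x
      obtain ⟨W', π, hπ, y, hy⟩ := surjective_up_to_refinements_of_epi (eta adj S.X₁)
        (x ≫ kernel.ι _)
      refine ⟨W', π, hπ, kernel.lift _ y ?_, ?_⟩
      · rw [← Category.assoc, ← hy]
        simp
      · rw [← cancel_mono (kernel.ι _)]
        simpa [j] using hy
    infer_instance

theorem child₂_shortExact (S : ShortComplex A) (hS : S.ShortExact) [Epi (eta adj S.X₁)] :
    (child₂ adj S).ShortExact := by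
  have := adj.left_adjoint_additive
  have := adj.leftAdjoint_preservesColimits
  have := hS.mono_f
  have := hS.epi_g
  have : PreservesFiniteColimits L := ⟨fun _ _ _ => inferInstance⟩
  let j := kernel.ι (eta adj S.X₁ ≫ R.map (L.map S.f))
  have hnat : S.f ≫ eta adj S.X₂ = eta adj S.X₁ ≫ R.map (L.map S.f) := eta_nat adj S.f
  have hnat' : S.g ≫ eta adj S.X₃ = eta adj S.X₂ ≫ R.map (L.map S.g) := eta_nat adj S.g
  have hm' : Mono (child₂ adj S).f := by
    change Mono (kernel.lift _ _ _)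
    exact mono_of_mono_fac (h := j ≫ S.f) (kernel.lift_ι _ _ _)
  refine { exact := ?_, mono_f := hm', epi_g := ?_ }
  · refine ShortComplex.exact_of_f_is_kernel _ (KernelFork.IsLimit.ofι' _ _ fun {W} k hk => ?_)
    change k ≫ Tmap adj S.g = 0 at hk
    have hk' : (k ≫ kernel.ι _) ≫ S.g = 0 := by
      have := hk =≫ kernel.ι _
      simpa using this
    refine ⟨kernel.lift _ (hS.exact.lift _ hk') ?_, ?_⟩
    · refine (congrArg (hS.exact.lift _ hk' ≫ ·) hnat.symm).trans ?_
      rw [← Category.assoc, hS.exact.lift_f]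
      exact (Category.assoc _ _ _).trans ((congrArg (k ≫ ·) (kernel.condition _)).trans comp_zero)
    · rw [← cancel_mono (kernel.ι _)]
      change (kernel.lift _ _ _ ≫ kernel.lift _ _ _) ≫ _ = _
      simp
  · change Epi (Tmap adj S.g)
    rw [epi_iff_surjective_up_to_refinements]
    intro W c
    obtain ⟨W₁, π₁, hπ₁, b, hb⟩ :=
      surjective_up_to_refinements_of_epi S.g (c ≫ kernel.ι _)
    have hLex : (S.map (L ⋙ R)).Exact := by
      have h1 : (S.map L).Exact :=
        hS.exact.map_of_epi_of_preservesCokernel L inferInstance inferInstance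
      exact h1.map R
    have hz : (b ≫ eta adj S.X₂) ≫ R.map (L.map S.g) = 0 := by
      rw [Category.assoc, ← hnat', ← Category.assoc, ← hb]
      simp
    obtain ⟨W₂, π₂, hπ₂, x, hx⟩ := hLex.exact_up_to_refinements _ hz
    obtain ⟨W₃, π₃, hπ₃, y, hy⟩ := surjective_up_to_refinements_of_epi (eta adj S.X₁) x
    refine ⟨W₃, π₃ ≫ π₂ ≫ π₁, inferInstance,
      kernel.lift _ (π₃ ≫ π₂ ≫ b - y ≫ S.f) ?_, ?_⟩
    · have hx' : π₂ ≫ b ≫ eta adj S.X₂ = x ≫ R.map (L.map S.f) := hx
      simp only [Preadditive.sub_comp, Category.assoc, hnat, sub_eq_zero]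
      exact (congrArg (π₃ ≫ ·) hx').trans ((Category.assoc _ _ _).symm.trans
        ((congrArg (· ≫ R.map (L.map S.f)) hy).trans (Category.assoc _ _ _)))
    · rw [← cancel_mono (kernel.ι _)]
      simp [hb]

/-- The data for a dévissage by locally finite filtrations. -/
structure Data (U : Type*) where
  /-- `n` steps kill `X` at `u`. -/
  Kl : U → ℕ → A → Prop
  hPker : ∀ {X Y : A} (f : X ⟶ Y), P X → P Y → P (kernel f)
  hQker : ∀ {X Y : B} (f : X ⟶ Y), Q X → Q Y → Q (kernel f)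
  hPiso : ∀ {X Y : A}, (X ≅ Y) → P X → P Y
  hPbi : ∀ {X Y : A}, P X → P Y → P (X ⊞ Y)
  hL : ∀ X, P X → Q (L.obj X)
  hR : ∀ M, Q M → P (R.obj M)
  hunit : ∀ X, P X → Epi (eta adj X)
  hcounit : ∀ M, Q M → IsIso (adj.counit.app M)
  hsum : ∀ M : Idx.{w} → A, (∀ k, P (M k)) → (∀ u, ∃ N, ∀ k : Idx.{w}, N ≤ k.down → Kl u 0 (M k)) →
    P (∐ M)
  kmono : ∀ (u : U) (n : ℕ) {X Y : A} (f : X ⟶ Y) [Mono f], Kl u n Y → Kl u n X
  kepi : ∀ (u : U) (n : ℕ) {X Y : A} (f : X ⟶ Y) [Epi f], P X → P Y → Kl u n X → Kl u n Y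
  kbi : ∀ (u : U) (n : ℕ) {X Y : A}, Kl u n X → Kl u n Y → Kl u n (X ⊞ Y)
  kle : ∀ (u : U) (n : ℕ) {X : A}, Kl u n X → Kl u (n + 1) X
  kT : ∀ (u : U) (n : ℕ) {X : A}, P X → Kl u (n + 1) X → Kl u n (T adj X)
  kex : ∀ (u : U) (X : A), P X → ∃ n, Kl u n X

variable {P Q} {U : Type*} (D : Data.{w} adj P Q U)

/-- The candidate inverse on objects. -/
noncomputable def fS (Q : ObjectProperty B) (X : A) : KZero.K0sub Q :=
  KZero.clSub Q (L.obj (Ssum.{w} adj X))

include D

theorem prop_T' {X : A} (h : P X) : P (T adj X) := D.hPker _ h (D.hR _ (D.hL _ h))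

theorem prop_Tn : ∀ (n : ℕ) {X : A}, P X → P (Tn adj n X)
  | 0, _, h => h
  | n + 1, _, h => prop_Tn n (prop_T' adj D h)

theorem kl_le {u : U} {X : A} {n m : ℕ} (h : n ≤ m) (hn : D.Kl u n X) : D.Kl u m X := by
  induction h with
  | refl => exact hn
  | step _ ih => exact D.kle u _ ih

theorem kl_Tn (u : U) : ∀ (k : ℕ) {X : A}, P X → D.Kl u k X → D.Kl u 0 (Tn adj k X)
  | 0, _, _, h => h
  | k + 1, _, hP, h => kl_Tn u k (prop_T' adj D hP) (D.kT u k hP h)

theorem prop_Ssum {X : A} (h : P X) : P (Ssum.{w} adj X) := by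
  refine D.hsum _ (fun k => prop_Tn adj D _ h) fun u => ?_
  obtain ⟨n, hn⟩ := D.kex u X h
  exact ⟨n, fun k hk => kl_Tn adj D u _ h (kl_le adj D hk hn)⟩

theorem clQ_iso {X Y : B} (e : X ≅ Y) (hX : Q X) (hY : Q Y) :
    KZero.clSub Q X = KZero.clSub Q Y :=
  clSub_iso e hX hY (isZero_kernel_of_mono (𝟙 X)) (D.hQker _ hX hX)

theorem clP_iso {X Y : A} (e : X ≅ Y) (hX : P X) (hY : P Y) :
    KZero.clSub P X = KZero.clSub P Y :=
  clSub_iso e hX hY (isZero_kernel_of_mono (𝟙 X)) (D.hPker _ hX hX)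

theorem fS_iso {X Y : A} (e : X ≅ Y) (hX : P X) (hY : P Y) :
    fS.{w} adj Q X = fS.{w} adj Q Y :=
  clQ_iso adj D (L.mapIso (SsumIso adj e)) (D.hL _ (prop_Ssum adj D hX))
    (D.hL _ (prop_Ssum adj D hY))

theorem clQ_L_bi {X Y : A} (hX : P X) (hY : P Y) :
    KZero.clSub Q (L.obj (X ⊞ Y)) = KZero.clSub Q (L.obj X) + KZero.clSub Q (L.obj Y) := by
  have := adj.left_adjoint_additive
  let s : (ShortComplex.mk (biprod.inl : X ⟶ X ⊞ Y) biprod.snd (by simp)).Splitting :=
    { r := biprod.fst, s := biprod.inr }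
  exact clSub_rel _ (s.map L).shortExact (D.hL _ hX) (D.hL _ (D.hPbi hX hY)) (D.hL _ hY)

theorem clP_bi {X Y : A} (hX : P X) (hY : P Y) :
    KZero.clSub P (X ⊞ Y) = KZero.clSub P X + KZero.clSub P Y :=
  clSub_rel _ (ShortComplex.Splitting.shortExact
    (S := ShortComplex.mk (biprod.inl : X ⟶ X ⊞ Y) biprod.snd (by simp))
    { r := biprod.fst, s := biprod.inr }) hX (D.hPbi hX hY) hY

theorem fS_succ {X : A} (hX : P X) :
    fS.{w} adj Q X = KZero.clSub Q (L.obj X) + fS.{w} adj Q (T adj X) := by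
  have hT := prop_Ssum adj D (prop_T' adj D hX)
  exact (clQ_iso adj D (L.mapIso (SsumSucc adj X)) (D.hL _ (prop_Ssum adj D hX))
    (D.hL _ (D.hPbi hX hT))).trans (clQ_L_bi adj D hX hT)

include hmA in
theorem fS_bi {X Y : A} (hX : P X) (hY : P Y) :
    fS.{w} adj Q (X ⊞ Y) = fS.{w} adj Q X + fS.{w} adj Q Y := by
  obtain ⟨e⟩ := nonempty_SsumSigma adj hmA (pr.{w} X Y)
  have e' : Ssum.{w} adj (X ⊞ Y) ≅ Ssum.{w} adj X ⊞ Ssum.{w} adj Y :=
    SsumIso adj (prIso (pr.{w} X Y)).symm ≪≫ e.symm ≪≫ prIso _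
  exact (clQ_iso adj D (L.mapIso e') (D.hL _ (prop_Ssum adj D (D.hPbi hX hY)))
    (D.hL _ (D.hPbi (prop_Ssum adj D hX) (prop_Ssum adj D hY)))).trans
    (clQ_L_bi adj D (prop_Ssum adj D hX) (prop_Ssum adj D hY))

theorem fS_obj {M : B} (hM : Q M) : fS.{w} adj Q (R.obj M) = KZero.clSub Q M := by
  have := adj.left_adjoint_additive
  have := D.hcounit M hM
  have : Mono (eta adj (R.obj M)) :=
    mono_of_mono_fac (h := 𝟙 _) (adj.right_triangle_components M)
  have hz : IsZero (T adj (R.obj M)) := isZero_kernel_of_mono _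
  have hn : ∀ (n : ℕ) {X : A}, IsZero X → IsZero (Tn adj n X) := by
    intro n
    induction n with
    | zero => exact fun h => h
    | succ n ih => exact fun h => ih (isZero_T adj h)
  have hS : IsZero (Ssum.{w} adj (T adj (R.obj M))) :=
    (IsZero.iff_id_eq_zero _).mpr (Sigma.hom_ext _ _ fun k => (hn k.down hz).eq_of_src _ _)
  have hP := prop_Ssum adj D (prop_T' adj D (D.hR M hM))
  rw [fS_succ adj D (D.hR M hM), fS, clSub_zero (L.map_isZero hS) (D.hL _ hP), add_zero]
  exact clQ_iso adj D (asIso (adj.counit.app M)) (D.hL _ (D.hR M hM)) hM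

include hmA in
theorem mapSub_fS {X : A} (hX : P X) :
    SGA6.mapSub R Q P D.hR (fS.{w} adj Q X) = KZero.clSub P X := by
  classical
  have hS := prop_Ssum adj D hX
  have hmap : ∀ {M}, Q M → SGA6.mapSub R Q P D.hR (KZero.clSub Q M) = KZero.clSub P (R.obj M) :=
    fun {M} hM => by rw [clSub_of hM, clSub_of (D.hR _ hM)]; rfl
  have := D.hunit _ hS
  have hs : (ShortComplex.mk (kernel.ι (eta adj (Ssum.{w} adj X))) (eta adj (Ssum.{w} adj X))
      (kernel.condition _)).ShortExact :=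
    { exact := ShortComplex.exact_of_f_is_kernel _ (kernelIsKernel _)
      mono_f := inferInstance
      epi_g := inferInstanceAs (Epi (eta adj (Ssum.{w} adj X))) }
  have hST := prop_Ssum adj D (prop_T' adj D hX)
  have e := clSub_rel (P := P) _ hs (prop_T' adj D hS) hS (D.hR _ (D.hL _ hS))
  simp only at e
  rw [clP_iso adj D (nonempty_T_Ssum adj hmA X).some (prop_T' adj D hS) hST,
    clP_iso adj D (SsumSucc adj X) hS (D.hPbi hX hST), clP_bi adj D hX hST,
    add_comm (KZero.clSub P X)] at e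
  rw [fS, hmap (D.hL _ hS)]
  exact (add_left_cancel e).symm

/-- A short exact sequence with all terms in `P`. -/
def Ok (S : ShortComplex A) : Prop := S.ShortExact ∧ P S.X₁ ∧ P S.X₂ ∧ P S.X₃

/-- The defect of additivity. -/
noncomputable def dfct (Q : ObjectProperty B) (S : ShortComplex A) : KZero.K0sub Q :=
  fS.{w} adj Q S.X₂ - fS.{w} adj Q S.X₁ - fS.{w} adj Q S.X₃

theorem ok_child₁ {S : ShortComplex A} (h : Ok (P := P) S) : Ok (P := P) (child₁ adj S) := by
  have := D.hunit _ h.2.1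
  exact ⟨child₁_shortExact adj S, prop_T' adj D h.2.1, D.hPker _ h.2.1 (D.hR _ (D.hL _ h.2.2.1)),
    D.hR _ (D.hQker _ (D.hL _ h.2.1) (D.hL _ h.2.2.1))⟩

theorem ok_child₂ {S : ShortComplex A} (h : Ok (P := P) S) : Ok (P := P) (child₂ adj S) := by
  have := D.hunit _ h.2.1
  exact ⟨child₂_shortExact adj S h.1, D.hPker _ h.2.1 (D.hR _ (D.hL _ h.2.2.1)),
    prop_T' adj D h.2.2.1, prop_T' adj D h.2.2.2⟩

theorem dfct_child {S : ShortComplex A} (h : Ok (P := P) S) :
    dfct.{w} adj Q S = dfct.{w} adj Q (child₁ adj S) + dfct.{w} adj Q (child₂ adj S) := by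
  obtain ⟨hS, h₁, h₂, h₃⟩ := h
  have := adj.left_adjoint_additive
  have := adj.leftAdjoint_preservesColimits
  have := hS.mono_f
  have := hS.epi_g
  have : PreservesFiniteColimits L := ⟨fun _ _ _ => inferInstance⟩
  let ι' := kernel.ι (L.map S.f)
  let e : L.obj S.X₁ ⟶ kernel (L.map S.g) :=
    kernel.lift _ (L.map S.f) (by rw [← L.map_comp, S.zero, L.map_zero])
  have hLS : (S.map L).Exact :=
    hS.exact.map_of_epi_of_preservesCokernel L inferInstance inferInstance
  have : Epi e := (ShortComplex.exact_iff_epi_kernel_lift (S.map L)).1 hLS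
  have s3 : (ShortComplex.mk ι' e (by
      rw [← cancel_mono (kernel.ι _)]; simp [e, ι'])).ShortExact :=
    { exact := ShortComplex.exact_of_f_is_kernel _ (KernelFork.IsLimit.ofι' _ _ fun {W} k hk =>
        ⟨kernel.lift _ k (by simpa [e] using hk =≫ kernel.ι (L.map S.g)), kernel.lift_ι _ _ _⟩)
      mono_f := inferInstanceAs (Mono ι')
      epi_g := inferInstanceAs (Epi e) }
  have s4 : (ShortComplex.mk (kernel.ι (L.map S.g)) (L.map S.g) (kernel.condition _)).ShortExact :=
    { exact := ShortComplex.exact_of_f_is_kernel _ (kernelIsKernel _)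
      mono_f := inferInstance
      epi_g := L.map_epi S.g }
  have hK' := D.hQker (L.map S.f) (D.hL _ h₁) (D.hL _ h₂)
  have hI := D.hQker (L.map S.g) (D.hL _ h₂) (D.hL _ h₃)
  have e3 := clSub_rel (P := Q) _ s3 hK' (D.hL _ h₁) hI
  have e4 := clSub_rel (P := Q) _ s4 hI (D.hL _ h₂) (D.hL _ h₃)
  simp only at e3 e4
  simp only [dfct, child₁, child₂, fS_succ adj D h₁, fS_succ adj D h₂, fS_succ adj D h₃,
    fS_obj adj D hK', e3, e4]
  abel

/-- Both children of a short complex. -/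
noncomputable def child (S : ShortComplex A) : ShortComplex A :=
  sumC.{w} fun o => pr.{w} (child₁ adj S) (child₂ adj S) o

/-- The descendants of a short complex. -/
noncomputable def node (S : ShortComplex A) : ℕ → ShortComplex A
  | 0 => S
  | n + 1 => child.{w} adj (node S n)

include hmA in
theorem ok_child {S : ShortComplex A} (h : Ok (P := P) S) :
    Ok (P := P) (child.{w} adj S) := by
  have k₁ := ok_child₁ adj D h
  have k₂ := ok_child₂ adj D h
  refine ⟨sumC_shortExact hmA _ fun o => ?_,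
    D.hPiso (prIso _).symm (D.hPbi k₁.2.1 k₂.2.1),
    D.hPiso (prIso _).symm (D.hPbi k₁.2.2.1 k₂.2.2.1),
    D.hPiso (prIso _).symm (D.hPbi k₁.2.2.2 k₂.2.2.2)⟩
  rcases o with _ | _
  exacts [k₁.1, k₂.1]

theorem kl_child (u : U) (n : ℕ) {S : ShortComplex A} (h : Ok (P := P) S)
    (hn : D.Kl u (n + 1) S.X₂) : D.Kl u n (child.{w} adj S).X₂ := by
  have k₂ := (ok_child₂ adj D h).1
  have := k₂.mono_f
  have hT := D.kT u n h.2.2.1 hn
  have hK : D.Kl u n (child₂ adj S).X₁ := D.kmono u n (child₂ adj S).f hT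
  exact D.kmono u n (prIso _).hom (D.kbi u n hK hT)

include hmA in
theorem ok_node {S : ShortComplex A} (h : Ok (P := P) S) :
    ∀ k, Ok (P := P) (node.{w} adj S k)
  | 0 => h
  | k + 1 => ok_child adj hmA D (ok_node h k)

include hmA in
theorem kl_node (u : U) : ∀ (j n : ℕ) {S : ShortComplex A}, Ok (P := P) S →
    D.Kl u (n + j) S.X₂ → D.Kl u n (node.{w} adj S j).X₂
  | 0, _, _, _, hn => hn
  | j + 1, n, S, h, hn => by
    refine kl_child adj D u n (ok_node adj hmA D h j) (kl_node u j (n + 1) h ?_)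
    rwa [show n + 1 + j = n + (j + 1) by omega]

include hmA in
theorem ok_sum {S : ShortComplex A} (h : Ok (P := P) S) (j : ℕ) :
    Ok (P := P) (sumC fun k : Idx.{w} => node.{w} adj S (k.down + j)) := by
  have hk : ∀ u, ∃ N, ∀ k : Idx.{w}, N ≤ k.down → D.Kl u 0 (node.{w} adj S (k.down + j)).X₂ :=
    fun u => by
      obtain ⟨n, hn⟩ := D.kex u S.X₂ h.2.2.1
      exact ⟨n, fun k hk => kl_node adj hmA D u _ 0 h (kl_le adj D (by omega) hn)⟩
  have hok := fun k : Idx.{w} => ok_node adj hmA D h (k.down + j)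
  refine ⟨sumC_shortExact hmA _ fun k => (hok k).1,
    D.hsum _ (fun k => (hok k).2.1) fun u => (hk u).imp fun N hN k hkN => ?_,
    D.hsum _ (fun k => (hok k).2.2.1) hk,
    D.hsum _ (fun k => (hok k).2.2.2) fun u => (hk u).imp fun N hN k hkN => ?_⟩
  · have := (hok k).1.mono_f
    exact D.kmono u 0 (node.{w} adj S (k.down + j)).f (hN k hkN)
  · have := (hok k).1.epi_g
    exact D.kepi u 0 (node.{w} adj S (k.down + j)).g (hok k).2.2.1 (hok k).2.2.2 (hN k hkN)

include hmA hmB in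
theorem nonempty_child_sum {α : Type w} (N : α → ShortComplex A) :
    Nonempty ((child.{w} adj (sumC N)).X₁ ≅ ∐ fun a => (child.{w} adj (N a)).X₁) ∧
    Nonempty ((child.{w} adj (sumC N)).X₂ ≅ ∐ fun a => (child.{w} adj (N a)).X₂) ∧
    Nonempty ((child.{w} adj (sumC N)).X₃ ≅ ∐ fun a => (child.{w} adj (N a)).X₃) := by
  have := adj.leftAdjoint_preservesColimits
  obtain ⟨t₁⟩ := nonempty_Tsigma adj hmA fun a => (N a).X₁
  obtain ⟨t₂⟩ := nonempty_Tsigma adj hmA fun a => (N a).X₂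
  obtain ⟨t₃⟩ := nonempty_Tsigma adj hmA fun a => (N a).X₃
  obtain ⟨k⟩ := nonempty_kerSigma hmA (Iso.refl _)
    (PreservesCoproduct.iso (L ⋙ R) fun a => (N a).X₂).symm
    (fun a => eta adj (N a).X₁ ≫ R.map (L.map (N a).f))
    (eta adj (sumC N).X₁ ≫ R.map (L.map (sumC N).f)) (Sigma.hom_ext _ _ fun a => by
      simp only [Iso.symm_hom, PreservesCoproduct.inv_hom, Sigma.ι_map_assoc, Iso.refl_hom,
        Category.id_comp, Category.assoc]
      refine (congrArg (fun t => eta adj (N a).X₁ ≫ R.map (L.map (N a).f) ≫ t)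
        (ι_comp_sigmaComparison (L ⋙ R) (fun a => (N a).X₂) a)).trans ?_
      rw [reassoc_of% (eta_nat adj (Sigma.ι (fun a => (N a).X₁) a))]
      simp only [Functor.comp_map, ← R.map_comp, ← L.map_comp, Sigma.ι_map])
  obtain ⟨k'⟩ := nonempty_kerSigma hmB (PreservesCoproduct.iso L fun a => (N a).X₁).symm
    (PreservesCoproduct.iso L fun a => (N a).X₂).symm (fun a => L.map (N a).f)
    (L.map (sumC N).f) (Sigma.hom_ext _ _ fun a => by
      simp only [Iso.symm_hom, PreservesCoproduct.inv_hom, Sigma.ι_map_assoc, ι_comp_sigmaComparison]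
      rw [← Category.assoc, ι_comp_sigmaComparison, ← L.map_comp, ← L.map_comp]
      simp only [Sigma.ι_map])
  refine ⟨?_, ?_, ?_⟩
  · exact ⟨prIso _ ≪≫ biprod.mapIso t₁.symm k.symm ≪≫
      (prIso fun o => ∐ fun a => (pr.{w} (child₁ adj (N a)) (child₂ adj (N a)) o).X₁).symm ≪≫
      swapIso (fun o a => (pr.{w} (child₁ adj (N a)) (child₂ adj (N a)) o).X₁)⟩
  · exact ⟨prIso _ ≪≫ biprod.mapIso k.symm t₂.symm ≪≫
      (prIso fun o => ∐ fun a => (pr.{w} (child₁ adj (N a)) (child₂ adj (N a)) o).X₂).symm ≪≫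
      swapIso (fun o a => (pr.{w} (child₁ adj (N a)) (child₂ adj (N a)) o).X₂)⟩
  · exact ⟨prIso _ ≪≫
      biprod.mapIso (R.mapIso k'.symm ≪≫ PreservesCoproduct.iso R fun a => kernel (L.map (N a).f))
        t₃.symm ≪≫
      (prIso fun o => ∐ fun a => (pr.{w} (child₁ adj (N a)) (child₂ adj (N a)) o).X₃).symm ≪≫
      swapIso (fun o a => (pr.{w} (child₁ adj (N a)) (child₂ adj (N a)) o).X₃)⟩

theorem dfct_iso {S S' : ShortComplex A} (h : Ok (P := P) S) (h' : Ok (P := P) S')
    (e₁ : S.X₁ ≅ S'.X₁) (e₂ : S.X₂ ≅ S'.X₂) (e₃ : S.X₃ ≅ S'.X₃) :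
    dfct.{w} adj Q S = dfct.{w} adj Q S' := by
  rw [dfct, dfct, fS_iso adj D e₁ h.2.1 h'.2.1, fS_iso adj D e₂ h.2.2.1 h'.2.2.1,
    fS_iso adj D e₃ h.2.2.2 h'.2.2.2]

include hmA in
theorem dfct_bi {S S₁ S₂ : ShortComplex A} (h : Ok (P := P) S) (h₁ : Ok (P := P) S₁)
    (h₂ : Ok (P := P) S₂) (e₁ : S.X₁ ≅ S₁.X₁ ⊞ S₂.X₁) (e₂ : S.X₂ ≅ S₁.X₂ ⊞ S₂.X₂)
    (e₃ : S.X₃ ≅ S₁.X₃ ⊞ S₂.X₃) :
    dfct.{w} adj Q S = dfct.{w} adj Q S₁ + dfct.{w} adj Q S₂ := by
  rw [dfct, dfct, dfct, fS_iso adj D e₁ h.2.1 (D.hPbi h₁.2.1 h₂.2.1),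
    fS_iso adj D e₂ h.2.2.1 (D.hPbi h₁.2.2.1 h₂.2.2.1),
    fS_iso adj D e₃ h.2.2.2 (D.hPbi h₁.2.2.2 h₂.2.2.2), fS_bi adj hmA D h₁.2.1 h₂.2.1,
    fS_bi adj hmA D h₁.2.2.1 h₂.2.2.1, fS_bi adj hmA D h₁.2.2.2 h₂.2.2.2]
  abel

include hmA hmB in
theorem dfct_eq_zero {S : ShortComplex A} (h : Ok (P := P) S) : dfct.{w} adj Q S = 0 := by
  let F := sumC fun k : Idx.{w} => node.{w} adj S (k.down + 0)
  let G := sumC fun k : Idx.{w} => node.{w} adj S (k.down + 1)
  have hF : Ok (P := P) F := ok_sum adj hmA D h 0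
  have hG : Ok (P := P) G := ok_sum adj hmA D h 1
  have e1 : dfct.{w} adj Q F = dfct.{w} adj Q S + dfct.{w} adj Q G :=
    dfct_bi adj hmA D hF h hG
      (splitIso idxEquiv fun k : Idx.{w} => (node.{w} adj S (k.down + 0)).X₁)
      (splitIso idxEquiv fun k : Idx.{w} => (node.{w} adj S (k.down + 0)).X₂)
      (splitIso idxEquiv fun k : Idx.{w} => (node.{w} adj S (k.down + 0)).X₃)
  obtain ⟨⟨a₁⟩, ⟨a₂⟩, ⟨a₃⟩⟩ := nonempty_child_sum adj hmA hmB D
    fun k : Idx.{w} => node.{w} adj S (k.down + 0)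
  have e2 : dfct.{w} adj Q (child.{w} adj F) = dfct.{w} adj Q G :=
    dfct_iso adj D (ok_child adj hmA D hF) hG a₁ a₂ a₃
  have e3 : dfct.{w} adj Q (child.{w} adj F) = dfct.{w} adj Q F := by
    rw [dfct_child adj D hF]
    exact dfct_bi adj hmA D (ok_child adj hmA D hF) (ok_child₁ adj D hF) (ok_child₂ adj D hF)
      (prIso _) (prIso _) (prIso _)
  rw [e2] at e3
  rw [← e3] at e1
  exact right_eq_add.mp e1

include hmA hmB in
/-- Dévissage by locally finite filtrations. -/
theorem bijective_mapSub : Function.Bijective (SGA6.mapSub R Q P D.hR) := by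
  classical
  let g : KZero.K0sub P →+ KZero.K0sub Q := liftSub P (fS.{w} adj Q) fun S hS h₁ h₂ h₃ => by
    have := dfct_eq_zero adj hmA hmB D ⟨hS, h₁, h₂, h₃⟩
    rw [dfct, sub_sub, sub_eq_zero] at this
    exact this
  refine ⟨Function.LeftInverse.injective (g := g) fun x => ?_,
    Function.RightInverse.surjective (g := g) fun x => ?_⟩
  · suffices hh : g.comp (SGA6.mapSub R Q P D.hR) = AddMonoidHom.id _ from congr($hh x)
    refine k0sub_hom_ext fun M hM => ?_
    rw [AddMonoidHom.comp_apply, show SGA6.mapSub R Q P D.hR (KZero.clSub Q M) =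
        KZero.clSub P (R.obj M) by rw [clSub_of hM, clSub_of (D.hR _ hM)]; rfl,
      liftSub_clSub _ _ (D.hR _ hM), fS_obj adj D hM]
    rfl
  · suffices hh : (SGA6.mapSub R Q P D.hR).comp g = AddMonoidHom.id _ from congr($hh x)
    refine k0sub_hom_ext fun X hX => ?_
    rw [AddMonoidHom.comp_apply, liftSub_clSub _ _ hX, mapSub_fS adj hmA D hX]
    rfl

end Groth.Misc6.DevissageSum
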