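import Groth.Prelude.Def_LefPen
import Groth.Agent.Misc6.GeneralMember
import Groth.Agent.Misc6.SpecIndep
import Groth.Agent.Misc6.ConeDim
import Groth.Agent.VectorBundles.Elimination

/-!
# The discriminant of forms of degree `d`

In the chart `y a = 1` the singular forms are parametrised by the point and the coefficients outside
the exponents `expo d a o` of the singularity conditions. The kernel of this parametrisation is a
prime of height one.
-/

set_option autoImplicit false

universe u

namespace Groth.Misc6.Discriminant

open MvPolynomial Finset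
open Groth.Misc6.GeneralMember (cond expo)

variable {k : Type u} [Field k] {n d : ℕ}

/-- Exponents of degree `d`. -/
abbrev Exps (n d : ℕ) : Type := ↥((univ : Finset (Fin (n + 1))).finsuppAntidiag d)

theorem mem_exps {e : Fin (n + 1) →₀ ℕ} :
    e ∈ (univ : Finset (Fin (n + 1))).finsuppAntidiag d ↔ e.degree = d := by
  simp [Finset.mem_finsuppAntidiag, Finsupp.degree_eq_sum]

/-- `e` is the exponent of a condition in the chart `a`. -/
def IsCond (d : ℕ) (a : Fin (n + 1)) (e : Fin (n + 1) →₀ ℕ) : Prop :=
  ∃ o : Option (Fin (n + 1)), o ≠ some a ∧ expo d a o = e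

/-- The chart coordinates. -/
abbrev Vars (a : Fin (n + 1)) : Type := {i : Fin (n + 1) // i ≠ a}

/-- The free coefficients in the chart. -/
abbrev Free (d : ℕ) (a : Fin (n + 1)) : Type := {e : Exps n d // ¬ IsCond d a e.1}

/-- The generic point of the chart. -/
noncomputable def pointY (k : Type u) [Field k] (d : ℕ) (a : Fin (n + 1)) (i : Fin (n + 1)) :
    MvPolynomial (Vars a ⊕ Free d a) k :=
  if h : i = a then 1 else X (Sum.inl ⟨i, h⟩)

open Classical in
/-- The generic free part. -/
noncomputable def restU (k : Type u) [Field k] (d : ℕ) (a : Fin (n + 1)) :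
    MvPolynomial (Fin (n + 1)) (MvPolynomial (Vars a ⊕ Free d a) k) :=
  ∑ e : Exps n d, monomial e.1 (if h : IsCond d a e.1 then 0 else X (Sum.inr ⟨e, h⟩))

open Classical in
/-- The parametrisation of singular forms in a chart. -/
noncomputable def θ (k : Type u) [Field k] (d : ℕ) (a : Fin (n + 1)) (e : Exps n d) :
    MvPolynomial (Vars a ⊕ Free d a) k :=
  if h : IsCond d a e.1 then - cond a (pointY k d a) h.choose (restU k d a) else X (Sum.inr ⟨e, h⟩)

/-- The form with given coefficients. -/
noncomputable def form (c : Exps n d → k) : MvPolynomial (Fin (n + 1)) k := ∑ e, monomial e.1 (c e)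

theorem isHomogeneous_form (c : Exps n d → k) : (form c).IsHomogeneous d :=
  IsHomogeneous.sum _ _ _ fun e _ => isHomogeneous_monomial _ (mem_exps.1 e.2)

theorem coeff_form (c : Exps n d → k) (e : Exps n d) : coeff e.1 (form c) = c e := by
  rw [form, coeff_sum, sum_eq_single e]
  · simp
  · intro e' _ hne
    rw [coeff_monomial, if_neg fun h' => hne (Subtype.ext h')]
  · simp

theorem form_coeff {G : MvPolynomial (Fin (n + 1)) k} (hG : G.IsHomogeneous d) :
    form (fun e : Exps n d => coeff e.1 G) = G := by
  ext x
  by_cases hx : x.degree = d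
  · exact coeff_form _ ⟨x, mem_exps.2 hx⟩
  · rw [hG.coeff_eq_zero hx, (isHomogeneous_form _).coeff_eq_zero hx]

open Classical in
theorem cond_form (hd : 2 ≤ d) (a : Fin (n + 1)) (c : Exps n d → k) (y : Fin (n + 1) → k)
    (hy : y a = 1) (o : Option (Fin (n + 1))) (ho : o ≠ some a) :
    cond a y o (form c) =
      cond a y o (∑ e : Exps n d, monomial e.1 (if IsCond d a e.1 then 0 else c e)) +
        c ⟨expo d a o, mem_exps.2 (GeneralMember.degree_expo hd a o)⟩ := by
  have hsplit : form c = (∑ e : Exps n d, monomial e.1 (if IsCond d a e.1 then 0 else c e)) +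
      ∑ e : Exps n d, monomial e.1 (if IsCond d a e.1 then c e else 0) := by
    rw [form, ← sum_add_distrib]
    refine sum_congr rfl fun e _ => ?_
    split_ifs <;> simp
  rw [hsplit, GeneralMember.cond_add]
  congr 1
  rw [GeneralMember.cond_sum a y o
    (f := fun e : Exps n d => monomial e.1 (if IsCond d a e.1 then c e else 0)),
    sum_eq_single (⟨expo d a o, mem_exps.2 (GeneralMember.degree_expo hd a o)⟩ : Exps n d)]
  · rw [if_pos ⟨o, ho, rfl⟩, GeneralMember.cond_expo a y hy _ _ _ ho ho, if_pos rfl]
  · intro e _ hne
    split_ifs with h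
    · obtain ⟨o', ho', he⟩ := h
      rw [← he, GeneralMember.cond_expo a y hy _ _ _ ho ho', if_neg]
      rintro rfl
      exact hne (Subtype.ext he.symm)
    · cases o <;> simp [GeneralMember.cond]
  · simp

theorem map_restU (a : Fin (n + 1)) (pt : Vars a ⊕ Free d a → k) (c : Exps n d → k)
    (hc : ∀ e : Free d a, c e.1 = pt (Sum.inr e)) [DecidablePred fun e : Exps n d => IsCond d a e.1] :
    MvPolynomial.map (eval pt) (restU k d a) =
      ∑ e : Exps n d, monomial e.1 (if IsCond d a e.1 then 0 else c e) := by
  rw [restU, map_sum]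
  refine sum_congr rfl fun e _ => ?_
  rw [map_monomial]
  split_ifs with h
  · rw [map_zero]
  · rw [eval_X, hc ⟨e, h⟩]

theorem pointY_self (a : Fin (n + 1)) : pointY k d a a = 1 := dif_pos rfl

open Classical in
theorem exists_pt (hd : 2 ≤ d) (a : Fin (n + 1)) (c : Exps n d → k) (y : Fin (n + 1) → k)
    (hy : y a = 1) (h0 : eval y (form c) = 0) (h1 : ∀ i, eval y (pderiv i (form c)) = 0) :
    ∃ pt, (fun e => eval pt (θ k d a e)) = c := by
  let pt : Vars a ⊕ Free d a → k := Sum.elim (fun i => y i.1) (fun e => c e.1)
  have hY : eval pt ∘ pointY k d a = y := funext fun i => by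
    by_cases hi : i = a
    · subst hi; simp [pointY, hy]
    · simp [pointY, hi, pt]
  refine ⟨pt, funext fun e => ?_⟩
  by_cases h : IsCond d a e.1
  · have hz : cond a y h.choose (form c) = 0 := by
      cases h.choose with
      | none =>
        change eval y _ - _ = 0
        rw [h0, sum_eq_zero fun i _ => by rw [h1 i, mul_zero], sub_zero]
      | some i => exact h1 i
    rw [cond_form hd a c y hy _ h.choose_spec.1] at hz
    rw [θ, dif_pos h, map_neg, GeneralMember.map_cond, hY,
      map_restU a pt c (fun e' => rfl), neg_eq_of_add_eq_zero_right hz]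
    exact congrArg c (Subtype.ext h.choose_spec.2)
  · simp [θ, h, pt]

open Classical in
theorem singular_of_pt (hd : 2 ≤ d) (a : Fin (n + 1)) (pt : Vars a ⊕ Free d a → k) :
    eval (eval pt ∘ pointY k d a) (form fun e => eval pt (θ k d a e)) = 0 ∧
      ∀ i, eval (eval pt ∘ pointY k d a) (pderiv i (form fun e => eval pt (θ k d a e))) = 0 := by
  set y := eval pt ∘ pointY k d a with hy
  set c : Exps n d → k := fun e => eval pt (θ k d a e) with hc
  have hya : y a = 1 := by simp [hy, pointY_self]
  have hcond : ∀ o, o ≠ some a → cond a y o (form c) = 0 := by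
    intro o ho
    have h : IsCond d a (⟨expo d a o, mem_exps.2 (GeneralMember.degree_expo hd a o)⟩ : Exps n d).1 :=
      ⟨o, ho, rfl⟩
    have ho' : h.choose = o := GeneralMember.expo_injOn hd a h.choose_spec.1 ho h.choose_spec.2
    have hv : c ⟨expo d a o, mem_exps.2 (GeneralMember.degree_expo hd a o)⟩ =
        - cond a y o (∑ e : Exps n d, monomial e.1 (if IsCond d a e.1 then 0 else c e)) := by
      rw [hc]
      dsimp only
      rw [θ, dif_pos h, map_neg, GeneralMember.map_cond, ho', ← hy,
        map_restU a pt c (fun e' => by simp [hc, θ, e'.2])]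
    rw [cond_form hd a c y hya o ho, hv, add_neg_cancel]
  have hi : ∀ i, i ≠ a → eval y (pderiv i (form c)) = 0 := fun i hia =>
    hcond (some i) (fun h => hia (Option.some.inj h))
  have h0 : eval y (form c) = 0 := by
    have h := hcond none (by simp)
    change eval y _ - _ = 0 at h
    rwa [sum_eq_zero fun i hi' => by rw [hi i (ne_of_mem_erase hi'), mul_zero], sub_zero] at h
  refine ⟨h0, fun i => ?_⟩
  by_cases hia : i = a
  · subst hia
    have he := congrArg (eval y) (isHomogeneous_form c).sum_X_mul_pderiv
    rw [map_sum, map_nsmul, h0, smul_zero, sum_eq_single i (fun j _ hj => by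
      rw [map_mul, hi j hj, mul_zero]) (by simp), map_mul, eval_X, hya, one_mul] at he
    exact he
  · exact hi i hia

/-- A form `G0` without exponents of conditions whose conditions `T` are generically independent
gives many independent coefficient functions. -/
theorem exists_indep_of_form [Infinite k] (hd : 2 ≤ d) (G0 : MvPolynomial (Fin (n + 1)) k)
    (hG0 : G0.IsHomogeneous d) (hcoeff : ∀ o, o ≠ some 0 → coeff (expo d 0 o) G0 = 0)
    (T : Fin n → Option (Fin (n + 1))) (hT : Function.Injective T) (hT0 : ∀ j, T j ≠ some 0)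
    (halg : ∀ v : Vars (0 : Fin (n + 1)), IsAlgebraic
      (Algebra.adjoin k (Set.range fun j => cond 0
        (fun i => if h : i = 0 then (1 : MvPolynomial (Vars (0 : Fin (n + 1))) k) else X ⟨i, h⟩) (T j)
          (MvPolynomial.map C G0)))
      (X v : MvPolynomial (Vars (0 : Fin (n + 1))) k)) :
    ∃ f : Free d (0 : Fin (n + 1)) ⊕ Fin n → Exps n d, Function.Injective f ∧
      AlgebraicIndependent k (θ k d 0 ∘ f) := by
  classical
  let Y0 : Fin (n + 1) → MvPolynomial (Vars (0 : Fin (n + 1))) k :=
    fun i => if h : i = 0 then 1 else X ⟨i, h⟩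
  let q : Fin n → MvPolynomial (Vars (0 : Fin (n + 1))) k :=
    fun j => cond 0 Y0 (T j) (MvPolynomial.map C G0)
  let eT : Fin n → Exps n d := fun j =>
    ⟨expo d 0 (T j), mem_exps.2 (GeneralMember.degree_expo hd 0 (T j))⟩
  let w0 : Free d (0 : Fin (n + 1)) → k := fun e => coeff e.1.1 G0
  let sp : MvPolynomial (Vars (0 : Fin (n + 1)) ⊕ Free d 0) k →ₐ[k] MvPolynomial (Vars (0 : Fin (n + 1))) k :=
    aeval (Sum.elim X fun e => C (w0 e))
  have hsp : ∀ j, sp (θ k d 0 (eT j)) = - q j := by
    intro j
    have h : IsCond d 0 (eT j).1 := ⟨T j, hT0 j, rfl⟩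
    have ho : h.choose = T j := GeneralMember.expo_injOn hd 0 h.choose_spec.1 (hT0 j) h.choose_spec.2
    rw [θ, dif_pos h, map_neg, ho, neg_inj]
    refine (GeneralMember.map_cond sp.toRingHom _ _ _ _).trans ?_
    have hY : sp.toRingHom ∘ pointY k d 0 = Y0 := funext fun i => by
      by_cases hi : i = 0 <;> simp [pointY, Y0, hi, sp]
    have hU : MvPolynomial.map sp.toRingHom (restU k d 0) = MvPolynomial.map C G0 := by
      conv_rhs => rw [← form_coeff (n := n) hG0, form, map_sum]
      rw [restU, map_sum]
      refine sum_congr rfl fun e _ => ?_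
      rw [map_monomial, map_monomial]
      split_ifs with he
      · obtain ⟨o, ho, he⟩ := he
        rw [← he, hcoeff o ho]
        simp
      · simp [sp, w0]
    rw [hY, hU]
  have : Algebra.IsAlgebraic (Algebra.adjoin k (Set.range q))
      (MvPolynomial (Vars (0 : Fin (n + 1))) k) := by
    refine ⟨fun p => ?_⟩
    induction p using MvPolynomial.induction_on with
    | C c => exact isAlgebraic_algebraMap (⟨C c, Subalgebra.algebraMap_mem _ c⟩ : Algebra.adjoin k (Set.range q))
    | add p p' hp hp' => exact hp.add hp'
    | mul_X p v hp => exact hp.mul (halg v)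
  have hqind : AlgebraicIndependent k q :=
    (Algebra.IsAlgebraic.isTranscendenceBasis_of_lift_le_trdeg_of_finite k q (by
      rw [MvPolynomial.trdeg_of_isDomain]
      simp [Fintype.card_subtype_compl, Fintype.card_fin, Cardinal.mk_fintype])).1
  have hsind : AlgebraicIndependent k fun j => sp (θ k d 0 (eT j)) := by
    simp only [hsp]
    let ψ : MvPolynomial (Fin n) k →ₐ[k] MvPolynomial (Fin n) k := aeval fun j => - X j
    rw [algebraicIndependent_iff]
    intro P hP
    have h1 : aeval q (ψ P) = 0 := by
      simp only [ψ]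
      rw [comp_aeval_apply]
      simpa using hP
    have h2 : ψ (ψ P) = P := by
      have h3 : ψ.comp ψ = AlgHom.id k (MvPolynomial (Fin n) k) := algHom_ext fun j => by simp [ψ]
      exact AlgHom.congr_fun h3 P
    rw [← h2, hqind.eq_zero_of_aeval_eq_zero _ h1, map_zero]
  have hind := SpecIndep.algebraicIndependent_sumElim (fun j => θ k d 0 (eT j)) w0 hsind
  refine ⟨Sum.elim Subtype.val eT, ?_, ?_⟩
  · refine Function.Injective.sumElim Subtype.val_injective (fun j j' h => hT
      (GeneralMember.expo_injOn hd 0 (hT0 j) (hT0 j') (congrArg Subtype.val h))) fun e j h => ?_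
    exact e.2 (by rw [h]; exact ⟨T j, hT0 j, rfl⟩)
  · have he : θ k d 0 ∘ Sum.elim Subtype.val eT =
        Sum.elim (fun w => X (Sum.inr w)) fun j => θ k d 0 (eT j) := funext fun x => by
      rcases x with w | j
      · simp [θ, w.2]
      · rfl
    rw [he]
    exact hind

/-- `n` of the singularity conditions are independent. -/
theorem exists_indep [Infinite k] (hd : 2 ≤ d) :
    ∃ f : Free d (0 : Fin (n + 1)) ⊕ Fin n → Exps n d, Function.Injective f ∧
      AlgebraicIndependent k (θ k d 0 ∘ f) := by
  classical
  let Y0 : Fin (n + 1) → MvPolynomial (Vars (0 : Fin (n + 1))) k :=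
    fun i => if h : i = 0 then 1 else X ⟨i, h⟩
  have hY0 : ∀ j : Fin n, Y0 j.succ = X ⟨j.succ, Fin.succ_ne_zero j⟩ := fun j =>
    dif_neg (Fin.succ_ne_zero j)
  have hexpo : ∀ o : Option (Fin (n + 1)), d - 1 ≤ expo d 0 o 0 := fun o => by
    cases o <;> simp [expo]
  have hsome : Function.Injective fun j : Fin n => some j.succ :=
    fun j j' h => Fin.succ_injective n (Option.some.inj h)
  have hev : ∀ G : MvPolynomial (Fin (n + 1)) k, eval Y0 (MvPolynomial.map C G) = aeval Y0 G :=
    fun G => by rw [eval_map, aeval_def]; rfl
  have hcond : ∀ (G : MvPolynomial (Fin (n + 1)) k) (j : Fin n),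
      cond 0 Y0 (some j.succ) (MvPolynomial.map C G) = aeval Y0 (pderiv j.succ G) := fun G j => by
    change eval Y0 (pderiv j.succ (MvPolynomial.map C G)) = _
    rw [pderiv_map, hev]
  have hmon1 : ∀ (i : Fin (n + 1)) (e : ℕ) (r : k),
      aeval Y0 (monomial (Finsupp.single i e) r) = algebraMap k _ r * Y0 i ^ e := fun i e r => by
    rw [← C_mul_X_pow_eq_monomial, map_mul, map_pow, aeval_C, aeval_X]
  have hmon2 : ∀ (i i' : Fin (n + 1)) (e e' : ℕ) (r : k),
      aeval Y0 (monomial (Finsupp.single i e + Finsupp.single i' e') r) =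
        algebraMap k _ r * (Y0 i ^ e * Y0 i' ^ e') := fun i i' e e' r => by
    rw [monomial_add_single, map_mul, map_pow, aeval_X, hmon1, mul_assoc]
  by_cases hdk : (d : k) = 0
  · by_cases hd3 : 3 ≤ d
    · let G0 : MvPolynomial (Fin (n + 1)) k :=
        ∑ j : Fin n, monomial (Finsupp.single 0 1 + Finsupp.single j.succ (d - 1)) 1
      refine exists_indep_of_form hd G0 (IsHomogeneous.sum _ _ _ fun j _ => isHomogeneous_monomial _ (by
          rw [map_add, Finsupp.degree_single, Finsupp.degree_single]; omega))
        (fun o _ => by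
          rw [coeff_sum]
          refine sum_eq_zero fun j _ => ?_
          rw [coeff_monomial, if_neg]
          intro h
          have h0 := DFunLike.congr_fun h 0
          have := hexpo o
          simp [Finsupp.single_eq_of_ne (Fin.succ_ne_zero j).symm] at h0
          omega)
        (fun j => some j.succ) hsome (fun j h => Fin.succ_ne_zero j (Option.some.inj h)) fun v => ?_
      obtain ⟨j, hj⟩ := Fin.exists_succ_eq.2 v.2
      have hv : (X v : MvPolynomial (Vars (0 : Fin (n + 1))) k) = Y0 j.succ := by
        rw [hY0]; congr 1; exact Subtype.ext hj.symm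
      rw [hv]
      refine IsAlgebraic.of_pow (n := d - 2) (by omega) ?_
      have hq : cond 0 Y0 (some j.succ) (MvPolynomial.map C G0) = - (Y0 j.succ ^ (d - 2)) := by
        rw [hcond, map_sum, map_sum, sum_eq_single j]
        · rw [pderiv_monomial]
          simp only [Finsupp.add_apply, Finsupp.single_eq_same,
            Finsupp.single_eq_of_ne (Fin.succ_ne_zero j), zero_add, one_mul]
          rw [add_tsub_assoc_of_le (Finsupp.single_le_iff.2 (by simp; omega)),
            ← Finsupp.single_tsub, show d - 1 - 1 = d - 2 by omega, hmon2,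
            show Y0 0 = 1 from dif_pos rfl, one_pow, one_mul, Nat.cast_sub (by omega), hdk,
            Nat.cast_one, zero_sub, map_neg, map_one, neg_one_mul]
        · intro l _ hl
          rw [pderiv_monomial]
          have : j.succ ≠ l.succ := fun h => hl (Fin.succ_injective n h).symm
          simp [Finsupp.single_eq_of_ne (Fin.succ_ne_zero j), Finsupp.single_eq_of_ne this]
        · simp
      have hmem : Y0 j.succ ^ (d - 2) ∈ Algebra.adjoin k (Set.range fun j : Fin n =>
          cond 0 Y0 (some j.succ) (MvPolynomial.map C G0)) := by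
        rw [← neg_neg (Y0 j.succ ^ (d - 2)), ← hq]
        exact neg_mem (Algebra.subset_adjoin ⟨j, rfl⟩)
      exact isAlgebraic_algebraMap (⟨_, hmem⟩ :
        Algebra.adjoin k (Set.range fun j : Fin n => cond 0 Y0 (some j.succ) (MvPolynomial.map C G0)))
    · -- quadrics in characteristic two
      have hd2 : d = 2 := by omega
      subst hd2
      let pe : Fin n → (Fin (n + 1) →₀ ℕ) := fun j =>
        if h : j.1 + 1 < n then Finsupp.single j.succ 1 + Finsupp.single (⟨j.1 + 1, h⟩ : Fin n).succ 1
        else Finsupp.single j.succ 2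
      let G0 : MvPolynomial (Fin (n + 1)) k :=
        ∑ j ∈ univ.filter (fun j : Fin n => j.1 % 2 = 0), monomial (pe j) 1
      have hhom : G0.IsHomogeneous 2 := IsHomogeneous.sum _ _ _ fun j _ => isHomogeneous_monomial _ (by
        simp only [pe]; split_ifs <;> simp [map_add, Finsupp.degree_single])
      have hpe0 : ∀ j, pe j 0 = 0 := fun j => by
        simp only [pe]
        split_ifs <;> simp [Finsupp.single_eq_of_ne (Fin.succ_ne_zero _).symm]
      have hpd0 : pderiv (0 : Fin (n + 1)) G0 = 0 := by
        rw [map_sum]
        exact sum_eq_zero fun j _ => by rw [pderiv_monomial, hpe0]; simp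
      have hnone : cond 0 Y0 none (MvPolynomial.map C G0) = aeval Y0 G0 := by
        change eval Y0 (MvPolynomial.map C G0) - _ = _
        rw [hev, sub_eq_self]
        have he := congrArg (aeval Y0) hhom.sum_X_mul_pderiv
        rw [map_sum, map_nsmul] at he
        rw [← sum_erase (univ : Finset (Fin (n + 1))) (a := 0)
          (by rw [hpd0, mul_zero, map_zero])] at he
        refine Eq.trans (sum_congr rfl fun i _ => ?_) (he.trans ?_)
        · rw [pderiv_map, hev, map_mul, aeval_X]
        · rw [nsmul_eq_mul, ← map_natCast (algebraMap k _), hdk, map_zero, zero_mul]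
      -- the partial derivatives
      have hpd : ∀ l : Fin n, aeval Y0 (pderiv l.succ G0) =
          if l.1 % 2 = 0 then (if h : l.1 + 1 < n then Y0 (⟨l.1 + 1, h⟩ : Fin n).succ else 0)
          else Y0 (⟨l.1 - 1, by omega⟩ : Fin n).succ := by
        intro l
        rw [map_sum, map_sum]
        by_cases hl : l.1 % 2 = 0
        · rw [if_pos hl, sum_eq_single l]
          · split_ifs with h
            · have hne : l.succ ≠ (⟨l.1 + 1, h⟩ : Fin n).succ := fun h' => by
                have := congrArg Fin.val (Fin.succ_injective n h'); simp at this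
              simp only [pe, dif_pos h]
              rw [pderiv_monomial, add_tsub_cancel_left, hmon1, Finsupp.add_apply,
                Finsupp.single_eq_same, Finsupp.single_eq_of_ne hne, add_zero, Nat.cast_one, mul_one,
                map_one, one_mul, pow_one]
            · simp only [pe, dif_neg h]
              rw [pderiv_monomial, Finsupp.single_eq_same, one_mul, hdk, map_zero, map_zero]
          · intro j hj hne
            have hje := (mem_filter.1 hj).2
            have : pe j l.succ = 0 := by
              simp only [pe]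
              split_ifs with h
              · rw [Finsupp.add_apply, Finsupp.single_eq_of_ne (fun h' => hne (Fin.succ_injective n h').symm),
                  Finsupp.single_eq_of_ne (fun h' => by
                    have := congrArg Fin.val (Fin.succ_injective n h'); simp at this; omega), add_zero]
              · rw [Finsupp.single_eq_of_ne (fun h' => hne (Fin.succ_injective n h').symm)]
            simp [pderiv_monomial, this]
          · intro h
            exact absurd (mem_filter.2 ⟨mem_univ l, hl⟩) h
        · rw [if_neg hl, sum_eq_single (⟨l.1 - 1, by omega⟩ : Fin n)]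
          · have h : (⟨l.1 - 1, by omega⟩ : Fin n).1 + 1 < n := by have := l.2; dsimp only; omega
            have hl' : (⟨l.1 - 1 + 1, h⟩ : Fin n) = l := Fin.ext (by dsimp only; omega)
            have hne : (⟨l.1 - 1, by omega⟩ : Fin n).succ ≠ l.succ := fun h' => by
              have := congrArg Fin.val (Fin.succ_injective n h'); dsimp only at this; omega
            simp only [pe, dif_pos h, hl']
            rw [pderiv_monomial, add_tsub_cancel_right, hmon1, Finsupp.add_apply,
              Finsupp.single_eq_same, Finsupp.single_eq_of_ne hne.symm, zero_add, Nat.cast_one, mul_one,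
              map_one, one_mul, pow_one]
          · intro j hj hne
            have hje := (mem_filter.1 hj).2
            have : pe j l.succ = 0 := by
              simp only [pe]
              split_ifs with h
              · rw [Finsupp.add_apply, Finsupp.single_eq_of_ne (fun h' => by
                    have := congrArg Fin.val (Fin.succ_injective n h'); omega),
                  Finsupp.single_eq_of_ne (fun h' => hne (Fin.ext (by
                    have := congrArg Fin.val (Fin.succ_injective n h'); dsimp only at this ⊢; omega))), add_zero]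
              · rw [Finsupp.single_eq_of_ne (fun h' => by
                    have := congrArg Fin.val (Fin.succ_injective n h'); omega)]
            simp [pderiv_monomial, this]
          · intro h
            exact absurd (mem_filter.2 ⟨mem_univ _, by dsimp only; omega⟩) h
      refine exists_indep_of_form hd G0 hhom (fun o _ => by
          rw [coeff_sum]
          refine sum_eq_zero fun j _ => ?_
          rw [coeff_monomial, if_neg]
          intro h
          have h0 := DFunLike.congr_fun h 0
          have := hexpo o
          rw [hpe0] at h0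
          omega)
        (fun j => if n % 2 = 1 ∧ j.1 = n - 1 then none else some j.succ)
        (fun j j' h => by
          dsimp only at h
          split_ifs at h with h1 h2
          · exact Fin.ext (by omega)
          · exact hsome h)
        (fun j => by
          split_ifs
          · simp
          · exact fun h => Fin.succ_ne_zero j (Option.some.inj h)) fun v => ?_
      set R := Algebra.adjoin k (Set.range fun j : Fin n => cond 0 Y0
        (if n % 2 = 1 ∧ j.1 = n - 1 then none else some j.succ) (MvPolynomial.map C G0))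
      have hlow : ∀ l : Fin n, (l.1 % 2 = 0 → l.1 + 1 < n) → Y0 l.succ ∈ R := by
        intro l hl
        by_cases hl0 : l.1 % 2 = 0
        · refine Algebra.subset_adjoin ⟨⟨l.1 + 1, hl hl0⟩, ?_⟩
          dsimp only
          rw [if_neg (by omega), hcond, hpd]
          rw [if_neg (by dsimp only; omega)]
          rfl
        · refine Algebra.subset_adjoin ⟨⟨l.1 - 1, by omega⟩, ?_⟩
          have := l.2
          dsimp only
          rw [if_neg (by omega), hcond, hpd, if_pos (by dsimp only; omega), dif_pos (by dsimp only; omega)]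
          congr 2
          exact Fin.ext (by dsimp only; omega)
      obtain ⟨j, hj⟩ := Fin.exists_succ_eq.2 v.2
      have hv : (X v : MvPolynomial (Vars (0 : Fin (n + 1))) k) = Y0 j.succ := by
        rw [hY0]; congr 1; exact Subtype.ext hj.symm
      rw [hv]
      by_cases hcase : j.1 % 2 = 0 → j.1 + 1 < n
      · exact isAlgebraic_algebraMap (⟨_, hlow j hcase⟩ : R)
      · push Not at hcase
        have := j.2
        refine IsAlgebraic.of_pow (n := 2) (by norm_num) ?_
        have hG : aeval Y0 G0 ∈ R := by
          rw [← hnone]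
          refine Algebra.subset_adjoin ⟨⟨n - 1, by omega⟩, ?_⟩
          dsimp only
          rw [if_pos (⟨by omega, rfl⟩)]
        have hsum : Y0 j.succ ^ 2 = aeval Y0 G0 -
            ∑ l ∈ (univ.filter fun l : Fin n => l.1 % 2 = 0).erase j, aeval Y0 (monomial (pe l) (1 : k)) := by
          rw [eq_sub_iff_add_eq, map_sum]
          conv_rhs => rw [← sum_erase_add _ _ (mem_filter.2 ⟨mem_univ j, hcase.1⟩), add_comm]
          congr 1
          simp only [pe, dif_neg (show ¬ j.1 + 1 < n by omega)]
          rw [hmon1, map_one, one_mul]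
        have hrest : ∀ l ∈ (univ.filter fun l : Fin n => l.1 % 2 = 0).erase j,
            aeval Y0 (monomial (pe l) (1 : k)) ∈ R := by
          intro l hl
          have h2 := (mem_filter.1 (mem_of_mem_erase hl)).2
          have hne : l.1 ≠ j.1 := fun h => ne_of_mem_erase hl (Fin.ext h)
          have hlt : l.1 + 1 < n := by have := l.2; omega
          simp only [pe, dif_pos hlt]
          rw [hmon2, map_one, one_mul, pow_one, pow_one]
          exact mul_mem (hlow l fun _ => hlt) (hlow _ fun h => by dsimp only at h; omega)
        have hmem : Y0 j.succ ^ 2 ∈ R := by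
          rw [hsum]
          exact sub_mem hG (Subalgebra.sum_mem _ hrest)
        exact isAlgebraic_algebraMap (⟨_, hmem⟩ : R)
  · let G0 : MvPolynomial (Fin (n + 1)) k := ∑ j : Fin n, monomial (Finsupp.single j.succ d) ((d : k)⁻¹)
    refine exists_indep_of_form hd G0 (IsHomogeneous.sum _ _ _ fun j _ => isHomogeneous_monomial _
        (Finsupp.degree_single _ _))
      (fun o _ => by
        rw [coeff_sum]
        refine sum_eq_zero fun j _ => ?_
        rw [coeff_monomial, if_neg]
        intro h
        have h0 := DFunLike.congr_fun h 0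
        have := hexpo o
        simp [Finsupp.single_eq_of_ne (Fin.succ_ne_zero j).symm] at h0
        omega)
      (fun j => some j.succ) hsome (fun j h => Fin.succ_ne_zero j (Option.some.inj h)) fun v => ?_
    obtain ⟨j, hj⟩ := Fin.exists_succ_eq.2 v.2
    have hv : (X v : MvPolynomial (Vars (0 : Fin (n + 1))) k) = Y0 j.succ := by
      rw [hY0]; congr 1; exact Subtype.ext hj.symm
    rw [hv]
    refine IsAlgebraic.of_pow (n := d - 1) (by omega) ?_
    have hq : cond 0 Y0 (some j.succ) (MvPolynomial.map C G0) = Y0 j.succ ^ (d - 1) := by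
      rw [hcond, map_sum, map_sum, sum_eq_single j]
      · rw [pderiv_monomial, Finsupp.single_eq_same, inv_mul_cancel₀ hdk, ← Finsupp.single_tsub,
          hmon1, map_one, one_mul]
      · intro l _ hl
        rw [pderiv_monomial]
        have : j.succ ≠ l.succ := fun h => hl (Fin.succ_injective n h).symm
        simp [Finsupp.single_eq_of_ne this]
      · simp
    have hmem : Y0 j.succ ^ (d - 1) ∈ Algebra.adjoin k (Set.range fun j : Fin n =>
        cond 0 Y0 (some j.succ) (MvPolynomial.map C G0)) := by
      rw [← hq]
      exact Algebra.subset_adjoin ⟨j, rfl⟩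
    exact isAlgebraic_algebraMap (⟨_, hmem⟩ :
      Algebra.adjoin k (Set.range fun j : Fin n => cond 0 Y0 (some j.succ) (MvPolynomial.map C G0)))

theorem card_free (hd : 2 ≤ d) :
    Fintype.card (Exps n d) = Nat.card (Free d (0 : Fin (n + 1))) + (n + 1) := by
  classical
  let g : Fin (n + 1) → Exps n d := fun i =>
    ⟨expo d 0 (if i = 0 then none else some i), mem_exps.2 (GeneralMember.degree_expo hd 0 _)⟩
  have ho : ∀ i : Fin (n + 1), (if i = 0 then none else some i) ≠ some (0 : Fin (n + 1)) := fun i => by
    split_ifs with h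
    · simp
    · simpa using h
  have hg : Function.Injective g := fun i j h => by
    have := GeneralMember.expo_injOn hd 0 (ho i) (ho j) (congrArg Subtype.val h)
    split_ifs at this with h1 h2
    · rw [h1, h2]
    · simpa using this
  have hrange : univ.filter (fun e : Exps n d => IsCond d 0 e.1) = univ.image g := by
    ext e
    simp only [mem_filter, mem_univ, true_and, mem_image]
    refine ⟨fun ⟨o, ho', he⟩ => ?_, fun ⟨i, hi⟩ => ⟨_, ho i, congrArg Subtype.val hi⟩⟩
    cases o with
    | none => exact ⟨0, Subtype.ext (by simpa [g] using he)⟩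
    | some l =>
      have hl : l ≠ 0 := fun h => ho' (by rw [h])
      exact ⟨l, Subtype.ext (by simpa [g, hl] using he)⟩
  have h1 := card_filter_add_card_filter_not (s := (univ : Finset (Exps n d))) fun e => IsCond d 0 e.1
  rw [hrange, card_image_of_injective _ hg, Finset.card_univ (α := Fin (n + 1)), Finset.card_univ (α := Exps n d), Fintype.card_fin] at h1
  rw [Nat.card_eq_fintype_card, Fintype.card_subtype (fun e : Exps n d => ¬ IsCond d 0 e.1)]
  omega

theorem eval_aeval_θ (a : Fin (n + 1)) (pt : Vars a ⊕ Free d a → k) (f : MvPolynomial (Exps n d) k) :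
    eval pt (aeval (θ k d a) f) = eval (fun e => eval pt (θ k d a e)) f := by
  rw [← aeval_eq_eval, comp_aeval_apply, aeval_eq_eval]

/-- The discriminant: singular forms are the zero set of one irreducible polynomial. -/
theorem exists_discriminant [IsAlgClosed k] (hd : 2 ≤ d) :
    ∃ Δ : MvPolynomial (Exps n d) k, Irreducible Δ ∧ ∀ c : Exps n d → k,
      (∃ v : Fin (n + 1) → k, v ≠ 0 ∧ eval v (form c) = 0 ∧ ∀ i, eval v (pderiv i (form c)) = 0) ↔
        eval c Δ = 0 := by
  classical
  -- the prime of the parametrisation
  let Q : Fin (n + 1) → Ideal (MvPolynomial (Exps n d) k) := fun a => RingHom.ker (aeval (θ k d a))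
  have hQp : (Q 0).IsPrime := RingHom.ker_isPrime _
  have hscale : ∀ (c : Exps n d → k) (v : Fin (n + 1) → k) (a : Fin (n + 1)), v a ≠ 0 →
      eval v (form c) = 0 → (∀ i, eval v (pderiv i (form c)) = 0) →
        ∃ pt, (fun e => eval pt (θ k d a e)) = c := by
    intro c v a ha h0 h1
    refine exists_pt hd a c ((v a)⁻¹ • v) (by simp [inv_mul_cancel₀ ha]) ?_ fun i => ?_
    · rw [GeneralMember.eval_smul_of_isHomogeneous (isHomogeneous_form c), h0, mul_zero]
    · rw [GeneralMember.eval_smul_of_isHomogeneous (isHomogeneous_form c).pderiv, h1 i, mul_zero]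
  have hQle : ∀ a, Q 0 ≤ Q a := by
    intro a f hf
    by_cases ha : a = 0
    · subst ha; exact hf
    rw [RingHom.mem_ker] at hf ⊢
    have hmul : aeval (θ k d a) f * pointY k d a 0 = 0 := MvPolynomial.funext fun pt => by
      rw [map_mul, map_zero]
      by_cases h0 : eval pt (pointY k d a 0) = 0
      · rw [h0, mul_zero]
      · obtain ⟨pt', hpt'⟩ := hscale (fun e => eval pt (θ k d a e)) (eval pt ∘ pointY k d a) 0 h0
          (singular_of_pt hd a pt).1 (singular_of_pt hd a pt).2
        rw [eval_aeval_θ, ← hpt', ← eval_aeval_θ, hf, map_zero, zero_mul]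
    refine (mul_eq_zero.1 hmul).resolve_right ?_
    rw [pointY, dif_neg (Ne.symm ha)]
    exact X_ne_zero _
  -- a prime element in it
  have hQbot : Q 0 ≠ ⊥ := by
    intro hbot
    have hlt : Fintype.card (Vars (0 : Fin (n + 1)) ⊕ Free d (0 : Fin (n + 1))) <
        Fintype.card (Exps n d) := by
      rw [card_free hd, Fintype.card_sum, ← Nat.card_eq_fintype_card (α := Free d (0 : Fin (n + 1)))]
      simp [Fintype.card_subtype_compl]
      omega
    obtain ⟨P, hP, hP0⟩ := Groth.Agent.S11852.exists_vanishing_of_card_lt (θ k d (0 : Fin (n + 1))) hlt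
    have : P ∈ Q 0 := hP0
    rw [hbot] at this
    exact hP this
  obtain ⟨Δ, hΔQ, hΔ⟩ := hQp.exists_mem_prime_of_ne_bot hQbot
  -- it generates
  have hgen : Q 0 = Ideal.span {Δ} := by
    refine le_antisymm ?_ ((Ideal.span_singleton_le_iff_mem _).2 hΔQ)
    intro r hr
    by_contra hnot
    obtain ⟨f, hf, hfind⟩ := exists_indep (k := k) (n := n) hd
    have hp : (Ideal.span {Δ}).IsPrime := (Ideal.span_singleton_prime hΔ.ne_zero).2 hΔ
    have hle : Ideal.span {Δ} ≤ Q 0 := (Ideal.span_singleton_le_iff_mem _).2 hΔQ
    have h1 : ringKrullDim (MvPolynomial (Exps n d) k ⧸ Q 0) + 1 ≤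
        ringKrullDim (MvPolynomial (Exps n d) k ⧸ Ideal.span {Δ}) :=
      ringKrullDim_succ_le_of_surjective (Ideal.Quotient.factor hle)
        (Ideal.Quotient.factor_surjective hle) (r := Ideal.Quotient.mk _ r)
        (mem_nonZeroDivisors_of_ne_zero fun h => hnot (Ideal.Quotient.eq_zero_iff_mem.1 h))
        (by rw [Ideal.Quotient.factor_mk]; exact Ideal.Quotient.eq_zero_iff_mem.2 hr)
    have h2 : ringKrullDim (MvPolynomial (Exps n d) k ⧸ Ideal.span {Δ}) + 1 ≤
        ringKrullDim (MvPolynomial (Exps n d) k) :=
      ringKrullDim_succ_le_of_surjective (Ideal.Quotient.mk _) Ideal.Quotient.mk_surjective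
        (mem_nonZeroDivisors_of_ne_zero hΔ.ne_zero)
        (Ideal.Quotient.eq_zero_iff_mem.2 (Ideal.mem_span_singleton_self Δ))
    have : ((Q 0)).IsPrime := hQp
    obtain ⟨m, hm, hdim, -⟩ := Variety2.Dim.exists_dim (k := k) (A := MvPolynomial (Exps n d) k ⧸ Q 0)
    have hmk : AlgebraicIndependent k fun x => (Ideal.Quotient.mk (Q 0) (X (f x)) :
        MvPolynomial (Exps n d) k ⧸ Q 0) := by
      rw [algebraicIndependent_iff]
      intro P hP
      refine hfind.eq_zero_of_aeval_eq_zero P ?_
      have h3 : rename f P ∈ Q 0 := by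
        rw [← Ideal.Quotient.eq_zero_iff_mem, ← hP]
        exact AlgHom.congr_fun (algHom_ext (f := (Ideal.Quotient.mkₐ k (Q 0)).comp (rename f))
          (g := aeval fun x => Ideal.Quotient.mk (Q 0) (X (f x))) fun x => by simp) P
      rw [RingHom.mem_ker, aeval_rename] at h3
      exact h3
    have hle' := (hmk.map' (f := IsScalarTower.toAlgHom k (MvPolynomial (Exps n d) k ⧸ Q 0)
      (FractionRing (MvPolynomial (Exps n d) k ⧸ Q 0))) (IsFractionRing.injective _ _)).lift_cardinalMk_le_trdeg
    rw [hm] at hle'
    simp only [Cardinal.mk_fintype, Cardinal.lift_natCast, Nat.cast_le, Fintype.card_sum,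
      Fintype.card_fin] at hle'
    have hcard := card_free (n := n) hd
    rw [Nat.card_eq_fintype_card] at hcard
    have hR : ringKrullDim (MvPolynomial (Exps n d) k) = (Fintype.card (Exps n d) : ℕ) := by
      rw [MvPolynomial.ringKrullDim_of_isNoetherianRing, ringKrullDim_eq_zero_of_field]; simp
    rw [hR] at h2
    rw [hdim] at h1
    have h3 : ((m : ℕ) : WithBot ℕ∞) + 1 + 1 ≤ (Fintype.card (Exps n d) : ℕ) :=
      (add_le_add_left h1 1).trans h2
    norm_cast at h3
    omega
  refine ⟨Δ, hΔ.irreducible, fun c => ⟨fun ⟨v, hv, h0, h1⟩ => ?_, fun hc => ?_⟩⟩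
  · obtain ⟨a, ha⟩ := Function.ne_iff.1 hv
    obtain ⟨pt, hpt⟩ := hscale c v a ha h0 h1
    rw [← hpt, ← eval_aeval_θ, show aeval (θ k d a) Δ = 0 from hQle a hΔQ, map_zero]
  · by_contra hns
    let F : Option (Fin (n + 1)) → (Exps n d → k) → MvPolynomial (Fin (n + 1)) k := fun o c =>
      o.elim (form c) fun i => pderiv i (form c)
    let L : (Exps n d → k) →ₗ[k] MvPolynomial (Fin (n + 1)) k :=
      ∑ e : Exps n d, (monomial e.1).comp (LinearMap.proj e)
    have hL : ∀ c, L c = form c := fun c => by simp [L, form]
    have hopen := Groth.VectorBundles.Elim.isZOpen_forall_exists_eval_ne_zero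
      (fun o : Option (Fin (n + 1)) => o.elim d fun _ => d - 1) F (by
        rintro (_ | i) c
        · exact isHomogeneous_form c
        · exact (isHomogeneous_form c).pderiv) (by
        rintro (_ | i) b
        · refine Algebra.subset_adjoin ⟨(lcoeff k b).comp L, funext fun c => ?_⟩
          simp [F, hL]
        · refine Algebra.subset_adjoin ⟨(lcoeff k b).comp ((pderiv i).toLinearMap.comp L), funext fun c => ?_⟩
          simp [F, hL])
    have hmem : c ∈ {c : Exps n d → k | ∀ v : Fin (n + 1) → k, v ≠ 0 → ∃ o, eval v (F o c) ≠ 0} := by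
      intro v hv
      by_contra hall
      push Not at hall
      exact hns ⟨v, hv, hall none, fun i => hall (some i)⟩
    obtain ⟨h, hh, hhc, hsub⟩ := hopen c hmem
    obtain ⟨P, hP⟩ : ∃ P, aeval (R := k) (fun (e : Exps n d) (c : Exps n d → k) => c e) P = h := by
      have hle : Algebra.adjoin k (Set.range (fun l : Module.Dual k (Exps n d → k) =>
          (l : (Exps n d → k) → k))) ≤
          (aeval (R := k) (fun (e : Exps n d) (c : Exps n d → k) => c e)).range := by
        refine Algebra.adjoin_le ?_
        rintro _ ⟨l, rfl⟩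
        refine ⟨∑ e, C (l (Pi.single e 1)) * X e, funext fun c => ?_⟩
        change _ = l c
        conv_rhs => rw [pi_eq_sum_univ' c]
        simp [mul_comm]
      exact hle hh
    have hPev : ∀ c, h c = eval c P := fun c => by
      rw [← hP]
      change (Pi.evalAlgHom k (fun _ : Exps n d → k => k) c) (aeval _ P) = _
      rw [comp_aeval_apply, aeval_eq_eval]
      rfl
    have hPQ : P ∈ Q 0 := by
      rw [RingHom.mem_ker]
      refine MvPolynomial.funext fun pt => ?_
      rw [map_zero, eval_aeval_θ, ← hPev]
      by_contra hne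
      obtain ⟨o, ho⟩ := hsub _ hne (eval pt ∘ pointY k d 0) (fun h0 => by
        have := congrFun h0 0
        simp [pointY_self] at this)
      cases o with
      | none => exact ho (singular_of_pt hd 0 pt).1
      | some i => exact ho ((singular_of_pt hd 0 pt).2 i)
    rw [hgen, Ideal.mem_span_singleton] at hPQ
    obtain ⟨q, rfl⟩ := hPQ
    exact hhc (by rw [hPev, map_mul, hc, zero_mul])

end Groth.Misc6.Discriminant
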