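import Groth.Agent.Hensel1.SmoothLift

/-!
# Points of smooth algebras factor through étale algebras with trivial reduction
-/

set_option autoImplicit false

namespace Groth.Misc6

universe u

/-- An `A/I`-point of an étale `A`-algebra becomes, after one localisation, its whole reduction
modulo `I`. -/
theorem exists_away_reduction {A E : Type u} [CommRing A] [CommRing E] [Algebra A E]
    [Algebra.Etale A E] (I : Ideal A) (ρ : E →ₐ[A] A ⧸ I) :
    ∃ (h : E) (ρ' : Localization.Away h →ₐ[A] A ⧸ I), Function.Surjective ρ' ∧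
      RingHom.ker ρ' = I.map (algebraMap A (Localization.Away h)) ∧
      ∀ x, ρ' (algebraMap E (Localization.Away h) x) = ρ x := by
  classical
  set J := I.map (algebraMap A E) with hJ
  obtain ⟨t, ht⟩ := Algebra.FiniteType.out (R := A) (A := E)
  choose a ha using fun x : E => Ideal.Quotient.mk_surjective (I := I) (ρ x)
  set F : Ideal E := Ideal.span ((fun x => x - algebraMap A E (a x)) '' (t : Set E)) with hF
  have hρa : ∀ x, x ∈ I → ρ (algebraMap A E x) = 0 := fun x hx => by
    rw [AlgHom.commutes]; exact Ideal.Quotient.eq_zero_iff_mem.mpr hx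
  have hJK : J ≤ RingHom.ker ρ := Ideal.map_le_iff_le_comap.mpr fun x hx => hρa x hx
  have hFK : RingHom.ker ρ = F ⊔ J := by
    refine le_antisymm (fun z hz => ?_) (sup_le (Ideal.span_le.mpr ?_) hJK)
    · have key : ∀ y : E, ∃ c : A, y - algebraMap A E c ∈ F := by
        intro y
        have hy : y ∈ Algebra.adjoin A (t : Set E) := ht ▸ Algebra.mem_top
        induction hy using Algebra.adjoin_induction with
        | mem y hy => exact ⟨a y, Ideal.subset_span ⟨y, hy, rfl⟩⟩
        | algebraMap c => exact ⟨c, by simp⟩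
        | add y z _ _ hy hz =>
          obtain ⟨c, hc⟩ := hy; obtain ⟨d, hd⟩ := hz
          exact ⟨c + d, by simpa [map_add, add_sub_add_comm] using add_mem hc hd⟩
        | mul y z _ _ hy hz =>
          obtain ⟨c, hc⟩ := hy; obtain ⟨d, hd⟩ := hz
          refine ⟨c * d, ?_⟩
          have e : y * z - algebraMap A E (c * d) =
              y * (z - algebraMap A E d) + algebraMap A E d * (y - algebraMap A E c) := by
            rw [map_mul]; ring
          rw [e]
          exact add_mem (Ideal.mul_mem_left _ _ hd) (Ideal.mul_mem_left _ _ hc)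
      obtain ⟨c, hc⟩ := key z
      have hle : F ≤ RingHom.ker ρ := Ideal.span_le.mpr (by rintro _ ⟨x, -, rfl⟩; simp [ha])
      have hcI : c ∈ I := by
        have := RingHom.mem_ker.mp (hle hc)
        rw [map_sub, RingHom.mem_ker.mp hz, zero_sub, neg_eq_zero, AlgHom.commutes] at this
        exact Ideal.Quotient.eq_zero_iff_mem.mp this
      rw [← sub_add_cancel z (algebraMap A E c)]
      exact Submodule.add_mem_sup hc (Ideal.mem_map_of_mem _ hcI)
    · rintro _ ⟨x, -, rfl⟩; simp [ha]
  have hmap : (RingHom.ker ρ).map (Ideal.Quotient.mk J) = F.map (Ideal.Quotient.mk J) := by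
    rw [hFK, Ideal.map_sup, Ideal.map_quotient_self, sup_bot_eq]
  have : IsLocalization.Away (1 : E) E := IsLocalization.away_of_isUnit_of_bijective E isUnit_one
    Function.bijective_id
  have hid : IsIdempotentElem ((RingHom.ker ρ).map (Ideal.Quotient.mk J)) := by
    refine le_antisymm Ideal.mul_le_left ?_
    have := Ideal.map_mono (f := Ideal.Quotient.mk J)
      (Groth.Hensel1.ker_le_sq_sup ρ 1 E (by simp))
    rwa [Ideal.map_sup, Ideal.map_quotient_self, sup_bot_eq, pow_two, Ideal.map_mul] at this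
  obtain ⟨ε', hε', hspan⟩ := (Ideal.isIdempotentElem_iff_of_fg _
    (hmap ▸ Ideal.FG.map (show F.FG from Submodule.fg_span (t.finite_toSet.image _)) _)).mp hid
  obtain ⟨ε, rfl⟩ := Ideal.Quotient.mk_surjective ε'
  have hεK : ρ ε = 0 := by
    have : Ideal.Quotient.mk J ε ∈ (RingHom.ker ρ).map (Ideal.Quotient.mk J) :=
      hspan ▸ Submodule.subset_span rfl
    rwa [Ideal.mem_quotient_iff_mem hJK, RingHom.mem_ker] at this
  have hh : ρ (1 - ε) = 1 := by rw [map_sub, hεK, map_one, sub_zero]
  let ρ' : Localization.Away (1 - ε) →ₐ[A] A ⧸ I :=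
    IsLocalization.Away.liftAlgHom (f := ρ) (1 - ε) (hh ▸ isUnit_one)
  have hρ' : ∀ x, ρ' (algebraMap E _ x) = ρ x := fun x =>
    IsLocalization.Away.lift_eq (1 - ε) (hh ▸ isUnit_one) x
  refine ⟨1 - ε, ρ', fun y => ?_, le_antisymm (fun z hz => ?_) ?_, hρ'⟩
  · obtain ⟨b, rfl⟩ := Ideal.Quotient.mk_surjective y
    exact ⟨algebraMap A _ b, ρ'.commutes b⟩
  · obtain ⟨n, x, hx⟩ := IsLocalization.Away.surj (1 - ε) z
    have hu := IsLocalization.Away.algebraMap_isUnit (S := Localization.Away (1 - ε)) (1 - ε)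
    have hρx : ρ x = 0 := by
      rw [← hρ', ← hx, map_mul, RingHom.mem_ker.mp hz, zero_mul]
    have hxJ : (1 - ε) * x ∈ J := by
      have : Ideal.Quotient.mk J x ∈ (RingHom.ker ρ).map (Ideal.Quotient.mk J) :=
        Ideal.mem_map_of_mem _ hρx
      rw [hspan, Ideal.submodule_span_eq, Ideal.mem_span_singleton'] at this
      obtain ⟨c, hc⟩ := this
      rw [← Ideal.Quotient.eq_zero_iff_mem, map_mul, ← hc, map_sub, map_one]
      have h2 : Ideal.Quotient.mk J ε * Ideal.Quotient.mk J ε = Ideal.Quotient.mk J ε := hε'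
      linear_combination -c * h2
    refine (Ideal.mul_unit_mem_iff_mem _ (hu.pow (n + 1))).mp ?_
    rw [pow_succ, ← mul_assoc, hx, ← map_mul, mul_comm x, IsScalarTower.algebraMap_eq A E,
      ← Ideal.map_map]
    exact Ideal.mem_map_of_mem _ hxJ
  · refine Ideal.map_le_iff_le_comap.mpr fun x hx => ?_
    rw [Ideal.mem_comap, RingHom.mem_ker, AlgHom.commutes]
    exact Ideal.Quotient.eq_zero_iff_mem.mpr hx

/-- An `A/I`-point of a smooth algebra lifts to an étale algebra whose reduction is `A/I`. -/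
theorem exists_etale_factor_iso {A T : Type u} [CommRing A] [CommRing T] [Algebra A T]
    [Algebra.Smooth A T] {D : Type u} [CommRing D] [Algebra A D]
    (hD : Function.Surjective (algebraMap A D)) (σ : T →ₐ[A] D) :
    ∃ (E : Type u) (_ : CommRing E) (_ : Algebra A E) (τ : T →ₐ[A] E) (ρ : E →ₐ[A] D),
      Algebra.Etale A E ∧ Function.Surjective ρ ∧
      RingHom.ker ρ = (RingHom.ker (algebraMap A D)).map (algebraMap A E) ∧ ρ.comp τ = σ := by
  set I := RingHom.ker (Algebra.ofId A D) with hI
  let e : (A ⧸ I) ≃ₐ[A] D := Ideal.quotientKerAlgEquivOfSurjective (f := Algebra.ofId A D) hD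
  obtain ⟨E₀, _, _, τ, ρ₀, _, hτ⟩ := Groth.Hensel1.exists_etale_factor I (e.symm.toAlgHom.comp σ)
  obtain ⟨h, ρ', hs, hk, hρ'⟩ := exists_away_reduction I ρ₀
  have : Algebra.Etale E₀ (Localization.Away h) :=
    Algebra.Etale.of_isLocalizationAway h
  refine ⟨Localization.Away h, inferInstance, inferInstance,
    (IsScalarTower.toAlgHom A E₀ _).comp τ, e.toAlgHom.comp ρ',
    Algebra.Etale.comp A E₀ _, e.surjective.comp hs, ?_, ?_⟩
  · ext z
    rw [RingHom.mem_ker, AlgHom.comp_apply, AlgEquiv.coe_toAlgHom,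
      map_eq_zero_iff e e.injective, ← RingHom.mem_ker, hk]
    rfl
  · ext t
    show e (ρ' (algebraMap E₀ _ (τ t))) = σ t
    rw [hρ', ← AlgHom.comp_apply, hτ]
    simp

end Groth.Misc6
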