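import Mathlib
import Groth.Agent.SchDom.BaseChange
import Groth.Agent.SmoothSlice.Sections
import Groth.Agent.GeomComp.EtaleSpread
import Groth.Agent.VarietyBC.SepPoints
import Groth.Agent.AlgGrp1.SmoothReduced

/-!
# Etale quasi-sections of a smooth algebra detect elements

An element of a smooth algebra killed by every quotient of a principal localisation that is etale over
the base is zero: in the noetherian case through the fibrewise criterion and dense separable points of
the fibres, in general by descent to a finitely generated base ring.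
-/

set_option autoImplicit false

universe u

open CategoryTheory CategoryTheory.Limits AlgebraicGeometry TopologicalSpace TensorProduct

noncomputable section

namespace Groth.Misc6.EtaleFamily

section Cut

variable {R B C : Type u} [CommRing R] [CommRing B] [Algebra R B] [CommRing C] [Algebra R C]

/-- `C` is a quotient of a principal localisation of `B` -/
def Cut (φ : B →ₐ[R] C) : Prop :=
  ∃ b : B, IsUnit (φ b) ∧ ∀ c : C, ∃ (x : B) (n : ℕ), c * φ b ^ n = φ x

variable (A : Type u) [CommRing A] [Algebra R A]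

theorem Cut.baseChange {φ : B →ₐ[R] C} (h : Cut φ) :
    Cut (Algebra.TensorProduct.map (AlgHom.id A A) φ) := by
  obtain ⟨b, hu, hs⟩ := h
  let Φ := Algebra.TensorProduct.map (AlgHom.id A A) φ
  let iC : C →ₐ[R] A ⊗[R] C := Algebra.TensorProduct.includeRight
  have hb : Φ ((1 : A) ⊗ₜ b) = iC (φ b) := by simp [Φ, iC]
  refine ⟨(1 : A) ⊗ₜ b, hb ▸ hu.map iC, fun w => ?_⟩
  change ∃ x n, w * Φ _ ^ n = Φ x
  induction w using TensorProduct.induction_on with
  | zero => exact ⟨0, 0, by simp⟩
  | tmul a c =>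
    obtain ⟨x, n, hx⟩ := hs c
    refine ⟨a ⊗ₜ x, n, ?_⟩
    rw [hb, ← map_pow]
    simp [Φ, iC, hx]
  | add w₁ w₂ h₁ h₂ =>
    obtain ⟨x₁, n₁, e₁⟩ := h₁
    obtain ⟨x₂, n₂, e₂⟩ := h₂
    refine ⟨x₁ * ((1 : A) ⊗ₜ b) ^ n₂ + x₂ * ((1 : A) ⊗ₜ b) ^ n₁, n₁ + n₂, ?_⟩
    rw [map_add, map_mul, map_mul, map_pow, map_pow, ← e₁, ← e₂]
    ring

theorem Cut.isImmersion {φ : B →ₐ[R] C} (h : Cut φ) :
    IsImmersion (Spec.map (CommRingCat.ofHom φ.toRingHom)) := by
  obtain ⟨b, hu, hs⟩ := h
  let ψ : Localization.Away b →+* C := IsLocalization.Away.lift (g := φ.toRingHom) b hu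
  have hψ : ∀ x, ψ (algebraMap B _ x) = φ x := fun x => IsLocalization.Away.lift_eq b hu x
  have hsurj : Function.Surjective ψ := fun c => by
    obtain ⟨x, n, hx⟩ := hs c
    obtain ⟨v, hv⟩ := ((IsLocalization.Away.algebraMap_isUnit (S := Localization.Away b) b).pow n).exists_left_inv
    refine ⟨algebraMap B _ x * v, ?_⟩
    have h1 := congrArg ψ hv
    rw [map_mul, map_pow, hψ, map_one] at h1
    rw [map_mul, hψ, ← hx, mul_assoc, mul_comm (φ b ^ n) (ψ v), h1, mul_one]
  haveI : IsClosedImmersion (Spec.map (CommRingCat.ofHom ψ)) :=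
    IsClosedImmersion.spec_of_surjective _ hsurj
  haveI : IsOpenImmersion (Spec.map (CommRingCat.ofHom (algebraMap B (Localization.Away b)))) :=
    IsOpenImmersion.of_isLocalization b
  rw [show CommRingCat.ofHom φ.toRingHom = CommRingCat.ofHom (algebraMap B (Localization.Away b)) ≫
    CommRingCat.ofHom ψ from CommRingCat.hom_ext (RingHom.ext fun x => (hψ x).symm), Spec.map_comp]
  infer_instance

end Cut

/-- every point of an immersed scheme has an affine neighbourhood cut out of a principal open -/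
theorem exists_chart_of_immersion {R B : Type u} [CommRing R] [CommRing B] [Algebra R B] {Z : Scheme.{u}}
    (j : Z ⟶ Spec (CommRingCat.of B)) [IsImmersion j]
    (hj : Etale (j ≫ Spec.map (CommRingCat.ofHom (algebraMap R B)))) (z : Z) :
    ∃ (C : Type u) (_ : CommRing C) (_ : Algebra R C) (φ : B →ₐ[R] C) (P : PrimeSpectrum C),
      Algebra.Etale R C ∧ Cut φ ∧ PrimeSpectrum.comap φ.toRingHom P = j z := by
  obtain ⟨_, ⟨b, rfl⟩, hzb, hbU⟩ := PrimeSpectrum.isTopologicalBasis_basic_opens.exists_subset_of_mem_open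
    (show (j z : PrimeSpectrum B) ∈ coborder (Set.range j) from subset_coborder ⟨z, rfl⟩)
    (j.isLocallyClosed_range.isOpen_coborder : IsOpen (coborder (Set.range j)))
  let loc : CommRingCat.of B ⟶ CommRingCat.of (Localization.Away b) :=
    CommRingCat.ofHom (algebraMap B (Localization.Away b))
  haveI : IsOpenImmersion (Spec.map loc) := IsOpenImmersion.of_isLocalization b
  have hrange : Set.range (Spec.map loc) = (PrimeSpectrum.basicOpen b : Set (PrimeSpectrum B)) :=
    PrimeSpectrum.localization_away_comap_range (Localization.Away b) b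
  let W := pullback j (Spec.map loc)
  haveI : IsClosedImmersion (pullback.snd j (Spec.map loc)) := by
    refine IsClosedImmersion.of_isPreimmersion _ ?_
    rw [Scheme.Pullback.range_snd]
    have : Spec.map loc ⁻¹' Set.range j = Spec.map loc ⁻¹' closure (Set.range j) := by
      refine Set.Subset.antisymm (Set.preimage_mono subset_closure) fun q hq => ?_
      have hq2 : Spec.map loc q ∈ coborder (Set.range j) := hbU (hrange.subset ⟨q, rfl⟩)
      exact (closure_inter_coborder (s := Set.range j)).subset ⟨hq, hq2⟩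
    rw [this]
    exact isClosed_closure.preimage (Spec.map loc).continuous
  haveI : IsAffine W := isAffine_of_isAffineHom (pullback.snd j (Spec.map loc))
  let C : CommRingCat.{u} := Γ(W, ⊤)
  let g : CommRingCat.of (Localization.Away b) ⟶ C := Spec.preimage (W.isoSpec.inv ≫ pullback.snd j (Spec.map loc))
  have hg : Spec.map g = W.isoSpec.inv ≫ pullback.snd j (Spec.map loc) := Spec.map_preimage _
  have hcj : Spec.map (loc ≫ g) = W.isoSpec.inv ≫ pullback.fst j (Spec.map loc) ≫ j := by
    rw [Spec.map_comp, hg, Category.assoc, ← pullback.condition]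
  letI : Algebra R C := ((loc ≫ g).hom.comp (algebraMap R B)).toAlgebra
  let φ : B →ₐ[R] C := { (loc ≫ g).hom with commutes' := fun r => rfl }
  obtain ⟨w, hw⟩ : ∃ w, pullback.fst j (Spec.map loc) w = z := by
    have : z ∈ Set.range (pullback.fst j (Spec.map loc)) := by
      rw [Scheme.Pullback.range_fst]
      show j z ∈ Set.range (Spec.map loc)
      rw [hrange]
      exact hzb
    exact this
  refine ⟨C, inferInstance, inferInstance, φ, W.isoSpec.hom w, ?_, ?_, ?_⟩
  · have : Etale (Spec.map (CommRingCat.ofHom (algebraMap R C))) := by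
      rw [show CommRingCat.ofHom (algebraMap R C) = CommRingCat.ofHom (algebraMap R B) ≫ (loc ≫ g) from rfl,
        Spec.map_comp, hcj, Category.assoc, Category.assoc]
      haveI := hj
      infer_instance
    exact RingHom.etale_algebraMap.1 ((HasRingHomProperty.Spec_iff (P := @Etale)).1 this)
  · have hgs : Function.Surjective g.hom := by
      haveI : IsClosedImmersion (Spec.map g) := by rw [hg]; infer_instance
      have h2 := (IsClosedImmersion.isAffine_surjective_of_isAffine (Spec.map g)).2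
      intro c
      obtain ⟨v, hv⟩ := h2 ((Scheme.ΓSpecIso C).inv c)
      refine ⟨(Scheme.ΓSpecIso (CommRingCat.of (Localization.Away b))).hom v, ?_⟩
      have := congr(($(Scheme.ΓSpecIso_naturality g)) v)
      simp only [CommRingCat.hom_comp, RingHom.comp_apply, hv] at this
      rw [← this]
      simp
    refine ⟨b, (IsLocalization.Away.algebraMap_isUnit (S := Localization.Away b) b).map g.hom, fun c => ?_⟩
    obtain ⟨v, rfl⟩ := hgs c
    obtain ⟨n, x, hx⟩ := IsLocalization.Away.surj b v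
    refine ⟨x, n, ?_⟩
    have := congrArg g.hom hx
    rw [map_mul, map_pow] at this
    exact this
  · show (Spec.map (loc ≫ g)) (W.isoSpec.hom w) = j z
    rw [hcj, ← hw]
    show (W.isoSpec.hom ≫ W.isoSpec.inv ≫ pullback.fst j (Spec.map loc) ≫ j) w = _
    rw [Iso.hom_inv_id_assoc]
    rfl

/-- separable slices meet every nonempty open of a fibre of a smooth morphism -/
theorem exists_slice_meeting {Y S : Scheme.{u}} (h : Y ⟶ S) [Smooth h] (s : S) (T : (h.fiber s).Opens)
    (hT : (T : Set (h.fiber s)).Nonempty) :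
    ∃ (Z : Scheme.{u}) (i : Z ⟶ Y) (z : Z) (c : h.fiber s), IsImmersion i ∧ Etale (i ≫ h) ∧ c ∈ T ∧
      i z = h.fiberι s c := by
  let k := IsLocalRing.ResidueField (S.presheaf.stalk s)
  letI : (h.fiber s).Over (Spec (CommRingCat.of k)) := ⟨h.fiberToSpecResidueField s⟩
  haveI : Smooth (h.fiber s ↘ Spec (CommRingCat.of k)) := MorphismProperty.pullback_snd _ _ inferInstance
  obtain ⟨c, hcT, -, -, hsep⟩ := Groth.VarietyBC.exists_closed_separable (k := k) (X := h.fiber s) hT
  obtain ⟨Z, i, z, hi, het, hiz, -⟩ := Groth.SmoothSlice.exists_etale_slice_through h (h.fiberι s c)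
    (Groth.GeomComp.isSeparable_residueFieldMap_of_fibre h s c hsep _ rfl)
  exact ⟨Z, i, z, c, hi, het, hcT, hiz⟩

variable {R : Type u} [CommRing R] {B : Type u} [CommRing B] [Algebra R B]

/-- killed by all etale quasi-sections -/
def Killed (R : Type u) [CommRing R] {B : Type u} [CommRing B] [Algebra R B] (t : B) : Prop :=
  ∀ (C : Type u) [CommRing C] [Algebra R C] [Algebra.Etale R C] (φ : B →ₐ[R] C), Cut φ → φ t = 0

/-- an etale quasi-section -/
structure QSec (R B : Type u) [CommRing R] [CommRing B] [Algebra R B] : Type (u + 1) where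
  /-- the ring -/
  C : Type u
  [ring : CommRing C]
  [alg : Algebra R C]
  [etale : Algebra.Etale R C]
  /-- the map -/
  φ : B →ₐ[R] C
  cut : Cut φ

attribute [instance] QSec.ring QSec.alg QSec.etale

theorem exists_smul_eq_tmul_one {q : Ideal R} [q.IsPrime] (w : B ⊗[R] q.ResidueField) :
    ∃ r : R, r ∉ q ∧ ∃ b : B, r • w = b ⊗ₜ (1 : q.ResidueField) := by
  induction w using TensorProduct.induction_on with
  | zero => exact ⟨1, fun hh => Ideal.IsPrime.ne_top ‹_› ((Ideal.eq_top_iff_one _).2 hh), 0, by simp⟩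
  | tmul b c =>
    obtain ⟨x, y, hy, rfl⟩ := IsFractionRing.div_surjective (R ⧸ q) c
    obtain ⟨x, rfl⟩ := Ideal.Quotient.mk_surjective x
    obtain ⟨r, rfl⟩ := Ideal.Quotient.mk_surjective y
    have hr : r ∉ q := fun hh => nonZeroDivisors.ne_zero hy (Ideal.Quotient.eq_zero_iff_mem.2 hh)
    refine ⟨r, hr, x • b, ?_⟩
    have hr0 : algebraMap R q.ResidueField r ≠ 0 := fun hh => hr (Ideal.algebraMap_residueField_eq_zero.1 hh)
    rw [← tmul_smul, smul_tmul, Algebra.smul_def, Algebra.smul_def, mul_one]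
    congr 1
    show algebraMap R q.ResidueField r *
      (algebraMap R q.ResidueField x / algebraMap R q.ResidueField r) = _
    rw [mul_div_cancel₀ _ hr0]
  | add w₁ w₂ h₁ h₂ =>
    obtain ⟨r₁, hr₁, b₁, e₁⟩ := h₁
    obtain ⟨r₂, hr₂, b₂, e₂⟩ := h₂
    refine ⟨r₁ * r₂, fun hh => (Ideal.IsPrime.mem_or_mem ‹_› hh).elim hr₁ hr₂, r₂ • b₁ + r₁ • b₂, ?_⟩
    rw [smul_add, add_tmul, ← smul_tmul', ← smul_tmul', ← e₁, ← e₂, smul_smul, smul_smul, mul_comm r₂ r₁]

theorem isReduced_fibre [Algebra.Smooth R B] (q : Ideal R) [q.IsPrime] : _root_.IsReduced (B ⊗[R] q.ResidueField) := by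
  haveI : Smooth (Spec.map (CommRingCat.ofHom (algebraMap q.ResidueField (q.ResidueField ⊗[R] B)))) :=
    (HasRingHomProperty.Spec_iff (P := @Smooth)).2 (RingHom.smooth_algebraMap.2 inferInstance)
  haveI := Groth.AlgGrp1.isReduced_of_smooth
    (Spec.map (CommRingCat.ofHom (algebraMap q.ResidueField (q.ResidueField ⊗[R] B))))
  haveI : _root_.IsReduced (q.ResidueField ⊗[R] B) :=
    (affine_isReduced_iff (CommRingCat.of (q.ResidueField ⊗[R] B))).1 inferInstance
  exact isReduced_of_injective (Algebra.TensorProduct.comm R B q.ResidueField).toAlgHom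
    (Algebra.TensorProduct.comm R B q.ResidueField).injective

/-- noetherian case -/
theorem eq_zero_of_killed_noetherian [IsNoetherianRing R] [Algebra.Smooth R B] {t : B} (ht : Killed R t) :
    t = 0 := by
  haveI : IsNoetherianRing B := Algebra.FiniteType.isNoetherianRing R B
  have hdom := Groth.SchDom.Dom.of_fibres (R := R) (B := B) (C := fun j : QSec R B => j.C) (fun j => j.φ) ?_
  · obtain ⟨N, hN⟩ := hdom 1 t fun j => ⟨1, by simpa using ht j.C j.φ j.cut⟩
    simpa using hN
  intro q _ h y hy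
  haveI := isReduced_fibre (B := B) q
  by_cases h0 : h * y = 0
  · exact ⟨1, by rw [pow_one, h0]⟩
  exfalso
  obtain ⟨r, hr, a, ha⟩ := exists_smul_eq_tmul_one h
  obtain ⟨r', hr', b, hb⟩ := exists_smul_eq_tmul_one y
  obtain ⟨P, hP, hhy⟩ : ∃ P : Ideal (B ⊗[R] q.ResidueField), P.IsPrime ∧ h * y ∉ P := by
    by_contra hall
    push Not at hall
    exact h0 (IsNilpotent.eq_zero (mem_nilradical.1 (by
      rw [nilradical_eq_sInf]
      exact Submodule.mem_sInf.2 fun P hP => hall P hP)))
  have hscal : ∀ {r : R}, r ∉ q → IsUnit (algebraMap R (B ⊗[R] q.ResidueField) r) := fun {r} hr => by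
    rw [show algebraMap R (B ⊗[R] q.ResidueField) r =
      Algebra.TensorProduct.includeRight (algebraMap R q.ResidueField r) from (AlgHom.commutes _ r).symm]
    exact (isUnit_iff_ne_zero.2 fun hh => hr (Ideal.algebraMap_residueField_eq_zero.1 hh)).map _
  have hab : (a * b) ⊗ₜ (1 : q.ResidueField) ∉ P := by
    rw [show (a * b) ⊗ₜ[R] (1 : q.ResidueField) = (a ⊗ₜ 1) * (b ⊗ₜ 1) by simp, ← ha, ← hb,
      Algebra.smul_def, Algebra.smul_def, mul_mul_mul_comm]
    exact fun hm => hhy ((Ideal.unit_mul_mem_iff_mem _ ((hscal hr).mul (hscal hr'))).1 hm)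
  let f : Spec (CommRingCat.of B) ⟶ Spec (CommRingCat.of R) := Spec.map (CommRingCat.ofHom (algebraMap R B))
  haveI : Smooth f := (HasRingHomProperty.Spec_iff (P := @Smooth)).2 (RingHom.smooth_algebraMap.2 inferInstance)
  let s : Spec (CommRingCat.of R) := ⟨q, inferInstance⟩
  let x₀ : Spec (CommRingCat.of B) :=
    PrimeSpectrum.comap (Algebra.TensorProduct.includeLeft : B →ₐ[R] B ⊗[R] q.ResidueField).toRingHom ⟨P, hP⟩
  have hx₀ : f x₀ = s := PrimeSpectrum.ext (Ideal.ext fun c => by
    show algebraMap R B c ⊗ₜ[R] (1 : q.ResidueField) ∈ P ↔ c ∈ q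
    rw [Algebra.algebraMap_eq_smul_one, smul_tmul, ← Algebra.algebraMap_eq_smul_one]
    refine ⟨fun hm => ?_, fun hc => by rw [Ideal.algebraMap_residueField_eq_zero.2 hc, tmul_zero]; exact zero_mem _⟩
    by_contra hc
    refine hP.ne_top (Ideal.eq_top_of_isUnit_mem _ hm ?_)
    exact (isUnit_iff_ne_zero.2 fun hh => hc (Ideal.algebraMap_residueField_eq_zero.1 hh)).map
      (Algebra.TensorProduct.includeRight : q.ResidueField →ₐ[R] B ⊗[R] q.ResidueField))
  let D : (Spec (CommRingCat.of B)).Opens := PrimeSpectrum.basicOpen (a * b)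
  obtain ⟨c₀, hc₀⟩ : x₀ ∈ Set.range (f.fiberι s) := by rw [Scheme.Hom.range_fiberι]; exact hx₀
  obtain ⟨Z, i, z, c, hi, het, hcT, hiz⟩ := exists_slice_meeting f s (f.fiberι s ⁻¹ᵁ D)
    ⟨c₀, show f.fiberι s c₀ ∈ D from hc₀.symm ▸ hab⟩
  obtain ⟨C, _, _, φ, P', hC, hcut, hP'⟩ := exists_chart_of_immersion (R := R) i het z
  have hQq : PrimeSpectrum.comap (algebraMap R C) P' = s := by
    rw [← φ.comp_algebraMap, PrimeSpectrum.comap_comp_apply, show PrimeSpectrum.comap (φ : B →+* C) P' = i z from hP',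
      hiz]
    exact Groth.FibreDim.apply_fiberι f s c
  haveI : P'.asIdeal.LiesOver q := ⟨(congrArg PrimeSpectrum.asIdeal hQq).symm⟩
  let χ : C ⊗[R] q.ResidueField →ₐ[R] P'.asIdeal.ResidueField :=
    Algebra.TensorProduct.lift (IsScalarTower.toAlgHom R C P'.asIdeal.ResidueField)
      (Ideal.ResidueField.mapₐ q P'.asIdeal (Algebra.ofId R C) Ideal.LiesOver.over) fun _ _ => Commute.all _ _
  have hne : ∀ (w : B ⊗[R] q.ResidueField) (r : R) (b' : B), r • w = b' ⊗ₜ (1 : q.ResidueField) →
      φ b' ∉ P'.asIdeal → χ (Algebra.TensorProduct.map φ (AlgHom.id R q.ResidueField) w) ≠ 0 := by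
    intro w r b' hw hb' h0'
    refine hb' (Ideal.algebraMap_residueField_eq_zero.1 ?_)
    have h1 := congrArg (fun v => χ (Algebra.TensorProduct.map φ (AlgHom.id R q.ResidueField) v)) hw
    simp only [map_smul, h0', smul_zero] at h1
    simpa [χ] using h1.symm
  have habP : φ (a * b) ∉ P'.asIdeal := by
    intro hm
    have hiD : i z ∈ D := hiz ▸ hcT
    rw [← hP'] at hiD
    exact hiD hm
  rw [map_mul] at habP
  obtain ⟨n, hn⟩ := hy ⟨C, φ, hcut⟩
  have h1 := congrArg χ hn
  simp only [AlgHom.toRingHom_eq_coe, RingHom.coe_coe, map_mul, map_pow, map_zero] at h1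
  rcases mul_eq_zero.1 h1 with h2 | h2
  · exact hne h r a ha (fun hm => habP (Ideal.mul_mem_right _ _ hm)) (eq_zero_of_pow_eq_zero h2)
  · exact hne y r' b hb (fun hm => habP (Ideal.mul_mem_left _ _ hm)) h2

set_option synthInstance.maxHeartbeats 400000 in
set_option maxHeartbeats 4000000 in
/-- An element of a smooth algebra killed by all etale quasi-sections is zero. -/
theorem eq_zero_of_killed [Algebra.Smooth R B] {t : B} (ht : Killed R t) : t = 0 := by
  classical
  obtain ⟨A₀, B₀, _, _, hA₀, hB₀, ⟨e⟩⟩ := Algebra.Smooth.exists_subalgebra_fg ℤ R B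
  obtain ⟨S, hS⟩ := TensorProduct.exists_finset (e t)
  let A₁ : Subalgebra A₀ R := Algebra.adjoin A₀ (S.image Prod.fst : Set R)
  haveI : Algebra.FiniteType ℤ A₀ := (Subalgebra.fg_iff_finiteType A₀).mp hA₀
  haveI : IsNoetherianRing A₀ := Algebra.FiniteType.isNoetherianRing ℤ A₀
  haveI : Algebra.FiniteType A₀ A₁ := .adjoin_of_finite (Finset.finite_toSet _)
  haveI : IsNoetherianRing A₁ := Algebra.FiniteType.isNoetherianRing A₀ A₁
  let t₁ : (A₁ ⊗[A₀] B₀) := ∑ p ∈ S.attach,
    (⟨p.1.1, Algebra.subset_adjoin (Finset.mem_coe.2 (Finset.mem_image_of_mem _ p.2))⟩ : A₁) ⊗ₜ p.1.2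
  let cb : R ⊗[A₁] (A₁ ⊗[A₀] B₀) ≃ₐ[R] R ⊗[A₀] B₀ := Algebra.TensorProduct.cancelBaseChange A₀ A₁ R R B₀
  let E : B ≃ₐ[R] R ⊗[A₁] (A₁ ⊗[A₀] B₀) := e.trans cb.symm
  have hEt : E t = (1 : R) ⊗ₜ t₁ := by
    show cb.symm (e t) = _
    apply cb.injective
    rw [AlgEquiv.apply_symm_apply, hS, tmul_sum, map_sum, ← Finset.sum_attach S]
    refine Finset.sum_congr rfl fun p _ => ?_
    simp [cb, Algebra.smul_def]
  have ht₁ : Killed A₁ t₁ := by
    intro C₀ _ _ _ φ₀ hcut
    let Φ : R ⊗[A₁] (A₁ ⊗[A₀] B₀) →ₐ[R] R ⊗[A₁] C₀ := Algebra.TensorProduct.map (AlgHom.id R R) φ₀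
    have hk := ht (R ⊗[A₁] C₀) (Φ.comp E.toAlgHom) (by
      obtain ⟨b, hu, hs⟩ := hcut.baseChange R
      refine ⟨E.symm b, by simpa [Φ] using hu, fun c => ?_⟩
      obtain ⟨x, n, hx⟩ := hs c
      exact ⟨E.symm x, n, by simpa [Φ] using hx⟩)
    rw [AlgHom.comp_apply, show E.toAlgHom t = E t from rfl, hEt] at hk
    have hinj : Function.Injective fun c : C₀ => (1 : R) ⊗ₜ[A₁] c :=
      Algebra.TensorProduct.includeRight_injective (B := C₀) (A := R) Subtype.val_injective
    exact hinj (by simpa [Φ] using hk)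
  have := eq_zero_of_killed_noetherian ht₁
  apply E.injective
  rw [hEt, this, tmul_zero, map_zero]

end Groth.Misc6.EtaleFamily
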