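import Mathlib
import Groth.Agent.Misc6.EtaleFamily
import Groth.Agent.SchDom.Scheme

/-!
# Etale quasi-sections of a smooth morphism are schematically dominant, also after flat base change
-/

set_option autoImplicit false

universe u

open CategoryTheory CategoryTheory.Limits AlgebraicGeometry TopologicalSpace TensorProduct

noncomputable section

namespace Groth.Misc6.EtaleFamily

theorem specMap_fromSpec_appLE {X : Scheme.{u}} {W : X.Opens} (hW : IsAffineOpen W) {D : CommRingCat.{u}}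
    (ι : Γ(X, W) ⟶ D) (e : ⊤ ≤ (Spec.map ι ≫ hW.fromSpec) ⁻¹ᵁ W) :
    (Spec.map ι ≫ hW.fromSpec).appLE W ⊤ e = ι ≫ (Scheme.ΓSpecIso D).inv := by
  rw [Scheme.ΓSpecIso_inv_naturality, Scheme.Hom.comp_appLE, hW.fromSpec_app_self,
    Category.assoc, Scheme.Hom.map_appLE]
  simp [Scheme.Hom.appLE]

/-- the family of slices is dominant on rings -/
theorem dom_qsec {R B : Type u} [CommRing R] [CommRing B] [Algebra R B] [Algebra.Smooth R B] :
    Groth.SchDom.Dom fun j : QSec R B => j.φ.toRingHom := by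
  intro h b hb
  let L := Localization.Away h
  haveI : Algebra.Smooth B L := inferInstance
  haveI : Algebra.Smooth R L := Algebra.Smooth.comp R B L
  have hk : Killed R (algebraMap B L b) := by
    intro C _ _ _ ψ hcut
    obtain ⟨v, hu, hs⟩ := hcut
    let loc : B →ₐ[R] L := IsScalarTower.toAlgHom R B L
    obtain ⟨m, v₀, hv₀⟩ := IsLocalization.Away.surj h v
    have hh : IsUnit (ψ (loc h)) := (IsLocalization.Away.algebraMap_isUnit (S := L) h).map ψ
    have hv1 : ψ v * ψ (loc h) ^ m = ψ (loc v₀) := by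
      rw [← map_pow, ← map_mul]; exact congrArg ψ hv₀
    have hcut' : Cut (ψ.comp loc) := by
      refine ⟨h * v₀, ?_, fun c => ?_⟩
      · show IsUnit (ψ (loc (h * v₀)))
        rw [map_mul, map_mul, ← hv1]
        exact hh.mul (hu.mul (hh.pow m))
      · obtain ⟨x, l, hx⟩ := hs c
        obtain ⟨m', x₀, hx₀⟩ := IsLocalization.Away.surj h x
        have hx1 : ψ x * ψ (loc h) ^ m' = ψ (loc x₀) := by
          rw [← map_pow, ← map_mul]; exact congrArg ψ hx₀
        refine ⟨x₀ * v₀ ^ m' * h ^ (l + m * l), l + m', ?_⟩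
        show c * ψ (loc (h * v₀)) ^ (l + m') = ψ (loc (x₀ * v₀ ^ m' * h ^ (l + m * l)))
        simp only [map_mul, map_pow, ← hv1, ← hx1, ← hx]
        ring
    obtain ⟨n, hn⟩ := hb ⟨C, ψ.comp loc, hcut'⟩
    change ψ (loc (h ^ n * b)) = 0 at hn
    rw [map_mul, map_mul, map_pow, map_pow] at hn
    exact (hh.pow n).mul_right_eq_zero.1 hn
  obtain ⟨⟨_, N, rfl⟩, hN⟩ :=
    (IsLocalization.map_eq_zero_iff (Submonoid.powers h) L b).1 (eq_zero_of_killed hk)
  exact ⟨N, hN⟩

set_option maxHeartbeats 1000000 in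
/-- the chart form: a section over an affine open killed by the base changed slices is zero -/
theorem eq_zero_of_app_eq_zero {S S' B' : Scheme.{u}} (g : S' ⟶ S) [Smooth g]
    (q : B' ⟶ S') [Flat q] [LocallyOfFinitePresentation q] (V : B'.Opens) (t : Γ(B', V))
    (h : ∀ (Z : Scheme.{u}) (j : Z ⟶ S'), IsImmersion j → Etale (j ≫ g) →
      (pullback.snd j q).app V t = 0) : t = 0 := by
  have key : ∀ x : B', x ∈ V → ∃ (W : B'.Opens) (hWV : W ≤ V), x ∈ W ∧
      B'.presheaf.map (homOfLE hWV).op t = 0 := by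
    intro x hx
    obtain ⟨Vs, U, eU, hVs, hU, hxU⟩ := Groth.SmoothSlice.exists_affine_chart g (q x)
    obtain ⟨_, ⟨W : B'.Opens, hW, rfl⟩, hxW, hWsub⟩ := B'.isBasis_affineOpens.exists_subset_of_mem_open
      (show x ∈ (V ⊓ q ⁻¹ᵁ U : B'.Opens) from ⟨hx, hxU⟩) (V ⊓ q ⁻¹ᵁ U : B'.Opens).2
    have hWV : W ≤ V := fun y hy => (hWsub hy).1
    have eW : W ≤ q ⁻¹ᵁ U := fun y hy => (hWsub hy).2
    refine ⟨W, hWV, hxW, ?_⟩
    have hgS := g.smooth_appLE hVs hU eU
    have hqF := q.finitePresentation_appLE hU hW eW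
    have hqflat : (q.appLE U W eW).hom.Flat := q.flat_appLE hU hW eW
    letI algB : Algebra Γ(S, Vs) Γ(S', U) := (g.appLE Vs U eU).hom.toAlgebra
    letI algA : Algebra Γ(S', U) Γ(B', W) := (q.appLE U W eW).hom.toAlgebra
    haveI : Algebra.Smooth Γ(S, Vs) Γ(S', U) := hgS
    haveI : Algebra.FinitePresentation Γ(S', U) Γ(B', W) := hqF
    haveI : Module.Flat Γ(S', U) Γ(B', W) := hqflat
    letI algC : ∀ j : QSec Γ(S, Vs) Γ(S', U), Algebra Γ(S', U) j.C := fun j => j.φ.toRingHom.toAlgebra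
    have hdom := Groth.SchDom.Dom.tensor_flat (C := fun j : QSec Γ(S, Vs) Γ(S', U) => j.C)
      (hφ := dom_qsec) Γ(B', W)
    obtain ⟨N, hN⟩ := hdom 1 (B'.presheaf.map (homOfLE hWV).op t) fun j => ⟨1, by
      rw [pow_one, one_mul]
      let φ : Γ(S', U) ⟶ CommRingCat.of j.C := CommRingCat.ofHom j.φ.toRingHom
      let iL : Γ(B', W) ⟶ CommRingCat.of (Γ(B', W) ⊗[Γ(S', U)] j.C) :=
        CommRingCat.ofHom Algebra.TensorProduct.includeLeftRingHom
      let iR : CommRingCat.of j.C ⟶ CommRingCat.of (Γ(B', W) ⊗[Γ(S', U)] j.C) :=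
        CommRingCat.ofHom (Algebra.TensorProduct.includeRight : j.C →ₐ[Γ(S', U)] _).toRingHom
      have hcomm : q.appLE U W eW ≫ iL = φ ≫ iR := CommRingCat.hom_ext (RingHom.ext fun b => by
        show algebraMap Γ(S', U) Γ(B', W) b ⊗ₜ[Γ(S', U)] (1 : j.C) =
          (1 : Γ(B', W)) ⊗ₜ[Γ(S', U)] algebraMap Γ(S', U) j.C b
        rw [Algebra.algebraMap_eq_smul_one, Algebra.algebraMap_eq_smul_one, smul_tmul])
      let jZ : Spec (CommRingCat.of j.C) ⟶ S' := Spec.map φ ≫ hU.fromSpec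
      have himm : IsImmersion jZ := by
        haveI : IsImmersion (Spec.map φ) := j.cut.isImmersion
        infer_instance
      have het : Etale (jZ ≫ g) := by
        rw [Category.assoc, ← hVs.SpecMap_appLE_fromSpec g hU eU, ← Spec.map_comp_assoc]
        haveI : Etale (Spec.map (g.appLE Vs U eU ≫ φ)) := by
          refine (HasRingHomProperty.Spec_iff (P := @Etale)).2 ?_
          rw [show (g.appLE Vs U eU ≫ φ).hom = algebraMap Γ(S, Vs) j.C from RingHom.ext fun r => j.φ.commutes r]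
          exact RingHom.etale_algebraMap.2 inferInstance
        infer_instance
      have hsq : Spec.map iR ≫ jZ = (Spec.map iL ≫ hW.fromSpec) ≫ q := by
        show Spec.map iR ≫ Spec.map φ ≫ hU.fromSpec = _
        rw [← Spec.map_comp_assoc, ← hcomm, Spec.map_comp, Category.assoc, Category.assoc,
          hU.SpecMap_appLE_fromSpec q hW eW]
      let ξ := pullback.lift _ _ hsq
      have e0 : ∀ m, m = ξ ≫ pullback.snd jZ q → m.app V t = 0 := by
        intro m hm
        subst hm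
        exact (congrArg (ξ.app (pullback.snd jZ q ⁻¹ᵁ V)) (h _ jZ himm het)).trans (map_zero (ξ.app (pullback.snd jZ q ⁻¹ᵁ V)).hom)
      have h1 := e0 _ (pullback.lift_snd _ _ hsq).symm
      have e1 : ⊤ ≤ (Spec.map iL ≫ hW.fromSpec) ⁻¹ᵁ W := fun z _ => by
        show hW.fromSpec (Spec.map iL z) ∈ W
        exact hW.range_fromSpec.subset ⟨_, rfl⟩
      have h2 : (Spec.map iL ≫ hW.fromSpec).appLE V ⊤ (e1.trans ((Spec.map iL ≫ hW.fromSpec).preimage_mono hWV)) t = 0 := by
        rw [Scheme.Hom.appLE, CommRingCat.comp_apply, h1, map_zero]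
      rw [← Scheme.Hom.map_appLE _ e1 (homOfLE hWV).op, CommRingCat.comp_apply,
        specMap_fromSpec_appLE hW iL e1, CommRingCat.comp_apply] at h2
      exact (map_eq_zero_iff _ (Scheme.ΓSpecIso _).commRingCatIsoToRingEquiv.symm.injective).1 h2⟩
    simpa using hN
  choose W hWV hxW hW0 using key
  refine B'.sheaf.eq_of_locally_eq' (fun x : V => W x.1 x.2) V (fun x => homOfLE (hWV x.1 x.2)) ?_ _ _ fun x => ?_
  · intro z hz
    rw [Opens.mem_iSup]
    exact ⟨⟨z, hz⟩, hxW z hz⟩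
  · exact (hW0 x.1 x.2).trans (map_zero (B'.presheaf.map (homOfLE (hWV x.1 x.2)).op).hom).symm

theorem eq_zero_of_immersions {X S : Scheme.{u}} (p : X ⟶ S) [Smooth p] (V : X.Opens) (t : Γ(X, V))
    (h : ∀ (Z : Scheme.{u}) (j : Z ⟶ X), IsImmersion j → Etale (j ≫ p) → j.app V t = 0) : t = 0 :=
  eq_zero_of_app_eq_zero p (𝟙 X) V t fun Z j hi he => by
    have e : ∀ m : pullback j (𝟙 X) ⟶ X, m = pullback.fst j (𝟙 X) ≫ j → m.app V t = 0 := fun m hm => by
      subst hm
      exact (congrArg ((pullback.fst j (𝟙 X)).app (j ⁻¹ᵁ V)) (h Z j hi he)).trans (map_zero ((pullback.fst j (𝟙 X)).app (j ⁻¹ᵁ V)).hom)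
    exact e _ (by rw [pullback.condition, Category.comp_id])

end Groth.Misc6.EtaleFamily
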