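import Groth.Agent.RefRank.DepthTwo
import Groth.Agent.RefRank.DivSheaf
import Groth.Agent.VectorBundles.ReflexiveRegular
import Groth.Agent.KTheory.LocFree
import Groth.Agent.FrobLCI.MinimalComplex
import Groth.Agent.Calg8.AcyclicityLemma

/-!
# Extensions of ideal sheaves by modules

The image of a map of quasi-coherent modules to the structure module as an ideal sheaf, factorisation
through ideal sheaves, and stalkwise lemmas for maps of extensions.
-/

set_option autoImplicit false

universe u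

open CategoryTheory CategoryTheory.Limits AlgebraicGeometry Opposite TopologicalSpace

namespace Groth.Misc6.ExtIdeal

open Groth.QCohMod (res resFun res_app res_smul germ exists_germ)

variable {X : Scheme.{u}}

/-- The component of a map to the structure module, valued in functions. -/
noncomputable def funApp {G : X.Modules} (ψ : G ⟶ Coh.structureModule X) (W : X.Opens) :
    Γ(G, W) →ₗ[Γ(X, W)] Γ(X, W) where
  toFun g := ψ.app W g
  map_add' g g' := map_add (ψ.app W).hom g g'
  map_smul' r g := ψ.app_smul r g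

theorem funApp_res {G : X.Modules} (ψ : G ⟶ Coh.structureModule X) {W' W : X.Opens} (h : W' ≤ W)
    (g : Γ(G, W)) : funApp ψ W' (res G h g) = resFun X h (funApp ψ W g) :=
  (res_app ψ h g).symm

/-- The ideal sheaf image of a map of a quasi-coherent module to the structure module. -/
noncomputable def imageIdeal {G : X.Modules} [G.IsQuasicoherent] (ψ : G ⟶ Coh.structureModule X) :
    X.IdealSheafData :=
  Scheme.IdealSheafData.ofIdeals fun U => LinearMap.range (funApp ψ U.1)

theorem map_range_funApp {G : X.Modules} [G.IsQuasicoherent] (ψ : G ⟶ Coh.structureModule X)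
    (U : X.affineOpens) (f : Γ(X, U.1)) :
    Ideal.map (X.presheaf.map (homOfLE <| X.basicOpen_le f).op).hom
      (LinearMap.range (funApp ψ U.1)) = LinearMap.range (funApp ψ (X.affineBasicOpen f).1) := by
  refine le_antisymm (Ideal.map_le_iff_le_comap.mpr ?_) ?_
  · rintro _ ⟨g, rfl⟩
    exact ⟨res G (X.basicOpen_le f) g, funApp_res ψ _ g⟩
  · rintro _ ⟨g, rfl⟩
    obtain ⟨n, t, ht⟩ := Groth.QCohMod.exists_pow_smul_eq_res G U.2 f g
    have he : resFun X (X.basicOpen_le f) (funApp ψ U.1 t) =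
        resFun X (X.basicOpen_le f) f ^ n * funApp ψ (X.basicOpen f) g := by
      rw [← funApp_res, ht, map_smul, smul_eq_mul]
    refine (Ideal.unit_mul_mem_iff_mem _
      ((RingedSpace.isUnit_res_basicOpen (X := X.toRingedSpace) f).pow n)).mp ?_
    show resFun X (X.basicOpen_le f) f ^ n * funApp ψ (X.basicOpen f) g ∈ _
    rw [← he]
    exact Ideal.mem_map_of_mem _ (LinearMap.mem_range_self _ t)

theorem imageIdeal_ideal {G : X.Modules} [G.IsQuasicoherent] (ψ : G ⟶ Coh.structureModule X)
    (U : X.affineOpens) : (imageIdeal ψ).ideal U = LinearMap.range (funApp ψ U.1) :=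
  congrFun (le_antisymm (Scheme.IdealSheafData.ideal_ofIdeals_le _)
    (Scheme.IdealSheafData.le_ofIdeals_iff (I :=
      { ideal := fun U => LinearMap.range (funApp ψ U.1)
        map_ideal_basicOpen := map_range_funApp ψ }).mpr le_rfl)) U

/-- A map to the structure module whose values on affines lie in an ideal sheaf is killed by the
quotient. -/
theorem comp_toSubscheme_eq_zero {G : X.Modules} (ψ : G ⟶ Coh.structureModule X)
    (I : X.IdealSheafData) (h : ∀ (U : X.affineOpens) (g : Γ(G, U.1)), funApp ψ U.1 g ∈ I.ideal U) :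
    ψ ≫ ClSub.toSubscheme I = 0 := by
  refine Groth.CohTwo.hom_ext_app fun W s => ?_
  refine Groth.CohTwo.eq_of_local _ _ _ fun x hx => ?_
  obtain ⟨_, ⟨U, hU, rfl⟩, hxU, hUW⟩ := X.isBasis_affineOpens.exists_subset_of_mem_open hx W.2
  refine ⟨U, hUW, hxU, ?_⟩
  rw [← Groth.CohTwo.app_res, ← Groth.CohTwo.app_res]
  obtain ⟨k, hk⟩ := Groth.OmegaSheaf.exists_idealSect I ⟨U, hU⟩ (h ⟨U, hU⟩ (Groth.CohTwo.res G hUW s))
  have hk' : ψ.app U (Groth.CohTwo.res G hUW s) = (ClSub.idealModι I).app U k := hk.symm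
  exact (congrArg ((ClSub.toSubscheme I).app U) hk').trans
    congr(($(kernel.condition (ClSub.toSubscheme I))).app U k)

instance mono_idealModι (I : X.IdealSheafData) : Mono (ClSub.idealModι I) :=
  inferInstanceAs (Mono (kernel.ι (ClSub.toSubscheme I)))

/-- Factor a map through an ideal sheaf. -/
noncomputable def liftIdeal {G : X.Modules} (ψ : G ⟶ Coh.structureModule X)
    (I : X.IdealSheafData) (h : ∀ (U : X.affineOpens) (g : Γ(G, U.1)), funApp ψ U.1 g ∈ I.ideal U) :
    G ⟶ ClSub.idealMod I :=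
  kernel.lift _ ψ (comp_toSubscheme_eq_zero ψ I h)

theorem liftIdeal_ι {G : X.Modules} (ψ : G ⟶ Coh.structureModule X)
    (I : X.IdealSheafData) (h : ∀ (U : X.affineOpens) (g : Γ(G, U.1)), funApp ψ U.1 g ∈ I.ideal U) :
    liftIdeal ψ I h ≫ ClSub.idealModι I = ψ :=
  kernel.lift_ι _ _ _

theorem funApp_comp {G G' : X.Modules} (α : G ⟶ G') (ψ : G' ⟶ Coh.structureModule X) (W : X.Opens)
    (g : Γ(G, W)) : funApp (α ≫ ψ) W g = funApp ψ W (α.app W g) := rfl

theorem funApp_idealModι (I : X.IdealSheafData) (W : X.Opens) (k : Γ(ClSub.idealMod I, W)) :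
    funApp (ClSub.idealModι I) W k = OmegaSh.idealSect I W k := rfl

/-- Comparison of ideal sheaves through the modules. -/
theorem le_of_hom {I J : X.IdealSheafData} (φ : ClSub.idealMod I ⟶ ClSub.idealMod J)
    (hφ : φ ≫ ClSub.idealModι J = ClSub.idealModι I) : I ≤ J := by
  refine Scheme.IdealSheafData.le_def.mpr fun U s hs => ?_
  obtain ⟨k, rfl⟩ := Groth.OmegaSheaf.exists_idealSect I U hs
  rw [← funApp_idealModι, ← hφ, funApp_comp, funApp_idealModι]
  exact Groth.OmegaSheaf.idealSect_mem J U _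

theorem sm_comp {M N P : X.Modules} (α : M ⟶ N) (γ : N ⟶ P) (x : X) (v : M.presheaf.stalk x) :
    RefHull.stalkMapₗ (α ≫ γ) x v = RefHull.stalkMapₗ γ x (RefHull.stalkMapₗ α x v) :=
  congr($((Groth.QCohMod.stalk x).map_comp α γ) v)

theorem sm_injective {M N : X.Modules} (α : M ⟶ N) [Mono α] (x : X) :
    Function.Injective (RefHull.stalkMapₗ α x) :=
  (Groth.QCohMod.mono_iff_stalk α).mp inferInstance x

theorem sm_exact {M F N : X.Modules} {a : M ⟶ F} {b : F ⟶ N} {w : a ≫ b = 0}
    (hS : (ShortComplex.mk a b w).ShortExact) (x : X) :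
    Function.Injective (RefHull.stalkMapₗ a x) ∧
      Function.Exact (RefHull.stalkMapₗ a x) (RefHull.stalkMapₗ b x) ∧
      Function.Surjective (RefHull.stalkMapₗ b x) :=
  Groth.KTheory.LocFree.stalk_exact hS x

/-- The five lemma at a stalk. -/
theorem bijective_middle {M F F' N N' : X.Modules} {a : M ⟶ F} {b : F ⟶ N} {w : a ≫ b = 0}
    (hS : (ShortComplex.mk a b w).ShortExact) {a' : M ⟶ F'} {b' : F' ⟶ N'} {w' : a' ≫ b' = 0}
    (hS' : (ShortComplex.mk a' b' w').ShortExact) (φ : N ⟶ N') (g : F ⟶ F')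
    (hag : a ≫ g = a') (hgb : g ≫ b' = b ≫ φ) (x : X)
    (hφ : Function.Bijective (RefHull.stalkMapₗ φ x)) :
    Function.Bijective (RefHull.stalkMapₗ g x) := by
  obtain ⟨ha, hex, hb⟩ := sm_exact hS x
  obtain ⟨ha', hex', -⟩ := sm_exact hS' x
  have hga : ∀ m, RefHull.stalkMapₗ g x (RefHull.stalkMapₗ a x m) = RefHull.stalkMapₗ a' x m :=
    fun m => by rw [← sm_comp, hag]
  have hgb' : ∀ v, RefHull.stalkMapₗ b' x (RefHull.stalkMapₗ g x v) =
      RefHull.stalkMapₗ φ x (RefHull.stalkMapₗ b x v) := fun v => by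
    rw [← sm_comp, ← sm_comp, hgb]
  constructor
  · refine (injective_iff_map_eq_zero _).mpr fun v hv => ?_
    have h0 : RefHull.stalkMapₗ b x v = 0 := hφ.1 (by rw [← hgb', hv, map_zero, map_zero])
    obtain ⟨m, rfl⟩ := (hex v).mp h0
    rw [hga] at hv
    rw [ha' (hv.trans (map_zero _).symm), map_zero]
  · intro v
    obtain ⟨n, hn⟩ := hφ.2 (RefHull.stalkMapₗ b' x v)
    obtain ⟨t, rfl⟩ := hb n
    obtain ⟨m, hm⟩ := (hex' (v - RefHull.stalkMapₗ g x t)).mp (by rw [map_sub, hgb', hn, sub_self])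
    exact ⟨RefHull.stalkMapₗ a x m + t, by rw [map_add, hga, hm, sub_add_cancel]⟩

/-- An ideal sheaf is the structure sheaf outside its support. -/
theorem bijective_idealModι [IsIntegral X] (I : X.IdealSheafData) {x : X} (hx : x ∉ I.support) :
    Function.Bijective (RefHull.stalkMapₗ (ClSub.idealModι I) x) := by
  have hi : Function.Bijective (Groth.RefRank.incl I x) := by
    refine ⟨Groth.RefRank.incl_injective I x, ?_⟩
    obtain ⟨_, ⟨U, hU, rfl⟩, hxU, -⟩ := X.isBasis_affineOpens.exists_subset_of_mem_open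
      (Set.mem_univ x) isOpen_univ
    rw [Scheme.IdealSheafData.mem_support_iff_of_mem (U := ⟨U, hU⟩) hxU, Scheme.mem_zeroLocus_iff] at hx
    push Not at hx
    obtain ⟨s, hs, hxs⟩ := hx
    obtain ⟨k, rfl⟩ := Groth.OmegaSheaf.exists_idealSect I ⟨U, hU⟩ hs
    obtain ⟨u, hu⟩ := (Scheme.mem_basicOpen X _ x hxU).mp hxs
    intro c
    refine ⟨(c * ↑u⁻¹) • germ _ x hxU k, ?_⟩
    rw [map_smul, Groth.RefRank.incl_germ, smul_eq_mul, ← hu, mul_assoc, Units.inv_mul, mul_one]
  exact (Function.Bijective.of_comp_iff' (Groth.RefRank.oneEquiv x).symm.bijective _).mp hi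

/-- Extensions of an ideal sheaf by a module with torsion-free stalk have torsion-free stalk. -/
theorem eq_zero_of_smul [IsIntegral X] {M F : X.Modules} {I : X.IdealSheafData} {a : M ⟶ F}
    {b : F ⟶ ClSub.idealMod I} {w : a ≫ b = 0} (hS : (ShortComplex.mk a b w).ShortExact) (x : X)
    [Module.IsTorsionFree (X.presheaf.stalk x) (M.presheaf.stalk x)]
    {t : X.presheaf.stalk x} (ht : t ≠ 0) {n : F.presheaf.stalk x} (hn : t • n = 0) : n = 0 := by
  obtain ⟨ha, hex, -⟩ := sm_exact hS x
  have h0 : RefHull.stalkMapₗ b x n = 0 := by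
    have h1 : t • Groth.RefRank.incl I x (RefHull.stalkMapₗ b x n) = 0 := by
      rw [← map_smul, ← map_smul, hn, map_zero, map_zero]
    exact Groth.RefRank.incl_injective I x (((smul_eq_zero.mp h1).resolve_left ht).trans (map_zero _).symm)
  obtain ⟨m, rfl⟩ := (hex n).mp h0
  rw [← map_smul] at hn
  rw [(smul_eq_zero.mp (ha (hn.trans (map_zero _).symm))).resolve_left ht, map_zero]

/-- Free finite modules over a regular local ring of dimension two have depth at least two. -/
theorem two_le_depth_free {A : Type u} [CommRing A] [IsRegularLocalRing A] (hd : ringKrullDim A = 2)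
    (M : Type u) [AddCommGroup M] [Module A M] [Module.Finite A M] [Module.Free A M] :
    (2 : ℕ∞) ≤ LocCoh.depth A M := by
  have h2 : LocCoh.depth A A = ((2 : ℕ) : ℕ∞) :=
    Groth.FrobLCI.depth_eq_of_isRegularLocalRing A (by exact_mod_cast hd)
  have h := Groth.Calg8.BE.le_depth_of_equiv (Module.finBasis A M).equivFun
  exact le_trans (le_of_eq h2.symm) h

end Groth.Misc6.ExtIdeal
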