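import Groth.Prelude.Def_W4c1famcyclesFFR
import Mathlib.LinearAlgebra.Charpoly.ToMatrix
import Mathlib.LinearAlgebra.Charpoly.Basic
import Mathlib.RingTheory.Ideal.AssociatedPrime.Localization
import Mathlib.RingTheory.Localization.Module
import Mathlib.Algebra.Module.LocalizedModule.Exact
import Mathlib.RingTheory.LocalRing.Module
import Mathlib.RingTheory.LocalRing.ResidueField.Basic
import Mathlib.LinearAlgebra.Matrix.Charpoly.Coeff
import Mathlib.Algebra.Polynomial.Div
import Mathlib.LinearAlgebra.FreeModule.Finite.Basic

/-!
Determinants of endomorphisms of modules with a finite free resolution.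
-/

universe u

open Polynomial

namespace Groth.Misc6.FFRDet

/-! ### Over a local ring -/

section Local

variable {R : Type u} [CommRing R] [IsLocalRing R]

open IsLocalRing

/-- Over a local ring where the maximal ideal is killed by a nonzero element, injections of finite free
modules split. -/
theorem exists_leftInverse_of_socle {x : R} (hx0 : x ≠ 0) (hx : ∀ r ∈ maximalIdeal R, r * x = 0)
    {a b : ℕ} (g : (Fin a → R) →ₗ[R] (Fin b → R)) (hg : Function.Injective g) :
    ∃ l : (Fin b → R) →ₗ[R] (Fin a → R), l ∘ₗ g = LinearMap.id := by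
  classical
  let G := LinearMap.toMatrix' g
  let π := residue R
  have hinj : Function.Injective (Matrix.toLin' (G.map π)) := by
    rw [injective_iff_map_eq_zero]
    intro v hv
    choose w hw using fun i => IsLocalRing.residue_surjective (R := R) (v i)
    have hz : x • w = 0 := by
      apply hg
      rw [map_smul, map_zero]
      funext j
      have h1 : π (g w j) = 0 := by
        refine Eq.trans ?_ (congrFun hv j)
        rw [Matrix.toLin'_apply, Matrix.mulVec, dotProduct]
        rw [← LinearMap.toMatrix'_mulVec g w, Matrix.mulVec, dotProduct, map_sum]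
        exact Finset.sum_congr rfl fun i _ => by rw [map_mul, hw, Matrix.map_apply]
      have h2 : g w j ∈ maximalIdeal R := (residue_eq_zero_iff _).1 h1
      rw [Pi.smul_apply, smul_eq_mul, mul_comm, hx _ h2, Pi.zero_apply]
    funext i
    rw [← hw i]
    refine (residue_eq_zero_iff _).2 ?_
    by_contra hu
    have hu' : IsUnit (w i) := by
      by_contra h
      exact hu ((mem_maximalIdeal _).2 h)
    exact hx0 (hu'.mul_left_eq_zero.1 (congrFun hz i))
  obtain ⟨L, hL⟩ := LinearMap.exists_leftInverse_of_injective _ (LinearMap.ker_eq_bot.2 hinj)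
  choose M hM using fun i j => IsLocalRing.residue_surjective (R := R) (LinearMap.toMatrix' L i j)
  let M' : Matrix (Fin a) (Fin b) R := Matrix.of M
  have hmap : (M' * G).map π = 1 := by
    rw [Matrix.map_mul]
    have e : M'.map π = LinearMap.toMatrix' L := Matrix.ext fun i j => hM i j
    rw [e, ← LinearMap.toMatrix'_toLin' (G.map π), ← LinearMap.toMatrix'_comp, hL,
      LinearMap.toMatrix'_id]
  have hdet : IsUnit (M' * G).det := by
    by_contra h
    have h1 : π (M' * G).det = 0 := (residue_eq_zero_iff _).2 ((mem_maximalIdeal _).2 h)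
    rw [RingHom.map_det, RingHom.mapMatrix_apply, hmap, Matrix.det_one] at h1
    exact one_ne_zero h1
  refine ⟨Matrix.toLin' ((M' * G)⁻¹ * M'), ?_⟩
  rw [← Matrix.toLin'_toMatrix' g, ← Matrix.toLin'_mul, Matrix.mul_assoc,
    Matrix.nonsing_inv_mul _ hdet, Matrix.toLin'_one]

variable {K F M : Type*} [AddCommGroup K] [Module R K] [AddCommGroup F] [Module R F] [AddCommGroup M]
  [Module R M]

omit [IsLocalRing R] in
theorem split_right (i : K →ₗ[R] F) (f : F →ₗ[R] M) (hi : Function.Injective i)
    (hex : Function.Exact i f) (hf : Function.Surjective f) (l : F →ₗ[R] K)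
    (hl : ∀ v, l (i v) = v) : ∃ s : M →ₗ[R] F, f ∘ₗ s = LinearMap.id :=
  by
  have h := (Function.Exact.split_tfae hex hi hf).out 1 0
  exact h.mp ⟨l, LinearMap.ext hl⟩

omit [IsLocalRing R] in
theorem projective_left [Module.Projective R M] [Module.Projective R F] (i : K →ₗ[R] F)
    (f : F →ₗ[R] M) (hi : Function.Injective i) (hex : Function.Exact i f)
    (hf : Function.Surjective f) : Module.Projective R K := by
  obtain ⟨s, hs⟩ := Module.projective_lifting_property f LinearMap.id hf
  have h := (Function.Exact.split_tfae hex hi hf).out 0 1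
  obtain ⟨l, hl⟩ := h.mp ⟨s, hs⟩
  exact Module.Projective.of_split i l hl

omit [IsLocalRing R] in
/-- Multiplicativity of characteristic polynomials in split short exact sequences. -/
theorem charpoly_exact [Module.Free R K] [Module.Finite R K] [Module.Free R F] [Module.Finite R F]
    [Module.Free R M] [Module.Finite R M] (i : K →ₗ[R] F) (f : F →ₗ[R] M) (hi : Function.Injective i)
    (hex : Function.Exact i f) (hf : Function.Surjective f) (φK : K →ₗ[R] K) (φF : F →ₗ[R] F)
    (φM : M →ₗ[R] M) (h1 : φF ∘ₗ i = i ∘ₗ φK) (h2 : φM ∘ₗ f = f ∘ₗ φF) :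
    φF.charpoly = φK.charpoly * φM.charpoly := by
  classical
  obtain ⟨s, hs⟩ := Module.projective_lifting_property f LinearMap.id hf
  have hs' : ∀ m, f (s m) = m := fun m => LinearMap.congr_fun hs m
  let e : (K × M) ≃ₗ[R] F := LinearEquiv.ofBijective (i.coprod s) ⟨by
    rw [injective_iff_map_eq_zero]
    rintro ⟨a, m⟩ h
    rw [LinearMap.coprod_apply] at h
    have hm : m = 0 := by
      have := congrArg f h
      rwa [map_add, hex.apply_apply_eq_zero, zero_add, hs', map_zero] at this
    simp only [hm, map_zero, add_zero] at h
    exact Prod.ext (hi (h.trans (map_zero i).symm)) hm, fun y => by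
    obtain ⟨a, ha⟩ := (hex (y - s (f y))).1 (by rw [map_sub, hs', sub_self])
    exact ⟨(a, f y), by simp [ha]⟩⟩
  have hsym : ∀ y, (e.symm y).2 = f y := fun y => by
    conv_rhs => rw [← e.apply_symm_apply y]
    change _ = f (i _ + s _)
    rw [map_add, hex.apply_apply_eq_zero, zero_add, hs']
    rfl
  let bK := Module.Free.chooseBasis R K
  let bM := Module.Free.chooseBasis R M
  let b := (bK.prod bM).map e
  rw [← LinearMap.charpoly_toMatrix φF b, ← LinearMap.charpoly_toMatrix φK bK,
    ← LinearMap.charpoly_toMatrix φM bM,
    ← Matrix.charpoly_fromBlocks_zero₂₁ (LinearMap.toMatrix bK bK φK)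
      (fun p q => bK.repr (e.symm (φF (s (bM q)))).1 p)]
  congr 1
  have hl : ∀ a, e.symm (φF (e (a, 0))) = (φK a, 0) := fun a => by
    rw [LinearEquiv.symm_apply_eq]
    change φF (i a + s 0) = i (φK a) + s 0
    rw [map_zero, add_zero, add_zero]
    exact LinearMap.congr_fun h1 a
  have hr : ∀ m, (e.symm (φF (e (0, m)))).2 = φM m := fun m => by
    rw [hsym]
    change f (φF (i 0 + s m)) = _
    rw [map_zero, zero_add, ← LinearMap.comp_apply, ← h2, LinearMap.comp_apply, hs']
  have he0 : ∀ m, e (0, m) = s m := fun m => by
    change i 0 + s m = s m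
    rw [map_zero, zero_add]
  ext (p | p) (q | q)
  · simp [b, LinearMap.toMatrix_apply, hl]
  · simp [b, LinearMap.toMatrix_apply, he0]
  · simp [b, LinearMap.toMatrix_apply, hl]
  · simp [b, LinearMap.toMatrix_apply, hr]

end Local

/-! ### Finite free resolutions -/

variable {A : Type u} [CommRing A]

theorem finite_of_le : ∀ {n : ℕ} {M : Type u} [AddCommGroup M] [Module A M],
    FamCyc.HasFiniteFreeResolutionLE A n M → Module.Finite A M
  | 0, _, _, _, h => h.2
  | _ + 1, _, _, _, h => by
    obtain ⟨k, f, hf, -⟩ := h
    exact Module.Finite.of_surjective f hf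

/-- A finite free resolution is split at a prime associated to the ring. -/
theorem free_at_ass [IsNoetherianRing A] (p : Ideal A) [p.IsPrime] (hp : p ∈ associatedPrimes A A) :
    ∀ {n : ℕ} {M : Type u} [AddCommGroup M] [Module A M],
      FamCyc.HasFiniteFreeResolutionLE A n M →
        Module.Free (Localization.AtPrime p) (LocalizedModule p.primeCompl M)
  | 0, M, _, _, h => by
    haveI := h.1
    exact Module.Free.of_basis ((Module.Free.chooseBasis A M).ofIsLocalizedModule
      (Localization.AtPrime p) p.primeCompl (LocalizedModule.mkLinearMap p.primeCompl M))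
  | n + 1, M, _, _, h => by
    obtain ⟨k, f, hf, hK⟩ := h
    haveI := free_at_ass p hp hK
    haveI := finite_of_le hK
    let S := p.primeCompl
    let Rp := Localization.AtPrime p
    let i' := LocalizedModule.map S (LinearMap.ker f).subtype
    let f' := LocalizedModule.map S f
    have hi : Function.Injective i' := LocalizedModule.map_injective S _ (Submodule.injective_subtype _)
    have hf' : Function.Surjective f' := LocalizedModule.map_surjective S _ hf
    have hex : Function.Exact i' f' := LocalizedModule.map_exact S _ _ f.exact_subtype_ker_map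
    let bK := Module.Free.chooseBasis Rp (LocalizedModule S (LinearMap.ker f))
    let eK := (bK.reindex (Fintype.equivFin _)).equivFun
    let eF := ((Pi.basisFun A (Fin k)).ofIsLocalizedModule Rp S
      (LocalizedModule.mkLinearMap S (Fin k → A))).equivFun
    have hass := Module.associatedPrimes.mem_associatedPrimes_atPrime_of_mem_associatedPrimes hp
    obtain ⟨-, x, hx⟩ := (Submodule.isAssociatedPrime_iff (N := (⊥ : Submodule Rp
      (LocalizedModule.AtPrime p A)))).1 hass
    let ι : LocalizedModule.AtPrime p A ≃ₗ[Rp] Rp :=
      (((Module.Basis.singleton (Fin 1) A).ofIsLocalizedModule Rp S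
        (LocalizedModule.mkLinearMap S A)).equivFun).trans (LinearEquiv.funUnique (Fin 1) Rp Rp)
    have hx0 : ι x ≠ 0 := by
      intro h0
      have : x = 0 := ι.injective (h0.trans (map_zero ι).symm)
      have h1 : (1 : Rp) ∈ IsLocalRing.maximalIdeal Rp := by
        rw [hx, Submodule.mem_colon_singleton, this, smul_zero]
        exact zero_mem _
      exact (IsLocalRing.mem_maximalIdeal _).1 h1 isUnit_one
    have hann : ∀ r ∈ IsLocalRing.maximalIdeal Rp, r * ι x = 0 := fun r hr => by
      rw [hx, Submodule.mem_colon_singleton, Submodule.mem_bot] at hr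
      rw [← smul_eq_mul, ← map_smul, hr, map_zero]
    obtain ⟨l, hl⟩ := exists_leftInverse_of_socle hx0 hann
      (eF.toLinearMap ∘ₗ i' ∘ₗ eK.symm.toLinearMap)
      (eF.injective.comp (hi.comp eK.symm.injective))
    obtain ⟨s, hs⟩ := split_right (R := Rp) (K := LocalizedModule S (LinearMap.ker f))
      (F := LocalizedModule S (Fin k → A)) (M := LocalizedModule S M) i' f' hi hex hf'
      (eK.symm.toLinearMap ∘ₗ l ∘ₗ eF.toLinearMap) fun v => by
      change eK.symm (l (eF (i' v))) = v
      have := LinearMap.congr_fun hl (eK v)
      simp only [LinearMap.comp_apply, LinearEquiv.coe_coe, LinearEquiv.symm_apply_apply,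
        LinearMap.id_apply] at this
      rw [this, LinearEquiv.symm_apply_apply]
    haveI : Module.Finite Rp (LocalizedModule S M) :=
      Module.Finite.of_surjective (f' ∘ₗ eF.symm.toLinearMap) (hf'.comp eF.symm.surjective)
    haveI : Module.Free Rp (LocalizedModule S (Fin k → A)) := Module.Free.of_equiv eF.symm
    haveI : Module.Projective Rp (LocalizedModule S M) := Module.Projective.of_split s f' hs
    exact Module.free_of_flat_of_isLocalRing

variable (A) in
theorem finite_localized (p : Ideal A) [p.IsPrime] (M : Type u) [AddCommGroup M] [Module A M]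
    [Module.Finite A M] : Module.Finite (Localization.AtPrime p) (LocalizedModule p.primeCompl M) :=
  Module.Finite.of_isLocalizedModule p.primeCompl (LocalizedModule.mkLinearMap p.primeCompl M)

theorem map_charpoly (p : Ideal A) [p.IsPrime] {M : Type u} [AddCommGroup M] [Module A M]
    [Module.Free A M] [Module.Finite A M] (φ : M →ₗ[A] M)
    [Module.Free (Localization.AtPrime p) (LocalizedModule p.primeCompl M)]
    [Module.Finite (Localization.AtPrime p) (LocalizedModule p.primeCompl M)] :
    φ.charpoly.map (algebraMap A (Localization.AtPrime p)) =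
      (LocalizedModule.map p.primeCompl φ).charpoly := by
  classical
  let b := Module.Free.chooseBasis A M
  let b' := b.ofIsLocalizedModule (Localization.AtPrime p) p.primeCompl
    (LocalizedModule.mkLinearMap p.primeCompl M)
  rw [← LinearMap.charpoly_toMatrix φ b, ← LinearMap.charpoly_toMatrix _ b', ← Matrix.charpoly_map]
  congr 1
  ext r c
  rw [Matrix.map_apply, LinearMap.toMatrix_apply, LinearMap.toMatrix_apply,
    Module.Basis.ofIsLocalizedModule_apply]
  rw [show LocalizedModule.map p.primeCompl φ (LocalizedModule.mkLinearMap p.primeCompl M (b c)) =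
      LocalizedModule.mkLinearMap p.primeCompl M (φ (b c)) by
    simp [LocalizedModule.mkLinearMap_apply]]
  exact (Module.Basis.ofIsLocalizedModule_repr_apply _ _ _ _ _ _).symm

variable [IsNoetherianRing A] [Nontrivial A]

/-- The characteristic polynomial of an endomorphism of a module with a finite free resolution. -/
theorem exists_charpoly : ∀ {n : ℕ} {M : Type u} [AddCommGroup M] [Module A M],
    FamCyc.HasFiniteFreeResolutionLE A n M → ∀ φ : M →ₗ[A] M,
      ∃ χ : A[X], χ.Monic ∧ ∀ (p : Ideal A) [p.IsPrime]
        [Module.Free (Localization.AtPrime p) (LocalizedModule p.primeCompl M)]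
        [Module.Finite (Localization.AtPrime p) (LocalizedModule p.primeCompl M)],
        χ.map (algebraMap A (Localization.AtPrime p)) =
          (LocalizedModule.map p.primeCompl φ).charpoly
  | 0, M, _, _, h, φ => by
    haveI := h.1
    haveI := h.2
    exact ⟨φ.charpoly, φ.charpoly_monic, fun p _ _ _ => map_charpoly p φ⟩
  | n + 1, M, _, _, h, φ => by
    obtain ⟨k, f, hf, hK⟩ := h
    obtain ⟨ψ, hψ⟩ := Module.projective_lifting_property f (φ ∘ₗ f) hf
    have hψ' : ∀ x, f (ψ x) = φ (f x) := fun x => LinearMap.congr_fun hψ x
    have hmem : ∀ x ∈ LinearMap.ker f, ψ x ∈ LinearMap.ker f := fun x hx => by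
      rw [LinearMap.mem_ker, hψ', LinearMap.mem_ker.1 hx, map_zero]
    let ψK := ψ.restrict hmem
    obtain ⟨χ, hχ, hχp⟩ := exists_charpoly hK ψK
    haveI := finite_of_le hK
    haveI : Module.Finite A M := Module.Finite.of_surjective f hf
    have key : ∀ (p : Ideal A) [p.IsPrime]
        [Module.Free (Localization.AtPrime p) (LocalizedModule p.primeCompl M)]
        [Module.Finite (Localization.AtPrime p) (LocalizedModule p.primeCompl M)],
        (ψ.charpoly).map (algebraMap A (Localization.AtPrime p)) =
          χ.map (algebraMap A (Localization.AtPrime p)) *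
            (LocalizedModule.map p.primeCompl φ).charpoly := by
      intro p _ _ _
      let S := p.primeCompl
      let Rp := Localization.AtPrime p
      have hi : Function.Injective (LocalizedModule.map S (LinearMap.ker f).subtype) :=
        LocalizedModule.map_injective S _ (Submodule.injective_subtype _)
      have hex : Function.Exact (LocalizedModule.map S (LinearMap.ker f).subtype)
          (LocalizedModule.map S f) := LocalizedModule.map_exact S _ _ f.exact_subtype_ker_map
      have hf' := LocalizedModule.map_surjective S f hf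
      haveI := finite_localized A p (LinearMap.ker f)
      haveI := finite_localized A p (Fin k → A)
      haveI : Module.Free Rp (LocalizedModule S (Fin k → A)) := Module.Free.of_basis
        ((Pi.basisFun A (Fin k)).ofIsLocalizedModule Rp S
          (LocalizedModule.mkLinearMap S (Fin k → A)))
      haveI : Module.Projective Rp (LocalizedModule S (LinearMap.ker f)) :=
        projective_left (R := Rp) (K := LocalizedModule S (LinearMap.ker f))
          (F := LocalizedModule S (Fin k → A)) (M := LocalizedModule S M) (LocalizedModule.map S (LinearMap.ker f).subtype)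
          (LocalizedModule.map S f) hi hex hf'
      haveI : Module.Flat Rp (LocalizedModule S (LinearMap.ker f)) := Module.Flat.of_projective
      haveI : Module.Free Rp (LocalizedModule S (LinearMap.ker f)) :=
        @Module.free_of_flat_of_isLocalRing Rp (LocalizedModule S (LinearMap.ker f)) _ _ _ _ _ _
      rw [map_charpoly p ψ, hχp p]
      refine charpoly_exact _ _ hi hex hf' _ _ _ (LinearMap.ext fun y => ?_) (LinearMap.ext fun y => ?_)
      · induction y using LocalizedModule.induction_on with
        | _ m s => simp [ψK]
      · induction y using LocalizedModule.induction_on with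
        | _ m s => simp [hψ']
    obtain ⟨p₀, hp₀⟩ := associatedPrimes.nonempty A A
    haveI := IsAssociatedPrime.isPrime hp₀
    haveI := free_at_ass p₀ hp₀ (show FamCyc.HasFiniteFreeResolutionLE A (n + 1) M from ⟨k, f, hf, hK⟩)
    haveI := finite_localized A p₀ M
    have hdeg : χ.natDegree ≤ ψ.charpoly.natDegree := by
      have h := congrArg Polynomial.natDegree (key p₀)
      rw [(ψ.charpoly_monic).natDegree_map, Polynomial.Monic.natDegree_mul (hχ.map _)
        (LinearMap.charpoly_monic _), hχ.natDegree_map] at h
      omega
    refine ⟨ψ.charpoly /ₘ χ, ?_, fun p _ _ _ => ?_⟩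
    · have hd : χ.degree ≤ ψ.charpoly.degree := by
        rw [Polynomial.degree_eq_natDegree hχ.ne_zero,
          Polynomial.degree_eq_natDegree ψ.charpoly_monic.ne_zero]
        exact_mod_cast hdeg
      rw [Polynomial.Monic.def, Polynomial.leadingCoeff_divByMonic_of_monic hχ hd]
      exact ψ.charpoly_monic
    · rw [Polynomial.map_divByMonic _ hχ, key p,
        mul_divByMonic_cancel_left _ (hχ.map (algebraMap A (Localization.AtPrime p)))]

end Groth.Misc6.FFRDet
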