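import Groth.Agent.Misc6.FinCovTrace

/-!
Rank two algebras given by a pairing.
-/

universe u

open CategoryTheory CategoryTheory.Limits AlgebraicGeometry Opposite TopologicalSpace

namespace Groth.Misc6.FinCov

open Groth.PicAux
open Groth.QCohMod hiding res res_smul

variable {X : Scheme.{u}}

theorem isUnit_two_iff {R : Type*} [CommRing R] : IsUnit ((2 : ℕ) : R) ↔ IsUnit (2 : R) := by
  rw [Nat.cast_ofNat]

section Split

variable {A : RelSpec.QCAlg X} {τ : A.toModule ⟶ Coh.structureModule X} {d : ℕ}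

theorem isSplitEpi_trace (hA : FlatMod.IsFinLocFreeOfRank d A.toModule)
    (hτ : FinCov.IsTrace A τ) (hd : IsUnit (d : Γ(X, ⊤))) : IsSplitEpi τ := by
  obtain ⟨u, hu⟩ := hd
  let v : Coh.structureModule X ⟶ Coh.structureModule X :=
    homOfSection ((↑u⁻¹ : Γ(X, ⊤)) : Γ(Coh.structureModule X, ⊤))
  refine ⟨⟨⟨v ≫ FinCov.strMod A, ?_⟩⟩⟩
  rw [Category.assoc, strMod_comp_trace hA hτ]
  refine hom_structure_ext ?_
  change (d • 𝟙 (Coh.structureModule X)).app ⊤ (v.app ⊤ (oneSec X ⊤)) = oneSec X ⊤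
  rw [nsmul_app, homOfSection_one]
  change d • (↑u⁻¹ : Γ(X, ⊤)) = 1
  rw [nsmul_eq_mul, ← hu, Units.mul_inv]

theorem isFinLocFreeOfRank_kernel_trace (hA : FlatMod.IsFinLocFreeOfRank d A.toModule)
    (hτ : FinCov.IsTrace A τ) (hd : IsUnit (d : Γ(X, ⊤))) :
    FlatMod.IsFinLocFreeOfRank (d - 1) (kernel τ) := by
  rcases Nat.eq_zero_or_pos d with rfl | hpos
  · intro x
    exfalso
    rw [Nat.cast_zero, isUnit_zero_iff] at hd
    haveI := subsingleton_of_zero_eq_one hd
    haveI : Nontrivial (X.presheaf.stalk x) := inferInstance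
    exact zero_ne_one (α := X.presheaf.stalk x)
      (((X.presheaf.germ ⊤ x trivial).hom.map_zero).symm.trans ((congrArg _ (Subsingleton.elim 0 1)).trans
        (X.presheaf.germ ⊤ x trivial).hom.map_one))
  haveI := isSplitEpi_trace hA hτ hd
  refine LocFree.isFinLocFreeOfRank_left (S := ShortComplex.mk (kernel.ι τ) τ (kernel.condition τ))
    (ShortComplex.ShortExact.mk (ShortComplex.exact_of_f_is_kernel _ (kernelIsKernel τ)))
    (a := d - 1) (b := 1) ?_ (LocFree.isFinLocFreeOfRank_unit X)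
  rwa [Nat.sub_add_cancel hpos]

end Split

section Dbl

variable {L : X.Modules} {m : CohB1.tensorMod L L ⟶ Coh.structureModule X} {A : RelSpec.QCAlg X}
  {j : L ⟶ A.toModule}

/-- The two sections `1`, `j e`. -/
noncomputable def dblSec (j : L ⟶ A.toModule) {U : X.Opens} (e : Γ(L, U)) :
    Fin 2 → Γ(A.toModule, U) :=
  ![ofB A 1, j.app U e]

theorem basis'_dblSec (h : FinCov.IsDblAlg L m A j) {U : X.Opens} {e : Γ(L, U)}
    (he : Gen L U e) : Basis' A.toModule U (dblSec j e) := by
  intro V hV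
  have h2 : Function.Bijective fun r : Fin 2 → Γ(X, V) => (r 0, r 1 • res L hV e) := by
    refine ⟨fun r r' h => ?_, fun p => ?_⟩
    · funext i
      fin_cases i
      · exact congrArg Prod.fst h
      · exact (he V hV).1 (congrArg Prod.snd h)
    · obtain ⟨c, hc⟩ := (he V hV).2 p.2
      exact ⟨![p.1, c], Prod.ext rfl hc⟩
  have e' : (fun r : Fin 2 → Γ(X, V) => ∑ i, r i • res A.toModule hV (dblSec j e i)) =
      (fun p : Γ(X, V) × Γ(L, V) => ofB A (bstr A V p.1 + toB A (j.app V p.2))) ∘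
        fun r => (r 0, r 1 • res L hV e) := by
    funext r
    rw [Fin.sum_univ_two]
    change r 0 • res A.toModule hV (ofB A 1) + r 1 • res A.toModule hV (j.app U e) =
      bstr A V (r 0) + toB A (j.app V (r 1 • res L hV e))
    rw [Scheme.Modules.Hom.app_smul, app_res]
    refine congrArg₂ (· + ·) ?_ rfl
    exact (congrArg (bstr A V (r 0) * ·) (map_one (bres A hV))).trans (mul_one _)
  rw [e']
  exact (h.1 V).comp h2

theorem isFinLocFreeOfRank_two (hL : PicF.IsInvertible L) (h : FinCov.IsDblAlg L m A j) :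
    FlatMod.IsFinLocFreeOfRank 2 A.toModule :=
  LocFree.isFinLocFreeOfRank_iff.2 fun x => by
    obtain ⟨U, e, -, hx, he⟩ := exists_affine_gen_mem hL x
    exact ⟨U, _, hx, basis'_dblSec h he⟩

theorem comp_trace_eq_zero (hL : PicF.IsInvertible L) (h : FinCov.IsDblAlg L m A j)
    {τ : A.toModule ⟶ Coh.structureModule X} (hτ : FinCov.IsTrace A τ) : j ≫ τ = 0 := by
  choose U e hU hxU he using exists_affine_gen_mem hL
  have hc : iSup U = ⊤ := top_le_iff.1 fun x _ => Opens.mem_iSup.2 ⟨x, hxU x⟩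
  refine hom_ext_gen hc e he fun x => ?_
  change toFun (τ.app (U x) (j.app (U x) (e x))) = 0
  have hb := basis'_dblSec h (he x)
  rw [app_eq_trSec hτ hb le_rfl]
  letI := secAlg A (U x)
  classical
  let b := algBasis A hb le_rfl
  have b0 : b 0 = 1 := (algBasis_apply A hb le_rfl 0).trans (bres_self A _)
  have b1 : b 1 = toB A (j.app (U x) (e x)) :=
    (algBasis_apply A hb le_rfl 1).trans (bres_self A _)
  change Algebra.trace _ _ (toB A (j.app (U x) (e x))) = 0
  rw [Algebra.trace_eq_matrix_trace b, Matrix.trace, Fin.sum_univ_two]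
  simp only [Matrix.diag_apply, Algebra.leftMulMatrix_eq_repr_mul]
  have e0 : toB A (j.app (U x) (e x)) * b 0 = b 1 := by rw [b0, mul_one, b1]
  have e1 : toB A (j.app (U x) (e x)) * b 1 =
      toFun (m.app (U x) (tmulSec (e x) (e x))) • b 0 := by
    rw [b0, b1, Algebra.smul_def, mul_one]
    exact h.2 (U x) (e x) (e x)
  rw [e0, e1, map_smul, Module.Basis.repr_self, Module.Basis.repr_self]
  simp

theorem app_eq_zero_iff (hL : PicF.IsInvertible L) (h : FinCov.IsDblAlg L m A j)
    (h2 : IsUnit (2 : Γ(X, ⊤))) {τ : A.toModule ⟶ Coh.structureModule X}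
    (hτ : FinCov.IsTrace A τ) (U : X.Opens) (a : Γ(A.toModule, U)) :
    τ.app U a = 0 ↔ a ∈ Set.range (j.app U) := by
  obtain ⟨⟨r, l⟩, hrl⟩ := (h.1 U).2 a
  have hj : ∀ l, τ.app U (j.app U l) = 0 := fun l =>
    congr($(comp_trace_eq_zero hL h hτ).app U l)
  have ha : a = ofB A (bstr A U r) + j.app U l := hrl.symm
  constructor
  · intro h0
    rw [ha, map_add, hj, add_zero] at h0
    have h3 : (2 : ℕ) • r = 0 := (app_bstr (isFinLocFreeOfRank_two hL h) hτ U r).symm.trans h0
    have hu : IsUnit (2 : Γ(X, U)) := by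
      simpa only [map_ofNat] using h2.map (resX X (le_top : U ≤ ⊤))
    have hr : r = 0 := hu.mul_right_eq_zero.1 (by rw [← h3]; simp [two_mul])
    refine ⟨l, ?_⟩
    rw [ha, hr]
    exact ((congrArg (· + j.app U l) (map_zero (bstr A U))).trans (zero_add _)).symm
  · rintro ⟨l', rfl⟩
    exact hj l'

end Dbl

section RankTwo

theorem traceless_mul {R : Type*} [CommRing R] (M N : Matrix (Fin 2) (Fin 2) R) (w : R)
    (hw : w * 2 = 1) (hM : M.trace = 0) (hN : N.trace = 0) (hc : M * N = N * M) :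
    M * N = algebraMap R _ (w * (M * N).trace) := by
  rw [Matrix.trace_fin_two] at hM hN
  have h01 := congrFun (congrFun hc 0) 1
  have h10 := congrFun (congrFun hc 1) 0
  have h00 := congrFun (congrFun hc 0) 0
  simp only [Matrix.mul_apply, Fin.sum_univ_two] at h01 h10 h00
  have hM' : M 1 1 = -M 0 0 := eq_neg_of_add_eq_zero_right hM
  have hN' : N 1 1 = -N 0 0 := eq_neg_of_add_eq_zero_right hN
  rw [hM', hN'] at h01 h10
  rw [Matrix.algebraMap_eq_diagonal, Matrix.trace_fin_two]
  ext i k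
  fin_cases i <;> fin_cases k <;>
    simp only [Matrix.mul_apply, Fin.sum_univ_two, hM', hN', Matrix.diagonal_apply, Fin.zero_eta,
      Fin.mk_one, Fin.isValue, Pi.algebraMap_apply, Algebra.algebraMap_self, RingHom.id_apply,
      if_true, zero_ne_one, one_ne_zero, if_false]
  · linear_combination (-(M 0 0 * N 0 0 + M 0 1 * N 1 0)) * hw + w * h00
  · linear_combination w * h01 - (M 0 0 * N 0 1 - M 0 1 * N 0 0) * hw
  · linear_combination w * h10 - (M 1 0 * N 0 0 - M 0 0 * N 1 0) * hw
  · linear_combination (-(M 1 0 * N 0 1 + M 0 0 * N 0 0)) * hw - w * h00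

variable {A : RelSpec.QCAlg X} {τ : A.toModule ⟶ Coh.structureModule X}

theorem toB_res' {U V : X.Opens} (h : V ≤ U) (z : Γ(A.toModule, U)) :
    toB A (res A.toModule h z) = bres A h (toB A z) := rfl

theorem mul_eq_bstr_local {U₀ : X.Opens} {s : Fin 2 → Γ(A.toModule, U₀)}
    (hs : Basis' A.toModule U₀ s) {V : X.Opens} (hV : V ≤ U₀) (w : Γ(X, V)) (hw : w * 2 = 1)
    (p q : BSec A V) (hp : trSec A V p = 0) (hq : trSec A V q = 0) :
    p * q = bstr A V (w * trSec A V (p * q)) := by
  letI := secAlg A V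
  classical
  let bb := algBasis A hs hV
  refine Algebra.leftMulMatrix_injective bb ?_
  change _ = Algebra.leftMulMatrix bb (algebraMap _ _ (w * Algebra.trace Γ(X, V) (BSec A V) (p * q)))
  rw [map_mul (Algebra.leftMulMatrix bb), AlgHom.commutes, Algebra.trace_eq_matrix_trace bb,
    map_mul (Algebra.leftMulMatrix bb)]
  refine traceless_mul _ _ w hw ?_ ?_ ?_
  · rw [← Algebra.trace_eq_matrix_trace bb]; exact hp
  · rw [← Algebra.trace_eq_matrix_trace bb]; exact hq
  · rw [← map_mul, ← map_mul, mul_comm]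

theorem mul_eq_bstr (hA : FlatMod.IsFinLocFreeOfRank 2 A.toModule) (hτ : FinCov.IsTrace A τ)
    (w : Γ(X, ⊤)) (hw : w * 2 = 1) (U : X.Opens) (a b : Γ(A.toModule, U))
    (ha : τ.app U a = 0) (hb : τ.app U b = 0) :
    ofB A (toB A a * toB A b) =
      ofB A (bstr A U (resX X le_top w * toFun (τ.app U (ofB A (toB A a * toB A b))))) := by
  choose V s hV hxV hs using fun x => LocFree.exists_affine_basis_ofRank hA x
  have hc : iSup V = ⊤ := top_le_iff.1 fun x _ => Opens.mem_iSup.2 ⟨x, hxV x⟩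
  refine res_ext (M := A.toModule) (fun x => U ⊓ V x) (fun _ => inf_le_left) (le_iSup_inf hc U)
    fun x => ?_
  have hle : U ⊓ V x ≤ U := inf_le_left
  have htr : ∀ c : Γ(A.toModule, U),
      resX X hle (toFun (τ.app U c)) = trSec A (U ⊓ V x) (bres A hle (toB A c)) := fun c => by
    refine Eq.trans ?_ (app_eq_trSec hτ (hs x) inf_le_right (res A.toModule hle c))
    exact congrArg toFun (app_res τ hle c).symm
  have hz : ∀ c : Γ(A.toModule, U), τ.app U c = 0 →
      trSec A (U ⊓ V x) (bres A hle (toB A c)) = 0 := fun c hc0 => by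
    rw [← htr, hc0]
    exact map_zero _
  have hw' : resX X (le_top : U ⊓ V x ≤ ⊤) w * 2 = 1 := by
    rw [← map_ofNat (resX X (le_top : U ⊓ V x ≤ ⊤)), ← map_mul, hw, map_one]
  have key := mul_eq_bstr_local (hs x) inf_le_right _ hw' _ _ (hz a ha) (hz b hb)
  have e1 : bres A hle (toB A a * toB A b) = bres A hle (toB A a) * bres A hle (toB A b) :=
    map_mul _ _ _
  have e2 : resX X hle (resX X le_top w * toFun (τ.app U (ofB A (toB A a * toB A b)))) =
      resX X le_top w * trSec A (U ⊓ V x) (bres A hle (toB A a) * bres A hle (toB A b)) := by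
    rw [map_mul, resX_resX, htr]
    exact congrArg (fun z => _ * trSec A (U ⊓ V x) z) e1
  exact e1.trans (key.trans ((congrArg (bstr A _) e2.symm).trans (bres_bstr A hle _).symm))

theorem exists_isDblAlg_kernel (hA : FlatMod.IsFinLocFreeOfRank 2 A.toModule)
    (hτ : FinCov.IsTrace A τ) (h2 : IsUnit (2 : Γ(X, ⊤))) :
    ∃ m : CohB1.tensorMod (kernel τ) (kernel τ) ⟶ Coh.structureModule X,
      FinCov.IsDblAlg (kernel τ) m A (kernel.ι τ) := by
  obtain ⟨u, hu⟩ := h2
  have hw : (↑u⁻¹ : Γ(X, ⊤)) * 2 = 1 := by rw [← hu, Units.inv_mul]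
  let w : Γ(X, ⊤) := ↑u⁻¹
  let ι := kernel.ι τ
  let S := ShortComplex.mk ι τ (kernel.condition τ)
  have hS : S.Exact := ShortComplex.exact_of_f_is_kernel _ (kernelIsKernel τ)
  have h0 : ∀ (U : X.Opens) l, τ.app U (ι.app U l) = 0 := fun U l =>
    congr($(kernel.condition τ).app U l)
  let P : ∀ U : X.Opens, Γ(kernel τ, U) → Γ(kernel τ, U) → Γ(A.toModule, U) := fun U l l' =>
    ofB A (toB A (ι.app U l) * toB A (ι.app U l'))
  let T : ∀ W : X.Opens, Γ(kernel τ, W) →ₗ[Γ(X, W)] Γ(kernel τ, W) →ₗ[Γ(X, W)]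
      Γ(Coh.structureModule X, W) := fun W =>
    LinearMap.mk₂ Γ(X, W) (fun l l' => resX X le_top w • τ.app W (P W l l'))
      (fun a a' b => by
        have e : P W (a + a') b = P W a b + P W a' b := by
          simp only [P, map_add]; exact add_mul (toB A (ι.app W a)) (toB A (ι.app W a')) _
        rw [e, map_add]; exact smul_add (resX X (le_top : W ≤ ⊤) w) _ _)
      (fun c a b => by
        have e : P W (c • a) b = c • P W a b := by
          simp only [P, Scheme.Modules.Hom.app_smul]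
          exact mul_assoc (bstr A W c) (toB A (ι.app W a)) (toB A (ι.app W b))
        rw [e, Scheme.Modules.Hom.app_smul]; exact smul_comm (resX X (le_top : W ≤ ⊤) w) c _)
      (fun a b b' => by
        have e : P W a (b + b') = P W a b + P W a b' := by
          simp only [P, map_add]; exact mul_add (toB A (ι.app W a)) (toB A (ι.app W b)) _
        rw [e, map_add]; exact smul_add (resX X (le_top : W ≤ ⊤) w) _ _)
      (fun c a b => by
        have e : P W a (c • b) = c • P W a b := by
          simp only [P, Scheme.Modules.Hom.app_smul]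
          exact mul_left_comm (toB A (ι.app W a)) (bstr A W c) (toB A (ι.app W b))
        rw [e, Scheme.Modules.Hom.app_smul]; exact smul_comm (resX X (le_top : W ≤ ⊤) w) c _)
  obtain ⟨m, hm⟩ := exists_tensor_lift T fun W W' h a b => by
    change res (Coh.structureModule X) h (resX X (le_top : W ≤ ⊤) w • τ.app W (P W a b)) =
      resX X (le_top : W' ≤ ⊤) w • τ.app W' (P W' _ _)
    rw [res_smul (M := Coh.structureModule X), resX_resX, ← app_res]
    refine congrArg (fun z => resX X le_top w • τ.app W' z) ?_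
    simp only [P, app_res]
    exact map_mul (bres A h) _ _
  refine ⟨m, fun U => ⟨?_, ?_⟩, fun U l l' => ?_⟩
  · rintro ⟨r, l⟩ ⟨r', l'⟩ e
    have e' : ofB A (bstr A U r) + ι.app U l = ofB A (bstr A U r') + ι.app U l' := e
    have := congrArg (τ.app U) e'
    rw [map_add, map_add, h0, h0, add_zero, add_zero] at this
    have e2 : (2 : ℕ) • r = (2 : ℕ) • r' :=
      (app_bstr hA hτ U r).symm.trans (this.trans (app_bstr hA hτ U r'))
    have hr : r = r' := by
      have e3 := congrArg (resX X (le_top : U ≤ ⊤) w * ·) e2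
      simp only [nsmul_eq_mul, Nat.cast_ofNat, ← mul_assoc] at e3
      rwa [← map_ofNat (resX X (le_top : U ≤ ⊤)) 2, ← map_mul, hw, map_one, one_mul, one_mul] at e3
    subst hr
    exact Prod.ext rfl (app_injective_of_mono ι U (add_left_cancel e'))
  · intro a₀
    obtain ⟨a, rfl⟩ : ∃ a : Γ(A.toModule, U), toB A a = a₀ := ⟨ofB A a₀, rfl⟩
    let r := resX X (le_top : U ≤ ⊤) w * toFun (τ.app U a)
    have ht : τ.app U (a - ofB A (bstr A U r)) = 0 := by
      rw [map_sub, sub_eq_zero]
      change toFun (τ.app U a) = _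
      refine Eq.trans ?_ (app_bstr hA hτ U r).symm
      rw [nsmul_eq_mul, Nat.cast_ofNat, ← mul_assoc, ← map_ofNat (resX X (le_top : U ≤ ⊤)) 2,
        ← map_mul, mul_comm 2 w, hw, map_one, one_mul]
    haveI : Mono S.f := inferInstanceAs (Mono (kernel.ι τ))
    obtain ⟨l, hl⟩ := exists_app_eq_of_mono_exact hS U _ ht
    refine ⟨(r, l), ?_⟩
    change ofB A (bstr A U r) + ι.app U l = a
    rw [show ι.app U l = a - ofB A (bstr A U r) from hl, add_sub_cancel]
  · refine (mul_eq_bstr hA hτ w hw U _ _ (h0 U l) (h0 U l')).trans ?_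
    refine congrArg (bstr A U) ?_
    refine Eq.trans ?_ (congrArg toFun (hm U l l')).symm
    rfl

end RankTwo

end Groth.Misc6.FinCov
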