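import Groth.Agent.Misc6.FinCovDbl
import Groth.Agent.QCohMod.Sections

/-!
The rank two algebra `O ⊕ L` of a pairing on an invertible module.
-/

universe u

open CategoryTheory CategoryTheory.Limits AlgebraicGeometry Opposite TopologicalSpace

namespace Groth.Misc6.FinCov

open Groth.PicAux
open Groth.QCohMod (BSec toB ofB bstr bres exists_pow_smul_eq_res exists_pow_smul_eq_zero)

variable {X : Scheme.{u}} (L : X.Modules) (hL : PicF.IsInvertible L)
  (m : CohB1.tensorMod L L ⟶ Coh.structureModule X)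

/-- The pairing on sections. -/
noncomputable def pr {V : X.Opens} (l l' : Γ(L, V)) : Γ(X, V) := toFun (m.app V (tmulSec l l'))

theorem pr_add_left {V : X.Opens} (a b c : Γ(L, V)) : pr L m (a + b) c = pr L m a c + pr L m b c := by
  simp only [pr, tmulSec_add_left, map_add]
  rfl

theorem pr_smul_left {V : X.Opens} (r : Γ(X, V)) (a c : Γ(L, V)) :
    pr L m (r • a) c = r * pr L m a c := by
  simp only [pr, tmulSec_smul_left, Scheme.Modules.Hom.app_smul, toFun_smul]

theorem pr_smul_right {V : X.Opens} (r : Γ(X, V)) (a c : Γ(L, V)) :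
    pr L m a (r • c) = r * pr L m a c := by
  simp only [pr, tmulSec_smul_right, Scheme.Modules.Hom.app_smul, toFun_smul]

theorem pr_zero_left {V : X.Opens} (c : Γ(L, V)) : pr L m 0 c = 0 := by
  simp only [pr, tmulSec_zero_left, map_zero]
  rfl

theorem pr_zero_right {V : X.Opens} (c : Γ(L, V)) : pr L m c 0 = 0 := by
  simp only [pr, tmulSec_zero_right, map_zero]
  rfl

theorem pr_res {V W : X.Opens} (h : W ≤ V) (a b : Γ(L, V)) :
    resX X h (pr L m a b) = pr L m (res L h a) (res L h b) := by
  rw [pr, pr, ← res_tmulSec, app_res, toFun_res]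

include hL in
theorem pr_comm {V : X.Opens} (a b : Γ(L, V)) : pr L m a b = pr L m b a := by
  choose U e hU hxU he using exists_affine_gen_mem hL
  have hc : iSup U = ⊤ := top_le_iff.1 fun x _ => Opens.mem_iSup.2 ⟨x, hxU x⟩
  refine res_ext (M := Coh.structureModule X) (fun x => V ⊓ U x) (fun _ => inf_le_left)
    (le_iSup_inf hc V) (x := pr L m a b) (y := pr L m b a) fun x => ?_
  change resX X inf_le_left (pr L m a b) = resX X inf_le_left (pr L m b a)
  obtain ⟨r, hr⟩ := (he x).exists_coeff (inf_le_right : V ⊓ U x ≤ U x) (res L inf_le_left a)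
  obtain ⟨s, hs⟩ := (he x).exists_coeff (inf_le_right : V ⊓ U x ≤ U x) (res L inf_le_left b)
  simp only [pr_res, hr, hs, pr_smul_left, pr_smul_right]
  ring

include hL in
theorem pr_smul_assoc {V : X.Opens} (a b c : Γ(L, V)) : pr L m a b • c = pr L m b c • a := by
  choose U e hU hxU he using exists_affine_gen_mem hL
  have hc : iSup U = ⊤ := top_le_iff.1 fun x _ => Opens.mem_iSup.2 ⟨x, hxU x⟩
  refine res_ext (fun x => V ⊓ U x) (fun _ => inf_le_left) (le_iSup_inf hc V) fun x => ?_
  obtain ⟨r, hr⟩ := (he x).exists_coeff (inf_le_right : V ⊓ U x ≤ U x) (res L inf_le_left a)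
  obtain ⟨s, hs⟩ := (he x).exists_coeff (inf_le_right : V ⊓ U x ≤ U x) (res L inf_le_left b)
  obtain ⟨t, ht⟩ := (he x).exists_coeff (inf_le_right : V ⊓ U x ≤ U x) (res L inf_le_left c)
  rw [res_smul, res_smul, pr_res, pr_res, hr, hs, ht, pr_smul_left, pr_smul_left, pr_smul_right,
    pr_smul_right, smul_smul, smul_smul]
  congr 1
  ring

/-- The ring `O(V) × L(V)`. -/
@[nolint unusedArguments]
structure DblRing (L : X.Modules) (_hL : PicF.IsInvertible L)
    (_m : CohB1.tensorMod L L ⟶ Coh.structureModule X) (V : X.Opens) : Type u where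
  fst : Γ(X, V)
  snd : Γ(L, V)

variable {L hL m}

@[ext]
theorem DblRing.ext' {V : X.Opens} {a b : DblRing L hL m V} (h1 : a.fst = b.fst)
    (h2 : a.snd = b.snd) : a = b := by
  cases a; cases b; congr

noncomputable instance (V : X.Opens) : Zero (DblRing L hL m V) := ⟨⟨0, 0⟩⟩

noncomputable instance (V : X.Opens) : One (DblRing L hL m V) := ⟨⟨1, 0⟩⟩

noncomputable instance (V : X.Opens) : Add (DblRing L hL m V) :=
  ⟨fun a b => ⟨a.fst + b.fst, a.snd + b.snd⟩⟩

noncomputable instance (V : X.Opens) : Neg (DblRing L hL m V) := ⟨fun a => ⟨-a.fst, -a.snd⟩⟩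

noncomputable instance (V : X.Opens) : Mul (DblRing L hL m V) :=
  ⟨fun a b => ⟨a.fst * b.fst + pr L m a.snd b.snd, a.fst • b.snd + b.fst • a.snd⟩⟩

noncomputable instance (V : X.Opens) : CommRing (DblRing L hL m V) where
  nsmul := nsmulRec
  zsmul := zsmulRec
  add_assoc a b c := DblRing.ext' (add_assoc _ _ _) (add_assoc _ _ _)
  zero_add a := DblRing.ext' (zero_add _) (zero_add _)
  add_zero a := DblRing.ext' (add_zero _) (add_zero _)
  add_comm a b := DblRing.ext' (add_comm _ _) (add_comm _ _)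
  neg_add_cancel a := DblRing.ext' (neg_add_cancel _) (neg_add_cancel _)
  mul_comm a b := by
    refine DblRing.ext' ?_ (add_comm _ _)
    change _ * _ + pr L m _ _ = _ * _ + pr L m _ _
    rw [mul_comm, pr_comm L hL m]
  zero_mul a := by
    refine DblRing.ext' ?_ ?_
    · change 0 * a.fst + pr L m 0 a.snd = 0
      rw [zero_mul, pr_zero_left, add_zero]
    · change (0 : Γ(X, V)) • a.snd + a.fst • (0 : Γ(L, V)) = 0
      rw [zero_smul, smul_zero, add_zero]
  mul_zero a := by
    refine DblRing.ext' ?_ ?_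
    · change a.fst * 0 + pr L m a.snd 0 = 0
      rw [mul_zero, pr_zero_right, add_zero]
    · change a.fst • (0 : Γ(L, V)) + (0 : Γ(X, V)) • a.snd = 0
      rw [zero_smul, smul_zero, add_zero]
  one_mul a := by
    refine DblRing.ext' ?_ ?_
    · change 1 * a.fst + pr L m 0 a.snd = a.fst
      rw [one_mul, pr_zero_left, add_zero]
    · change (1 : Γ(X, V)) • a.snd + a.fst • (0 : Γ(L, V)) = a.snd
      rw [one_smul, smul_zero, add_zero]
  mul_one a := by
    refine DblRing.ext' ?_ ?_
    · change a.fst * 1 + pr L m a.snd 0 = a.fst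
      rw [mul_one, pr_zero_right, add_zero]
    · change a.fst • (0 : Γ(L, V)) + (1 : Γ(X, V)) • a.snd = a.snd
      rw [one_smul, smul_zero, zero_add]
  left_distrib a b c := by
    refine DblRing.ext' ?_ ?_
    · change a.fst * (b.fst + c.fst) + pr L m a.snd (b.snd + c.snd) =
        a.fst * b.fst + pr L m a.snd b.snd + (a.fst * c.fst + pr L m a.snd c.snd)
      rw [pr_comm L hL m a.snd (b.snd + c.snd), pr_add_left, pr_comm L hL m b.snd a.snd,
        pr_comm L hL m c.snd a.snd]
      ring
    · change a.fst • (b.snd + c.snd) + (b.fst + c.fst) • a.snd =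
        a.fst • b.snd + b.fst • a.snd + (a.fst • c.snd + c.fst • a.snd)
      rw [smul_add, add_smul]
      abel
  right_distrib a b c := by
    refine DblRing.ext' ?_ ?_
    · change (a.fst + b.fst) * c.fst + pr L m (a.snd + b.snd) c.snd =
        a.fst * c.fst + pr L m a.snd c.snd + (b.fst * c.fst + pr L m b.snd c.snd)
      rw [pr_add_left]
      ring
    · change (a.fst + b.fst) • c.snd + c.fst • (a.snd + b.snd) =
        a.fst • c.snd + c.fst • a.snd + (b.fst • c.snd + c.fst • b.snd)
      rw [smul_add, add_smul]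
      abel
  mul_assoc a b c := by
    refine DblRing.ext' ?_ ?_
    · change (a.fst * b.fst + pr L m a.snd b.snd) * c.fst +
          pr L m (a.fst • b.snd + b.fst • a.snd) c.snd =
        a.fst * (b.fst * c.fst + pr L m b.snd c.snd) +
          pr L m a.snd (b.fst • c.snd + c.fst • b.snd)
      rw [pr_add_left, pr_smul_left, pr_smul_left,
        pr_comm L hL m a.snd (b.fst • c.snd + c.fst • b.snd), pr_add_left, pr_smul_left,
        pr_smul_left, pr_comm L hL m c.snd a.snd, pr_comm L hL m b.snd a.snd]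
      ring
    · change (a.fst * b.fst + pr L m a.snd b.snd) • c.snd +
          c.fst • (a.fst • b.snd + b.fst • a.snd) =
        a.fst • (b.fst • c.snd + c.fst • b.snd) + (b.fst * c.fst + pr L m b.snd c.snd) • a.snd
      rw [add_smul, add_smul, pr_smul_assoc L hL m a.snd b.snd c.snd, smul_add, smul_add]
      simp only [smul_smul]
      rw [mul_comm c.fst a.fst, mul_comm c.fst b.fst]
      abel

variable (L hL m)

/-- Restriction. -/
noncomputable def dblRes {V W : X.Opens} (h : W ≤ V) : DblRing L hL m V →+* DblRing L hL m W where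
  toFun a := ⟨resX X h a.fst, res L h a.snd⟩
  map_zero' := DblRing.ext' (map_zero _) (res_zero h)
  map_one' := DblRing.ext' (map_one _) (res_zero h)
  map_add' a b := DblRing.ext' (map_add _ _ _) (res_add h _ _)
  map_mul' a b := by
    refine DblRing.ext' ?_ ?_
    · change resX X h (a.fst * b.fst + pr L m a.snd b.snd) = _
      rw [map_add, map_mul, pr_res]
      rfl
    · change res L h (a.fst • b.snd + b.fst • a.snd) = _
      rw [res_add, res_smul, res_smul]
      rfl

/-- The presheaf `O ⊕ L`. -/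
noncomputable def dblPre : TopCat.Presheaf CommRingCat.{u} X.carrier where
  obj V := CommRingCat.of (DblRing L hL m V.unop)
  map i := CommRingCat.ofHom (dblRes L hL m (leOfHom i.unop))
  map_id V := by
    refine CommRingCat.hom_ext (RingHom.ext fun a => DblRing.ext' ?_ ?_)
    · exact resX_self _ _
    · exact res_self _ _
  map_comp i k := by
    refine CommRingCat.hom_ext (RingHom.ext fun a => DblRing.ext' ?_ ?_)
    · exact (resX_resX _ _ _).symm
    · exact (res_res _ _ _).symm

theorem isSheaf_dblPre : (dblPre L hL m).IsSheaf := by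
  rw [TopCat.Presheaf.isSheaf_iff_isSheafUniqueGluing]
  intro ι U sf hsf
  obtain ⟨r, hr, hru⟩ := res_glue (M := Coh.structureModule X) U (le_iSup U) le_rfl
    (fun i => (sf i).fst) fun i k => congrArg DblRing.fst (hsf i k)
  obtain ⟨l, hl, hlu⟩ := res_glue (M := L) U (le_iSup U) le_rfl
    (fun i => (sf i).snd) fun i k => congrArg DblRing.snd (hsf i k)
  exact ⟨⟨r, l⟩, fun i => DblRing.ext' (hr i) (hl i), fun t ht => DblRing.ext'
    (hru t.fst fun i => congrArg DblRing.fst (ht i)) (hlu t.snd fun i => congrArg DblRing.snd (ht i))⟩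

/-- The structure map on sections. -/
noncomputable def dblStrHom (V : X.Opens) : Γ(X, V) →+* DblRing L hL m V where
  toFun r := ⟨r, 0⟩
  map_zero' := rfl
  map_one' := rfl
  map_add' r s := DblRing.ext' rfl (add_zero (0 : Γ(L, V))).symm
  map_mul' r s := by
    refine DblRing.ext' ?_ ?_
    · change r * s = r * s + pr L m (0 : Γ(L, V)) 0
      rw [pr_zero_left, add_zero]
    · change (0 : Γ(L, V)) = r • 0 + s • 0
      rw [smul_zero, smul_zero, add_zero]

/-- The structure map. -/
noncomputable def dblStr : X.presheaf ⟶ dblPre L hL m where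
  app V := CommRingCat.ofHom (dblStrHom L hL m V.unop)
  naturality {V W} i := by
    ext r
    exact DblRing.ext' rfl (res_zero _).symm

theorem isQC_dblPre : RelSpec.IsQC (dblPre L hL m) (dblStr L hL m) := by
  intro U hU f
  haveI : L.IsQuasicoherent := KTheory.LocFree.isQCoh
    (LocFree.isFinLocFree_of_rank (LocFree.isInvertible_iff_ofRank_one.1 hL))
  haveI : (Coh.structureModule X).IsQuasicoherent :=
    KTheory.LocFree.isQCoh (LocFree.isFinLocFree_unit X)
  let D := X.basicOpen f
  have hD : D ≤ U := X.basicOpen_le f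
  let _ : Algebra (DblRing L hL m U) (DblRing L hL m D) := (dblRes L hL m hD).toAlgebra
  let c : DblRing L hL m U := ⟨f, 0⟩
  change IsLocalization (Submonoid.powers c) (DblRing L hL m D)
  have hpow : ∀ (n : ℕ), c ^ n = ⟨f ^ n, 0⟩ := fun n =>
    (map_pow ((dblStr L hL m).app (op U)).hom f n).symm
  have hmul : ∀ {V : X.Opens} (r : Γ(X, V)) (a : DblRing L hL m V),
      (⟨r, 0⟩ : DblRing L hL m V) * a = ⟨r * a.fst, r • a.snd⟩ := by
    intro V r a
    refine DblRing.ext' ?_ ?_
    · change r * a.fst + pr L m 0 a.snd = _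
      rw [pr_zero_left, add_zero]
    · change r • a.snd + a.fst • (0 : Γ(L, V)) = _
      rw [smul_zero, add_zero]
  have halg : ∀ r, dblRes L hL m hD (⟨r, 0⟩ : DblRing L hL m U) = ⟨resX X hD r, 0⟩ := fun r =>
    DblRing.ext' rfl (res_zero hD)
  refine (isLocalization_iff _ _).2 ⟨?_, fun z => ?_, fun {a b} h => ?_⟩
  · rintro ⟨_, n, rfl⟩
    change IsUnit (dblRes L hL m hD (c ^ n))
    rw [map_pow]
    refine IsUnit.pow n ?_
    have hu : IsUnit (resX X hD f) := RingedSpace.isUnit_res_basicOpen _ f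
    rw [halg]
    exact hu.map ((dblStr L hL m).app (op D)).hom
  · obtain ⟨n₁, t₁, ht₁⟩ := exists_pow_smul_eq_res (Coh.structureModule X) hU f z.fst
    obtain ⟨n₂, t₂, ht₂⟩ := exists_pow_smul_eq_res L hU f z.snd
    refine ⟨⟨⟨f ^ n₂ * toFun t₁, f ^ n₁ • t₂⟩, ⟨c ^ (n₁ + n₂), _, rfl⟩⟩, ?_⟩
    change z * dblRes L hL m hD (c ^ (n₁ + n₂)) = dblRes L hL m hD ⟨_, _⟩
    rw [hpow, halg, mul_comm, hmul]
    refine DblRing.ext' ?_ ?_
    · change _ = resX X hD (f ^ n₂ * toFun t₁)
      rw [map_mul, ← toFun_res]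
      refine Eq.trans ?_ (congrArg (fun y => resX X hD (f ^ n₂) * toFun y) ht₁).symm
      change _ = resX X hD (f ^ n₂) * (resX X hD f ^ n₁ * z.fst)
      rw [map_pow, map_pow]
      ring
    · change _ = res L hD (f ^ n₁ • t₂)
      rw [res_smul]
      refine Eq.trans ?_ (congrArg (fun y => resX X hD (f ^ n₁) • y) ht₂).symm
      change resX X hD (f ^ (n₁ + n₂)) • z.snd = resX X hD (f ^ n₁) • (resX X hD f ^ n₂ • z.snd)
      rw [smul_smul, map_pow, map_pow, ← pow_add]
  · obtain ⟨n₁, hn₁⟩ := exists_pow_smul_eq_zero (Coh.structureModule X) hU f (a.fst - b.fst) (by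
      change resX X hD (a.fst - b.fst) = 0
      rw [map_sub, sub_eq_zero]
      exact congrArg DblRing.fst h)
    obtain ⟨n₂, hn₂⟩ := exists_pow_smul_eq_zero L hU f (a.snd - b.snd) (by
      change res L hD (a.snd - b.snd) = 0
      have h2 : res L hD a.snd = res L hD b.snd := congrArg DblRing.snd h
      rw [PicAux.res, map_sub]
      exact sub_eq_zero.2 h2)
    refine ⟨⟨c ^ (n₁ + n₂), _, rfl⟩, ?_⟩
    change c ^ (n₁ + n₂) * a = c ^ (n₁ + n₂) * b
    rw [hpow, hmul, hmul]
    refine DblRing.ext' ?_ ?_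
    · have e : f ^ n₁ * (a.fst - b.fst) = 0 := hn₁
      change f ^ (n₁ + n₂) * a.fst = f ^ (n₁ + n₂) * b.fst
      rw [pow_add]
      linear_combination f ^ n₂ * e
    · have e := congrArg (f ^ n₁ • ·) hn₂
      simp only [smul_zero, smul_smul, ← pow_add, smul_sub, sub_eq_zero] at e
      exact e

/-- The algebra `O ⊕ L`. -/
noncomputable def dblAlg : RelSpec.QCAlg X where
  presheaf := dblPre L hL m
  isSheaf := isSheaf_dblPre L hL m
  str := dblStr L hL m
  isQC := isQC_dblPre L hL m

include hL in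
theorem exists_isDblAlg :
    ∃ (A : RelSpec.QCAlg X) (j : L ⟶ A.toModule), FinCov.IsDblAlg L m A j := by
  let A := dblAlg L hL m
  let incl : ∀ V : X.Opens, Γ(L, V) → Γ(A.toModule, V) := fun V l =>
    ofB A (⟨0, l⟩ : DblRing L hL m V)
  obtain ⟨j, hj⟩ := exists_hom_of_cover (L := L) (M := A.toModule)
    (U := fun _ : Unit => (⊤ : X.Opens)) (by simp) (fun _ V _ l => incl V l)
    (fun _ V _ a b => DblRing.ext' (add_zero (0 : Γ(X, V))).symm rfl)
    (fun _ V _ r a => by
      refine DblRing.ext' ?_ ?_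
      · change 0 = r * 0 + pr L m (0 : Γ(L, V)) a
        rw [mul_zero, pr_zero_left, add_zero]
      · change r • a = r • a + (0 : Γ(X, V)) • (0 : Γ(L, V))
        rw [smul_zero, add_zero])
    (fun _ V W _ h a => DblRing.ext' (map_zero _) rfl) (fun _ _ _ _ _ _ => rfl)
  refine ⟨A, j, fun V => ⟨?_, ?_⟩, fun V l l' => ?_⟩
  · intro p q e
    have e' : (⟨p.1, 0⟩ : DblRing L hL m V) + (show DblRing L hL m V from j.app V p.2) =
        (⟨q.1, 0⟩ : DblRing L hL m V) + (show DblRing L hL m V from j.app V q.2) := e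
    rw [hj () V le_top, hj () V le_top] at e'
    exact Prod.ext ((add_zero _).symm.trans ((congrArg DblRing.fst e').trans (add_zero _)))
      ((zero_add _).symm.trans ((congrArg DblRing.snd e').trans (zero_add _)))
  · intro a
    refine ⟨(a.fst, a.snd), ?_⟩
    change (⟨a.fst, 0⟩ : DblRing L hL m V) + (show DblRing L hL m V from j.app V a.snd) = a
    rw [hj () V le_top]
    exact DblRing.ext' (add_zero _) (zero_add _)
  · change (show DblRing L hL m V from j.app V l) * (show DblRing L hL m V from j.app V l') =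
      (⟨pr L m l l', 0⟩ : DblRing L hL m V)
    rw [hj () V le_top, hj () V le_top]
    refine DblRing.ext' ?_ ?_
    · change (0 : Γ(X, V)) * 0 + pr L m l l' = pr L m l l'
      rw [mul_zero, zero_add]
    · change (0 : Γ(X, V)) • l' + (0 : Γ(X, V)) • l = 0
      rw [zero_smul, zero_smul, add_zero]

end Groth.Misc6.FinCov
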