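import Mathlib

/-!
Fibres of a map by homogeneous polynomials without common non-trivial zero are finite.
-/

set_option autoImplicit false
open MvPolynomial

namespace Groth.Misc6

variable {k : Type*} [Field k] {σ : Type*}

lemma homogeneousComponent_mul_of_isHomogeneous {g : MvPolynomial σ k} {e : ℕ} (hg : g.IsHomogeneous e)
    (h : MvPolynomial σ k) (N : ℕ) :
    homogeneousComponent N (h * g) = if e ≤ N then homogeneousComponent (N - e) h * g else 0 := by
  classical
  conv_lhs => rw [← sum_homogeneousComponent h, Finset.sum_mul, map_sum]
  have hmem : ∀ i, homogeneousComponent i h * g ∈ homogeneousSubmodule σ k (i + e) := fun i =>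
    (mem_homogeneousSubmodule _ _).2 ((homogeneousComponent_isHomogeneous i h).mul hg)
  simp only [homogeneousComponent_of_mem (hmem _)]
  by_cases hN : e ≤ N
  · rw [if_pos hN, Finset.sum_eq_single (N - e)]
    · rw [if_pos (by omega)]
    · intro i _ hi; rw [if_neg (by omega)]
    · intro hi
      rw [homogeneousComponent_eq_zero _ _ (by simp [Finset.mem_range] at hi; omega)]
      simp
  · rw [if_neg hN]
    exact Finset.sum_eq_zero fun i _ => by rw [if_neg (by omega)]

theorem finite_fibre_of_homogeneous [IsAlgClosed k] [Finite σ] {J : Type*} [Finite J]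
    (g : J → MvPolynomial σ k) (e : J → ℕ) (he : ∀ j, 1 ≤ e j) (hg : ∀ j, (g j).IsHomogeneous (e j))
    (h0 : ∀ x : σ → k, (∀ j, eval x (g j) = 0) → x = 0) (v : J → k) :
    {x : σ → k | ∀ j, eval x (g j) = v j}.Finite := by
  classical
  have := Fintype.ofFinite σ
  have := Fintype.ofFinite J
  set S := {x : σ → k | ∀ j, eval x (g j) = v j}
  -- a power of each variable agrees with a polynomial of lower degree on `S`
  have hred : ∀ a : σ, ∃ N : ℕ, ∃ r : MvPolynomial σ k, (∀ s ∈ r.support, s.degree < N) ∧
      ∀ x ∈ S, x a ^ N = eval x r := by
    intro a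
    obtain ⟨N, hN⟩ : (X a : MvPolynomial σ k) ∈ (Ideal.span (Set.range g)).radical := by
      rw [← vanishingIdeal_zeroLocus_eq_radical (K := k)]
      intro x hx
      have : x = 0 := h0 x fun j => by simpa [MvPolynomial.aeval_eq_eval] using hx _ (Ideal.subset_span ⟨j, rfl⟩)
      simp [this]
    obtain ⟨c, hc⟩ := (Submodule.mem_span_range_iff_exists_fun _).1 hN
    refine ⟨N, ∑ j, C (v j) * (if e j ≤ N then homogeneousComponent (N - e j) (c j) else 0), ?_, fun x hx => ?_⟩
    · intro s hs
      obtain ⟨j, -, hj⟩ := Finset.mem_biUnion.1 (support_sum hs)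
      have hne : coeff s (C (v j) * if e j ≤ N then homogeneousComponent (N - e j) (c j) else 0) ≠ 0 :=
        mem_support_iff.1 hj
      rw [coeff_C_mul] at hne
      by_cases hjN : e j ≤ N
      · rw [if_pos hjN, coeff_homogeneousComponent] at hne
        by_cases hdeg : s.degree = N - e j
        · have := he j; omega
        · simp [hdeg] at hne
      · simp [hjN] at hne
    · have h1 := congrArg (fun f => eval x (homogeneousComponent N f)) hc
      simp only [map_sum, smul_eq_mul, homogeneousComponent_mul_of_isHomogeneous (hg _)] at h1
      rw [homogeneousComponent_of_mem (m := N) (n := N)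
        ((mem_homogeneousSubmodule _ _).2 (by simpa using (isHomogeneous_X k a).pow N)), if_pos rfl] at h1
      simp only [map_pow, eval_X] at h1
      rw [← h1, map_sum]
      refine Finset.sum_congr rfl fun j _ => ?_
      split_ifs
      · rw [map_mul, map_mul, hx j, eval_C]; ring
      · simp
  choose N r hr hrS using hred
  -- all monomials are combinations of those of bounded degree on `S`
  set D := (∑ a, N a) + 1
  let mon : (σ →₀ ℕ) → (S → k) := fun s x => eval x.1 (monomial s 1)
  set W := Submodule.span k (mon '' {s : σ →₀ ℕ | s.degree < D})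
  have hW : ∀ s, mon s ∈ W := by
    intro s
    induction hn : s.degree using Nat.strong_induction_on generalizing s with
    | _ n ih =>
      by_cases hs : n < D
      · exact Submodule.subset_span ⟨s, by simpa [hn] using hs, rfl⟩
      obtain ⟨a, ha⟩ : ∃ a, N a ≤ s a := by
        by_contra! h
        have : s.degree ≤ ∑ a, N a := by
          rw [Finsupp.degree_eq_sum]; exact Finset.sum_le_sum fun a _ => (h a).le
        omega
      set s' := s - Finsupp.single a (N a)
      have hss : s = s' + Finsupp.single a (N a) := (tsub_add_cancel_of_le (by simpa using ha)).symm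
      have hdeg : s.degree = s'.degree + N a := by rw [hss, map_add, Finsupp.degree_single]
      have e1 : mon s = ∑ t ∈ (r a).support, coeff t (r a) • mon (s' + t) := by
        funext x
        simp only [mon, Finset.sum_apply, Pi.smul_apply, smul_eq_mul]
        have hx : eval x.1 (monomial s (1 : k)) = eval x.1 (monomial s' 1) * eval x.1 (r a) := by
          rw [hss, show monomial (s' + Finsupp.single a (N a)) (1 : k) = monomial s' 1 * X a ^ N a by
            rw [X_pow_eq_monomial, monomial_mul, one_mul], map_mul, map_pow, eval_X, hrS a x.1 x.2]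
        rw [hx]
        conv_lhs => rw [(r a).as_sum, map_sum, Finset.mul_sum]
        refine Finset.sum_congr rfl fun t _ => ?_
        rw [← map_mul, monomial_mul, one_mul,
          show monomial (s' + t) (coeff t (r a)) = C (coeff t (r a)) * monomial (s' + t) 1 by
            rw [C_mul_monomial, mul_one], map_mul, eval_C]
      rw [e1]
      refine Submodule.sum_mem _ fun t ht => Submodule.smul_mem _ _ ?_
      have := hr a t ht
      exact ih _ (by rw [map_add]; omega) _ rfl
  have hfin : {s : σ →₀ ℕ | s.degree < D}.Finite := by
    refine Set.Finite.subset (Set.finite_Iic (Finsupp.equivFunOnFinite.symm fun _ : σ => D)) fun s hs => ?_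
    intro a
    have h1 := Finsupp.le_degree a s
    simp at hs ⊢
    omega
  haveI : Module.Finite k W := Module.Finite.span_of_finite k (hfin.image _)
  -- hence each coordinate takes finitely many values
  have hcoord : ∀ a : σ, ((fun x : σ → k => x a) '' S).Finite := by
    intro a
    let Φ : Polynomial k →ₗ[k] W := LinearMap.codRestrict W
      { toFun := fun q => fun x : S => Polynomial.eval (x.1 a) q
        map_add' := fun q q' => by funext x; simp
        map_smul' := fun c q => by funext x; simp } fun q => by
      induction q using Polynomial.induction_on' with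
      | add q q' hq hq' =>
        have : (fun x : S => Polynomial.eval (x.1 a) (q + q')) =
            (fun x : S => Polynomial.eval (x.1 a) q) + fun x : S => Polynomial.eval (x.1 a) q' := by
          funext x; simp
        show (fun x : S => Polynomial.eval (x.1 a) (q + q')) ∈ W
        rw [this]; exact add_mem hq hq'
      | monomial m c =>
        show (fun x : S => Polynomial.eval (x.1 a) (Polynomial.monomial m c)) ∈ W
        have : (fun x : S => Polynomial.eval (x.1 a) (Polynomial.monomial m c)) = c • mon (Finsupp.single a m) := by
          funext x; simp [mon, ← X_pow_eq_monomial, mul_comm]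
        rw [this]; exact Submodule.smul_mem _ _ (hW _)
    obtain ⟨q, hq, hq0⟩ : ∃ q ∈ LinearMap.ker Φ, q ≠ 0 := by
      apply Submodule.exists_mem_ne_zero_of_ne_bot
      intro h
      exact Polynomial.not_finite (R := k) (Module.Finite.of_injective Φ (LinearMap.ker_eq_bot.1 h))
    refine Set.Finite.subset (q.finite_setOf_isRoot hq0) ?_
    rintro _ ⟨x, hx, rfl⟩
    exact congrFun (congrArg Subtype.val (LinearMap.mem_ker.1 hq)) ⟨x, hx⟩
  exact Set.Finite.subset (Set.Finite.pi' hcoord) fun x hx a => ⟨x, hx, rfl⟩

end Groth.Misc6
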