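import Mathlib
import Groth.Agent.Misc6.PointSets

/-!
# One-parameter limits of configurations of linear forms

A configuration with too many points in a linear subspace has, along the one-parameter subgroup of
that subspace, a limit form fixed by that subgroup.
-/

set_option autoImplicit false

universe u

open TensorProduct CoordGrp MvPolynomial
open Groth Groth.Misc6.PointSets

noncomputable section

namespace Groth.Misc6.FormLimit

/-- A basis adapted to a subspace. -/
theorem exists_adapted_basis {k : Type u} [Field k] {n : ℕ} (W : Submodule k (Fin n → k)) :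
    ∃ (b : Module.Basis (Fin n) k (Fin n → k)) (inW : Fin n → Prop) (_ : DecidablePred inW),
      Nat.card {j // inW j} = Module.finrank k W ∧
      (∀ p ∈ W, ∀ j, ¬ inW j → b.repr p j = 0) := by
  classical
  obtain ⟨U, hU⟩ := Submodule.exists_isCompl W
  let b₀ := ((Module.finBasis k W).prod (Module.finBasis k U)).map (Submodule.prodEquivOfIsCompl W U hU)
  have hcard : Fintype.card (Fin (Module.finrank k W) ⊕ Fin (Module.finrank k U)) = n := by
    rw [← Module.finrank_eq_card_basis b₀, Module.finrank_fin_fun]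
  let σ := Fintype.equivFinOfCardEq hcard
  refine ⟨b₀.reindex σ, fun j => (σ.symm j).isLeft, inferInstance, ?_, fun p hp j hj => ?_⟩
  · refine (Nat.card_congr (Equiv.ofBijective
      (fun i => (⟨σ (Sum.inl i), by simp⟩ : {j // (σ.symm j).isLeft = true})) ⟨?_, ?_⟩).symm).trans
        (Nat.card_fin _)
    · intro i i' h
      simpa using h
    · rintro ⟨j, hj⟩
      obtain ⟨i, hi⟩ := Sum.isLeft_iff.1 hj
      exact ⟨i, Subtype.ext (by simp [← hi])⟩
  · rw [Module.Basis.repr_reindex_apply]
    rcases hs : σ.symm j with i | i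
    · exact absurd (by simp [hs]) hj
    · have : (Submodule.prodEquivOfIsCompl W U hU).symm p = (⟨p, hp⟩, 0) :=
        Submodule.prodEquivOfIsCompl_symm_apply_left W U hU ⟨p, hp⟩
      simp [b₀, this]

variable {k : Type u} [Field k] {n m : ℕ}

theorem multinomial_ne_zero (hm : (Nat.factorial m : k) ≠ 0) (e : FormIdx n m) :
    (e.1.multinomial : k) ≠ 0 := by
  have h : (Nat.factorial m) = (∏ i, Nat.factorial (e.1 i)) * e.1.multinomial := by
    rw [Finsupp.multinomial_eq_of_support_subset (f := e.1) (Finset.subset_univ _),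
      Nat.multinomial_spec, ← Finsupp.degree_eq_sum, e.2]
  intro h0
  rw [h, Nat.cast_mul, h0, mul_zero] at hm
  exact hm rfl

/-- The points of the one-parameter subgroup of a subspace and the limit form. -/
theorem exists_limit [IsAlgClosed k] (hm : (Nat.factorial m : k) ≠ 0) (c₀ : k)
    (p : Fin m → Fin n → k) (a : FormIdx n m → k)
    (ha : formPoly a = C c₀ * ∏ i, ∑ j, C (p i j) * X j) (W : Submodule k (Fin n → k))
    (hle : m * Module.finrank k W ≤ Nat.card {i : Fin m // p i ∈ W} * n) :
    ∃ (z : FormRing k n m →ₐ[k] k) (lam : kˣ →* Matrix (Fin n) (Fin n) k) (hdet : ∀ s, (lam s).det = 1),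
      RingHom.ker (orb k n m a) ≤ RingHom.ker z ∧
      (∀ s, ∀ f, z f = @GLin.actPt k _ (SLn n k) _ _ (FormRing k n m) _ _
          (GLin.comodAlong ((SLn.mkHom n k).comp (Mat.toGLn n k)) (formsCoact k n m))
          (GLin.isCoactAlg_comodAlong ((SLn.mkHom n k).comp (Mat.toGLn n k)) (formsCoact k n m)
            (formsCoact_isCoactAlg k n m)) (SLn.pt n k (lam s) (hdet s)) z f) ∧
      (W ≠ ⊥ → W ≠ ⊤ → (Set.range fun s : kˣ => SLn.pt n k (lam s) (hdet s)).Infinite) ∧
      (m * Module.finrank k W < Nat.card {i : Fin m // p i ∈ W} * n →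
        z = GLin.vecPt k (FormIdx n m) fun _ => (0 : k)) := by
  classical
  letI := GLin.comodAlong ((SLn.mkHom n k).comp (Mat.toGLn n k)) (formsCoact k n m)
  haveI := GLin.isCoactAlg_comodAlong ((SLn.mkHom n k).comp (Mat.toGLn n k)) (formsCoact k n m)
    (formsCoact_isCoactAlg k n m)
  haveI : Infinite k := IsAlgClosed.instInfinite
  haveI : Algebra.FiniteType k (SLn n k) :=
    ⟨(Set.finite_range fun ij : Fin n × Fin n => SLn.X (k := k) ij.1 ij.2).toFinset,
      eq_top_of_X_mem _ fun i j => Algebra.subset_adjoin (by simp)⟩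
  obtain ⟨b, inW, hdec, hcard, hb⟩ := exists_adapted_basis W
  set dW := Module.finrank k W with hdW
  have hdWn : dW ≤ n := (Submodule.finrank_le W).trans (Module.finrank_fin_fun k).le
  set cnt := Nat.card {i : Fin m // p i ∈ W} with hcnt
  let w : Fin n → ℤ := fun j => if inW j then (n : ℤ) - dW else -dW
  have hwsum : ∑ j, w j = 0 := by
    have e : ∀ j, w j = (if inW j then (n : ℤ) else 0) - dW := fun j => by
      simp only [w]; split_ifs <;> simp
    simp only [e, Finset.sum_sub_distrib, Finset.sum_ite, Finset.sum_const_zero, add_zero,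
      Finset.sum_const, Finset.card_univ, Fintype.card_fin, nsmul_eq_mul]
    rw [show (Finset.univ.filter inW).card = dW by
      rw [← hcard, Nat.card_eq_fintype_card, Fintype.card_subtype]]
    push_cast
    ring
  let Cm : Matrix (Fin n) (Fin n) k := fun j c => b j c
  have hCm : IsUnit Cm.det := by
    have : LinearIndependent k Cm.row := b.linearIndependent
    exact (Matrix.isUnit_iff_isUnit_det _).1 (Matrix.linearIndependent_rows_iff_isUnit.1 this)
  let D : kˣ →* Matrix (Fin n) (Fin n) k :=
    { toFun := fun s => Matrix.diagonal fun j => ((s ^ w j : kˣ) : k)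
      map_one' := by simp
      map_mul' := fun s t => by rw [Matrix.diagonal_mul_diagonal]; simp [mul_zpow] }
  let lam : kˣ →* Matrix (Fin n) (Fin n) k :=
    { toFun := fun s => Cm⁻¹ * D s * Cm
      map_one' := by rw [map_one, Matrix.mul_one, Matrix.nonsing_inv_mul _ hCm]
      map_mul' := fun s t => by
        rw [map_mul]
        rw [show Cm⁻¹ * D s * Cm * (Cm⁻¹ * D t * Cm) = Cm⁻¹ * D s * (Cm * Cm⁻¹) * D t * Cm by
          simp only [Matrix.mul_assoc], Matrix.mul_nonsing_inv _ hCm, Matrix.mul_one]
        simp only [Matrix.mul_assoc] }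
  have hdet : ∀ s, (lam s).det = 1 := by
    intro s
    change (Cm⁻¹ * D s * Cm).det = 1
    rw [Matrix.det_mul, Matrix.det_mul, mul_comm, ← mul_assoc, ← Matrix.det_mul,
      Matrix.mul_nonsing_inv _ hCm, Matrix.det_one, one_mul]
    change (Matrix.diagonal _).det = 1
    rw [Matrix.det_diagonal, ← Units.coe_prod]
    have hz : ∀ (S : Finset (Fin n)), ∏ j ∈ S, s ^ w j = s ^ ∑ j ∈ S, w j := by
      intro S
      induction S using Finset.induction_on with
      | empty => simp
      | insert j S hj ih => rw [Finset.prod_insert hj, Finset.sum_insert hj, ih, zpow_add]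
    rw [hz, hwsum]
    simp
  -- the moved vectors
  let x : Fin m → Fin n → k := fun i => b.repr (p i)
  let u : Fin m → Fin n → Polynomial k := fun i c =>
    if p i ∈ W then Polynomial.C (p i c)
    else ∑ j, Polynomial.C (x i j * Cm j c) * (if inW j then Polynomial.X ^ n else 1)
  let ex : Fin m → ℤ := fun i => if p i ∈ W then (n : ℤ) - dW else -dW
  have hxC : ∀ i c, p i c = ∑ j, x i j * Cm j c := fun i c => by
    conv_lhs => rw [← b.sum_repr (p i)]
    simp [x, Cm]
  have hmv : ∀ (s : kˣ) i c, ∑ j, p i j * lam s j c =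
      ((s ^ ex i : kˣ) : k) * (u i c).eval (s : k) := by
    intro s i c
    have h1 : ∑ j, p i j * lam s j c = ∑ l, x i l * ((s ^ w l : kˣ) : k) * Cm l c := by
      have hp' : (fun j => p i j) = Matrix.vecMul (x i) Cm := by
        funext j; rw [hxC]; rfl
      change Matrix.vecMul (fun j => p i j) (Cm⁻¹ * D s * Cm) c = _
      rw [hp', Matrix.vecMul_vecMul, ← Matrix.mul_assoc, ← Matrix.mul_assoc, Matrix.mul_nonsing_inv _ hCm,
        Matrix.one_mul]
      change ∑ l, x i l * ((Matrix.diagonal _) * Cm : Matrix (Fin n) (Fin n) k) l c = _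
      exact Finset.sum_congr rfl fun l _ => by rw [Matrix.diagonal_mul, mul_assoc]
    rw [h1]
    by_cases hi : p i ∈ W
    · simp only [u, ex, if_pos hi, Polynomial.eval_C]
      rw [hxC, Finset.mul_sum]
      refine Finset.sum_congr rfl fun l _ => ?_
      by_cases hl : inW l
      · simp only [w, if_pos hl]; ring
      · have : x i l = 0 := hb _ hi l hl
        simp [this]
    · simp only [u, ex, if_neg hi, Polynomial.eval_finsetSum, Polynomial.eval_mul, Polynomial.eval_C,
        Finset.mul_sum]
      refine Finset.sum_congr rfl fun l _ => ?_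
      by_cases hl : inW l
      · simp only [w, if_pos hl, Polynomial.eval_pow, Polynomial.eval_X]
        rw [sub_eq_neg_add, zpow_add, Units.val_mul, zpow_natCast, Units.val_pow_eq_pow_val]
        ring
      · simp only [w, if_neg hl, Polynomial.eval_one]; ring
  set E := cnt * n - m * dW with hE
  let P : MvPolynomial (Fin n) (Polynomial k) :=
    C (Polynomial.C c₀ * Polynomial.X ^ E) * ∏ i, linF (u i)
  let h : FormRing k n m →ₐ[k] Polynomial k :=
    MvPolynomial.aeval fun e => Polynomial.C ((e.1.multinomial : k)⁻¹) * P.coeff e.1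
  have hsumex : ∑ i, ex i = (E : ℤ) := by
    have e : ∀ i, ex i = (if p i ∈ W then (n : ℤ) else 0) - dW := fun i => by
      simp only [ex]; split_ifs <;> simp
    simp only [e, Finset.sum_sub_distrib, Finset.sum_ite, Finset.sum_const_zero, add_zero,
      Finset.sum_const, Finset.card_univ, Fintype.card_fin, nsmul_eq_mul]
    rw [show (Finset.univ.filter fun i => p i ∈ W).card = cnt by
      rw [hcnt, Nat.card_eq_fintype_card, Fintype.card_subtype]]
    rw [hE, Nat.cast_sub hle]
    push_cast
    ring
  have heval : ∀ (s : kˣ), (Polynomial.aeval (s : k)).comp h =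
      GLin.actPt k (SLn.pt n k (lam s) (hdet s)) (GLin.vecPt k (FormIdx n m) a) := by
    intro s
    refine MvPolynomial.algHom_ext fun e => ?_
    set g := SLn.pt n k (lam s) (hdet s)
    have h1 := sum_monomial_orb g a
    rw [ha, map_mul, map_mul, map_C, aeval_C, MvPolynomial.algebraMap_eq, map_prod, map_prod] at h1
    have h2 : ∀ i, MvPolynomial.aeval (fun j => linF fun l => g (SLn.X j l))
        (MvPolynomial.map (algebraMap k k) (∑ j, C (p i j) * X j)) =
        C ((s ^ ex i : kˣ) : k) * MvPolynomial.map (Polynomial.evalRingHom (s : k)) (linF (u i)) := by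
      intro i
      rw [map_linF]
      simp only [map_sum, map_mul, map_C, map_X, aeval_C, aeval_X, MvPolynomial.algebraMap_eq, linF,
        Finset.mul_sum, Algebra.algebraMap_self, RingHom.id_apply]
      simp only [← mul_assoc, ← map_mul]
      rw [Finset.sum_comm]
      refine Finset.sum_congr rfl fun c _ => ?_
      rw [← Finset.sum_mul, ← map_sum]
      congr 2
      simp only [g, SLn.pt_X]
      exact hmv s i c
    simp only [h2, Finset.prod_mul_distrib, ← map_prod] at h1
    have h4 : ∀ (S : Finset (Fin m)), ∏ i ∈ S, s ^ ex i = s ^ ∑ i ∈ S, ex i := by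
      intro S
      induction S using Finset.induction_on with
      | empty => simp
      | insert j S hj ih => rw [Finset.prod_insert hj, Finset.sum_insert hj, ih, zpow_add]
    rw [← Units.coe_prod, h4, hsumex, zpow_natCast, Units.val_pow_eq_pow_val] at h1
    have h5 := congrArg (coeff e.1) h1
    rw [coeff_sum, Finset.sum_eq_single e, coeff_monomial, if_pos rfl, coeff_C_mul, coeff_C_mul,
      MvPolynomial.coeff_map, Algebra.algebraMap_self, RingHom.id_apply, Polynomial.coe_evalRingHom] at h5
    · simp only [AlgHom.comp_apply, h, aeval_X, P, coeff_C_mul]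
      simp only [map_mul, map_pow, Polynomial.aeval_C, Polynomial.aeval_X, Algebra.algebraMap_self,
        RingHom.id_apply, Polynomial.coe_aeval_eq_eval]
      change _ = g (orb k n m a (MvPolynomial.X e))
      rw [eq_comm, ← mul_right_inj' (multinomial_ne_zero hm e), h5]
      field_simp [multinomial_ne_zero hm e]
    · intro e' _ hne
      rw [coeff_monomial, if_neg fun h' => hne (Subtype.ext h')]
    · intro h'; exact absurd (Finset.mem_univ _) h'
  let z : FormRing k n m →ₐ[k] k := (Polynomial.aeval (0 : k)).comp h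
  have hinf : ({t : k | t ≠ 0} : Set k).Infinite := (Set.finite_singleton (0 : k)).infinite_compl
  refine ⟨z, lam, hdet, ?_, ?_, ?_, ?_⟩
  · intro f hf
    rw [RingHom.mem_ker] at hf ⊢
    have h0 : h f = 0 := by
      refine Polynomial.eq_zero_of_infinite_isRoot _ (hinf.mono fun t ht => ?_)
      have := AlgHom.congr_fun (heval (Units.mk0 t ht)) f
      change Polynomial.eval t (h f) = 0
      rw [← Polynomial.coe_aeval_eq_eval]
      refine this.trans ?_
      change SLn.pt n k (lam (Units.mk0 t ht)) (hdet _) (orb k n m a f) = 0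
      rw [hf, map_zero]
    change Polynomial.aeval (0 : k) (h f) = 0
    rw [h0, map_zero]
  · intro s f
    have h0 : h (HopfRep.Comod.act k (SLn n k) (FormRing k n m) (SLn.pt n k (lam s) (hdet s)) f) =
        (h f).comp (Polynomial.C (s : k) * Polynomial.X) := by
      refine sub_eq_zero.1 (Polynomial.eq_zero_of_infinite_isRoot _ (hinf.mono fun t ht => ?_))
      change Polynomial.eval t _ = 0
      rw [Polynomial.eval_sub, sub_eq_zero, Polynomial.eval_comp, Polynomial.eval_mul, Polynomial.eval_C,
        Polynomial.eval_X]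
      have e1 := AlgHom.congr_fun (heval (Units.mk0 t ht))
        (HopfRep.Comod.act k (SLn n k) (FormRing k n m) (SLn.pt n k (lam s) (hdet s)) f)
      have e2 := AlgHom.congr_fun (heval (Units.mk0 t ht * s)) f
      simp only [AlgHom.comp_apply, Polynomial.coe_aeval_eq_eval] at e1 e2
      rw [Units.val_mul, Units.val_mk0] at e2
      rw [Units.val_mk0] at e1
      rw [mul_comm, e2, e1, ← GitQuot.apply_actPt, StablePoints.actPt_actPt]
      congr 2
      rw [← StablePoints.pointMul_eq]
      refine SLn.algHom_ext (fun i j => ?_) ?_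
      · simp only [GitQuot.pointMul, AlgHom.comp_apply, Bialgebra.comulAlgHom_apply, SLn.pt_X, map_mul lam,
          Matrix.mul_apply]
        erw [show Coalgebra.comul (R := k) (SLn.X (k := k) i j) = ∑ l, SLn.X i l ⊗ₜ[k] SLn.X l j from by
          change Coalgebra.comul (R := k) (SLn.mkHom n k (GLn.X i j)) = _
          rw [← CoalgHomClass.map_comp_comul_apply, GLn.comul_X, map_sum]
          rfl]
        simp
      · have hD : SLn.mk n k GLn.Dinv = 1 := by
          have : SLn.mk n k (GLn.Dinv * GLn.det) = 1 := by rw [GLn.Dinv_mul_det, map_one]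
          rwa [map_mul, SLn.det_eq_one, mul_one] at this
        rw [hD, map_one, map_one]
    rw [GitQuot.apply_actPt]
    change Polynomial.aeval (0 : k) (h f) = Polynomial.aeval (0 : k) (h _)
    rw [h0, Polynomial.coe_aeval_eq_eval, Polynomial.eval_comp]
    simp
  · intro hW hW' hfin
    have hdW1 : 1 ≤ dW := Submodule.one_le_finrank_iff.2 hW
    have hdW2 : dW < n := by
      have := Submodule.finrank_lt hW'
      rwa [Module.finrank_fin_fun] at this
    obtain ⟨j₀, hj₀⟩ : ∃ j, inW j := by
      by_contra hno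
      push Not at hno
      haveI : IsEmpty {j // inW j} := ⟨fun j => hno j.1 j.2⟩
      rw [Nat.card_of_isEmpty] at hcard
      omega
    let N := n - dW
    have hN : 0 < N := Nat.sub_pos_of_lt hdW2
    -- the coordinate of weight `N`
    let χ : (SLn n k →ₐ[k] k) → k := fun g => (Cm * (Matrix.of fun i j => g (SLn.X i j)) * Cm⁻¹) j₀ j₀
    have hχ : ∀ s : kˣ, χ (SLn.pt n k (lam s) (hdet s)) = (s : k) ^ N := by
      intro s
      have e : (Matrix.of fun i j => SLn.pt n k (lam s) (hdet s) (SLn.X i j)) = Cm⁻¹ * D s * Cm := by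
        ext i j; simp only [Matrix.of_apply, SLn.pt_X]; rfl
      simp only [χ, e]
      rw [← Matrix.mul_assoc, ← Matrix.mul_assoc, Matrix.mul_nonsing_inv _ hCm, Matrix.one_mul,
        Matrix.mul_assoc, Matrix.mul_nonsing_inv _ hCm, Matrix.mul_one]
      change Matrix.diagonal _ j₀ j₀ = _
      rw [Matrix.diagonal_apply_eq]
      simp only [w, if_pos hj₀, show (n : ℤ) - dW = (N : ℤ) by omega, zpow_natCast, Units.val_pow_eq_pow_val]
    have hfin2 := hfin.image χ
    refine hinf ((hfin2.biUnion fun c _ =>
      ((Polynomial.X ^ N - Polynomial.C c).rootSet_finite k)).subset fun t ht => ?_)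
    refine Set.mem_biUnion ⟨_, ⟨Units.mk0 t ht, rfl⟩, rfl⟩ ?_
    rw [Polynomial.mem_rootSet, hχ]
    refine ⟨Polynomial.X_pow_sub_C_ne_zero hN _, ?_⟩
    simp
  · intro hlt
    have hE0 : E ≠ 0 := by omega
    refine MvPolynomial.algHom_ext fun e => ?_
    have hP : Polynomial.eval 0 (P.coeff e.1) = 0 := by
      simp only [P]; rw [coeff_C_mul]; simp [hE0]
    simp [z, h, GLin.vecPt, hP]

/-- The limit along a destabilising subspace prevents stability. -/
theorem not_isStableVec [IsAlgClosed k] (hm : (Nat.factorial m : k) ≠ 0) (c₀ : k)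
    (p : Fin m → Fin n → k) (a : FormIdx n m → k)
    (ha : formPoly a = C c₀ * ∏ i, ∑ j, C (p i j) * X j) (W : Submodule k (Fin n → k))
    (hW : W ≠ ⊥) (hW' : W ≠ ⊤)
    (hle : m * Module.finrank k W ≤ Nat.card {i : Fin m // p i ∈ W} * n) :
    ¬ @GLin.IsStableVec k _ (SLn n k) _ _ (FormIdx n m)
      (GLin.comodAlong ((SLn.mkHom n k).comp (Mat.toGLn n k)) (formsCoact k n m))
      (GLin.isCoactAlg_comodAlong ((SLn.mkHom n k).comp (Mat.toGLn n k)) (formsCoact k n m)
        (formsCoact_isCoactAlg k n m)) a := by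
  letI := GLin.comodAlong ((SLn.mkHom n k).comp (Mat.toGLn n k)) (formsCoact k n m)
  haveI := GLin.isCoactAlg_comodAlong ((SLn.mkHom n k).comp (Mat.toGLn n k)) (formsCoact k n m)
    (formsCoact_isCoactAlg k n m)
  haveI : Algebra.FiniteType k (SLn n k) :=
    ⟨(Set.finite_range fun ij : Fin n × Fin n => SLn.X (k := k) ij.1 ij.2).toFinset,
      eq_top_of_X_mem _ fun i j => Algebra.subset_adjoin (by simp)⟩
  intro hst
  obtain ⟨z, lam, hdet, hz, hfix, hinf, -⟩ := exists_limit hm c₀ p a ha W hle
  obtain ⟨hcl, hfin⟩ := (StablePoints.isStablePt_iff _).1 hst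
  obtain ⟨g, hg⟩ := hcl z hz
  refine hinf hW hW' ((((StablePoints.finite_stabPts_actPt_iff g _).2 hfin)).subset ?_)
  rintro _ ⟨s, rfl⟩
  rw [← hg]
  exact AlgHom.ext fun f => (hfix s f).symm

/-- The limit along a strictly destabilising subspace makes the form a nullform. -/
theorem not_isSemistableVec [IsAlgClosed k] (hm : (Nat.factorial m : k) ≠ 0) (c₀ : k)
    (p : Fin m → Fin n → k) (a : FormIdx n m → k)
    (ha : formPoly a = C c₀ * ∏ i, ∑ j, C (p i j) * X j) (W : Submodule k (Fin n → k))
    (hlt : m * Module.finrank k W < Nat.card {i : Fin m // p i ∈ W} * n) :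
    ¬ @GLin.IsSemistableVec k _ (SLn n k) _ _ (FormIdx n m)
      (GLin.comodAlong ((SLn.mkHom n k).comp (Mat.toGLn n k)) (formsCoact k n m))
      (GLin.isCoactAlg_comodAlong ((SLn.mkHom n k).comp (Mat.toGLn n k)) (formsCoact k n m)
        (formsCoact_isCoactAlg k n m)) a := by
  letI := GLin.comodAlong ((SLn.mkHom n k).comp (Mat.toGLn n k)) (formsCoact k n m)
  haveI := GLin.isCoactAlg_comodAlong ((SLn.mkHom n k).comp (Mat.toGLn n k)) (formsCoact k n m)
    (formsCoact_isCoactAlg k n m)
  haveI : Algebra.FiniteType k (SLn n k) :=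
    ⟨(Set.finite_range fun ij : Fin n × Fin n => SLn.X (k := k) ij.1 ij.2).toFinset,
      eq_top_of_X_mem _ fun i j => Algebra.subset_adjoin (by simp)⟩
  obtain ⟨z, lam, hdet, hz, -, -, h0⟩ := exists_limit hm c₀ p a ha W hlt.le
  intro hss
  refine hss fun F hF d hd hFd => ?_
  have h := GitQuot.invariant_eq_of_le (GLin.vecPt k (FormIdx n m) a) z hz (f := F) hF
  rw [h0 hlt] at h
  change MvPolynomial.aeval (fun _ => (0 : k)) F = MvPolynomial.aeval a F at h
  rw [MvPolynomial.aeval_zero', MvPolynomial.constantCoeff_eq, hFd.coeff_eq_zero (d := 0) (by simp; omega),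
    map_zero] at h
  exact h.symm

end Groth.Misc6.FormLimit
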