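import Groth.Agent.Misc6.WeakNorm
import Mathlib.AlgebraicGeometry.Morphisms.SchemeTheoreticallyDominant

/-!
`q : T' ⟶ T₁` is schematically dominant, equalises the projections on points of `T' ×_T T'`, `u` is a universal
homeomorphism when `p` is universally submersive, and maps `T' ⟶ X` agreeing on `(T' ×_T T')_red` factor
through `q`.
-/

set_option autoImplicit false
universe u
open CategoryTheory CategoryTheory.Limits AlgebraicGeometry

noncomputable section

namespace Groth.Agent.Misc6.WeakNorm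

/-- a surjective scheme-theoretically dominant quasi-compact morphism is an epimorphism of schemes. -/
theorem epi_of_surjective {A B : Scheme.{u}} (q : A ⟶ B) [Surjective q] [QuasiCompact q]
    [IsSchemeTheoreticallyDominant q] : Epi q := by
  refine ⟨fun {C} g₁ g₂ h => ?_⟩
  have hb : g₁.base = g₂.base := by
    ext x
    obtain ⟨a, rfl⟩ := q.surjective x
    exact congr($(h).base a)
  refine Scheme.Hom.ext hb fun U => ?_
  have e1 : g₂ ⁻¹ᵁ U ≤ g₁ ⁻¹ᵁ U := fun x hx => by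
    show g₁.base x ∈ U
    rw [hb]; exact hx
  have key : g₁.appLE U (g₂ ⁻¹ᵁ U) e1 ≫ q.app (g₂ ⁻¹ᵁ U) = g₂.app U ≫ q.app (g₂ ⁻¹ᵁ U) := by
    rw [Scheme.Hom.app_eq_appLE, Scheme.Hom.app_eq_appLE, Scheme.Hom.appLE_comp_appLE,
      Scheme.Hom.appLE_comp_appLE]
    simp only [h]
  ext s
  exact q.app_injective _ congr($(key) s)

variable {T T' : Scheme.{u}} (p : T' ⟶ T)

theorem lift_toSpecΓ {A Z : Scheme.{u}} (a : Z ⟶ A) (O : A.Opens) (ha : ⊤ ≤ a ⁻¹ᵁ O)
    (a' : Z ⟶ O) (h : a' ≫ O.ι = a) :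
    a' ≫ O.toSpecΓ = Z.toSpecΓ ≫ Spec.map (a.appLE O ⊤ ha) := by
  subst h
  rw [Scheme.Opens.toSpecΓ, Scheme.toSpecΓ_naturality_assoc, ← Spec.map_comp]
  congr 2
  show O.topIso.inv ≫ a'.appTop = (a' ≫ O.ι).appLE O ⊤ ha
  rw [← Scheme.Hom.appLE_comp_appLE a' O.ι O ⊤ ⊤ (by simp) le_top,
    Scheme.Opens.ι_appLE, Scheme.Opens.topIso_inv]
  simp [Scheme.Hom.appLE]
  rfl

theorem appLE_eq_zero_of_isNilpotent {A Z : Scheme.{u}} [IsReduced Z] (a : Z ⟶ A) (O : A.Opens)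
    (ha : ⊤ ≤ a ⁻¹ᵁ O) (d : Γ(A, O)) (hd : IsNilpotent d) : (a.appLE O ⊤ ha).hom d = 0 :=
  (hd.map (a.appLE O ⊤ ha).hom).eq_zero

theorem isNilpotent_of_forall_residue {A : Scheme.{u}} {O : A.Opens} (hO : IsCompact (O : Set A))
    (d : Γ(A, O))
    (h : ∀ (x : A) (hx : ⊤ ≤ A.fromSpecResidueField x ⁻¹ᵁ O),
      ((A.fromSpecResidueField x).appLE O ⊤ hx).hom d = 0) : IsNilpotent d := by
  rw [Scheme.isNilpotent_iff_basicOpen_eq_bot_of_isCompact hO]
  refine eq_bot_iff.mpr fun x hx => ?_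
  have hxO : x ∈ O := A.basicOpen_le d hx
  have hle : ⊤ ≤ A.fromSpecResidueField x ⁻¹ᵁ O := fun z _ => by
    show (A.fromSpecResidueField x).base z ∈ O
    rw [Scheme.fromSpecResidueField_apply]; exact hxO
  have h2 := Scheme.basicOpen_appLE (A.fromSpecResidueField x) ⊤ O hle d
  rw [show ((A.fromSpecResidueField x).appLE O ⊤ hle).hom d = 0 from h x hle,
    Scheme.basicOpen_zero] at h2
  have h3 : IsLocalRing.closedPoint (A.residueField x) ∈
      ((⊤ : (Spec (A.residueField x)).Opens) ⊓ A.fromSpecResidueField x ⁻¹ᵁ A.basicOpen d) := by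
    refine ⟨trivial, ?_⟩
    exact (congrArg (· ∈ A.basicOpen d) (Scheme.fromSpecResidueField_apply (X := A) x
      (IsLocalRing.closedPoint (A.residueField x)))).mpr hx
  rw [← h2] at h3
  exact h3

theorem appLE_top_injective {A B : Scheme.{u}} (j : A ⟶ B) [IsOpenImmersion j] (W : B.Opens)
    (hW : W = j.opensRange) (e : ⊤ ≤ j ⁻¹ᵁ W) : Function.Injective (j.appLE W ⊤ e) := by
  subst hW
  haveI : IsIso (j.app j.opensRange) := Scheme.Hom.isIso_app _ _ le_rfl
  haveI : IsIso (homOfLE e) := by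
    rw [show homOfLE e = eqToHom j.preimage_opensRange.symm from Subsingleton.elim _ _]
    infer_instance
  haveI : IsIso (j.appLE j.opensRange ⊤ e) := by
    rw [Scheme.Hom.appLE]; infer_instance
  exact (ConcreteCategory.bijective_of_isIso _).1

variable [QuasiCompact p] [QuasiSeparated p]

instance : IsSeparated (toBase p) := inferInstance

instance quasiCompact_fromTop : QuasiCompact (fromTop p) := by
  apply MorphismProperty.of_postcomp (W := @QuasiCompact) (W' := @QuasiSeparated) _ (toBase p)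
  · infer_instance
  · rw [fromTop_toBase]; infer_instance

/-- the chart `Spec A₁(U) ⟶ T₁`. -/
def chart (U : T.affineOpens) : Spec (CommRingCat.of (sub p U.1)) ⟶ space p := (openCov p).f U

instance (U : T.affineOpens) : IsOpenImmersion (chart p U) := (openCov p).map_prop U

theorem toBase_preimage' (U : T.affineOpens) : toBase p ⁻¹ᵁ U.1 = (chart p U).opensRange :=
  toBase_preimage p U

@[reassoc]
theorem ι_fromTop' (U : T.affineOpens) :
    (p ⁻¹ᵁ U.1).ι ≫ fromTop p = (p ⁻¹ᵁ U.1).toSpecΓ ≫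
      Spec.map (CommRingCat.ofHom (sub p U.1).subtype) ≫ chart p U :=
  ι_fromTop p U

/-- a morphism to `T'` over `U`, followed by `q`, in the chart `Spec A₁(U)`. -/
theorem comp_fromTop {Z : Scheme.{u}} (a : Z ⟶ T') (U : T.affineOpens)
    (ha : ⊤ ≤ a ⁻¹ᵁ (p ⁻¹ᵁ U.1)) :
    a ≫ fromTop p = Z.toSpecΓ ≫ Spec.map (CommRingCat.ofHom (sub p U.1).subtype ≫ a.appLE _ ⊤ ha) ≫
      chart p U := by
  have hr : Set.range a.base ⊆ Set.range (p ⁻¹ᵁ U.1).ι.base := by
    rw [Scheme.Opens.range_ι]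
    rintro _ ⟨z, rfl⟩
    exact ha (x := z) trivial
  obtain ⟨a', ha'⟩ : ∃ a' : Z ⟶ (p ⁻¹ᵁ U.1), a' ≫ (p ⁻¹ᵁ U.1).ι = a :=
    ⟨IsOpenImmersion.lift _ a hr, IsOpenImmersion.lift_fac _ a hr⟩
  conv_lhs => rw [← ha', Category.assoc, ι_fromTop', ← Category.assoc, lift_toSpecΓ a _ ha a' ha']
  simp [Spec.map_comp, Category.assoc]

instance isSchemeTheoreticallyDominant_fromTop :
    IsSchemeTheoreticallyDominant (fromTop p) := by
  constructor
  refine Scheme.IdealSheafData.ext_of_iSup_eq_top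
    (fun U : T.affineOpens ↦ ⟨toBase p ⁻¹ᵁ U.1, isAffineOpen_toBase_preimage p U⟩)
    (TopologicalSpace.IsOpenCover.comap (iSup_affineOpens_eq_top _) _) fun U ↦ ?_
  simp only [Scheme.Hom.ker_apply, Scheme.IdealSheafData.ideal_bot, Pi.bot_apply]
  rw [← RingHom.injective_iff_ker_eq_bot, injective_iff_map_eq_zero]
  intro s hs
  set j := chart p U with hj
  let g : ((p ⁻¹ᵁ U.1 : T'.Opens) : Scheme.{u}) ⟶ Spec (CommRingCat.of (sub p U.1)) :=
    (p ⁻¹ᵁ U.1).toSpecΓ ≫ Spec.map (CommRingCat.ofHom (sub p U.1).subtype)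
  have hgj : (p ⁻¹ᵁ U.1).ι ≫ fromTop p = g ≫ j := by
    rw [ι_fromTop']; simp only [g, Category.assoc, hj]
  have hjtop : ⊤ ≤ j ⁻¹ᵁ (toBase p ⁻¹ᵁ U.1) := by
    show ⊤ ≤ chart p U ⁻¹ᵁ _
    rw [toBase_preimage', Scheme.Hom.preimage_opensRange]
  have hιtop : ⊤ ≤ (p ⁻¹ᵁ U.1).ι ⁻¹ᵁ (fromTop p ⁻¹ᵁ (toBase p ⁻¹ᵁ U.1)) := by
    rw [← Scheme.Hom.comp_preimage, ← Scheme.Hom.comp_preimage]
    simp only [Category.assoc, fromTop_toBase]
    simp
  have h0 : ((p ⁻¹ᵁ U.1).ι ≫ fromTop p).appLE (toBase p ⁻¹ᵁ U.1) ⊤ hιtop s = 0 := by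
    rw [← Scheme.Hom.appLE_comp_appLE (p ⁻¹ᵁ U.1).ι (fromTop p) (toBase p ⁻¹ᵁ U.1) _ ⊤ le_rfl hιtop,
      ← Scheme.Hom.app_eq_appLE]
    exact (congrArg (fun y => ((p ⁻¹ᵁ U.1).ι.appLE _ ⊤ hιtop).hom y) hs).trans (map_zero _)
  simp only [hgj] at h0
  rw [← Scheme.Hom.appLE_comp_appLE g j _ ⊤ ⊤ hjtop (by simp)] at h0
  have hg : Function.Injective (g.appLE ⊤ ⊤ (by simp)) := by
    have : g.appLE ⊤ ⊤ (by simp) = (Scheme.ΓSpecIso (CommRingCat.of (sub p U.1))).hom ≫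
        CommRingCat.ofHom (sub p U.1).subtype ≫ (p ⁻¹ᵁ U.1).topIso.inv := by
      show g.app ⊤ ≫ _ = _
      simp [g, Scheme.Opens.toSpecΓ_appTop]
      first
        | exact (Category.comp_id _).trans (Scheme.ΓSpecIso_naturality_assoc _ _)
        | exact congrArg (_ ≫ ·) (Category.comp_id _)
    rw [this]
    exact ((ConcreteCategory.bijective_of_isIso (p ⁻¹ᵁ U.1).topIso.inv).1.comp
      Subtype.val_injective).comp
      (ConcreteCategory.bijective_of_isIso
        (Scheme.ΓSpecIso (CommRingCat.of (sub p U.1))).hom).1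
  exact appLE_top_injective j _ (toBase_preimage' p U) hjtop
    ((hg (h0.trans (map_zero _).symm)).trans (map_zero _).symm)

/-- `q` equalises the two projections at the points of `T' ×_T T'`. -/
theorem fromTop_eq (x : ↥(pullback p p)) :
    (pullback p p).fromSpecResidueField x ≫ pullback.fst p p ≫ fromTop p =
      (pullback p p).fromSpecResidueField x ≫ pullback.snd p p ≫ fromTop p := by
  obtain ⟨_, ⟨U, hU, rfl⟩, hxU, -⟩ := T.isBasis_affineOpens.exists_subset_of_mem_open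
    (Set.mem_univ ((pullback.fst p p ≫ p).base x)) isOpen_univ
  set w := (pullback p p).fromSpecResidueField x
  set O := (pullback.fst p p ≫ p) ⁻¹ᵁ U
  have hw : ⊤ ≤ w ⁻¹ᵁ O := fun z _ => by
    show w.base z ∈ O
    rw [Scheme.fromSpecResidueField_apply]; exact hxU
  have h1 : ⊤ ≤ (w ≫ pullback.fst p p) ⁻¹ᵁ (p ⁻¹ᵁ U) :=
    le_trans hw (w.preimage_mono (le_fst p U))
  have h2 : ⊤ ≤ (w ≫ pullback.snd p p) ⁻¹ᵁ (p ⁻¹ᵁ U) :=
    le_trans hw (w.preimage_mono (le_snd p U))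
  rw [← Category.assoc, comp_fromTop p _ ⟨U, hU⟩ h1, ← Category.assoc w,
    comp_fromTop p _ ⟨U, hU⟩ h2]
  have : CommRingCat.ofHom (sub p U).subtype ≫ (w ≫ pullback.fst p p).appLE (p ⁻¹ᵁ U) ⊤ h1 =
      CommRingCat.ofHom (sub p U).subtype ≫ (w ≫ pullback.snd p p).appLE (p ⁻¹ᵁ U) ⊤ h2 := by
    ext ⟨s, hs⟩
    rw [← Scheme.Hom.appLE_comp_appLE w (pullback.fst p p) _ O ⊤ (le_fst p U) hw,
      ← Scheme.Hom.appLE_comp_appLE w (pullback.snd p p) _ O ⊤ (le_snd p U) hw]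
    show (w.appLE O ⊤ hw).hom (r₁ p U s) = (w.appLE O ⊤ hw).hom (r₂ p U s)
    rw [← sub_eq_zero, ← map_sub]
    exact appLE_eq_zero_of_isNilpotent w O hw _ hs
  rw [this]

theorem isUnivHomeo_toBase (hp : SGA1.UnivSubmersive p) : FlatMor.IsUnivHomeo (toBase p) :=
  WeakNormTop.isUnivHomeo_u (fromTop_toBase p) (fromTop_eq p) hp

theorem surjective_fromTop (hp : SGA1.UnivSubmersive p) : Surjective (fromTop p) :=
  WeakNormTop.surjective_q (fromTop_toBase p) (fromTop_eq p) hp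

variable {X : Scheme.{u}} (f' : T' ⟶ X)
  (heq : ∀ x : ↥(pullback p p), (pullback p p).fromSpecResidueField x ≫ pullback.fst p p ≫ f' =
    (pullback p p).fromSpecResidueField x ≫ pullback.snd p p ≫ f')

include heq in
theorem appLE_mem_sub {U : T.Opens} (hU : IsAffineOpen U) {V : X.Opens}
    (hle : p ⁻¹ᵁ U ≤ f' ⁻¹ᵁ V) (s : Γ(X, V)) : (f'.appLE V _ hle).hom s ∈ sub p U := by
  rw [mem_sub]
  refine isNilpotent_of_forall_residue (isCompact_pullback_preimage p hU) _ fun x hx => ?_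
  rw [map_sub, sub_eq_zero]
  simp only [r₁, r₂, ← CommRingCat.comp_apply, Scheme.Hom.appLE_comp_appLE, Category.assoc,
    heq x]

include heq in
omit [QuasiCompact p] [QuasiSeparated p] in
theorem exists_chart (hp : SGA1.UnivSubmersive p) (t : T) :
    ∃ U : T.affineOpens, t ∈ U.1 ∧ ∃ V : X.affineOpens, p ⁻¹ᵁ U.1 ≤ f' ⁻¹ᵁ V.1 := by
  have hq : Topology.IsQuotientMap p.base :=
    MorphismProperty.universally_le _ _ hp
  obtain ⟨b, rfl⟩ := hq.surjective t
  obtain ⟨_, ⟨V, hV, rfl⟩, hbV, -⟩ := X.isBasis_affineOpens.exists_subset_of_mem_open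
    (Set.mem_univ (f'.base b)) isOpen_univ
  have hsat : p.base ⁻¹' (p.base '' (f'.base ⁻¹' V)) = f'.base ⁻¹' V := by
    refine Set.Subset.antisymm ?_ (Set.subset_preimage_image _ _)
    rintro a ⟨c, hc, hca⟩
    obtain ⟨w, hw1, hw2⟩ := Scheme.Pullback.exists_preimage_pullback (f := p) (g := p) a c hca.symm
    let z : ↥(Spec ((pullback p p).residueField w)) := IsLocalRing.closedPoint _
    have hz : ((pullback p p).fromSpecResidueField w).base z = w :=
      Scheme.fromSpecResidueField_apply _ _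
    have := congr($(heq w).base z)
    rw [Scheme.Hom.comp_apply, Scheme.Hom.comp_apply, Scheme.Hom.comp_apply, Scheme.Hom.comp_apply,
      hz, hw1, hw2] at this
    show f'.base a ∈ V
    rw [this]; exact hc
  have hopen : IsOpen (p.base '' (f'.base ⁻¹' V)) := by
    rw [← hq.isOpen_preimage, hsat]; exact V.2.preimage f'.continuous
  obtain ⟨_, ⟨U, hU, rfl⟩, htU, hUle⟩ := T.isBasis_affineOpens.exists_subset_of_mem_open
    (show p.base b ∈ p.base '' (f'.base ⁻¹' V) from ⟨b, hbV, rfl⟩) hopen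
  refine ⟨⟨U, hU⟩, htU, ⟨V, hV⟩, fun z hz => ?_⟩
  have : z ∈ p.base ⁻¹' (p.base '' (f'.base ⁻¹' V)) := hUle hz
  rw [hsat] at this
  exact this

include heq in
theorem exists_factor (hp : SGA1.UnivSubmersive p) :
    ∃ f₁ : space p ⟶ X, fromTop p ≫ f₁ = f' := by
  haveI := surjective_fromTop p hp
  choose U htU V hle using fun t : T => exists_chart p f' heq hp t
  let cov : (space p).OpenCover := Scheme.openCoverOfIsOpenCover (space p)
    (fun t : T => toBase p ⁻¹ᵁ (U t).1) (by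
      refine TopologicalSpace.IsOpenCover.comap ?_ _
      exact eq_top_iff.mpr fun t _ => TopologicalSpace.Opens.mem_iSup.mpr ⟨t, htU t⟩)
  let φ : ∀ t : T, Γ(X, (V t).1) ⟶ CommRingCat.of (sub p (U t).1) := fun t =>
    CommRingCat.ofHom ((f'.appLE _ _ (hle t)).hom.codRestrict _
      (appLE_mem_sub p f' heq (U t).2 (hle t)))
  have hrange : ∀ t : T, Set.range (toBase p ⁻¹ᵁ (U t).1).ι.base ⊆
      Set.range (chart p (U t)).base := by
    intro t
    rw [Scheme.Opens.range_ι, toBase_preimage']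
    exact subset_rfl
  let e : ∀ t : T, ((toBase p ⁻¹ᵁ (U t).1 : (space p).Opens) : Scheme.{u}) ⟶
      Spec (CommRingCat.of (sub p (U t).1)) := fun t =>
    IsOpenImmersion.lift (chart p (U t)) _ (hrange t)
  have he : ∀ t : T, e t ≫ chart p (U t) = (toBase p ⁻¹ᵁ (U t).1).ι := fun t =>
    IsOpenImmersion.lift_fac _ _ (hrange t)
  let ψ : ∀ t : T, ((toBase p ⁻¹ᵁ (U t).1 : (space p).Opens) : Scheme.{u}) ⟶ X := fun t =>
    e t ≫ Spec.map (φ t) ≫ (V t).2.fromSpec
  have hψ : ∀ (t : T) (Z : Scheme.{u}) (a : Z ⟶ T')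
      (b : Z ⟶ (toBase p ⁻¹ᵁ (U t).1 : (space p).Opens)),
      b ≫ (toBase p ⁻¹ᵁ (U t).1).ι = a ≫ fromTop p → b ≫ ψ t = a ≫ f' := by
    intro t Z a b hab
    have ha : ⊤ ≤ a ⁻¹ᵁ (p ⁻¹ᵁ (U t).1) := fun z _ => by
      show p.base (a.base z) ∈ (U t).1
      have h1 : (toBase p).base (((a ≫ fromTop p)).base z) ∈ (U t).1 := by
        rw [← hab, Scheme.Hom.comp_apply]
        exact (b.base z).2
      rwa [← Scheme.Hom.comp_apply, Category.assoc, fromTop_toBase, Scheme.Hom.comp_apply] at h1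
    have hb : b ≫ e t = Z.toSpecΓ ≫
        Spec.map (CommRingCat.ofHom (sub p (U t).1).subtype ≫ a.appLE _ ⊤ ha) := by
      rw [← cancel_mono (chart p (U t)), Category.assoc, he, hab, comp_fromTop p a (U t) ha,
        Category.assoc]
    rw [show b ≫ ψ t = (b ≫ e t) ≫ Spec.map (φ t) ≫ (V t).2.fromSpec by simp [ψ], hb,
      Category.assoc, ← Spec.map_comp_assoc]
    have : φ t ≫ CommRingCat.ofHom (sub p (U t).1).subtype ≫ a.appLE _ ⊤ ha =
        (a ≫ f').appLE (V t).1 ⊤ (le_trans ha (a.preimage_mono (hle t))) := by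
      rw [← Category.assoc, ← Scheme.Hom.appLE_comp_appLE a f' _ _ ⊤ (hle t) ha]
      rfl
    rw [this]
    haveI : IsOpenImmersion ((V t).1.ι) := inferInstance
    have hr : Set.range (a ≫ f').base ⊆ Set.range (V t).1.ι.base := by
      rw [Scheme.Opens.range_ι]
      rintro _ ⟨z, rfl⟩
      exact hle t (ha (x := z) trivial)
    rw [← reassoc_of% lift_toSpecΓ (a ≫ f') (V t).1 _ (IsOpenImmersion.lift _ _ hr)
      (IsOpenImmersion.lift_fac _ _ hr)]
    exact ((congrArg (IsOpenImmersion.lift _ _ hr ≫ ·) (IsAffineOpen.toSpecΓ_fromSpec (V t).2)).trans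
      (IsOpenImmersion.lift_fac _ _ hr))
  clear_value ψ
  have hglue : ∀ (s t : T) (P : Scheme.{u}) (a : P ⟶ (toBase p ⁻¹ᵁ (U s).1 : (space p).Opens))
      (b : P ⟶ (toBase p ⁻¹ᵁ (U t).1 : (space p).Opens)) (j : P ⟶ space p),
      IsOpenImmersion j → a ≫ (toBase p ⁻¹ᵁ (U s).1).ι = j →
      b ≫ (toBase p ⁻¹ᵁ (U t).1).ι = j → a ≫ ψ s = b ≫ ψ t := by
    intro s t P a b j hj ha hb
    haveI : Epi (pullback.snd (fromTop p) j) := epi_of_surjective _
    rw [← cancel_epi (pullback.snd (fromTop p) j), ← Category.assoc, ← Category.assoc,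
      hψ s _ (pullback.fst (fromTop p) j) _ (by rw [Category.assoc, ha, pullback.condition]),
      hψ t _ (pullback.fst (fromTop p) j) _ (by rw [Category.assoc, hb, pullback.condition])]
  refine ⟨cov.glueMorphisms ψ fun s t => hglue s t _ _ _ _
    (inferInstanceAs (IsOpenImmersion (pullback.fst (cov.f s) (cov.f t) ≫ cov.f s))) rfl
    pullback.condition.symm, ?_⟩
  · let W : T → (space p).Opens := fun t => toBase p ⁻¹ᵁ (U t).1
    have hcovW : TopologicalSpace.IsOpenCover (fun t => fromTop p ⁻¹ᵁ W t) := by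
      refine TopologicalSpace.IsOpenCover.comap ?_ _
      refine TopologicalSpace.IsOpenCover.comap ?_ _
      exact eq_top_iff.mpr fun t _ => TopologicalSpace.Opens.mem_iSup.mpr ⟨t, htU t⟩
    refine Scheme.Cover.hom_ext (T'.openCoverOfIsOpenCover _ hcovW) _ _ fun t => ?_
    show (fromTop p ⁻¹ᵁ W t).ι ≫ _ ≫ _ = (fromTop p ⁻¹ᵁ W t).ι ≫ f'
    rw [← Category.assoc, ← morphismRestrict_ι, Category.assoc]
    refine (congrArg ((fromTop p ∣_ W t) ≫ ·) (Scheme.Cover.ι_glueMorphisms cov ψ _ t)).trans ?_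
    exact hψ t _ _ _ (morphismRestrict_ι (fromTop p) (W t))

end Groth.Agent.Misc6.WeakNorm
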