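import Mathlib.RingTheory.PowerSeries.Inverse
import Mathlib.LinearAlgebra.Matrix.Block
import Mathlib.LinearAlgebra.Matrix.Transvection
import Mathlib.LinearAlgebra.Matrix.NonsingularInverse

/-!
Row-reduced forms of nonsingular matrices over power series rings.
-/

universe u

open PowerSeries

namespace Groth.Misc6.Hermite

variable {k : Type u} [Field k] {r : ℕ}

local notation "R" => PowerSeries k
local notation "Mat" => Matrix (Fin r) (Fin r) (PowerSeries k)

/-- Upper triangular with diagonal entries `X ^ e i`. -/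
def Tri (e : Fin r → ℕ) (H : Mat) : Prop :=
  (∀ i, H i i = X ^ e i) ∧ ∀ i j, j < i → H i j = 0

/-- Row-reduced. -/
def Red (e : Fin r → ℕ) (H : Mat) : Prop :=
  ∀ i j, i < j → ∀ n, e j ≤ n → coeff n (H i j) = 0

lemma exists_unit_mul_X_pow {f : R} (hf : f ≠ 0) : ∃ (n : ℕ) (u : (PowerSeries k)ˣ), f = (u : R) * (X : R) ^ n :=
  IsDiscreteValuationRing.eq_unit_mul_pow_irreducible hf PowerSeries.X_irreducible

/-- A nonsingular matrix can be triangularised by row operations. -/
theorem exists_tri (M : Mat) (hM : M.det ≠ 0) :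
    ∃ (N : Mat) (e : Fin r → ℕ), IsUnit N ∧ Tri e (N * M) := by
  classical
  have hex : ∀ j : Fin r, ∃ d : ℕ, ∃ c : Fin r → R,
      (∀ l, l < j → Matrix.vecMul c M l = 0) ∧ Matrix.vecMul c M j = X ^ d := fun j => by
    obtain ⟨n, u, hu⟩ := exists_unit_mul_X_pow hM
    refine ⟨n, (↑u⁻¹ : R) • M.adjugate j, fun l hl => ?_, ?_⟩
    · have h := congrFun (congrFun M.adjugate_mul j) l
      rw [Matrix.smul_apply, Matrix.one_apply_ne hl.ne', smul_zero, Matrix.mul_apply'] at h
      rw [Matrix.smul_vecMul, Pi.smul_apply]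
      exact smul_eq_zero_of_right _ h
    · have h := congrFun (congrFun M.adjugate_mul j) j
      rw [Matrix.smul_apply, Matrix.one_apply_eq, smul_eq_mul, mul_one, Matrix.mul_apply'] at h
      rw [Matrix.smul_vecMul, Pi.smul_apply]
      change (↑u⁻¹ : R) * _ = _
      rw [show Matrix.vecMul (M.adjugate j) M j = M.det from h, hu, ← mul_assoc, Units.inv_mul,
        one_mul]
  let e : Fin r → ℕ := fun j => Nat.find (hex j)
  choose c hc1 hc2 using fun j => Nat.find_spec (hex j)
  let N : Mat := Matrix.of c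
  have hH : ∀ i j, (N * M) i j = Matrix.vecMul (c i) M j := fun i j => rfl
  have htri : Tri e (N * M) := ⟨fun i => by rw [hH, hc2], fun i j hji => by rw [hH, hc1 i j hji]⟩
  have hdvd : ∀ j (a : Fin r → R), (∀ l, l < j → Matrix.vecMul a M l = 0) →
      (X : R) ^ e j ∣ Matrix.vecMul a M j := fun j a ha => by
    rcases eq_or_ne (Matrix.vecMul a M j) 0 with h0 | h0
    · rw [h0]; exact dvd_zero _
    obtain ⟨n, u, hu⟩ := exists_unit_mul_X_pow h0
    have hle : e j ≤ n := Nat.find_min' (hex j) ⟨(↑u⁻¹ : R) • a, fun l hl => by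
      rw [Matrix.smul_vecMul, Pi.smul_apply, ha l hl, smul_zero], by
      rw [Matrix.smul_vecMul, Pi.smul_apply, smul_eq_mul, hu, ← mul_assoc, Units.inv_mul, one_mul]⟩
    rw [hu]
    exact Dvd.dvd.mul_left (pow_dvd_pow _ hle) _
  have hspan : ∀ m : ℕ, ∀ a : Fin r → R, (∀ l : Fin r, l.1 + m < r → Matrix.vecMul a M l = 0) →
      ∃ b : Fin r → R, Matrix.vecMul a M = Matrix.vecMul b (N * M) := by
    intro m
    induction m with
    | zero =>
      intro a ha
      refine ⟨0, ?_⟩
      rw [Matrix.zero_vecMul]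
      exact funext fun l => ha l (by simp [l.2])
    | succ m ih =>
      intro a ha
      by_cases hm : m < r
      · let j : Fin r := ⟨r - (m + 1), by omega⟩
        obtain ⟨q, hq⟩ := hdvd j a fun l hl => ha l (by
          have : l.1 < r - (m + 1) := hl
          omega)
        obtain ⟨b, hb⟩ := ih (a - q • c j) fun l hl => by
          rw [Matrix.sub_vecMul, Matrix.smul_vecMul, Pi.sub_apply, Pi.smul_apply]
          rcases lt_or_eq_of_le (show l.1 ≤ j.1 by change l.1 ≤ r - (m + 1); omega) with hlt | heq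
          · rw [ha l (by change l.1 < r - (m + 1) at hlt; omega), hc1 j l hlt, smul_zero, sub_zero]
          · rw [Fin.ext heq, hc2, hq, smul_eq_mul, mul_comm q, sub_self]
        refine ⟨b + q • Pi.single j 1, ?_⟩
        rw [Matrix.add_vecMul, ← hb, Matrix.smul_vecMul, Matrix.single_one_vecMul, Matrix.sub_vecMul,
          Matrix.smul_vecMul]
        exact (sub_add_cancel _ _).symm
      · exact ih a fun l hl => absurd hl (by omega)
  choose b hb using fun i : Fin r => hspan r (Pi.single i 1) (fun l hl => absurd hl (by omega))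
  have hMN : (Matrix.of b * N - 1) * M = 0 := by
    rw [sub_mul, one_mul, sub_eq_zero, mul_assoc]
    ext i j
    rw [show (Matrix.of b * (N * M)) i j = Matrix.vecMul (b i) (N * M) j from rfl, ← hb i,
      Matrix.single_one_vecMul]
    rfl
  have hBN : Matrix.of b * N = 1 := by
    have h := congrArg (· * M.adjugate) hMN
    simp only [zero_mul, mul_assoc, Matrix.mul_adjugate, mul_smul_comm, mul_one, smul_eq_zero] at h
    exact sub_eq_zero.1 (h.resolve_left hM)
  exact ⟨N, e, IsUnit.of_mul_eq_one_right _ hBN, htri⟩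

/-- The quotient of `f` by `X ^ d`. -/
noncomputable def quo (d : ℕ) (f : R) : R := PowerSeries.mk fun n => coeff (n + d) f

lemma coeff_sub_quo (d : ℕ) (f : R) (n : ℕ) :
    coeff n (f - quo d f * X ^ d) = if d ≤ n then 0 else coeff n f := by
  rw [map_sub, mul_comm, coeff_X_pow_mul']
  split_ifs with h
  · rw [quo, coeff_mk, Nat.sub_add_cancel h, sub_self]
  · rw [sub_zero]

/-- Truncate the entries above the diagonal in one column by row operations. -/
theorem exists_trunc {e : Fin r → ℕ} {H : Mat} (hH : Tri e H) (m : Fin r) :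
    ∃ N : Mat, IsUnit N ∧ Tri e (N * H) ∧ (∀ i j, j < m → (N * H) i j = H i j) ∧
      ∀ i, i < m → ∀ n, coeff n ((N * H) i m) = if e m ≤ n then 0 else coeff n (H i m) := by
  classical
  let q : Fin r → R := fun i => if i < m then quo (e m) (H i m) else 0
  let E : Mat := Matrix.of fun i j => if j = m then q i else 0
  have hN : ∀ i j, ((1 - E) * H) i j = H i j - q i * H m j := fun i j => by
    rw [sub_mul, one_mul, Matrix.sub_apply, Matrix.mul_apply]
    congr 1
    rw [Finset.sum_eq_single m (fun l _ hl => by simp [E, hl])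
      (fun h => absurd (Finset.mem_univ m) h)]
    simp [E]
  refine ⟨1 - E, ?_, ⟨fun i => ?_, fun i j hji => ?_⟩, fun i j hj => ?_, fun i hi n => ?_⟩
  · rw [Matrix.isUnit_iff_isUnit_det, Matrix.det_of_isUpperTriangular]
    · refine IsUnit.prod_iff.2 fun i _ => ?_
      by_cases h : i = m <;> simp [E, q, h]
    · intro i j hji
      have hji' : j < i := hji
      simp only [Matrix.sub_apply, E, Matrix.of_apply, Matrix.one_apply_ne hji'.ne', zero_sub,
        neg_eq_zero, q]
      by_cases h : j = m
      · subst h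
        rw [if_pos rfl, if_neg hji'.asymm]
      · rw [if_neg h]
  · rw [hN, hH.1]
    by_cases h : i < m
    · rw [hH.2 m i h, mul_zero, sub_zero]
    · simp [q, h]
  · rw [hN, hH.2 i j hji]
    by_cases h : i < m
    · rw [hH.2 m j (hji.trans h), mul_zero, sub_zero]
    · simp [q, h]
  · rw [hN, hH.2 m j hj, mul_zero, sub_zero]
  · rw [hN, hH.1]
    simp only [q, if_pos hi]
    exact coeff_sub_quo _ _ _

/-- Existence of the reduced form. -/
theorem exists_red (M : Mat) (hM : M.det ≠ 0) :
    ∃ (N : Mat) (e : Fin r → ℕ), IsUnit N ∧ Tri e (N * M) ∧ Red e (N * M) := by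
  obtain ⟨N₀, e, hN₀, h₀⟩ := exists_tri M hM
  have : ∀ m ≤ r, ∃ N : Mat, IsUnit N ∧ Tri e (N * M) ∧
      ∀ i j, i < j → j.1 < m → ∀ n, e j ≤ n → coeff n ((N * M) i j) = 0 := by
    intro m
    induction m with
    | zero => exact fun _ => ⟨N₀, hN₀, h₀, fun i j _ h => absurd h (Nat.not_lt_zero _)⟩
    | succ m ih =>
      intro hm
      obtain ⟨N, hN, htri, hred⟩ := ih (by omega)
      obtain ⟨N', hN', htri', hpre, htr⟩ := exists_trunc htri ⟨m, hm⟩
      refine ⟨N' * N, hN'.mul hN, mul_assoc N' N M ▸ htri', fun i j hij hj n hn => ?_⟩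
      rw [mul_assoc]
      rcases Nat.lt_succ_iff_lt_or_eq.1 hj with h | h
      · rw [hpre i j h, hred i j hij h n hn]
      · obtain rfl : j = ⟨m, hm⟩ := Fin.ext h
        rw [htr i hij n, if_pos hn]
  obtain ⟨N, hN, htri, hred⟩ := this r le_rfl
  exact ⟨N, e, hN, htri, fun i j hij => hred i j hij j.2⟩

lemma vecMul_tri {e : Fin r → ℕ} {H : Mat} (hH : Tri e H) (a : Fin r → R) (j : Fin r)
    (ha : ∀ l, l < j → Matrix.vecMul a H l = 0) :
    (∀ l, l < j → a l = 0) ∧ Matrix.vecMul a H j = a j * X ^ e j := by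
  have key : ∀ j : Fin r, (∀ l, l < j → a l = 0) → Matrix.vecMul a H j = a j * X ^ e j := fun j h => by
    rw [← hH.1 j]
    refine Finset.sum_eq_single j (fun l _ hl => ?_) (fun h => absurd (Finset.mem_univ j) h)
    rcases lt_or_gt_of_ne hl with hl' | hl'
    · exact mul_eq_zero_of_left (h l hl') _
    · exact mul_eq_zero_of_right _ (hH.2 l j hl')
  have hzero : ∀ m : ℕ, ∀ l, l < j → l.1 < m → a l = 0 := by
    intro m
    induction m with
    | zero => exact fun l _ h => absurd h (Nat.not_lt_zero _)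
    | succ m ih =>
      intro l hl hlm
      have h := key l (fun l' hl' => ih l' (hl'.trans hl)
        (lt_of_lt_of_le hl' (Nat.lt_succ_iff.1 hlm)))
      rw [ha l hl] at h
      exact (mul_eq_zero.1 h.symm).resolve_right (pow_ne_zero _ PowerSeries.X_ne_zero)
  exact ⟨fun l hl => hzero (l.1 + 1) l hl (Nat.lt_succ_self _),
    key j fun l hl => hzero (l.1 + 1) l hl (Nat.lt_succ_self _)⟩

/-- Uniqueness of the reduced form. -/
theorem red_unique {e e' : Fin r → ℕ} {H H' : Mat} (hH : Tri e H) (hr : Red e H) (hH' : Tri e' H')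
    (hr' : Red e' H') {A B : Mat} (hA : H' = A * H) (hB : H = B * H') : H = H' := by
  have hle : ∀ {e e' : Fin r → ℕ} {H H' A : Mat}, Tri e H → Tri e' H' → H' = A * H →
      ∀ j, e j ≤ e' j := by
    intro e e' H H' A hH hH' hA j
    have h1 : ∀ l, Matrix.vecMul (A j) H l = H' j l := fun l => by rw [hA]; rfl
    obtain ⟨-, h⟩ := vecMul_tri hH (A j) j fun l hl => by rw [h1, hH'.2 j l hl]
    rw [h1, hH'.1] at h
    by_contra hlt
    have h2 := congrArg (coeff (e' j)) h
    rw [coeff_X_pow_self, mul_comm, coeff_X_pow_mul', if_neg hlt] at h2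
    exact one_ne_zero h2
  have he : e = e' := funext fun j => le_antisymm (hle hH hH' hA j) (hle hH' hH hB j)
  subst he
  ext1 i j
  induction j using WellFoundedLT.induction with
  | _ j ih =>
    rcases lt_trichotomy j i with h | rfl | h
    · rw [hH.2 i j h, hH'.2 i j h]
    · rw [hH.1, hH'.1]
    · let a : Fin r → R := Pi.single i 1 - A i
      have h1 : ∀ l, Matrix.vecMul a H l = H i l - H' i l := fun l => by
        rw [Matrix.sub_vecMul, Matrix.single_one_vecMul, Pi.sub_apply, hA]
        rfl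
      obtain ⟨-, hj⟩ := vecMul_tri hH a j fun l hl => by rw [h1, ih l hl, sub_self]
      rw [h1] at hj
      ext n
      by_cases hn : e j ≤ n
      · rw [hr i j h n hn, hr' i j h n hn]
      · have h2 := congrArg (coeff n) hj
        rw [mul_comm, coeff_X_pow_mul', if_neg hn, map_sub, sub_eq_zero] at h2
        exact h2

/-- Power series supported in degrees divisible by `p`. -/
def powSubring (p : ℕ) : Subring R where
  carrier := {f | ∀ n, ¬ p ∣ n → coeff n f = 0}
  one_mem' n hn := by
    rw [coeff_one, if_neg]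
    rintro rfl
    exact hn (dvd_zero _)
  zero_mem' n _ := map_zero _
  add_mem' {f g} hf hg n hn := by rw [map_add, hf n hn, hg n hn, add_zero]
  neg_mem' {f} hf n hn := by rw [map_neg, hf n hn, neg_zero]
  mul_mem' {f g} hf hg n hn := by
    rw [coeff_mul]
    refine Finset.sum_eq_zero fun ab hab => ?_
    rw [Finset.mem_antidiagonal] at hab
    by_cases h1 : p ∣ ab.1
    · rw [hg ab.2 (fun h2 => hn (hab ▸ dvd_add h1 h2)), mul_zero]
    · rw [hf ab.1 h1, zero_mul]

/-- The part of `f / X ^ d` in degrees divisible by `p`. -/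
noncomputable def pquo (p d : ℕ) (f : R) : R :=
  PowerSeries.mk fun n => if p ∣ n then coeff (n + d) f else 0

lemma coeff_sub_pquo (p d : ℕ) (f : R) (n : ℕ) (h1 : d ≤ n) (h2 : n % p = d % p) :
    coeff n (f - pquo p d f * X ^ d) = 0 := by
  rw [map_sub, mul_comm, coeff_X_pow_mul', if_pos h1, pquo, coeff_mk,
    if_pos ((Nat.modEq_iff_dvd' h1).1 h2.symm), Nat.sub_add_cancel h1, sub_self]

/-- Clear the congruent terms of a column by column operations. -/
theorem exists_colOps (p : ℕ) {e : Fin r → ℕ} {H : Mat} (hH : Tri e H) (m : Fin r) :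
    ∀ d : ℕ, ∃ P : Mat, IsUnit P ∧ (∀ i j, P i j ∈ powSubring (k := k) p) ∧ Tri e (H * P) ∧
      (∀ i j, j ≠ m → (H * P) i j = H i j) ∧
      ∀ i : Fin r, i < m → m.1 ≤ i.1 + d → ∀ n, e i ≤ n → n % p = e i % p →
        coeff n ((H * P) i m) = 0 := by
  classical
  intro d
  induction d with
  | zero =>
    refine ⟨1, isUnit_one, fun i j => ?_, by rwa [mul_one], fun i j _ => by rw [mul_one],
      fun i hi h => absurd h (by have : i.1 < m.1 := hi; omega)⟩
    by_cases h : i = j
    · subst h; rw [Matrix.one_apply_eq]; exact one_mem _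
    · rw [Matrix.one_apply_ne h]; exact zero_mem _
  | succ d ih =>
    obtain ⟨P, hP, hPS, htri, hpre, hgood⟩ := ih
    by_cases hd : d < m.1
    · let i₀ : Fin r := ⟨m.1 - (d + 1), by omega⟩
      have hi₀ : i₀ < m := by change m.1 - (d + 1) < m.1; omega
      let c := -pquo p (e i₀) ((H * P) i₀ m)
      have hc : c ∈ powSubring (k := k) p := neg_mem fun n hn => by rw [pquo, coeff_mk, if_neg hn]
      have hTS : ∀ i j, Matrix.transvection i₀ m c i j ∈ powSubring (k := k) p := fun i j => by
        simp only [Matrix.transvection, Matrix.add_apply, Matrix.one_apply, Matrix.single_apply]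
        refine add_mem ?_ ?_ <;> split_ifs <;> first | exact one_mem _ | exact zero_mem _ | exact hc
      have hb : ∀ a b, b ≠ m → (H * (P * Matrix.transvection i₀ m c)) a b = (H * P) a b :=
        fun a b hb => by rw [← mul_assoc, Matrix.mul_transvection_apply_of_ne i₀ m a b hb]
      have hm : ∀ a, (H * (P * Matrix.transvection i₀ m c)) a m = (H * P) a m + c * (H * P) a i₀ :=
        fun a => by rw [← mul_assoc, Matrix.mul_transvection_apply_same]
      refine ⟨P * Matrix.transvection i₀ m c, hP.mul ?_, fun i j => ?_, ⟨fun i => ?_, fun i j hji => ?_⟩,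
        fun i j hj => (hb i j hj).trans (hpre i j hj), fun i hi hid n h1 h2 => ?_⟩
      · rw [Matrix.isUnit_iff_isUnit_det, Matrix.det_transvection_of_ne _ _ hi₀.ne]
        exact isUnit_one
      · rw [Matrix.mul_apply]
        exact sum_mem fun l _ => mul_mem (hPS i l) (hTS l j)
      · by_cases h : i = m
        · subst h
          rw [hm, htri.2 i i₀ hi₀, mul_zero, add_zero, htri.1]
        · rw [hb i i h, htri.1]
      · by_cases h : j = m
        · subst h
          rw [hm, htri.2 i i₀ (hi₀.trans hji), mul_zero, add_zero, htri.2 i j hji]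
        · rw [hb i j h, htri.2 i j hji]
      · rw [hm]
        rcases eq_or_ne i i₀ with rfl | hne
        · rw [htri.1, show c * X ^ e i₀ = -(pquo p (e i₀) ((H * P) i₀ m) * X ^ e i₀) by
            simp [c, neg_mul], ← sub_eq_add_neg]
          exact coeff_sub_pquo p _ _ n h1 h2
        · have hlt : i₀ < i := lt_of_le_of_ne (by change m.1 - (d + 1) ≤ i.1; omega) hne.symm
          rw [htri.2 i i₀ hlt, mul_zero, add_zero]
          refine hgood i hi ?_ n h1 h2
          have : m.1 - (d + 1) < i.1 := hlt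
          omega
    · exact ⟨P, hP, hPS, htri, hpre, fun i hi hid => hgood i hi (by omega)⟩

/-- Existence of the form with congruent terms removed. -/
theorem exists_red_pow (p : ℕ) (M : Mat) (hM : M.det ≠ 0) :
    ∃ (N P : Mat) (e : Fin r → ℕ), IsUnit N ∧ IsUnit P ∧
      (∀ i j, P i j ∈ powSubring (k := k) p) ∧ Tri e (N * M * P) ∧
      ∀ i j, i < j → ∀ n, (e j ≤ n ∨ (e i ≤ n ∧ n % p = e i % p)) →
        coeff n ((N * M * P) i j) = 0 := by
  classical
  obtain ⟨N₀, e, hN₀, h₀⟩ := exists_tri M hM
  have : ∀ m ≤ r, ∃ N P : Mat, IsUnit N ∧ IsUnit P ∧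
      (∀ i j, P i j ∈ powSubring (k := k) p) ∧ Tri e (N * M * P) ∧
      ∀ i j, i < j → j.1 < m → ∀ n, (e j ≤ n ∨ (e i ≤ n ∧ n % p = e i % p)) →
        coeff n ((N * M * P) i j) = 0 := by
    intro m
    induction m with
    | zero =>
      refine fun _ => ⟨N₀, 1, hN₀, isUnit_one, fun i j => ?_, by rwa [mul_one],
        fun i j _ h => absurd h (Nat.not_lt_zero _)⟩
      by_cases h : i = j
      · subst h; rw [Matrix.one_apply_eq]; exact one_mem _
      · rw [Matrix.one_apply_ne h]; exact zero_mem _
    | succ m ih =>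
      intro hm
      obtain ⟨N, P, hN, hP, hPS, htri, hred⟩ := ih (by omega)
      let j₀ : Fin r := ⟨m, hm⟩
      obtain ⟨P', hP', hPS', htri', hpre', hgood⟩ := exists_colOps p htri j₀ m
      obtain ⟨N', hN', htri'', hpre'', htr⟩ := exists_trunc htri' j₀
      have heq : N' * N * M * (P * P') = N' * (N * M * P * P') := by simp only [mul_assoc]
      refine ⟨N' * N, P * P', hN'.mul hN, hP.mul hP', fun i j => ?_, heq ▸ htri'',
        fun i j hij hj n hn => ?_⟩
      · rw [Matrix.mul_apply]
        exact sum_mem fun l _ => mul_mem (hPS i l) (hPS' l j)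
      rw [heq]
      rcases Nat.lt_succ_iff_lt_or_eq.1 hj with h | h
      · rw [hpre'' i j h, hpre' i j (Fin.ne_of_val_ne h.ne), hred i j hij h n hn]
      · obtain rfl : j = j₀ := Fin.ext h
        rw [htr i hij n]
        split_ifs with hle
        · rfl
        · rcases hn with hn | ⟨h1, h2⟩
          · exact absurd hn hle
          · exact hgood i hij (by change m ≤ i.1 + m; omega) n h1 h2
  obtain ⟨N, P, hN, hP, hPS, htri, hred⟩ := this r le_rfl
  exact ⟨N, P, e, hN, hP, hPS, htri, fun i j hij => hred i j hij j.2⟩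

end Groth.Misc6.Hermite
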