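import Groth.Agent.Misc6.CodimFun

/-!
# Lines through the points of a general hypersurface

`exists_incidence_poly`: a nonzero polynomial in the coefficients of a form of degree `d` in `m + 2`
variables, vanishing at every form which has a zero `v ≠ 0` at which the cone of lines through `v`
on the hypersurface has codimension `< d`.
-/

set_option autoImplicit false

namespace Groth.Misc6.LinesIncidence

open MvPolynomial ConeDim SeqCodim

variable {k : Type} [Field k]

theorem eval_smul_of_isHomogeneous {σ R : Type} [CommRing R] {f : MvPolynomial σ R} {e : ℕ}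
    (hf : f.IsHomogeneous e) (t : R) (z : σ → R) : eval (t • z) f = t ^ e * eval z f := by
  rw [eval_eq, eval_eq, Finset.mul_sum]
  refine Finset.sum_congr rfl fun d hd => ?_
  simp only [Pi.smul_apply, smul_eq_mul, mul_pow, Finset.prod_mul_distrib]
  rw [Finset.prod_pow_eq_pow_sum, show ∑ i ∈ d.support, d i = e by
    rw [← Finsupp.degree_apply, Finsupp.degree_eq_weight_one]
    exact hf (mem_support_iff.1 hd)]
  ring

variable {m d : ℕ}

/-- The exponents of the slices: degrees `1, …, d`. -/
abbrev deg (d : ℕ) : Fin d → ℕ := fun j => j.1 + 1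

/-- The exponent `x_0 ^ d`. -/
noncomputable def top (m d : ℕ) : Mon (Fin (m + 2)) d :=
  ⟨Finsupp.single 0 d, mem_mon_iff.2 (Finsupp.degree_single _ _)⟩

/-- The exponents of the `j`-th slice. -/
noncomputable def emb (v : Coord m (deg d)) : Mon (Fin (m + 2)) d :=
  ⟨Finsupp.cons (d - (v.1.1 + 1)) v.2.1, mem_mon_iff.2 (by
    have h := mem_mon_iff.1 v.2.2
    rw [Finsupp.degree_eq_sum] at h ⊢
    rw [Fin.sum_univ_succ]
    simp only [deg] at h
    simp only [Finsupp.cons_zero, Finsupp.cons_succ, h]
    have := v.1.2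
    omega)⟩

theorem option_emb_bijective :
    Function.Bijective (fun o : Option (Coord m (deg d)) => o.elim (top m d) emb) := by
  classical
  refine ⟨?_, fun a => ?_⟩
  · rintro (_ | ⟨j, b⟩) (_ | ⟨j', b'⟩) h
    · rfl
    · have h0 := DFunLike.congr_fun (congrArg Subtype.val h) 0
      simp [top, emb] at h0
      have := j'.2
      omega
    · have h0 := DFunLike.congr_fun (congrArg Subtype.val h) 0
      simp [top, emb] at h0
      have := j.2
      omega
    · simp only [Option.elim, emb, Subtype.mk.injEq] at h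
      have h0 := DFunLike.congr_fun h 0
      simp only [Finsupp.cons_zero] at h0
      have hj : j = j' := Fin.ext (by have := j.2; have := j'.2; omega)
      subst hj
      have hb : b = b' := Subtype.ext (Finsupp.ext fun i => by
        have := DFunLike.congr_fun h i.succ
        simpa using this)
      rw [hb]
  · have h := mem_mon_iff.1 a.2
    rw [Finsupp.degree_eq_sum, Fin.sum_univ_succ] at h
    by_cases h0 : a.1 0 = d
    · refine ⟨none, Subtype.ext (Finsupp.ext fun i => ?_)⟩
      induction i using Fin.cases with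
      | zero => simp [top, h0]
      | succ i =>
        have hz : ∑ i : Fin (m + 1), a.1 i.succ = 0 := by omega
        simp [top, Finset.sum_eq_zero_iff.1 hz i (Finset.mem_univ i), Finsupp.single_eq_of_ne
          (Fin.succ_ne_zero i)]
    · refine ⟨some ⟨⟨d - a.1 0 - 1, by omega⟩, ⟨a.1.tail, mem_mon_iff.2 ?_⟩⟩, Subtype.ext ?_⟩
      · rw [Finsupp.degree_eq_sum]
        simp only [Finsupp.tail_apply, deg]
        omega
      · simp only [Option.elim, emb]
        rw [show d - (d - a.1 0 - 1 + 1) = a.1 0 by omega]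
        exact Finsupp.cons_tail _

/-- Forms of degree `d`, sliced at `e_0`. -/
theorem eval_formOf_cons (x : Mon (Fin (m + 2)) d → k) (s : k) (w : Fin (m + 1) → k) :
    eval (Fin.cons s w) (formOf d x) =
      x (top m d) * s ^ d + ∑ j : Fin d, s ^ (d - (j.1 + 1)) * eval w (G (x ∘ emb) j) := by
  classical
  rw [formOf_apply, map_sum, ← Equiv.sum_comp (Equiv.ofBijective _ (option_emb_bijective (m := m) (d := d))),
    Fintype.sum_option]
  congr 1
  · simp [top, eval_monomial]
  · rw [Fintype.sum_sigma]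
    refine Finset.sum_congr rfl fun j _ => ?_
    rw [G, formOf_apply, map_sum, Finset.mul_sum]
    refine Finset.sum_congr rfl fun b _ => ?_
    simp only [Equiv.ofBijective_apply, Option.elim, eval_monomial, Function.comp_apply]
    rw [Finsupp.prod_fintype _ _ (fun i => by simp), Finsupp.prod_fintype _ _ (fun i => by simp),
      Fin.prod_univ_succ]
    simp only [emb, Finsupp.cons_zero, Finsupp.cons_succ, Fin.cons_zero, Fin.cons_succ]
    ring

/-- The forms vanishing at `e_0` with non-regular slices. -/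
def badSet (m d : ℕ) (k : Type) [Field k] : Set (Mon (Fin (m + 2)) d → k) :=
  {x | x (top m d) = 0 ∧ ¬ Good (x ∘ emb (m := m) (d := d)) d}

theorem ringKrullDim_add_le_of_mem [IsAlgClosed k] (hd : d ≤ m) (Q : Ideal (MvPolynomial (Mon (Fin (m + 2)) d) k))
    [Q.IsPrime] (hQ : vanishingIdeal k (badSet m d k) ≤ Q) :
    ringKrullDim (MvPolynomial (Mon (Fin (m + 2)) d) k ⧸ Q) + (m + 2 : ℕ) ≤
      (Fintype.card (Mon (Fin (m + 2)) d) : ℕ) := by
  classical
  let π : MvPolynomial (Coord m (deg d)) k →ₐ[k] MvPolynomial (Mon (Fin (m + 2)) d) k ⧸ Q :=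
    (Ideal.Quotient.mkₐ k Q).comp (rename emb)
  have htop : Ideal.Quotient.mk Q (X (top m d)) = 0 :=
    Ideal.Quotient.eq_zero_iff_mem.2 (hQ fun x hx => by rw [aeval_X]; exact hx.1)
  let E := Equiv.ofBijective _ (option_emb_bijective (m := m) (d := d))
  let sec : MvPolynomial (Mon (Fin (m + 2)) d) k →ₐ[k] MvPolynomial (Coord m (deg d)) k :=
    aeval fun a => (E.symm a).elim 0 X
  have hsec : ∀ f, π (sec f) = Ideal.Quotient.mk Q f := by
    intro f
    have : π.comp sec = Ideal.Quotient.mkₐ k Q := algHom_ext fun a => by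
      obtain ⟨o, rfl⟩ := E.surjective a
      rcases o with _ | c
      · simp only [AlgHom.comp_apply, sec, aeval_X, Equiv.symm_apply_apply, Option.elim, map_zero]
        exact htop.symm
      · simp only [AlgHom.comp_apply, sec, aeval_X, Equiv.symm_apply_apply, Option.elim, π,
          rename_X]
        rfl
    exact AlgHom.congr_fun this f
  have hsurj : Function.Surjective π := fun y => by
    obtain ⟨f, rfl⟩ := Ideal.Quotient.mk_surjective y
    exact ⟨sec f, hsec f⟩
  let Q' := RingHom.ker π
  have : Q'.IsPrime := RingHom.ker_isPrime _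
  have h1 := SeqCodim.ringKrullDim_add_le (m := m) (e := deg d) (by omega) (m + 1) (fun j => by
    show m + 1 ≤ Nat.choose (m + 1 - j.1 + (j.1 + 1) - 1) (j.1 + 1)
    rw [show m + 1 - j.1 + (j.1 + 1) - 1 = m + 1 by have := j.2; omega]
    exact succ_le_choose (by omega) (by have := j.2; omega)) Q' (fun x hx hg => ?_)
  · have h2 : ringKrullDim (MvPolynomial (Mon (Fin (m + 2)) d) k ⧸ Q) ≤
        ringKrullDim (MvPolynomial (Coord m (deg d)) k ⧸ Q') :=
      ringKrullDim_le_of_surjective (Ideal.Quotient.lift Q' π.toRingHom fun a ha => ha)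
        (Ideal.Quotient.lift_surjective_of_surjective _ _ hsurj)
    obtain ⟨n, -, hn, -⟩ :=
      Variety2.Dim.exists_dim (k := k) (A := MvPolynomial (Mon (Fin (m + 2)) d) k ⧸ Q)
    obtain ⟨n', -, hn', -⟩ :=
      Variety2.Dim.exists_dim (k := k) (A := MvPolynomial (Coord m (deg d)) k ⧸ Q')
    have hc : Fintype.card (Mon (Fin (m + 2)) d) = Fintype.card (Coord m (deg d)) + 1 := by
      rw [← Fintype.card_congr E, Fintype.card_option]
    rw [hn, hn'] at h2
    rw [hn'] at h1
    rw [hn]
    norm_cast at h1 h2 ⊢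
    omega
  · obtain ⟨f, hf, hf'⟩ := exists_sep d x hg
    refine hf (hx f (Ideal.Quotient.eq_zero_iff_mem.2 (hQ fun y hy => ?_)))
    change aeval y (rename emb f) = 0
    rw [aeval_rename, aeval_eq_eval]
    exact hf' _ hy.2

/-- The linear forms of the change of variables moving `v` to `e_0`, when `v a = 1`. -/
noncomputable def gpoly {R : Type} [CommRing R] (a : Fin (m + 2)) (v : Fin (m + 2) → R)
    (i : Fin (m + 2)) : MvPolynomial (Fin (m + 2)) R :=
  X (Equiv.swap 0 a i) -
    C (v (Equiv.swap 0 a i) - if Equiv.swap 0 a i = a then 1 else 0) * X a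

/-- The form with coefficients `c` after the change of variables. -/
noncomputable def pull {R : Type} [CommRing R] (a : Fin (m + 2)) (v : Fin (m + 2) → R)
    (c : Mon (Fin (m + 2)) d → R) : MvPolynomial (Fin (m + 2)) R :=
  ∑ b, C (c b) * ∏ i, gpoly a v i ^ b.1 i

theorem map_pull {R S : Type} [CommRing R] [CommRing S] (f : R →+* S) (a : Fin (m + 2))
    (v : Fin (m + 2) → R) (c : Mon (Fin (m + 2)) d → R) :
    MvPolynomial.map f (pull a v c) = pull a (f ∘ v) (f ∘ c) := by
  simp [pull, gpoly, apply_ite f]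

theorem eval_gpoly (a : Fin (m + 2)) (v z : Fin (m + 2) → k) (i : Fin (m + 2)) :
    eval z (gpoly a v i) =
      z (Equiv.swap 0 a i) - (v (Equiv.swap 0 a i) - if Equiv.swap 0 a i = a then 1 else 0) * z a := by
  simp [gpoly]

theorem eval_pull (a : Fin (m + 2)) (v z : Fin (m + 2) → k) (c : Mon (Fin (m + 2)) d → k) :
    eval z (pull a v c) = eval (fun i => eval z (gpoly a v i)) (formOf d c) := by
  simp only [pull, map_sum, map_mul, eval_C, map_prod, map_pow, formOf_apply, eval_monomial]
  exact Finset.sum_congr rfl fun b _ => by rw [Finsupp.prod_fintype _ _ (fun i => by simp)]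

/-- The inverse change of variables. -/
noncomputable def hlin (a : Fin (m + 2)) (v : Fin (m + 2) → k) (i : Fin (m + 2)) :
    MvPolynomial (Fin (m + 2)) k :=
  X (Equiv.swap 0 a i) + C (v i - if i = a then 1 else 0) * X 0

theorem exists_poly_of_domain (a : Fin (m + 2)) {A : Type} [CommRing A] [IsDomain A] [Algebra k A]
    [Algebra.FiniteType k A] (hA : ringKrullDim A + (m + 2 : ℕ) ≤ (Fintype.card (Mon (Fin (m + 2)) d) : ℕ))
    (c : Mon (Fin (m + 2)) d → A) :
    ∃ P : MvPolynomial (Mon (Fin (m + 2)) d) k, P ≠ 0 ∧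
      ∀ ψ : A →ₐ[k] k, ∀ v : Fin (m + 2) → k, v a = 1 →
        eval (fun b => coeff b.1 (pull a v (ψ ∘ c))) P = 0 := by
  classical
  let V : Fin (m + 2) → MvPolynomial {i : Fin (m + 2) // i ≠ a} A :=
    fun i => if h : i = a then 1 else X ⟨i, h⟩
  let cc : Mon (Fin (m + 2)) d → MvPolynomial {i : Fin (m + 2) // i ≠ a} A := fun b => C (c b)
  let Φ : MvPolynomial (Mon (Fin (m + 2)) d) k →ₐ[k] MvPolynomial {i : Fin (m + 2) // i ≠ a} A :=
    aeval fun b => coeff b.1 (pull a V cc)
  have : FaithfulSMul k A :=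
    (faithfulSMul_iff_algebraMap_injective k A).2 (algebraMap k A).injective
  have hninj : ¬ Function.Injective Φ := fun hinj => by
    have h1 := trdeg_le_of_injective Φ hinj
    rw [MvPolynomial.trdeg_of_isDomain] at h1
    obtain ⟨n, hn, hn', -⟩ := Variety2.Dim.exists_dim (k := k) (A := A)
    have htr : Algebra.trdeg k A = n := by
      have : Algebra.IsAlgebraic A (FractionRing A) :=
        IsLocalization.isAlgebraic _ (nonZeroDivisors A)
      rw [← hn, ← trdeg_add_eq k A (A := FractionRing A),
        trdeg_eq_zero (R := A) (A := FractionRing A), add_zero]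
    rw [← trdeg_add_eq k A (A := MvPolynomial {i : Fin (m + 2) // i ≠ a} A), htr,
      MvPolynomial.trdeg_of_isDomain] at h1
    simp only [Cardinal.mk_fintype, Cardinal.lift_natCast, ← Nat.cast_add, Nat.cast_le,
      Fintype.card_subtype_compl, Fintype.card_fin, Fintype.card_subtype_eq] at h1
    rw [hn'] at hA
    norm_cast at hA
    omega
  rw [injective_iff_map_eq_zero] at hninj
  push Not at hninj
  obtain ⟨P, hP0, hP⟩ := hninj
  refine ⟨P, hP, fun ψ v hv => ?_⟩
  let ev : MvPolynomial {i : Fin (m + 2) // i ≠ a} A →+* k :=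
    eval₂Hom ψ.toRingHom fun i => v i.1
  have hV : ev ∘ V = v := funext fun i => by
    by_cases h : i = a
    · subst h; simp [V, hv]
    · simp [V, h, ev]
  have hcc : ev ∘ cc = ψ ∘ c := funext fun b => by simp [cc, ev]
  have hcomp : ev.comp Φ.toRingHom = eval fun b => coeff b.1 (pull a v (ψ ∘ c)) := by
    refine MvPolynomial.ringHom_ext (fun r => ?_) fun b => ?_
    · simp [Φ, ev]
    · simp only [RingHom.comp_apply, AlgHom.toRingHom_eq_coe, RingHom.coe_coe, Φ, aeval_X, eval_X]
      rw [← coeff_map, map_pull, hV, hcc]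
  rw [← RingHom.congr_fun hcomp P, RingHom.comp_apply, AlgHom.toRingHom_eq_coe,
    RingHom.coe_coe, hP0, map_zero]

theorem exists_poly_chart [IsAlgClosed k] (hd : d ≤ m) (a : Fin (m + 2)) :
    ∃ P : MvPolynomial (Mon (Fin (m + 2)) d) k, P ≠ 0 ∧
      ∀ x ∈ badSet m d k, ∀ v : Fin (m + 2) → k, v a = 1 →
        eval (fun b => coeff b.1 (pull a v x)) P = 0 := by
  classical
  set I := vanishingIdeal k (badSet m d k) with hI
  have hfin : I.minimalPrimes.Finite := Ideal.finite_minimalPrimes_of_isNoetherianRing _ I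
  have hQ : ∀ Q ∈ I.minimalPrimes, ∃ P : MvPolynomial (Mon (Fin (m + 2)) d) k, P ≠ 0 ∧
      ∀ x, (∀ f ∈ Q, eval x f = 0) → ∀ v : Fin (m + 2) → k, v a = 1 →
        eval (fun b => coeff b.1 (pull a v x)) P = 0 := by
    intro Q hQ
    have := hQ.1.1
    obtain ⟨P, hP, hP'⟩ := exists_poly_of_domain (k := k) a (ringKrullDim_add_le_of_mem hd Q hQ.1.2)
      (fun b => Ideal.Quotient.mk Q (X b))
    refine ⟨P, hP, fun x hx v hv => ?_⟩
    have := hP' (Ideal.Quotient.liftₐ Q (aeval x) fun f hf => by
      rw [aeval_eq_eval]; exact hx f hf) v hv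
    rwa [show (⇑(Ideal.Quotient.liftₐ Q (aeval x) _) ∘ fun b => Ideal.Quotient.mk Q (X b)) = x from
      funext fun b => aeval_X x b] at this
  choose P hP0 hP using hQ
  refine ⟨∏ Q : hfin.toFinset, P Q.1 (hfin.mem_toFinset.1 Q.2), ?_, fun x hx v hv => ?_⟩
  · exact Finset.prod_ne_zero_iff.2 fun Q _ => hP0 _ _
  · have hle : I ≤ RingHom.ker (eval x) := fun f hf => by
      rw [RingHom.mem_ker, ← aeval_eq_eval]; exact hf x hx
    have : (RingHom.ker (eval x : MvPolynomial (Mon (Fin (m + 2)) d) k →+* k)).IsPrime :=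
      RingHom.ker_isPrime _
    obtain ⟨Q, hQ, hQle⟩ := Ideal.exists_minimalPrimes_le hle
    rw [map_prod]
    exact Finset.prod_eq_zero (Finset.mem_univ ⟨Q, hfin.mem_toFinset.2 hQ⟩)
      (hP Q hQ x (fun f hf => hQle hf) v hv)

theorem codimGE_of_good [IsAlgClosed k] (hd : d ≤ m) (x : Mon (Fin (m + 2)) d → k)
    (hx0 : x (top m d) = 0) (hgood : Good (x ∘ emb (m := m) (d := d)) d)
    (g : (Fin (m + 2) → k) ≃ₗ[k] (Fin (m + 2) → k)) (D : Set (Fin (m + 2) → k))
    (hD : ∀ w ∈ D, ∀ s : k, eval (Fin.cons s (Fin.tail (g w))) (formOf d x) = 0) :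
    LefPen.CodimGE k D d := by
  classical
  obtain ⟨L, hL⟩ := hgood
  refine CodimFun.codimGE_of g D d fun Q hQ hvan => ?_
  let A := MvPolynomial (Fin (m + 2)) k ⧸ Q
  obtain ⟨p, hp⟩ : ∃ p : Fin (m + 2) → k, ∀ f ∈ Q, eval p f = 0 := by
    by_contra! hne
    refine hQ.ne_top ((Ideal.eq_top_iff_one _).2 (mem_of_forall_eval_eq_zero Q fun y hy => ?_))
    obtain ⟨f, hf, hne⟩ := hne y
    exact absurd (hy f hf) hne
  have hslice : ∀ j : Fin d, rename Fin.succ (G (x ∘ emb) j) ∈ Q := fun j => hvan _ fun w hw => by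
    let q : Polynomial k := ∑ j : Fin d,
      Polynomial.C (eval (Fin.tail (g w)) (G (x ∘ emb) j)) * Polynomial.X ^ (d - (j.1 + 1))
    have hq : q = 0 := Polynomial.funext fun s => by
      rw [Polynomial.eval_zero, ← hD w hw s, eval_formOf_cons, hx0, zero_mul, zero_add]
      simp only [q, Polynomial.eval_finsetSum, Polynomial.eval_mul, Polynomial.eval_C,
        Polynomial.eval_pow, Polynomial.eval_X]
      exact Finset.sum_congr rfl fun j _ => mul_comm _ _
    have := congrArg (Polynomial.coeff · (d - (j.1 + 1))) hq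
    simp only [q, Polynomial.finsetSum_coeff, Polynomial.coeff_C_mul_X_pow, Polynomial.coeff_zero] at this
    rw [Finset.sum_eq_single j (fun b _ hb => if_neg fun h => hb (Fin.ext (by
      have := b.2; have := j.2; omega))) (by simp), if_pos rfl] at this
    rw [eval_rename]
    exact this
  have hgen : Algebra.adjoin k (Set.range (fun _ : Unit => Ideal.Quotient.mk Q (X 0)) ∪
      Set.range (fun i : Fin (m + 1) => Ideal.Quotient.mk Q (X i.succ))) = ⊤ := by
    rw [eq_top_iff]
    intro y _
    obtain ⟨f, rfl⟩ := Ideal.Quotient.mk_surjective y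
    induction f using MvPolynomial.induction_on with
    | C c => exact Subalgebra.algebraMap_mem _ c
    | add f g hf hg => rw [map_add]; exact add_mem (hf trivial) (hg trivial)
    | mul_X f i hf =>
      rw [map_mul]
      refine mul_mem (hf trivial) (Algebra.subset_adjoin ?_)
      induction i using Fin.cases with
      | zero => exact Or.inl ⟨(), rfl⟩
      | succ i => exact Or.inr ⟨i, rfl⟩
  have key := ConeDim.ringKrullDim_le (σ := Fin (m + 1)) (τ := Unit) (deg d)
    (fun j => MvPolynomial.map C (G (x ∘ emb) j)) (fun j => (isHomogeneous_G _ j).map _)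
    (fun l => lin (L l)) (fun l => isHomogeneous_lin _) (A := A) _ _ hgen
    (fun j => by
      rw [eval₂_map, show (aeval (R := k) fun _ : Unit => Ideal.Quotient.mk Q (X 0)).toRingHom.comp C =
        algebraMap k A from RingHom.ext fun c => aeval_C _ c, ← aeval_def]
      have : aeval (fun i : Fin (m + 1) => Ideal.Quotient.mk Q (X i.succ)) =
          (Ideal.Quotient.mkₐ k Q).comp (rename Fin.succ) := algHom_ext fun i => by simp
      rw [this]
      exact Ideal.Quotient.eq_zero_iff_mem.2 (hslice j))
    (fun _ => p 0)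
    (fun f hf => by
      have hmem : rename (fun _ : Unit => (0 : Fin (m + 2))) f ∈ Q := by
        rw [← Ideal.Quotient.eq_zero_iff_mem, ← hf]
        exact AlgHom.congr_fun (algHom_ext (f := (Ideal.Quotient.mkₐ k Q).comp
          (rename fun _ : Unit => (0 : Fin (m + 2))))
          (g := aeval fun _ : Unit => Ideal.Quotient.mk Q (X 0)) fun _ => by simp) f
      have := hp _ hmem
      rwa [eval_rename] at this)
    (fun z hz hu => hL z (fun j _ => by
      have := hz j
      rwa [eval₂_map, show (eval fun _ : Unit => p 0).comp C = RingHom.id k from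
        RingHom.ext fun c => eval_C c] at this) fun l => by rw [← eval_lin]; exact hu l)
  obtain ⟨n, -, hn, -⟩ := Variety2.Dim.exists_dim (k := k) (A := A)
  change ringKrullDim A + _ ≤ _
  rw [hn] at key ⊢
  simp only [Nat.card_eq_fintype_card, Fintype.card_fin, Fintype.card_unit] at key ⊢
  norm_cast at key ⊢
  omega

/-- The incidence polynomial. -/
theorem exists_incidence_poly [IsAlgClosed k] (hd : d ≤ m) :
    ∃ P : MvPolynomial (Mon (Fin (m + 2)) d) k, P ≠ 0 ∧
      ∀ Φ : MvPolynomial (Fin (m + 2)) k, Φ.IsHomogeneous d →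
        ∀ v : Fin (m + 2) → k, v ≠ 0 → eval v Φ = 0 →
          ¬ LefPen.CodimGE k {w : Fin (m + 2) → k | ∀ s t : k, eval (s • v + t • w) Φ = 0} d →
            eval (fun b : Mon (Fin (m + 2)) d => coeff b.1 Φ) P = 0 := by
  classical
  choose P hP0 hP using fun a => exists_poly_chart (k := k) (m := m) (d := d) hd a
  refine ⟨∏ a, P a, Finset.prod_ne_zero_iff.2 fun a _ => hP0 a, fun Φ hΦ v0 hv0 hvΦ hbad => ?_⟩
  obtain ⟨a, ha⟩ := Function.ne_iff.1 hv0
  rw [map_prod]
  refine Finset.prod_eq_zero (Finset.mem_univ a) ?_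
  let v : Fin (m + 2) → k := (v0 a)⁻¹ • v0
  have hva : v a = 1 := by simp [v, inv_mul_cancel₀ ha]
  let F : MvPolynomial (Fin (m + 2)) k := aeval (hlin a v) Φ
  have hF : F.IsHomogeneous d := by
    have := hΦ.aeval (hlin a v) (n := 1) fun i =>
      (isHomogeneous_X k _).add ((isHomogeneous_X k _).C_mul _)
    rwa [one_mul] at this
  let x : Mon (Fin (m + 2)) d → k := fun b => coeff b.1 F
  have hFx : formOf d x = F := formOf_coeff hF
  let h : (Fin (m + 2) → k) → (Fin (m + 2) → k) :=
    fun y i => y (Equiv.swap 0 a i) + (v i - if i = a then 1 else 0) * y 0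
  have hevF : ∀ y, eval y F = eval (h y) Φ := fun y => by
    change aeval y (aeval (hlin a v) Φ) = _
    rw [comp_aeval_apply, aeval_eq_eval]
    congr 2
    funext i
    simp [hlin, h]
  let gv : (Fin (m + 2) → k) → (Fin (m + 2) → k) :=
    fun z i => z (Equiv.swap 0 a i) - (v (Equiv.swap 0 a i) - if Equiv.swap 0 a i = a then 1 else 0) * z a
  have hgh : ∀ z, h (gv z) = z := fun z => by
    funext i
    simp only [h, gv, Equiv.swap_apply_self, Equiv.swap_apply_left, hva]
    simp only [↓reduceIte, sub_self, zero_mul, sub_zero]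
    ring
  have hhg : ∀ y, gv (h y) = y := fun y => by
    funext i
    simp only [h, gv, Equiv.swap_apply_self, Equiv.swap_apply_right, hva]
    simp only [↓reduceIte, sub_self, zero_mul, add_zero]
    ring
  let g : (Fin (m + 2) → k) ≃ₗ[k] (Fin (m + 2) → k) :=
    { toFun := gv
      map_add' := fun z z' => funext fun i => by simp only [gv, Pi.add_apply]; ring
      map_smul' := fun c z => funext fun i => by
        simp only [gv, Pi.smul_apply, smul_eq_mul, RingHom.id_apply]; ring
      invFun := h
      left_inv := hgh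
      right_inv := hhg }
  have hpull : pull a v x = Φ := MvPolynomial.funext fun z => by
    rw [eval_pull, hFx, hevF,
      show h (fun i => eval z (gpoly a v i)) = h (gv z) from congrArg h (funext (eval_gpoly a v z)), hgh]
  have hh0 : h (Fin.cons 1 0) = v := by
    funext i
    simp only [h, Fin.cons_zero, mul_one]
    by_cases hi : i = a
    · subst hi; simp [hva]
    · rw [if_neg hi]
      have : Equiv.swap 0 a i ≠ 0 := fun h' => hi (by
        have := congrArg (Equiv.swap 0 a) h'
        rwa [Equiv.swap_apply_self, Equiv.swap_apply_left] at this)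
      obtain ⟨l, hl⟩ := Fin.exists_succ_eq.2 this
      rw [← hl]
      simp
  have hx0 : x (top m d) = 0 := by
    have h1 : eval (Fin.cons 1 0) (formOf d x) = 0 := by
      rw [hFx, hevF, hh0]
      change eval ((v0 a)⁻¹ • v0) Φ = 0
      rw [eval_smul_of_isHomogeneous hΦ, hvΦ, mul_zero]
    rw [eval_formOf_cons, Finset.sum_eq_zero fun j _ => ?_, add_zero, one_pow, mul_one] at h1
    · exact h1
    · rw [← zero_smul k (0 : Fin (m + 1) → k), eval_smul_of_isHomogeneous (isHomogeneous_G _ j),
        zero_pow (by simp [deg]), zero_mul, mul_zero]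
  have := hP a x ⟨hx0, fun hgood => hbad (codimGE_of_good hd x hx0 hgood g _ fun w hw s => ?_)⟩ v hva
  · rwa [hpull] at this
  · have e1 : (Fin.cons s (Fin.tail (gv w)) : Fin (m + 2) → k) =
        (s - gv w 0) • (Fin.cons 1 0 : Fin (m + 2) → k) + gv w := by
      funext i
      induction i using Fin.cases with
      | zero => simp
      | succ i => simp [Fin.tail]
    change eval (Fin.cons s (Fin.tail (gv w))) _ = 0
    rw [hFx, hevF, e1]
    have hlinh : h ((s - gv w 0) • (Fin.cons 1 0 : Fin (m + 2) → k) + gv w) =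
        (s - gv w 0) • v + w := by
      change g.symm _ = _
      rw [map_add, map_smul]
      change _ • h _ + h (gv w) = _
      rw [hh0, hgh]
    rw [hlinh, show (s - gv w 0) • v + w = ((s - gv w 0) * (v0 a)⁻¹) • v0 + (1 : k) • w by
      rw [one_smul, mul_smul]]
    exact hw _ _

end Groth.Misc6.LinesIncidence
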