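import Groth.Agent.Misc15.ProjPts
import Groth.Prelude.Def_P1
import Mathlib.AlgebraicGeometry.Morphisms.Finite
import Mathlib.AlgebraicGeometry.Morphisms.UniversallyOpen
import Mathlib.Topology.Clopen

/-!
Clopen subsets of finite locally free covers of the relative projective line.
-/

universe u

open CategoryTheory CategoryTheory.Limits AlgebraicGeometry

namespace Groth.Misc6.P1Clopen

variable {S : Scheme.{u}}

/-- The structure map of `P^1_S`. -/
noncomputable abbrev π (S : Scheme.{u}) : CohB1.ProjSpaceOver 1 S ⟶ S := pullback.snd _ _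

theorem sect_π (i : Fin (1 + 1)) : P1.sect S i ≫ π S = 𝟙 S := pullback.lift_snd _ _ _

theorem isPullback_toP1 {T : Scheme.{u}} (g : T ⟶ S) :
    IsPullback (P1.toP1 g) (π T) (π S) g := by
  refine IsPullback.of_right ?_ (pullback.lift_snd _ _ _) (IsPullback.of_hasPullback _ _)
  convert! IsPullback.of_hasPullback _ _ using 1
  · simp only [P1.toP1]; exact (pullback.lift_fst _ _ _).trans (Category.comp_id _)
  · exact specULiftZIsTerminal.hom_ext _ _

/-- The fibres of the projective line are connected. -/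
theorem isPreconnected_fibre (s : S) : _root_.IsPreconnected (π S ⁻¹' {s}) := by
  have h := isPullback_toP1 (S.fromSpecResidueField s)
  have hr : Set.range (P1.toP1 (S.fromSpecResidueField s)) = π S ⁻¹' {s} := by
    rw [← h.isoPullback_hom_fst, Scheme.Hom.comp_base, TopCat.coe_comp, Set.range_comp,
      Set.range_eq_univ.2 h.isoPullback.hom.surjective, Set.image_univ, Scheme.Pullback.range_fst,
      Scheme.range_fromSpecResidueField]
  have : IrreducibleSpace (CohB1.ProjSpaceOver 1 (Spec (S.residueField s))) :=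
    Groth.Misc15.ProjPts.irreducibleSpace_projSpaceOver (n := 1) (R := S.residueField s)
  rw [← hr]
  exact isPreconnected_range (P1.toP1 (S.fromSpecResidueField s)).continuous

/-- A clopen subset of `P^1_S` is the preimage of its trace on a section. -/
theorem mem_iff_sect_mem (i : Fin (1 + 1)) {U : Set (CohB1.ProjSpaceOver 1 S)} (hU : IsClopen U)
    (p : CohB1.ProjSpaceOver 1 S) : p ∈ U ↔ P1.sect S i (π S p) ∈ U := by
  have hs : P1.sect S i (π S p) ∈ π S ⁻¹' {π S p} := by
    rw [Set.mem_preimage, Set.mem_singleton_iff, ← Scheme.Hom.comp_apply, sect_π]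
    rfl
  have hp : p ∈ π S ⁻¹' {π S p} := rfl
  exact ⟨fun h => (isPreconnected_fibre _).subset_isClopen hU ⟨p, hp, h⟩ hs,
    fun h => (isPreconnected_fibre _).subset_isClopen hU ⟨_, hs, h⟩ hp⟩

instance [PreconnectedSpace S] : PreconnectedSpace (CohB1.ProjSpaceOver 1 S) := by
  rw [preconnectedSpace_iff_clopen]
  intro U hU
  rcases isClopen_iff.1 (hU.preimage (P1.sect S 0).continuous) with h | h
  · refine .inl (Set.eq_empty_of_forall_notMem fun p hp => ?_)
    exact (Set.eq_empty_iff_forall_notMem.1 h) _ ((mem_iff_sect_mem 0 hU p).1 hp)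
  · exact .inr (Set.eq_univ_of_forall fun p =>
      (mem_iff_sect_mem 0 hU p).2 (Set.eq_univ_iff_forall.1 h (π S p)))

variable {X : Scheme.{u}} (g : X ⟶ CohB1.ProjSpaceOver 1 S)

theorem isClopen_image [IsFinite g] [Flat g] [LocallyOfFinitePresentation g] {W : Set X}
    (hW : IsClopen W) : IsClopen (g '' W) :=
  ⟨g.isClosedMap _ hW.1, g.isOpenMap _ hW.2⟩

theorem eq_univ_of_zeroSection [IsFinite g] [Flat g] [LocallyOfFinitePresentation g] {W : Set X}
    (hW : IsClopen W) (i : Fin (1 + 1))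
    (h0 : ∀ x : X, g x ∈ Set.range (P1.sect S i) → x ∈ W) : W = Set.univ := by
  refine Set.eq_univ_of_forall fun x => ?_
  by_contra hx
  obtain ⟨y, hy, hgy⟩ := (mem_iff_sect_mem i (isClopen_image g hW.compl) (g x)).1 ⟨x, hx, rfl⟩
  exact hy (h0 y ⟨_, hgy.symm⟩)

theorem exists_mem_connectedComponent [PreconnectedSpace S] [IsFinite g] [Flat g]
    [LocallyOfFinitePresentation g] (x : X) (p : CohB1.ProjSpaceOver 1 S) :
    ∃ y ∈ connectedComponent x, g y = p := by
  classical
  have hfib : (g ⁻¹' {p}).Finite := g.finite_preimage_singleton p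
  have hsurj : ∀ U : Set X, IsClopen U → U.Nonempty → ∀ q, ∃ y ∈ U, g y = q := fun U hU hne q => by
    have h := (isClopen_image g hU).eq_univ (hne.image g)
    exact Set.eq_univ_iff_forall.1 h q
  let P : ℕ → Prop := fun n => ∃ U : Set X, IsClopen U ∧ x ∈ U ∧ (U ∩ g ⁻¹' {p}).ncard = n
  have hP : ∃ n, P n := ⟨_, Set.univ, isClopen_univ, trivial, rfl⟩
  obtain ⟨U, hU, hxU, hUn⟩ := Nat.find_spec hP
  have hconn : _root_.IsPreconnected U := by
    rw [isPreconnected_iff_preconnectedSpace, preconnectedSpace_iff_clopen]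
    intro A hA
    have hA' : IsClopen ((↑) '' A : Set X) :=
      ⟨hU.1.isClosedMap_subtype_val _ hA.1, hU.2.isOpenMap_subtype_val _ hA.2⟩
    have hsub : ((↑) '' A : Set X) ⊆ U := Subtype.coe_image_subset _ _
    by_contra! hne
    obtain ⟨hne1, hne2⟩ := hne
    have n1 : ((↑) '' A : Set X).Nonempty := hne1.image _
    have n2 : (U \ (↑) '' A).Nonempty := by
      obtain ⟨a, ha⟩ := (Set.ne_univ_iff_exists_notMem A).1 hne2
      exact ⟨a.1, a.2, fun ⟨b, hb, hba⟩ => ha (Subtype.ext hba ▸ hb)⟩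
    have key : ∀ V : Set X, IsClopen V → V ⊆ U → (U \ V).Nonempty → x ∈ V → False := by
      intro V hV hVU hne hxV
      obtain ⟨y, hy, hyp⟩ := hsurj (U \ V) (hU.diff hV) hne p
      refine Nat.find_min hP (m := (V ∩ g ⁻¹' {p}).ncard) ?_ ⟨V, hV, hxV, rfl⟩
      rw [← hUn]
      refine Set.ncard_lt_ncard ?_ (hfib.inter_of_right U)
      exact ⟨Set.inter_subset_inter_left _ hVU, fun h => hy.2 (h ⟨hy.1, hyp⟩).1⟩
    by_cases hxA : x ∈ ((↑) '' A : Set X)
    · exact key _ hA' hsub n2 hxA
    · refine key (U \ (↑) '' A) (hU.diff hA') Set.diff_subset ?_ ⟨hxU, hxA⟩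
      obtain ⟨a, ha⟩ := n1
      exact ⟨a, hsub ha, fun h => h.2 ha⟩
  obtain ⟨y, hy, hyp⟩ := hsurj U hU ⟨x, hxU⟩ p
  exact ⟨y, hconn.subset_connectedComponent hxU hy, hyp⟩

end Groth.Misc6.P1Clopen
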