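import Mathlib
import Groth.Agent.PropsBasic.HopfGraded

/-! Bezout count for singular points of a reduced plane curve. -/

set_option autoImplicit false
universe u

open MvPolynomial

namespace Groth.Misc6.PlaneSingular

variable {k : Type u} [Field k]

/-- A polynomial over a perfect field all of whose partial derivatives vanish is not irreducible. -/
theorem exists_pderiv_ne_zero [PerfectField k] {n : ℕ} {q : MvPolynomial (Fin n) k} (hq : Irreducible q) :
    ∃ i, pderiv i q ≠ 0 := by
  classical
  by_contra! h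
  have hdvd : ∀ m ∈ q.support, ∀ i, ((m i : k) = 0) := by
    intro m hm i
    by_cases hmi : m i = 0
    · simp [hmi]
    have e : m - Finsupp.single i 1 + Finsupp.single i 1 = m := by
      apply Finsupp.ext; intro j
      by_cases hj : i = j
      · subst hj; simp; omega
      · simp [hj]
    have := congrArg (coeff (m - Finsupp.single i 1)) (h i)
    rw [coeff_pderiv, e, coeff_zero] at this
    have e2 : (m - Finsupp.single i 1 : Fin n →₀ ℕ) i + 1 = m i := by simp; omega
    rw [← e2]; push_cast
    exact (mul_eq_zero.1 this).resolve_left (mem_support_iff.1 hm)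
  obtain ⟨p, hchar⟩ := CharP.exists k
  rcases CharP.char_is_prime_or_zero k p with hp | hp
  · haveI := Fact.mk hp
    haveI : ExpChar k p := ExpChar.prime hp
    haveI : PerfectRing k p := PerfectField.toPerfectRing p
    let r : MvPolynomial (Fin n) k := ∑ m ∈ q.support,
      monomial (m.mapRange (· / p) (Nat.zero_div p)) ((frobeniusEquiv k p).symm (coeff m q))
    have hr : r ^ p = q := by
      rw [sum_pow_char]
      conv_rhs => rw [q.as_sum]
      refine Finset.sum_congr rfl fun m hm => ?_
      rw [monomial_pow]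
      congr 2
      · ext i
        simpa using Nat.mul_div_cancel' ((CharP.cast_eq_zero_iff k p (m i)).1 (hdvd m hm i))
      · simp
    rw [← hr] at hq
    exact not_irreducible_pow hp.ne_one hq
  · subst hp
    haveI := CharP.charP_to_charZero k
    have hq0 : q = C (coeff 0 q) := by
      ext m
      rw [coeff_C]
      split_ifs with hm
      · rw [← hm]
      · by_contra hne
        exact hm (Finsupp.ext fun i => by simpa using (hdvd m (mem_support_iff.2 hne) i)).symm
    rcases eq_or_ne (coeff 0 q) 0 with hc | hc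
    · exact hq.ne_zero (by rw [hq0, hc, map_zero])
    · exact hq.not_isUnit (by rw [hq0]; exact (isUnit_iff_ne_zero.2 hc).map C)

theorem not_dvd_pderiv {n : ℕ} {q : MvPolynomial (Fin n) k} {i : Fin n} (h : pderiv i q ≠ 0) :
    ¬ q ∣ pderiv i q := by
  classical
  intro hd
  have h1 := totalDegree_le_of_dvd_of_isDomain hd h
  obtain ⟨m, hm, hmd⟩ := Finset.exists_mem_eq_sup _ (support_nonempty.2 h) (fun s : Fin n →₀ ℕ => s.sum fun _ e => e)
  have hm2 : m + Finsupp.single i 1 ∈ q.support := by
    rw [mem_support_iff] at hm ⊢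
    intro e
    exact hm (by rw [coeff_pderiv, e, zero_mul])
  have h2 := le_totalDegree hm2
  rw [Finsupp.sum_add_index' (fun _ => rfl) (fun _ _ _ => rfl), Finsupp.sum_single_index rfl] at h2
  change (pderiv i q).totalDegree = _ at hmd
  omega

/-- A general combination of partial derivatives of a squarefree polynomial has no factor in common with it. -/
theorem exists_combination_relPrime [PerfectField k] [Infinite k] {n : ℕ} {f : MvPolynomial (Fin n) k}
    (hf0 : f ≠ 0) (hf : Squarefree f) :
    ∃ c : Fin n → k, IsRelPrime f (∑ i, C (c i) * pderiv i f) := by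
  classical
  let T : Finset (MvPolynomial (Fin n) k) := (UniqueFactorizationMonoid.factors f).toFinset
  let ψ : (Fin n → k) →ₗ[k] MvPolynomial (Fin n) k := Fintype.linearCombination k fun i => pderiv i f
  let W : T → Submodule k (Fin n → k) := fun q => ((Ideal.span {(q : MvPolynomial (Fin n) k)}).restrictScalars k).comap ψ
  have hT : ∀ q ∈ T, Irreducible q ∧ q ∣ f := fun q hq =>
    ⟨UniqueFactorizationMonoid.irreducible_of_factor q (Multiset.mem_toFinset.1 hq),
      UniqueFactorizationMonoid.dvd_of_mem_factors (Multiset.mem_toFinset.1 hq)⟩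
  have hW : ∀ q, W q ≠ ⊤ := by
    rintro ⟨q, hq⟩ htop
    obtain ⟨hqi, r, hr⟩ := hT q hq
    have hqr : ¬ q ∣ r := by
      rintro ⟨s, rfl⟩
      exact hqi.not_isUnit (hf q ⟨s, by rw [hr]; ring⟩)
    obtain ⟨i, hi⟩ := exists_pderiv_ne_zero hqi
    have h1 : q ∣ pderiv i f := by
      have : Pi.single i (1 : k) ∈ W ⟨q, hq⟩ := by rw [htop]; exact Submodule.mem_top
      simpa [W, ψ, Ideal.mem_span_singleton] using this
    rw [hr, pderiv_mul, dvd_add_left (dvd_mul_right _ _)] at h1
    rcases (UniqueFactorizationMonoid.irreducible_iff_prime.1 hqi).dvd_or_dvd h1 with h | h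
    · exact not_dvd_pderiv hi h
    · exact hqr h
  obtain ⟨c, hc⟩ := Submodule.exists_forall_notMem_of_forall_ne_top W hW
  refine ⟨c, WfDvdMonoid.isRelPrime_of_no_irreducible_factors (fun h => hf0 h.1) fun z hz hzf hzg => ?_⟩
  obtain ⟨q, hq, hzq⟩ := UniqueFactorizationMonoid.exists_mem_factors_of_dvd hf0 hz hzf
  refine hc ⟨q, Multiset.mem_toFinset.2 hq⟩ ?_
  have : q ∣ ∑ i, C (c i) * pderiv i f := hzq.symm.dvd.trans hzg
  simpa [W, ψ, Ideal.mem_span_singleton, Fintype.linearCombination_apply, MvPolynomial.smul_eq_C_mul] using this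

/-- Derivative in the direction `v`. -/
noncomputable def dirDeriv {n : ℕ} (v : Fin n → k) : MvPolynomial (Fin n) k →ₗ[k] MvPolynomial (Fin n) k :=
  ∑ i, v i • (pderiv i).toLinearMap

theorem dirDeriv_apply {n : ℕ} (v : Fin n → k) (h : MvPolynomial (Fin n) k) :
    dirDeriv v h = ∑ i, C (v i) * pderiv i h := by
  simp [dirDeriv, MvPolynomial.smul_eq_C_mul]

theorem dirDeriv_mul {n : ℕ} (v : Fin n → k) (a b : MvPolynomial (Fin n) k) :
    dirDeriv v (a * b) = dirDeriv v a * b + a * dirDeriv v b := by
  simp only [dirDeriv_apply, pderiv_mul, Finset.sum_mul, Finset.mul_sum, ← Finset.sum_add_distrib]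
  exact Finset.sum_congr rfl fun i _ => by ring

/-- The linear form with coefficient vector of a functional. -/
noncomputable def lin {n : ℕ} (φ : Module.Dual k (Fin n → k)) : MvPolynomial (Fin n) k :=
  ∑ i, C (φ (Pi.single i 1)) * X i

theorem dual_apply {n : ℕ} (φ : Module.Dual k (Fin n → k)) (v : Fin n → k) :
    φ v = ∑ i, φ (Pi.single i 1) * v i := by
  conv_lhs => rw [pi_eq_sum_univ' v]
  simp [mul_comm]

theorem eval_lin {n : ℕ} (φ : Module.Dual k (Fin n → k)) (v : Fin n → k) : eval v (lin φ) = φ v := by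
  rw [dual_apply φ v]
  simp [lin]

theorem eval_dirDeriv_lin {n : ℕ} (φ : Module.Dual k (Fin n → k)) (v w : Fin n → k) :
    eval w (dirDeriv v (lin φ)) = φ v := by
  classical
  rw [dual_apply φ v]
  simp [dirDeriv_apply, lin, pderiv_X, Pi.single_apply, mul_comm]

theorem isHomogeneous_lin {n : ℕ} (φ : Module.Dual k (Fin n → k)) : (lin φ).IsHomogeneous 1 :=
  IsHomogeneous.sum _ _ _ fun i _ => by simpa using (isHomogeneous_C _ _).mul (isHomogeneous_X k i)

/-- Bezout: a quartic and a cubic without common factor have at most six common zeros singular on the quartic. -/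
theorem card_le_six {f g : MvPolynomial (Fin 3) k} (hf : f.IsHomogeneous 4) (hg : g.IsHomogeneous 3)
    (hrel : IsRelPrime f g) (hg0 : g ≠ 0) (P : Fin 7 → Fin 3 → k) (hP0 : ∀ i, P i ≠ 0)
    (hPind : ∀ i j, i ≠ j → P i ∉ Submodule.span k {P j})
    (hfP : ∀ i, eval (P i) f = 0) (hdf : ∀ i l, eval (P i) (pderiv l f) = 0) (hgP : ∀ i, eval (P i) g = 0) :
    False := by
  classical
  -- directions killing `g` to first order
  have hv : ∀ i, ∃ v : Fin 3 → k, v ∉ Submodule.span k {P i} ∧ eval (P i) (dirDeriv v g) = 0 := by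
    intro i
    let l : (Fin 3 → k) →ₗ[k] k := Fintype.linearCombination k fun j => eval (P i) (pderiv j g)
    by_contra! h
    have hle : LinearMap.ker l ≤ Submodule.span k {P i} := by
      intro v hv
      by_contra hvn
      refine h v hvn ?_
      simpa [dirDeriv_apply, l, Fintype.linearCombination_apply] using hv
    have h1 := Submodule.finrank_mono hle
    have h2 := l.finrank_range_add_finrank_ker
    have h3 := Submodule.finrank_le (LinearMap.range l)
    rw [Module.finrank_self] at h3
    rw [finrank_span_singleton (hP0 i), ] at h1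
    simp only [Module.finrank_fintype_fun_eq_card, Fintype.card_fin] at h2
    omega
  choose v hv hvg using hv
  -- separating forms
  have hsep : ∀ i j, i ≠ j → ∃ φ : Module.Dual k (Fin 3 → k), φ (P i) ≠ 0 ∧ φ (P j) = 0 := fun i j hij => by
    obtain ⟨φ, h1, h2⟩ := Submodule.exists_dual_map_eq_bot_of_notMem (hPind i j hij) inferInstance
    exact ⟨φ, h1, by
      have : φ (P j) ∈ Submodule.map φ (Submodule.span k {P j}) :=
        Submodule.mem_map_of_mem (Submodule.mem_span_singleton_self _)
      rwa [h2, Submodule.mem_bot] at this⟩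
  choose! φ hφ hφ0 using hsep
  have hsec : ∀ i, ∃ ψ : Module.Dual k (Fin 3 → k), ψ (P i) = 0 ∧ ψ (v i) = 1 := fun i => by
    obtain ⟨ψ, h1, h2⟩ := Submodule.exists_dual_map_eq_bot_of_notMem (hv i) inferInstance
    refine ⟨(ψ (v i))⁻¹ • ψ, ?_, by simp [h1]⟩
    have : ψ (P i) ∈ Submodule.map ψ (Submodule.span k {P i}) :=
      Submodule.mem_map_of_mem (Submodule.mem_span_singleton_self _)
    rw [h2, Submodule.mem_bot] at this
    simp [this]
  choose ψ hψ hψ1 using hsec
  have hfirst : ∀ i, ∃ χ : Module.Dual k (Fin 3 → k), χ (P i) ≠ 0 := fun i => by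
    obtain ⟨χ, h1, -⟩ := Submodule.exists_dual_map_eq_bot_of_notMem
      (p := (⊥ : Submodule k (Fin 3 → k))) (by simpa using hP0 i) inferInstance
    exact ⟨χ, h1⟩
  choose χ hχ using hfirst
  let V : ℕ → Submodule k (MvPolynomial (Fin 3) k) := fun N => homogeneousSubmodule (Fin 3) k N
  have hdim : ∀ N, Module.Finite k (V N) ∧ Module.finrank k (V N) = (3 + N - 1).choose N := fun N =>
    Groth.HopfGraded.finrank_homogeneous 3 N
  haveI : ∀ N, Module.Finite k (V N) := fun N => (hdim N).1
  let ev : (i : Fin 7) → MvPolynomial (Fin 3) k →ₗ[k] k := fun i => (MvPolynomial.aeval (P i)).toLinearMap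
  let Φ : V 13 →ₗ[k] (Fin 7 → k × k) :=
    (LinearMap.pi fun i => (ev i).prod ((ev i).comp (dirDeriv (v i)))).comp (V 13).subtype
  have hΦ : ∀ (h : MvPolynomial (Fin 3) k) (hh : h ∈ V 13) (i : Fin 7),
      Φ ⟨h, hh⟩ i = (eval (P i) h, eval (P i) (dirDeriv (v i) h)) := fun h hh i => rfl
  let Q : Fin 7 → MvPolynomial (Fin 3) k := fun i => ∏ j ∈ Finset.univ.erase i, lin (φ i j) ^ 2
  have hQ : ∀ i, (Q i).IsHomogeneous 12 := fun i => by
    have := IsHomogeneous.prod (Finset.univ.erase i) (fun j => lin (φ i j) ^ 2) (fun _ => 1 * 2)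
      (fun j _ => (isHomogeneous_lin _).pow 2)
    simpa using this
  have hQi : ∀ i, eval (P i) (Q i) ≠ 0 := fun i => by
    rw [map_prod, Finset.prod_ne_zero_iff]
    intro j hj
    rw [map_pow, eval_lin]
    exact pow_ne_zero _ (hφ i j (Finset.ne_of_mem_erase hj).symm)
  have hmem : ∀ i (θ : Module.Dual k (Fin 3 → k)), Q i * lin θ ∈ V 13 := fun i θ =>
    (hQ i).mul (isHomogeneous_lin θ)
  have hoff : ∀ i θ j, j ≠ i → Φ ⟨_, hmem i θ⟩ j = 0 := by
    intro i θ j hji
    rw [hΦ]
    obtain ⟨R, hR⟩ : ∃ R, Q i * lin θ = lin (φ i j) * lin (φ i j) * R :=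
      (dvd_mul_of_dvd_left ((sq (lin (φ i j))) ▸ Finset.dvd_prod_of_mem _ (Finset.mem_erase.2 ⟨hji, Finset.mem_univ j⟩)) _)
    have hz : eval (P j) (lin (φ i j)) = 0 := by rw [eval_lin, hφ0 i j hji.symm]
    simp [hR, dirDeriv_mul, hz]
  have hrange : LinearMap.range Φ = ⊤ := by
    have hsingle : ∀ (h : V 13) i, (∀ j, j ≠ i → Φ h j = 0) → Pi.single i (Φ h i) ∈ LinearMap.range Φ := by
      intro h i hh
      refine ⟨h, funext fun j => ?_⟩
      by_cases hj : j = i
      · subst hj; simp
      · simp [hj, hh j hj]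
    have hb : ∀ i, (Pi.single i ((0 : k), (1 : k)) : Fin 7 → k × k) ∈ LinearMap.range Φ := fun i => by
      have e : Φ ⟨_, hmem i (ψ i)⟩ i = eval (P i) (Q i) • ((0 : k), (1 : k)) := by
        rw [hΦ]
        simp [dirDeriv_mul, eval_lin, eval_dirDeriv_lin, hψ, hψ1]
      have := hsingle _ i (hoff i (ψ i))
      rw [e, Pi.single_smul, Submodule.smul_mem_iff _ (hQi i)] at this
      exact this
    have ha : ∀ i, (Pi.single i ((1 : k), (0 : k)) : Fin 7 → k × k) ∈ LinearMap.range Φ := fun i => by
      have := hsingle _ i (hoff i (χ i))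
      obtain ⟨d, hd⟩ : ∃ d, Φ ⟨_, hmem i (χ i)⟩ i = (eval (P i) (Q i) * χ i (P i)) • ((1 : k), (0 : k)) + d • ((0 : k), (1 : k)) :=
        ⟨eval (P i) (dirDeriv (v i) (Q i * lin (χ i))), by rw [hΦ]; ext <;> simp [eval_lin]⟩
      rw [hd, Pi.single_add, Pi.single_smul, Pi.single_smul,
        Submodule.add_mem_iff_left _ (Submodule.smul_mem _ _ (hb i)),
        Submodule.smul_mem_iff _ (mul_ne_zero (hQi i) (hχ i))] at this
      exact this
    refine eq_top_iff.2 fun x _ => ?_
    rw [show x = ∑ i, ((x i).1 • (Pi.single i ((1 : k), (0 : k)) : Fin 7 → k × k) + (x i).2 • (Pi.single i ((0 : k), (1 : k)) : Fin 7 → k × k)) from by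
      funext j
      rw [Finset.sum_apply, Finset.sum_eq_single j (fun i _ hij => by simp [Ne.symm hij]) (by simp)]
      simp]
    exact sum_mem fun i _ => add_mem (Submodule.smul_mem _ _ (ha i)) (Submodule.smul_mem _ _ (hb i))
  -- the image of the ideal
  let μ : (V 9 × V 10) →ₗ[k] MvPolynomial (Fin 3) k :=
    ((LinearMap.mulRight k f).comp (V 9).subtype).coprod ((LinearMap.mulRight k g).comp (V 10).subtype)
  have hμmem : ∀ x, μ x ∈ V 13 := fun x => by
    have h1 : (x.1 : MvPolynomial (Fin 3) k) * f ∈ V 13 := IsHomogeneous.mul (n := 4) (m := 9) x.1.2 hf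
    have h2 : (x.2 : MvPolynomial (Fin 3) k) * g ∈ V 13 := IsHomogeneous.mul (n := 3) (m := 10) x.2.2 hg
    simpa [μ] using add_mem h1 h2
  let μ' : (V 9 × V 10) →ₗ[k] V 13 := μ.codRestrict _ hμmem
  have hμle : LinearMap.range μ' ≤ LinearMap.ker Φ := by
    rintro _ ⟨x, rfl⟩
    rw [LinearMap.mem_ker]
    funext i
    show Φ ⟨μ x, hμmem x⟩ i = 0
    have hdf' : eval (P i) (dirDeriv (v i) f) = 0 := by simp [dirDeriv_apply, hdf]
    rw [hΦ]
    simp [μ, dirDeriv_mul, hfP, hgP, hvg, hdf']
  have hker : Module.finrank k (LinearMap.ker μ') ≤ 28 := by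
    let τ : V 6 →ₗ[k] V 9 := (((LinearMap.mulLeft k g).comp (V 6).subtype)).codRestrict _ fun h =>
      IsHomogeneous.mul (m := 3) (n := 6) hg h.2
    let π : LinearMap.ker μ' →ₗ[k] V 9 := (LinearMap.fst k (V 9) (V 10)).comp (LinearMap.ker μ').subtype
    have hπ : Function.Injective π := by
      rw [injective_iff_map_eq_zero]
      rintro ⟨⟨a, b⟩, hx⟩ (ha : a = 0)
      subst ha
      have hb : (b : MvPolynomial (Fin 3) k) * g = 0 := by
        simpa [μ', μ] using congrArg Subtype.val (LinearMap.mem_ker.1 hx)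
      have hb0 : b = 0 := Subtype.ext ((mul_eq_zero.1 hb).resolve_right hg0)
      subst hb0
      rfl
    have hπτ : LinearMap.range π ≤ LinearMap.range τ := by
      rintro _ ⟨⟨⟨a, b⟩, hx⟩, rfl⟩
      have hab : (a : MvPolynomial (Fin 3) k) * f + (b : MvPolynomial (Fin 3) k) * g = 0 := by
        simpa [μ', μ] using congrArg Subtype.val (LinearMap.mem_ker.1 hx)
      obtain ⟨h, hh⟩ : g ∣ (a : MvPolynomial (Fin 3) k) := by
        refine hrel.symm.dvd_of_dvd_mul_right ?_
        exact ⟨-(b : MvPolynomial (Fin 3) k), by linear_combination hab⟩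
      refine ⟨⟨homogeneousComponent 6 h, homogeneousComponent_mem _ _⟩, Subtype.ext ?_⟩
      show g * homogeneousComponent 6 h = a
      have key : homogeneousComponent 9 (g * h) = g * homogeneousComponent 6 h := by
        conv_lhs => rw [← sum_homogeneousComponent h, Finset.mul_sum, map_sum]
        rw [Finset.sum_eq_single 6]
        · rw [homogeneousComponent_of_mem (n := 9) (IsHomogeneous.mul (m := 3) (n := 6) hg (homogeneousComponent_mem _ _))]
          simp
        · intro j _ hj
          rw [homogeneousComponent_of_mem (n := 3 + j) (IsHomogeneous.mul (m := 3) (n := j) hg (homogeneousComponent_mem _ _))]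
          simp; omega
        · intro h6
          rw [Finset.mem_range, not_lt] at h6
          rw [homogeneousComponent_eq_zero 6 h (by omega), mul_zero, map_zero]
      rw [← key, ← hh, homogeneousComponent_eq_self a.2]
    have h1 := LinearMap.finrank_range_of_inj hπ
    have h2 := (Submodule.finrank_mono hπτ).trans (LinearMap.finrank_range_le τ)
    have h3 : Module.finrank k (V 6) = 28 := by rw [(hdim 6).2]; rfl
    omega
  have h1 := μ'.finrank_range_add_finrank_ker
  have h2 := Φ.finrank_range_add_finrank_ker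
  have h3 := Submodule.finrank_mono hμle
  rw [hrange, finrank_top] at h2
  rw [Module.finrank_prod, (hdim 9).2, (hdim 10).2] at h1
  rw [(hdim 13).2] at h2
  simp only [Module.finrank_pi_fintype, Module.finrank_prod, Module.finrank_self, Finset.sum_const,
    Finset.card_univ, Fintype.card_fin, smul_eq_mul] at h2
  norm_num [Nat.choose_eq_factorial_div_factorial, Nat.factorial] at h1
  norm_num [Nat.choose_eq_factorial_div_factorial, Nat.factorial] at h2
  omega

end Groth.Misc6.PlaneSingular
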