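import Mathlib
import Groth.Agent.Misc6.DiskLattice

/-! Orders `R·1 + t^n R z` in a free rank two algebra `R ⊕ R z`, `z ^ 2 = c`, over `R = k⟦t⟧`. -/

namespace Groth.Misc6

open PowerSeries Matrix

variable {k : Type*} [Field k] {St : Type*} [CommRing St] [Algebra k⟦X⟧ St]
  {S : Subalgebra k⟦X⟧ St} (b : Module.Basis (Fin 2) k⟦X⟧ St)

theorem quad_mem_iff (hb0 : b 0 = 1) (n : ℕ) (s : St) :
    s ∈ Submodule.span k⟦X⟧ {(1 : St)} ⊔ Ideal.span {(X : k⟦X⟧) ^ n} • (⊤ : Submodule k⟦X⟧ St) ↔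
      (X : k⟦X⟧) ^ n ∣ b.repr s 1 := by
  rw [Submodule.ideal_span_singleton_smul]
  constructor
  · intro hs
    obtain ⟨u, hu, v, hv, rfl⟩ := Submodule.mem_sup.1 hs
    obtain ⟨a, rfl⟩ := Submodule.mem_span_singleton.1 hu
    obtain ⟨w, -, rfl⟩ := (Submodule.mem_smul_pointwise_iff_exists _ _ _).1 hv
    simp [← hb0]
  · rintro ⟨d, hd⟩
    have hs := b.sum_repr s
    rw [Fin.sum_univ_two, hb0, hd, mul_smul] at hs
    rw [← hs]
    exact add_mem (Submodule.mem_sup_left (Submodule.smul_mem _ _ (Submodule.mem_span_singleton_self _)))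
      (Submodule.mem_sup_right ((Submodule.mem_smul_pointwise_iff_exists _ _ _).2 ⟨_, trivial, rfl⟩))

theorem quad_exists_n (hb0 : b 0 = 1) (bS : Module.Basis (Fin 2) k⟦X⟧ S) :
    ∃ n : ℕ, Subalgebra.toSubmodule S =
      Submodule.span k⟦X⟧ {(1 : St)} ⊔ Ideal.span {(X : k⟦X⟧) ^ n} • (⊤ : Submodule k⟦X⟧ St) := by
  classical
  have hne : ∃ s : S, b.repr (s : St) 1 ≠ 0 := by
    by_contra! h
    have hh : ∀ i, (bS i : St) = b.repr (bS i : St) 0 • b 0 := fun i => by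
      have := b.sum_repr (bS i : St)
      rw [Fin.sum_univ_two, h, zero_smul, add_zero] at this
      exact this.symm
    have hd := Fintype.linearIndependent_iff.1 bS.linearIndependent
      ![b.repr (bS 1 : St) 0, -(b.repr (bS 0 : St) 0)] (by
        rw [Fin.sum_univ_two]
        apply Subtype.ext
        rw [Subalgebra.coe_add, Subalgebra.coe_smul, Subalgebra.coe_smul, hh 0, hh 1]
        simp [smul_smul, mul_comm]) 0
    simp at hd
    exact bS.ne_zero 1 (Subtype.ext (by rw [hh 1, hd, zero_smul]; simp))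
  have hex : ∃ n : ℕ, ∃ s : S, ∃ u : (k⟦X⟧)ˣ, b.repr (s : St) 1 = (X : k⟦X⟧) ^ n * (u : k⟦X⟧) := by
    obtain ⟨s, hs⟩ := hne
    obtain ⟨j, u, h⟩ := disk_eq_X_pow_mul_unit hs
    exact ⟨j, s, u, h⟩
  refine ⟨Nat.find hex, ?_⟩
  obtain ⟨s0, u0, h0⟩ := Nat.find_spec hex
  have hdiv : ∀ x ∈ S, (X : k⟦X⟧) ^ Nat.find hex ∣ b.repr x 1 := by
    intro x hx
    by_cases h : b.repr x 1 = 0
    · rw [h]; exact dvd_zero _
    · obtain ⟨j, u, hj⟩ := disk_eq_X_pow_mul_unit h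
      rw [hj]
      exact (pow_dvd_pow _ (Nat.find_min' hex ⟨⟨x, hx⟩, u, hj⟩)).mul_right _
  ext x
  rw [quad_mem_iff b hb0, Subalgebra.mem_toSubmodule]
  refine ⟨hdiv x, fun ⟨d, hd⟩ => ?_⟩
  have hy := b.sum_repr (s0 : St)
  rw [Fin.sum_univ_two, h0, hb0] at hy
  have hx := b.sum_repr x
  rw [Fin.sum_univ_two, hd, hb0] at hx
  set μ : k⟦X⟧ := d * ((u0⁻¹ : (k⟦X⟧)ˣ) : k⟦X⟧) with hμ
  have hxy : x = algebraMap k⟦X⟧ St (b.repr x 0 - μ * b.repr (s0 : St) 0) + μ • (s0 : St) := by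
    conv_lhs => rw [← hx]
    conv_rhs => arg 2; rw [← hy]
    rw [Algebra.algebraMap_eq_smul_one, sub_smul, smul_add, smul_smul, smul_smul,
      show μ * (X ^ Nat.find hex * (u0 : k⟦X⟧)) = X ^ Nat.find hex * d by
        rw [hμ]; linear_combination (X ^ Nat.find hex * d) * u0.inv_mul]
    abel
  rw [hxy]
  exact add_mem (S.algebraMap_mem _) (S.smul_mem s0.2 _)

theorem quad_basis (hb0 : b 0 = 1) (n : ℕ)
    (hS : Subalgebra.toSubmodule S =
      Submodule.span k⟦X⟧ {(1 : St)} ⊔ Ideal.span {(X : k⟦X⟧) ^ n} • (⊤ : Submodule k⟦X⟧ St)) :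
    ∃ bS : Module.Basis (Fin 2) k⟦X⟧ S, bS 0 = 1 ∧ (bS 1 : St) = (X : k⟦X⟧) ^ n • b 1 := by
  have hmem : ∀ x, x ∈ S ↔ (X : k⟦X⟧) ^ n ∣ b.repr x 1 := fun x => by
    rw [← Subalgebra.mem_toSubmodule, hS, quad_mem_iff b hb0]
  let v : Fin 2 → S := ![1, ⟨(X : k⟦X⟧) ^ n • b 1, (hmem _).2 (by simp)⟩]
  refine ⟨Module.Basis.mk (v := v) ?_ ?_, ?_, ?_⟩
  · rw [Fintype.linearIndependent_iff]
    intro g hg
    have h := congrArg (fun w : S => b.repr (w : St)) hg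
    simp only [Fin.sum_univ_two, v] at h
    simp [← hb0] at h
    have h0 := DFunLike.congr_fun h 0
    have h1 := DFunLike.congr_fun h 1
    simp at h0 h1
    intro i
    fin_cases i
    · exact h0
    · exact h1
  · rintro ⟨x, hx⟩ -
    obtain ⟨d, hd⟩ := (hmem x).1 hx
    rw [Submodule.mem_span_range_iff_exists_fun]
    refine ⟨![b.repr x 0, d], Subtype.ext ?_⟩
    have hs := b.sum_repr x
    rw [Fin.sum_univ_two, hb0, hd] at hs
    simp [v, smul_smul, mul_comm d]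
    exact hs
  · simp [v]
  · simp [v]

/-- discriminant and presentation of such an order -/
theorem quad_discr (h2 : (2 : k) ≠ 0) (hb0 : b 0 = 1) (c : k⟦X⟧) (hz : b 1 * b 1 = algebraMap k⟦X⟧ St c) (n : ℕ)
    (hS : Subalgebra.toSubmodule S =
      Submodule.span k⟦X⟧ {(1 : St)} ⊔ Ideal.span {(X : k⟦X⟧) ^ n} • (⊤ : Submodule k⟦X⟧ St)) :
    ∃ bS : Module.Basis (Fin 2) k⟦X⟧ S,
      Ideal.span {Algebra.discr k⟦X⟧ ⇑bS} = Ideal.span {X ^ (2 * n) * c} ∧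
      Nonempty (S ≃ₐ[k⟦X⟧] AdjoinRoot (Polynomial.X ^ 2 - Polynomial.C (X ^ (2 * n) * c))) := by
  obtain ⟨bS, h0, h1⟩ := quad_basis b hb0 n hS
  have hy : bS 1 * bS 1 = algebraMap k⟦X⟧ S (X ^ (2 * n) * c) := by
    apply Subtype.ext
    rw [Subalgebra.coe_mul, h1, smul_mul_smul_comm, hz, Algebra.smul_def, ← map_mul, ← pow_add, ← two_mul]
    rfl
  refine ⟨bS, ?_, ?_⟩
  · have t1 : Algebra.trace k⟦X⟧ S 1 = 2 := by
      rw [← map_one (algebraMap k⟦X⟧ S), Algebra.trace_algebraMap_of_basis bS]; simp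
    have t2 : Algebra.trace k⟦X⟧ S (bS 1) = 0 := by
      rw [Algebra.trace_eq_matrix_trace bS, Matrix.trace_fin_two, Algebra.leftMulMatrix_eq_repr_mul,
        Algebra.leftMulMatrix_eq_repr_mul, h0, mul_one, hy, Algebra.algebraMap_eq_smul_one, ← h0]
      simp
    have t3 : Algebra.trace k⟦X⟧ S (bS 1 * bS 1) = 2 * (X ^ (2 * n) * c) := by
      rw [hy, Algebra.trace_algebraMap_of_basis bS]; simp
    have hd : Algebra.discr k⟦X⟧ ⇑bS = 4 * (X ^ (2 * n) * c) := by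
      rw [Algebra.discr_def, Matrix.det_fin_two]
      simp only [Algebra.traceMatrix_apply, Algebra.traceForm_apply, h0, mul_one, one_mul, t1, t2, t3]
      ring
    rw [hd, Ideal.span_singleton_mul_left_unit]
    rw [isUnit_iff_constantCoeff, map_ofNat]
    rw [show (4 : k) = 2 * 2 by norm_num]
    exact (mul_ne_zero h2 h2).isUnit
  · set P : Polynomial k⟦X⟧ := Polynomial.X ^ 2 - Polynomial.C (X ^ (2 * n) * c) with hP
    have hmon : P.Monic := Polynomial.monic_X_pow_sub_C _ two_ne_zero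
    have hdeg : P.natDegree = 2 := Polynomial.natDegree_X_pow_sub_C
    let f : AdjoinRoot P →ₐ[k⟦X⟧] S := AdjoinRoot.liftAlgHom P (Algebra.ofId _ _) (bS 1) (by
      simp [hP, sq, hy, Algebra.ofId_apply])
    let pb := (AdjoinRoot.powerBasis' hmon)
    let B := pb.basis.reindex (finCongr hdeg)
    have hB : ∀ i, B i = AdjoinRoot.root P ^ (i : ℕ) := fun i => by
      simp [B, pb, Module.Basis.reindex_apply, PowerBasis.coe_basis]
    have hf : f.toLinearMap = (B.equiv bS (Equiv.refl _)).toLinearMap := by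
      refine B.ext fun i => ?_
      rw [AlgHom.toLinearMap_apply, LinearEquiv.coe_coe, Module.Basis.equiv_apply, hB, map_pow, Equiv.refl_apply]
      fin_cases i <;> simp [f, h0]
    refine ⟨(AlgEquiv.ofBijective f ?_).symm⟩
    show Function.Bijective f.toLinearMap
    rw [hf]
    exact (B.equiv bS (Equiv.refl _)).bijective

/-- the classification -/
theorem quad_classify (h2 : (2 : k) ≠ 0) (hb0 : b 0 = 1) (a : ℕ) (hz : b 1 * b 1 = algebraMap k⟦X⟧ St (X ^ a)) (m : ℕ) :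
    ((∃ bS : Module.Basis (Fin 2) k⟦X⟧ S, Ideal.span {Algebra.discr k⟦X⟧ ⇑bS} = Ideal.span {(X : k⟦X⟧) ^ m}) ↔
    ∃ n : ℕ, m = 2 * n + a ∧ Subalgebra.toSubmodule S =
      Submodule.span k⟦X⟧ {(1 : St)} ⊔ Ideal.span {(X : k⟦X⟧) ^ n} • (⊤ : Submodule k⟦X⟧ St)) ∧
    (∀ n : ℕ, Subalgebra.toSubmodule S =
      Submodule.span k⟦X⟧ {(1 : St)} ⊔ Ideal.span {(X : k⟦X⟧) ^ n} • (⊤ : Submodule k⟦X⟧ St) →
      Nonempty (S ≃ₐ[k⟦X⟧] AdjoinRoot (Polynomial.X ^ 2 - Polynomial.C ((X : k⟦X⟧) ^ (2 * n + a))))) := by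
  refine ⟨⟨fun ⟨bS, hbS⟩ => ?_, fun ⟨n, hn, hS⟩ => ?_⟩, fun n hS => ?_⟩
  · obtain ⟨n, hS⟩ := quad_exists_n b hb0 bS
    obtain ⟨bS', h', -⟩ := quad_discr b h2 hb0 _ hz n hS
    refine ⟨n, ?_, hS⟩
    apply disk_span_inj (k := k)
    rw [← hbS, pow_add, ← h', Ideal.span_singleton_eq_span_singleton]
    have hPQ : bS.toMatrix bS' * bS'.toMatrix bS = 1 := bS.toMatrix_mul_toMatrix_flip bS'
    have hu : IsUnit (bS'.toMatrix bS).det := by
      refine IsUnit.of_mul_eq_one (bS.toMatrix bS').det ?_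
      rw [mul_comm, ← Matrix.det_mul, hPQ, Matrix.det_one]
    rw [show (⇑bS : Fin 2 → S) = ⇑bS' ᵥ* (bS'.toMatrix bS).map (algebraMap k⟦X⟧ S) from
      (bS'.toMatrix_map_vecMul _).symm, Algebra.discr_of_matrix_vecMul]
    exact associated_unit_mul_left _ _ (hu.pow 2)
  · obtain ⟨bS', h', -⟩ := quad_discr b h2 hb0 _ hz n hS
    exact ⟨bS', by rw [h', hn, pow_add]⟩
  · obtain ⟨-, -, h''⟩ := quad_discr b h2 hb0 _ hz n hS
    rwa [pow_add]

end Groth.Misc6
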