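import Groth.Agent.FrobLCI.RelFrobEtale
import Mathlib.Algebra.MvPolynomial.Expand
import Mathlib.RingTheory.RingHom.StandardSmooth
import Mathlib.RingTheory.RingHom.Flat
import Mathlib.RingTheory.Smooth.StandardSmoothOfFree

/-!
Flatness of the relative Frobenius of a smooth algebra.
-/

universe u v w

open CategoryTheory CategoryTheory.Limits TensorProduct FrobAlg Groth.FrobLCI.RelFrob

namespace Groth.Misc6.RelFrobFlat

variable (p : ℕ) [Fact p.Prime] (A : Type u) [CommRing A] [CharP A p]

/-- The map of Frobenius twists of an algebra map. -/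
noncomputable def bcMap {B : Type v} {C : Type w} [CommRing B] [CommRing C] [Algebra A B] [Algebra A C]
    (φ : B →ₐ[A] C) : BaseChange p A B →+* BaseChange p A C :=
  (Algebra.TensorProduct.map φ (AlgHom.id A (Twist p A))).toRingHom

theorem relFrob_natural {B : Type v} {C : Type w} [CommRing B] [CommRing C] [Algebra A B]
    [Algebra A C] [CharP B p] [CharP C p] (φ : B →ₐ[A] C) :
    (relFrob p A C).comp (bcMap p A φ) = φ.toRingHom.comp (relFrob p A B) := by
  refine RingHom.ext fun x => ?_
  induction x using TensorProduct.induction_on with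
  | zero => simp
  | tmul b t =>
    change relFrob p A C (φ b ⊗ₜ t) = φ (relFrob p A B (b ⊗ₜ t))
    rw [relFrob_tmul, relFrob_tmul, map_mul, map_pow, AlgHom.commutes]
  | add x y hx hy => rw [map_add, map_add, hx, hy]

section

variable {B C : Type u} [CommRing B] [CommRing C] [Algebra A B] [Algebra A C]

/-- The map of twists is a base change. -/
theorem isPushout_bcMap (φ : B →ₐ[A] C) :
    IsPushout (CommRingCat.ofHom φ.toRingHom)
      (CommRingCat.ofHom (Algebra.TensorProduct.includeLeftRingHom : B →+* BaseChange p A B))
      (CommRingCat.ofHom (Algebra.TensorProduct.includeLeftRingHom : C →+* BaseChange p A C))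
      (CommRingCat.ofHom (bcMap p A φ)) := by
  have t := CommRingCat.isPushout_tensorProduct A B (Twist p A)
  have s := CommRingCat.isPushout_tensorProduct A C (Twist p A)
  refine IsPushout.of_left (h₁₁ := CommRingCat.ofHom (algebraMap A B)) ?_ ?_ t
  · convert! s using 1
    · ext a; exact φ.commutes a
    · ext t'
      simp [bcMap]
  · ext b
    simp [bcMap]

theorem bcMap_flat (φ : B →ₐ[A] C) (hφ : φ.toRingHom.Flat) : (bcMap p A φ).Flat :=
  haveI := RingHom.isStableUnderCobaseChange_toMorphismProperty_iff.2 RingHom.Flat.isStableUnderBaseChange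
  MorphismProperty.of_isPushout (P := RingHom.toMorphismProperty @RingHom.Flat)
    (isPushout_bcMap p A φ).flip hφ

end

/-- A relative Frobenius is flat if it is so over an etale base. -/
theorem flat_of_etale_over {P C : Type u} [CommRing P] [CommRing C] [Algebra A P] [Algebra A C]
    [CharP P p] [CharP C p] (φ : P →ₐ[A] C) (hφ : φ.toRingHom.Etale) (hP : (relFrob p A P).Flat) :
    (relFrob p A C).Flat := by
  letI := φ.toRingHom.toAlgebra
  haveI : Algebra.Etale P C := hφ
  have hb := Groth.FrobLCI.RelFrobEtale.relFrob_bijective_of_etale p P C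
  let e : BaseChange p P C ≃+* C := RingEquiv.ofBijective _ hb
  let e' : Twist p P ≃+* P := (toTwist p P).symm
  have t := CommRingCat.isPushout_tensorProduct P C (Twist p P)
  have hout : IsPushout (CommRingCat.ofHom φ.toRingHom) (CommRingCat.ofHom (frobenius P p))
      (CommRingCat.ofHom (frobenius C p)) (CommRingCat.ofHom φ.toRingHom) := by
    refine t.of_iso (Iso.refl _) (Iso.refl _) e'.toCommRingCatIso e.toCommRingCatIso ?_ ?_ ?_ ?_
    · ext x
      rfl
    · ext x
      rfl
    · ext x
      change relFrob p P C (x ⊗ₜ 1) = x ^ p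
      rw [relFrob_tmul, map_one, map_one, mul_one]
    · ext x
      change relFrob p P C (1 ⊗ₜ x) = φ (untwist p P x)
      rw [relFrob_tmul, one_pow, one_mul]
      rfl
  have hleft := (isPushout_bcMap p A φ).flip
  have key : IsPushout (CommRingCat.ofHom (relFrob p A P)) (CommRingCat.ofHom (bcMap p A φ))
      (CommRingCat.ofHom φ.toRingHom) (CommRingCat.ofHom (relFrob p A C)) := by
    refine IsPushout.of_left
      (h₁₁ := CommRingCat.ofHom (Algebra.TensorProduct.includeLeftRingHom : P →+* BaseChange p A P))
      ?_ ?_ hleft
    · convert! hout.flip using 1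
      · ext x
        change relFrob p A P (x ⊗ₜ 1) = x ^ p
        rw [relFrob_tmul, map_one, map_one, mul_one]
      · ext x
        change relFrob p A C (x ⊗ₜ 1) = x ^ p
        rw [relFrob_tmul, map_one, map_one, mul_one]
    · exact CommRingCat.hom_ext (relFrob_natural p A φ).symm
  haveI := RingHom.isStableUnderCobaseChange_toMorphismProperty_iff.2 RingHom.Flat.isStableUnderBaseChange
  exact MorphismProperty.of_isPushout (P := RingHom.toMorphismProperty @RingHom.Flat) key.flip hP

/-- A ring map making the target free is flat. -/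
theorem flat_of_free_map {R S : Type u} [CommRing R] [CommRing S] {ι : Type w} [Finite ι]
    (E : R →+* S) (f : (ι → R) → S) (hadd : ∀ g g', f (g + g') = f g + f g')
    (hsmul : ∀ (c : R) g, f (fun r => c * g r) = E c * f g) (hbij : Function.Bijective f) : E.Flat := by
  letI := E.toAlgebra
  let L : (ι → R) →ₗ[R] S :=
    { toFun := f
      map_add' := hadd
      map_smul' := hsmul }
  exact Module.Flat.of_linearEquiv (LinearEquiv.ofBijective L hbij).symm

open MvPolynomial in
theorem coeff_sum_expand {R : Type u} [CommRing R] {n : ℕ} (p : ℕ) (hp : p ≠ 0)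
    (g : (Fin n → Fin p) → MvPolynomial (Fin n) R) (r : Fin n → Fin p) (q : Fin n →₀ ℕ) :
    coeff (p • q + Finsupp.equivFunOnFinite.symm fun i => (r i).1)
      (∑ r', MvPolynomial.expand p (g r') *
        monomial (Finsupp.equivFunOnFinite.symm fun i => (r' i).1) 1) = coeff q (g r) := by
  classical
  rw [coeff_sum, Finset.sum_eq_single r]
  · rw [coeff_mul_monomial, mul_one]
    exact coeff_expand_smul p hp (g r) q
  · intro r' _ hne
    rw [coeff_mul_monomial']
    split_ifs with hle
    · obtain ⟨i, hi⟩ := Function.ne_iff.1 hne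
      rw [mul_one]
      have key : ¬ p ∣ ((p • q + Finsupp.equivFunOnFinite.symm fun j => (r j).1) -
          Finsupp.equivFunOnFinite.symm fun j => (r' j).1) i := by
        intro hd
        have hle' := hle i
        simp only [Finsupp.coe_tsub, Pi.sub_apply, Finsupp.coe_add, Pi.add_apply, Finsupp.coe_smul,
          Pi.smul_apply, smul_eq_mul, Finsupp.equivFunOnFinite_symm_apply_apply] at hd hle'
        have h1 : (r' i).1 % p = (p * q i + (r i).1) % p := (Nat.modEq_iff_dvd' hle').2 hd
        rw [Nat.mul_add_mod, Nat.mod_eq_of_lt (r' i).2, Nat.mod_eq_of_lt (r i).2] at h1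
        exact hi (Fin.ext h1)
      generalize ((p • q + Finsupp.equivFunOnFinite.symm fun j => (r j).1) -
          Finsupp.equivFunOnFinite.symm fun j => (r' j).1) = m at key ⊢
      exact coeff_expand_of_not_dvd _ key
    · rfl
  · exact fun h => absurd (Finset.mem_univ r) h

open MvPolynomial in
/-- Polynomial rings are free over their subring of polynomials in `p`-th powers. -/
theorem expand_flat (n : ℕ) :
    (MvPolynomial.expand p (R := A) (σ := Fin n)).toRingHom.Flat := by
  classical
  have hp := (Fact.out : p.Prime)
  let P := MvPolynomial (Fin n) A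
  let E : P →+* P := (MvPolynomial.expand p (R := A) (σ := Fin n)).toRingHom
  let toF : (Fin n → Fin p) → (Fin n →₀ ℕ) := fun r => Finsupp.equivFunOnFinite.symm fun i => (r i).1
  let f : ((Fin n → Fin p) → P) → P := fun g => ∑ r, E (g r) * monomial (toF r) 1
  have hcoeff : ∀ g (r : Fin n → Fin p) (q : Fin n →₀ ℕ),
      coeff (p • q + toF r) (f g) = coeff q (g r) := by
    intro g r q
    exact coeff_sum_expand p hp.ne_zero g r q
  have hdec : ∀ d : Fin n →₀ ℕ, ∃ (q : Fin n →₀ ℕ) (r : Fin n → Fin p), d = p • q + toF r := fun d =>
    ⟨Finsupp.equivFunOnFinite.symm fun i => d i / p, fun i => ⟨d i % p, Nat.mod_lt _ hp.pos⟩, by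
      ext i
      simp [toF, Nat.div_add_mod]⟩
  have hadd : ∀ g g', f (g + g') = f g + f g' := fun g g' => by
    simp only [f, Pi.add_apply, map_add, add_mul, Finset.sum_add_distrib]
  have hsmul : ∀ (c : P) g, f (fun r => c * g r) = E c * f g := fun c g => by
    simp only [f, map_mul, mul_assoc, Finset.mul_sum]
  have hbij : Function.Bijective f := by
    refine ⟨fun g g' h => ?_, fun x => ?_⟩
    · funext r
      ext q
      rw [← hcoeff g r q, h, hcoeff]
    · refine ⟨fun r => ∑ d ∈ x.support, if ∀ i, d i % p = (r i).1 then
        monomial (Finsupp.equivFunOnFinite.symm fun i => d i / p) (coeff d x) else 0, ?_⟩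
      ext d
      obtain ⟨q, r, rfl⟩ := hdec d
      rw [hcoeff, coeff_sum]
      have hmod : ∀ i, (p • q + toF r) i % p = (r i).1 := fun i => by
        simp [toF, Nat.mul_add_mod, Nat.mod_eq_of_lt (r i).2]
      rw [Finset.sum_eq_single (p • q + toF r)]
      · rw [if_pos hmod, coeff_monomial, if_pos]
        ext i
        simp [toF, Nat.mul_add_div hp.pos, Nat.div_eq_of_lt (r i).2]
      · intro d' _ hne
        split_ifs with h
        · rw [coeff_monomial, if_neg]
          intro hq
          refine hne ?_
          ext i
          have := congrArg (fun e => e i) hq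
          simp only [Finsupp.equivFunOnFinite_symm_apply_apply] at this
          simp only [Finsupp.coe_add, Pi.add_apply, Finsupp.coe_smul, Pi.smul_apply, smul_eq_mul,
            toF, Finsupp.equivFunOnFinite_symm_apply_apply]
          rw [← this, ← h i, Nat.div_add_mod]
        · rw [coeff_zero]
      · intro hd
        rw [notMem_support_iff.1 hd]
        simp
  exact flat_of_free_map E f hadd hsmul hbij

/-- The relative Frobenius of a polynomial ring is flat. -/
theorem flat_mvPolynomial (n : ℕ) : (relFrob p A (MvPolynomial (Fin n) A)).Flat := by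
  let σ : Twist p A ≃+* A := (toTwist p A).symm
  let e : BaseChange p A (MvPolynomial (Fin n) A) ≃+* MvPolynomial (Fin n) A :=
    ((Algebra.TensorProduct.comm A (MvPolynomial (Fin n) A) (Twist p A)).toRingEquiv.trans
      (MvPolynomial.algebraTensorAlgEquiv A (Twist p A)).toRingEquiv).trans
      (MvPolynomial.mapEquiv (Fin n) σ)
  have he : relFrob p A (MvPolynomial (Fin n) A) =
      (MvPolynomial.expand p (R := A) (σ := Fin n)).toRingHom.comp e.toRingHom := by
    refine RingHom.ext fun x => ?_
    induction x using TensorProduct.induction_on with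
    | zero => simp
    | tmul b t =>
      rw [relFrob_tmul]
      change _ = MvPolynomial.expand p (MvPolynomial.map (σ : Twist p A →+* A)
        (MvPolynomial.algebraTensorAlgEquiv A (Twist p A) (t ⊗ₜ b)))
      rw [MvPolynomial.algebraTensorAlgEquiv_tmul]
      induction b using MvPolynomial.induction_on with
      | C a =>
        simp only [MvPolynomial.map_C, Algebra.smul_def, MvPolynomial.algebraMap_eq, map_mul]
        rw [← map_pow, MvPolynomial.expand_C, MvPolynomial.expand_C, ← map_mul, ← map_mul]
        congr 1
        rw [mul_comm]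
        rfl
      | add b c hb hc =>
        rcases subsingleton_or_nontrivial (MvPolynomial (Fin n) A) with h | h
        · exact Subsingleton.elim _ _
        rw [add_pow_char, add_mul, hb, hc]
        simp only [map_add, smul_add]
      | mul_X b i hb =>
        rw [mul_pow, mul_right_comm, hb]
        simp only [map_mul, MvPolynomial.map_X, Algebra.smul_def, MvPolynomial.expand_X]
        ring
    | add x y hx hy => rw [map_add, map_add, hx, hy]
  rw [he]
  exact RingHom.Flat.comp (RingHom.Flat.of_bijective e.bijective) (expand_flat p A n)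

/-- The relative Frobenius of a smooth algebra is flat. -/
theorem flat_of_smooth (B : Type u) [CommRing B] [Algebra A B] [CharP B p] [Algebra.Smooth A B] :
    (relFrob p A B).Flat := by
  obtain ⟨s, hs, hstd⟩ := Algebra.Smooth.exists_span_eq_top_isStandardSmooth A B
  refine RingHom.Flat.ofLocalizationSpanTarget _ s hs fun r => ?_
  rcases subsingleton_or_nontrivial (Localization.Away r.1) with h | h
  · letI := ((algebraMap B (Localization.Away r.1)).comp (relFrob p A B)).toAlgebra
    exact inferInstanceAs (Module.Flat (BaseChange p A B) (Localization.Away r.1))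
  haveI : CharP (Localization.Away r.1) p := (CharP.charP_iff_prime_eq_zero Fact.out).mpr (by
    rw [← map_natCast (algebraMap B (Localization.Away r.1)), CharP.cast_eq_zero, map_zero])
  haveI := hstd r.1 r.2
  obtain ⟨ι, σ, _, _, ⟨P⟩⟩ := Algebra.IsStandardSmooth.out (R := A) (S := Localization.Away r.1)
  haveI : Algebra.IsStandardSmoothOfRelativeDimension P.dimension A (Localization.Away r.1) :=
    ⟨⟨_, _, _, inferInstance, P, rfl⟩⟩
  obtain ⟨g, hg⟩ := Algebra.IsStandardSmoothOfRelativeDimension.exists_etale_mvPolynomial
    P.dimension A (Localization.Away r.1)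
  have hC := flat_of_etale_over p A g hg (flat_mvPolynomial p A _)
  let φ : B →ₐ[A] Localization.Away r.1 := IsScalarTower.toAlgHom A B _
  have hφ : φ.toRingHom.Flat :=
    RingHom.flat_algebraMap_iff.2 (IsLocalization.flat _ (Submonoid.powers r.1))
  have e := relFrob_natural p A φ
  change (φ.toRingHom.comp (relFrob p A B)).Flat
  rw [← e]
  exact RingHom.Flat.comp (bcMap_flat p A φ hφ) hC

end Groth.Misc6.RelFrobFlat
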