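import Groth.Agent.EGA43Topo.UnibranchWrapper
import Groth.Agent.FlatMor2.UnivOpen
import Mathlib.RingTheory.Spectrum.Prime.Chevalley
import Mathlib.RingTheory.Spectrum.Prime.Polynomial
import Mathlib.RingTheory.AdjoinRoot
import Mathlib.RingTheory.LocalRing.ResidueField.Fiber
import Mathlib.FieldTheory.Minpoly.IsIntegrallyClosed

/-!
# Universal openness over geometrically unibranch bases without Noetherian hypotheses

An integral extension of a domain whose normalisation has radicial spectrum map gives an open map on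
spectra; combined with Zariski's main theorem this gives EGA IV 14.4 for arbitrary base rings.
-/

universe u

set_option linter.style.haveILetI false

open TensorProduct

namespace Groth.Misc6.UOpen

/-- Two points of the normalisation agreeing on the domain are equal. -/
def Agree (A : Type u) [CommRing A] [IsDomain A] : Prop :=
  ∀ (k : Type u) [Field k] (e₁ e₂ : integralClosure A (FractionRing A) →+* k),
    (∀ a, e₁ (algebraMap A _ a) = e₂ (algebraMap A _ a)) → e₁ = e₂

theorem agree_mvPolynomial {A : Type u} [CommRing A] [IsDomain A] (h : Agree A) (d : ℕ) :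
    Agree (MvPolynomial (Fin d) A) := fun k _ e₁ e₂ he =>
  EGA43Topo.agree_mvPolynomial A d (e₂.comp (algebraMap _ _))
    (fun g₁ g₂ h₁ h₂ => h k g₁ g₂ fun a => (h₁ a).trans (h₂ a).symm) e₁ e₂ he fun _ => rfl

/-- All local rings are geometrically unibranch. -/
def GeomUnibranchEverywhere (A : Type u) [CommRing A] : Prop :=
  ∀ (p : Ideal A) [p.IsPrime], ∃ (L : Type u) (_ : CommRing L) (_ : IsLocalRing L) (_ : Algebra A L),
    IsLocalization.AtPrime L p ∧ CAlg2.IsGeomUnibranch L

/-- An integral extension of an integrally closed domain has open spectrum map. -/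
theorem isOpenMap_of_normal {R C : Type u} [CommRing R] [IsDomain R] [IsIntegrallyClosed R]
    [CommRing C] [IsDomain C] [Algebra R C] [Algebra.IsIntegral R C]
    (hinj : Function.Injective (algebraMap R C)) :
    IsOpenMap (PrimeSpectrum.comap (algebraMap R C)) := by
  haveI : FaithfulSMul R C := (faithfulSMul_iff_algebraMap_injective R C).2 hinj
  haveI : Module.IsTorsionFree R C := Module.isTorsionFree_iff_algebraMap_injective.2 hinj
  rw [PrimeSpectrum.isBasis_basic_opens.isOpenMap_iff]
  rintro _ ⟨_, ⟨c, rfl⟩, rfl⟩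
  have hc : IsIntegral R c := Algebra.IsIntegral.isIntegral c
  let p := minpoly R c
  have hp : p.Monic := minpoly.monic hc
  let φ : AdjoinRoot p →ₐ[R] C := AdjoinRoot.liftAlgHom p (Algebra.ofId R C) c (minpoly.aeval R c)
  have hφ : φ (AdjoinRoot.root p) = c := AdjoinRoot.liftAlgHom_root _ _ _ _
  have hφinj : Function.Injective φ := by
    refine (injective_iff_map_eq_zero φ).2 fun x hx => ?_
    obtain ⟨g, rfl⟩ := AdjoinRoot.mk_surjective x
    rw [AdjoinRoot.mk_eq_zero]
    refine minpoly.isIntegrallyClosed_dvd hc ?_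
    rwa [AdjoinRoot.liftAlgHom_mk] at hx
  have hφint : φ.toRingHom.IsIntegral :=
    RingHom.IsIntegral.tower_top (algebraMap R (AdjoinRoot p)) φ.toRingHom
      (by rw [φ.toRingHom_eq_coe, AlgHom.comp_algebraMap]; exact fun x => Algebra.IsIntegral.isIntegral x)
  haveI : Module.Free R (AdjoinRoot p) := Module.Free.of_basis (AdjoinRoot.powerBasis' hp).basis
  haveI : Module.Finite R (AdjoinRoot p) := Module.Finite.of_basis (AdjoinRoot.powerBasis' hp).basis
  haveI : Algebra.FinitePresentation R (AdjoinRoot p) := by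
    haveI : Module.FinitePresentation R (AdjoinRoot p) := Module.finitePresentation_of_projective R _
    exact Algebra.FinitePresentation.of_finitePresentation R _
  have hopen : IsOpenMap (PrimeSpectrum.comap (algebraMap R (AdjoinRoot p))) :=
    PrimeSpectrum.isOpenMap_comap_of_hasGoingDown_of_finitePresentation
  have hsurj : Function.Surjective (PrimeSpectrum.comap φ.toRingHom) :=
    hφint.comap_surjective hφinj
  have e : PrimeSpectrum.comap (algebraMap R C) '' (PrimeSpectrum.basicOpen c : Set _) =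
      PrimeSpectrum.comap (algebraMap R (AdjoinRoot p)) ''
        (PrimeSpectrum.basicOpen (AdjoinRoot.root p) : Set _) := by
    conv_lhs => rw [← φ.comp_algebraMap, PrimeSpectrum.comap_comp, ← hφ]
    rw [Set.image_comp]
    congr 1
    refine Eq.trans ?_ (Set.image_preimage_eq _ hsurj)
    exact congrArg _ (congrArg SetLike.coe (PrimeSpectrum.comap_basicOpen φ.toRingHom _)).symm
  rw [e]
  exact hopen _ (PrimeSpectrum.basicOpen _).isOpen

/-- An integral extension of a domain with radicial normalisation has open spectrum map. -/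
theorem isOpenMap_of_agree {R C : Type u} [CommRing R] [IsDomain R] (hR : Agree R)
    [CommRing C] [IsDomain C] [Algebra R C] [Algebra.IsIntegral R C]
    (hinj : Function.Injective (algebraMap R C)) :
    IsOpenMap (PrimeSpectrum.comap (algebraMap R C)) := by
  let R' := integralClosure R (FractionRing R)
  haveI : IsIntegrallyClosed R' := Groth.Hensel1.isIntegrallyClosed_normalization R
  let Ω := AlgebraicClosure (FractionRing C)
  let iC : C →+* Ω := (algebraMap (FractionRing C) Ω).comp (algebraMap C (FractionRing C))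
  have hiC : Function.Injective iC :=
    (algebraMap (FractionRing C) Ω).injective.comp (IsFractionRing.injective C _)
  letI algRΩ : Algebra R Ω := (iC.comp (algebraMap R C)).toAlgebra
  have hRΩ : Function.Injective (algebraMap R Ω) := hiC.comp hinj
  let iK : FractionRing R →ₐ[R] Ω :=
    { (IsFractionRing.lift (A := R) (K := FractionRing R) (g := algebraMap R Ω) hRΩ) with
      commutes' := fun r => IsFractionRing.lift_algebraMap hRΩ r }
  let C' := integralClosure R Ω
  let jR : R' →ₐ[R] C' := AlgHom.codRestrict (iK.comp R'.val) C' fun x => (x.2).map iK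
  have hjR : Function.Injective jR := fun x y h => Subtype.ext (iK.toRingHom.injective congr(($h).1))
  letI : Algebra R' C' := jR.toRingHom.toAlgebra
  haveI : IsScalarTower R R' C' := IsScalarTower.of_algebraMap_eq fun r => (jR.commutes r).symm
  haveI : Algebra.IsIntegral R C' := IsIntegralClosure.isIntegral_algebra R Ω
  haveI : Algebra.IsIntegral R' C' := Algebra.IsIntegral.tower_top R
  let jC : C →ₐ[R] C' :=
    AlgHom.codRestrict (⟨iC, fun _ => rfl⟩ : C →ₐ[R] Ω) C'
      fun x => (Algebra.IsIntegral.isIntegral (R := R) x).map (⟨iC, fun _ => rfl⟩ : C →ₐ[R] Ω)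
  have hjC : Function.Injective jC := fun x y h => hiC congr(($h).1)
  have hjCint : jC.toRingHom.IsIntegral :=
    RingHom.IsIntegral.tower_top (algebraMap R C) jC.toRingHom
      (by rw [jC.toRingHom_eq_coe, AlgHom.comp_algebraMap]; exact fun x => Algebra.IsIntegral.isIntegral x)
  have hsurj : Function.Surjective (PrimeSpectrum.comap jC.toRingHom) := hjCint.comap_surjective hjC
  have hC' : IsOpenMap (PrimeSpectrum.comap (algebraMap R' C')) := isOpenMap_of_normal hjR
  -- the normalisation is a homeomorphism on spectra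
  have hπint : (algebraMap R R').IsIntegral := fun x =>
    (IsIntegralClosure.isIntegral_algebra R (FractionRing R) (A := R')).isIntegral x
  have hπbij : Function.Bijective (PrimeSpectrum.comap (algebraMap R R')) := by
    refine ⟨fun Q₁ Q₂ h => ?_, hπint.comap_surjective
      (FaithfulSMul.algebraMap_injective R R')⟩
    let g₁ := algebraMap R' Q₁.asIdeal.ResidueField
    let g₂ := algebraMap R' Q₂.asIdeal.ResidueField
    have hk : RingHom.ker (g₁.comp (algebraMap R R')) = RingHom.ker (g₂.comp (algebraMap R R')) := by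
      rw [← RingHom.comap_ker, ← RingHom.comap_ker, Ideal.ker_algebraMap_residueField,
        Ideal.ker_algebraMap_residueField]
      exact congrArg PrimeSpectrum.asIdeal h
    obtain ⟨k, _, _, j₁, j₂, hj⟩ := EGA43Topo.exists_common_extension _ _ hk
    have := hR k (j₁.comp g₁) (j₂.comp g₂) fun a => RingHom.congr_fun hj a
    refine PrimeSpectrum.ext ?_
    rw [← Q₁.asIdeal.ker_algebraMap_residueField, ← Q₂.asIdeal.ker_algebraMap_residueField]
    have h1 := congrArg RingHom.ker this
    rwa [RingHom.ker_comp_of_injective _ j₁.injective, RingHom.ker_comp_of_injective _ j₂.injective] at h1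
  have hπ : IsOpenMap (PrimeSpectrum.comap (algebraMap R R')) := fun U hU => by
    rw [← compl_compl (_ '' U), ← Set.image_compl_eq hπbij]
    exact ((PrimeSpectrum.isClosedMap_comap_of_isIntegral _ hπint) _ hU.isClosed_compl).isOpen_compl
  intro U hU
  have e : PrimeSpectrum.comap (algebraMap R C) '' U =
      PrimeSpectrum.comap (algebraMap R R') '' (PrimeSpectrum.comap (algebraMap R' C') ''
        (PrimeSpectrum.comap jC.toRingHom ⁻¹' U)) := by
    rw [← Set.image_comp, ← PrimeSpectrum.comap_comp,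
      ← IsScalarTower.algebraMap_eq, ← jC.comp_algebraMap, PrimeSpectrum.comap_comp,
      Set.image_comp, jC.toRingHom_eq_coe]
    congr 1
    exact (Set.image_preimage_eq _ hsurj).symm
  rw [e]
  exact hπ _ (hC' _ (hU.preimage (PrimeSpectrum.continuous_comap _)))

set_option synthInstance.maxHeartbeats 200000 in
/-- Geometric unibranchness at every prime of a domain gives the agreement property. -/
theorem agree_of_isGeomUnibranch {A₀ : Type u} [CommRing A₀] [IsDomain A₀] {A : Type u} [CommRing A]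
    (π : A →+* A₀) (hπ : Function.Surjective π) (hker : RingHom.ker π ∈ minimalPrimes A)
    (h : GeomUnibranchEverywhere A) : Agree A₀ := by
  intro k _ e₁ e₂ he
  let K := FractionRing A₀
  let N₀ := integralClosure A₀ K
  let e₀ : A →+* k := (e₂.comp (algebraMap A₀ N₀)).comp π
  let p := RingHom.ker e₀
  haveI : p.IsPrime := RingHom.ker_isPrime e₀
  haveI hqprime : (RingHom.ker π).IsPrime := RingHom.ker_isPrime π
  obtain ⟨L, _, _, _, hLp, hGU⟩ := h p
  haveI := hLp
  obtain ⟨⟨hdom, hloc⟩, -⟩ := id hGU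
  haveI : IsDomain (CAlg2.red L) := hdom
  haveI hnilp : (nilradical L).IsPrime := (Ideal.Quotient.isDomain_iff_prime _).1 hdom
  have hqp : RingHom.ker π ≤ p := fun a ha => by
    show e₂ (algebraMap A₀ N₀ (π a)) = 0
    rw [show π a = 0 from ha, map_zero, map_zero]
  have hnil : (nilradical L).comap (algebraMap A L) = RingHom.ker π := by
    refine le_antisymm ?_ (hker.2 ⟨Ideal.comap_isPrime _ _, bot_le⟩ ?_)
    · intro a ha
      obtain ⟨n, hn⟩ := mem_nilradical.1 (Ideal.mem_comap.1 ha)
      rw [← map_pow, IsLocalization.map_eq_zero_iff p.primeCompl L] at hn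
      obtain ⟨⟨s, hs⟩, hsn⟩ := hn
      refine hqprime.mem_of_pow_mem n ((hqprime.mem_or_mem (x := s) ?_).resolve_left
        fun h' => hs (hqp h'))
      exact (congrArg π hsn).trans (map_zero π)
    · have hdisj : Disjoint (p.primeCompl : Set A) (RingHom.ker π : Set A) :=
        Set.disjoint_left.2 fun a ha ha' => ha (hqp ha')
      have := (IsLocalization.isPrime_of_isPrime_disjoint p.primeCompl L _ hqprime hdisj)
      calc (nilradical L).comap (algebraMap A L)
          ≤ ((RingHom.ker π).map (algebraMap A L)).comap (algebraMap A L) :=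
            Ideal.comap_mono (nilradical_le_prime _)
        _ = RingHom.ker π :=
            IsLocalization.under_map_of_isPrime_disjoint p.primeCompl L hqprime hdisj
  -- the multiplicative set and the localised normalisation
  let M₀ : Submonoid A₀ := p.primeCompl.map π
  let M : Submonoid N₀ := M₀.map (algebraMap A₀ N₀)
  have hM₀ : M₀ ≤ nonZeroDivisors A₀ := by
    rintro _ ⟨s, hs, rfl⟩
    exact mem_nonZeroDivisors_of_ne_zero fun h0 => hs (hqp h0)
  have hM : M ≤ nonZeroDivisors N₀ := by
    rintro _ ⟨s, hs, rfl⟩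
    exact mem_nonZeroDivisors_of_ne_zero ((map_ne_zero_iff _ (FaithfulSMul.algebraMap_injective A₀ N₀)).2
      (nonZeroDivisors.ne_zero (hM₀ hs)))
  suffices ∀ (N : Type u) [CommRing N] [Algebra N₀ N] [IsLocalization M N], e₁ = e₂ from
    this (Localization M)
  intro N _ _ _
  haveI : IsIntegrallyClosed N₀ := Groth.Hensel1.isIntegrallyClosed_normalization A₀
  haveI : IsDomain N := IsLocalization.isDomain_of_le_nonZeroDivisors N hM
  haveI : IsIntegrallyClosed N := isIntegrallyClosed_of_isLocalization N M hM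
  have hu : ∀ s : p.primeCompl, IsUnit (((algebraMap N₀ N).comp ((algebraMap A₀ N₀).comp π)) s) :=
    fun s => IsLocalization.map_units N (⟨_, ⟨_, ⟨s.1, s.2, rfl⟩, rfl⟩⟩ : M)
  let μL : L →+* N := IsLocalization.lift hu
  have hNinj : Function.Injective (algebraMap N₀ N) := IsLocalization.injective N hM
  have hμnil : ∀ x ∈ nilradical L, μL x = 0 := fun x hx => ((mem_nilradical.1 hx).map μL).eq_zero
  let μ : CAlg2.red L →+* N := Ideal.Quotient.lift _ μL hμnil
  have hμinj : Function.Injective μ := by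
    refine (injective_iff_map_eq_zero μ).2 fun x hx => ?_
    obtain ⟨x, rfl⟩ := Ideal.Quotient.mk_surjective x
    obtain ⟨a, s, rfl⟩ := IsLocalization.exists_mk'_eq p.primeCompl x
    change μL _ = 0 at hx
    rw [IsLocalization.lift_mk'_spec, mul_zero] at hx
    have h0 : π a = 0 := (map_eq_zero_iff _ (FaithfulSMul.algebraMap_injective A₀ N₀)).1
      ((map_eq_zero_iff _ hNinj).1 hx)
    rw [Ideal.Quotient.eq_zero_iff_mem]
    have := hnil.ge h0
    rw [Ideal.mem_comap, ← IsLocalization.mk'_spec L a s] at this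
    exact (Ideal.mul_unit_mem_iff_mem _ (IsLocalization.map_units L s)).1 this
  have hμint : RingHom.IsIntegral (R := CAlg2.red L) (A := N) μ := by
    intro z
    obtain ⟨y, ⟨_, _, ⟨s, hs, rfl⟩, rfl⟩, rfl⟩ := IsLocalization.exists_mk'_eq M z
    have hy : μ.IsIntegralElem (algebraMap N₀ N y) := by
      obtain ⟨g, hg, hgy⟩ := (Algebra.IsIntegral.isIntegral (R := A₀) y : IsIntegral A₀ y)
      let σ : A₀ →+* CAlg2.red L := π.liftOfSurjective hπ
        ⟨(Ideal.Quotient.mk (nilradical L)).comp (algebraMap A L), fun a ha => by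
          show Ideal.Quotient.mk _ (algebraMap A L a) = 0
          rw [Ideal.Quotient.eq_zero_iff_mem]
          exact hnil.ge ha⟩
      have hσ : μ.comp σ = (algebraMap N₀ N).comp (algebraMap A₀ N₀) := by
        ext a
        obtain ⟨a, rfl⟩ := hπ a
        show μ (σ (π a)) = _
        rw [show σ (π a) = Ideal.Quotient.mk _ (algebraMap A L a) from
          RingHom.liftOfRightInverse_comp_apply π _ _ _ a]
        show μL (algebraMap A L a) = _
        rw [IsLocalization.lift_eq]
        rfl
      refine ⟨g.map σ, hg.map σ, ?_⟩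
      rw [Polynomial.eval₂_map, hσ, ← Polynomial.hom_eval₂, hgy, map_zero]
    let u : CAlg2.red L := Ideal.Quotient.mk _ (IsLocalization.mk' L 1 ⟨s, hs⟩)
    have huz : μ u * algebraMap N₀ N y =
        IsLocalization.mk' N y
          (⟨algebraMap A₀ N₀ (π s), ⟨π s, ⟨s, hs, rfl⟩, rfl⟩⟩ : M) := by
      rw [IsLocalization.eq_mk'_iff_mul_eq, mul_assoc, mul_comm (algebraMap N₀ N y), ← mul_assoc]
      refine (congrArg (· * algebraMap N₀ N y) ?_).trans (one_mul _)
      show μL (IsLocalization.mk' L 1 _) * _ = 1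
      have := IsLocalization.mk'_spec L (1 : A) ⟨s, hs⟩
      rw [map_one] at this
      refine Eq.trans ?_ (congrArg μL this |>.trans (map_one μL))
      rw [map_mul, IsLocalization.lift_eq]
      rfl
    rw [← huz]
    exact RingHom.IsIntegralElem.mul μ μ.isIntegralElem_map hy
  -- the fraction field of the reduced localisation maps to `K`
  let ψ₁ : N →+* K := IsLocalization.lift (M := M) (g := (algebraMap N₀ K : N₀ →+* K))
    fun m => isUnit_iff_ne_zero.2
      ((map_ne_zero_iff _ Subtype.val_injective).2 (nonZeroDivisors.ne_zero (hM m.2)))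
  letI : Algebra (CAlg2.red L) K := (ψ₁.comp μ).toAlgebra
  have hψ₁ : ∀ y, ψ₁ (algebraMap N₀ N y) = (y : K) := fun y => IsLocalization.lift_eq _ y
  have hψμ : ∀ a, algebraMap (CAlg2.red L) K (Ideal.Quotient.mk _ (algebraMap A L a)) =
      algebraMap A₀ K (π a) := fun a => by
    show ψ₁ (μL (algebraMap A L a)) = _
    rw [IsLocalization.lift_eq]
    exact hψ₁ _
  have hψinj : Function.Injective ψ₁ := by
    refine (injective_iff_map_eq_zero ψ₁).2 fun x hx => ?_
    obtain ⟨y, m, rfl⟩ := IsLocalization.exists_mk'_eq M x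
    rw [IsLocalization.lift_mk'_spec, mul_zero] at hx
    rw [show y = 0 from Subtype.ext hx, IsLocalization.mk'_zero]
  haveI : FaithfulSMul (CAlg2.red L) K :=
    (faithfulSMul_iff_algebraMap_injective _ _).2 (hψinj.comp hμinj)
  haveI : IsFractionRing (CAlg2.red L) K := by
    refine IsFractionRing.of_field _ _ fun z => ?_
    obtain ⟨a, b, hb, rfl⟩ := IsFractionRing.div_surjective (A := A₀) z
    obtain ⟨a, rfl⟩ := hπ a
    obtain ⟨b, rfl⟩ := hπ b
    exact ⟨Ideal.Quotient.mk _ (algebraMap A L a), Ideal.Quotient.mk _ (algebraMap A L b),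
      by rw [hψμ, hψμ]⟩
  let χ := (FractionRing.algEquiv (CAlg2.red L) K).symm
  let ψ₀ : N →+* FractionRing (CAlg2.red L) := χ.toRingHom.comp ψ₁
  obtain ⟨ψ, hsurj, hψ⟩ := EGA43Topo.exists_surjective_normalization (F := FractionRing (CAlg2.red L))
    μ hμint ψ₀ (RingHom.ext fun r => (χ.commutes r : _))
  have hval : ∀ x, ((ψ x : CAlg2.normRed L) : FractionRing (CAlg2.red L)) = ψ x := fun x => rfl
  have key : ∀ (e : N₀ →+* k), (∀ a, e (algebraMap A₀ N₀ (π a)) = e₀ a) →
      ∃ E : CAlg2.normRed L →+* k,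
        (∀ y, E (ψ (algebraMap N₀ N y)) = e y) ∧
        ∀ x : L, E (algebraMap (CAlg2.red L) (CAlg2.normRed L) (Ideal.Quotient.mk _ x)) =
          IsLocalization.lift (M := p.primeCompl) (g := e₀)
            (fun s => isUnit_iff_ne_zero.2 s.2) x := by
    intro e hea
    have heM : ∀ m : M, IsUnit (e m) := by
      rintro ⟨_, _, ⟨s, hs, rfl⟩, rfl⟩
      exact isUnit_iff_ne_zero.2 (by rw [hea]; exact hs)
    let eN : N →+* k := IsLocalization.lift heM
    have hψbij : Function.Bijective ψ := by
      refine ⟨fun x y hxy => ?_, hsurj⟩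
      have hcomp : RingHom.ker ψ = ⊥ := by
        letI := μ.toAlgebra
        haveI : Algebra.IsIntegral (CAlg2.red L) N := ⟨hμint⟩
        haveI : IsDomain (CAlg2.normRed L) := inferInstance
        haveI := RingHom.ker_isPrime ψ
        refine Ideal.eq_bot_of_comap_eq_bot (R := CAlg2.red L) ?_
        rw [RingHom.comap_ker]
        refine (RingHom.injective_iff_ker_eq_bot _).1 ?_
        intro a b hab
        have := congrArg Subtype.val ((hψ a).symm.trans (hab.trans (hψ b)))
        exact IsFractionRing.injective _ _ this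
      exact (RingHom.injective_iff_ker_eq_bot ψ).2 hcomp hxy
    refine ⟨eN.comp (RingEquiv.ofBijective ψ hψbij).symm.toRingHom, fun y => ?_, fun x => ?_⟩
    · show eN ((RingEquiv.ofBijective ψ hψbij).symm (ψ _)) = _
      rw [show ψ (algebraMap N₀ N y) = RingEquiv.ofBijective ψ hψbij (algebraMap N₀ N y) from rfl,
        RingEquiv.symm_apply_apply]
      exact IsLocalization.lift_eq heM y
    · show eN ((RingEquiv.ofBijective ψ hψbij).symm _) = _
      rw [← hψ, show ψ (μ (Ideal.Quotient.mk _ x)) = RingEquiv.ofBijective ψ hψbij (μ (Ideal.Quotient.mk _ x))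
        from rfl, RingEquiv.symm_apply_apply]
      show eN (μL x) = _
      refine RingHom.congr_fun (IsLocalization.ringHom_ext p.primeCompl (S := L)
        (j := eN.comp μL) ?_) x
      ext a
      show eN (μL (algebraMap A L a)) = IsLocalization.lift _ (algebraMap A L a)
      rw [IsLocalization.lift_eq, IsLocalization.lift_eq]
      exact (IsLocalization.lift_eq heM _).trans (hea a)
  obtain ⟨E₁, h₁, h₁'⟩ := key e₁ fun a => he (π a)
  obtain ⟨E₂, h₂, h₂'⟩ := key e₂ fun a => rfl
  have hE : E₁ = E₂ := by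
    refine EGA43Topo.eq_of_isGeomUnibranch L hGU
      (IsLocalization.lift (M := p.primeCompl) (g := e₀) fun s => isUnit_iff_ne_zero.2 s.2) ?_ E₁ E₂ h₁' h₂'
    ext x
    obtain ⟨a, s, rfl⟩ := IsLocalization.exists_mk'_eq p.primeCompl x
    rw [RingHom.mem_ker, IsLocalization.lift_mk'_spec, mul_zero, IsLocalization.AtPrime.mk'_mem_maximal_iff L p]
    rfl
  ext y
  rw [← h₁, ← h₂, hE]

section Fibre

/-- Going down along a flat map, for the kernel of a map to a domain. -/
theorem exists_le_of_flat {F M Ω : Type u} [CommRing F] [CommRing M] [CommRing Ω] [IsDomain Ω]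
    [Algebra F M] [Module.Flat F M] (φ : M →+* Ω) (q₀ : Ideal F) [q₀.IsPrime]
    (h : q₀ ≤ RingHom.ker (φ.comp (algebraMap F M))) :
    ∃ M₀ : Ideal M, M₀.IsPrime ∧ M₀ ≤ RingHom.ker φ ∧ M₀.comap (algebraMap F M) = q₀ := by
  haveI := RingHom.ker_isPrime φ
  haveI := RingHom.ker_isPrime (φ.comp (algebraMap F M))
  haveI : (RingHom.ker φ).LiesOver (RingHom.ker (φ.comp (algebraMap F M))) :=
    ⟨(RingHom.comap_ker φ (algebraMap F M)).symm⟩
  obtain ⟨M₀, h₁, h₂, h₃⟩ := (RingHom.ker φ).exists_ideal_le_liesOver_of_le (p := q₀)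
    (q := RingHom.ker (φ.comp (algebraMap F M))) h
  exact ⟨M₀, h₂, h₁, h₃.over.symm⟩

variable {A B : Type u} [CommRing A] [CommRing B] [Algebra A B]

/-- Generizations inside a fibre lift to any base change along a polynomial ring. -/
theorem exists_le_over (p : Ideal A) [p.IsPrime] (n₀ n : Ideal B) [n₀.IsPrime] [n.IsPrime]
    (hle : n₀ ≤ n) (h₀ : n₀.comap (algebraMap A B) = p) (h : n.comap (algebraMap A B) = p)
    {m : ℕ} (N : Ideal (MvPolynomial (Fin m) B)) [N.IsPrime] (hN : N.comap MvPolynomial.C = n) :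
    ∃ N₀ : Ideal (MvPolynomial (Fin m) B), N₀.IsPrime ∧ N₀ ≤ N ∧ N₀.comap MvPolynomial.C = n₀ ∧
      N₀.comap (MvPolynomial.map (algebraMap A B)) = N.comap (MvPolynomial.map (algebraMap A B)) := by
  let ι : MvPolynomial (Fin m) A →+* MvPolynomial (Fin m) B := MvPolynomial.map (algebraMap A B)
  let p' := N.comap ι
  have hp' : p = p'.comap MvPolynomial.C := by
    rw [Ideal.comap_comap, show ι.comp MvPolynomial.C = MvPolynomial.C.comp (algebraMap A B) from
      RingHom.ext fun a => MvPolynomial.map_C _ a, ← Ideal.comap_comap, hN, h]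
  letI := (Ideal.ResidueField.map p p' MvPolynomial.C hp').toAlgebra
  let L := p'.ResidueField
  let κ := p.ResidueField
  let F := p.Fiber B
  let Ω := N.ResidueField
  let φL : L →+* Ω := Ideal.ResidueField.map p' N ι rfl
  letI : Algebra κ Ω := (φL.comp (algebraMap κ L)).toAlgebra
  letI : Algebra A Ω :=
    ((algebraMap (MvPolynomial (Fin m) B) Ω).comp (MvPolynomial.C.comp (algebraMap A B))).toAlgebra
  have hκΩ : ∀ a, algebraMap κ Ω (algebraMap A κ a) = algebraMap A Ω a := fun a => by
    show φL (Ideal.ResidueField.map p p' MvPolynomial.C hp' (algebraMap A κ a)) = _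
    rw [Ideal.ResidueField.map_algebraMap, Ideal.ResidueField.map_algebraMap]
    exact congrArg _ (MvPolynomial.map_C _ a)
  haveI : IsScalarTower A κ Ω := IsScalarTower.of_algebraMap_eq fun a => (hκΩ a).symm
  let fB : B →ₐ[A] Ω :=
    ⟨(algebraMap (MvPolynomial (Fin m) B) Ω).comp MvPolynomial.C, fun _ => rfl⟩
  let fF : F →ₐ[κ] Ω := Algebra.TensorProduct.lift (Algebra.ofId κ Ω) fB fun _ _ => Commute.all _ _
  have hfF : ∀ b : B, fF ((1 : κ) ⊗ₜ[A] b) = algebraMap (MvPolynomial (Fin m) B) Ω (MvPolynomial.C b) :=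
    fun b => by
      show Algebra.ofId κ Ω 1 * fB b = _
      rw [map_one, one_mul]
      rfl
  let Φ : F ⊗[κ] L →ₐ[κ] Ω :=
    Algebra.TensorProduct.lift fF ⟨φL, fun _ => rfl⟩ fun _ _ => Commute.all _ _
  haveI := RingHom.ker_isPrime Φ.toRingHom
  haveI := RingHom.ker_isPrime fF.toRingHom
  let E := PrimeSpectrum.preimageOrderIsoFiber A B ⟨p, inferInstance⟩
  let q₀ := E ⟨⟨n₀, inferInstance⟩, PrimeSpectrum.ext h₀⟩
  have hq₀ : q₀.asIdeal.comap (Algebra.TensorProduct.includeRight : B →ₐ[A] F).toRingHom = n₀ :=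
    congrArg (fun z => z.1.asIdeal) (E.symm_apply_apply ⟨⟨n₀, inferInstance⟩, PrimeSpectrum.ext h₀⟩)
  have hq₀le : q₀ ≤ ⟨RingHom.ker fF.toRingHom, inferInstance⟩ := by
    rw [← E.apply_symm_apply ⟨RingHom.ker fF.toRingHom, inferInstance⟩, E.le_iff_le]
    show n₀ ≤ (RingHom.ker fF.toRingHom).comap
      (Algebra.TensorProduct.includeRight : B →ₐ[A] F).toRingHom
    refine hle.trans (le_of_eq ?_)
    rw [← hN, RingHom.comap_ker]
    conv_lhs => rw [← N.ker_algebraMap_residueField, RingHom.comap_ker]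
    exact congrArg RingHom.ker (RingHom.ext fun b => (hfF b).symm)
  have hcompΦ : Φ.toRingHom.comp (algebraMap F (F ⊗[κ] L)) = fF.toRingHom :=
    RingHom.ext fun y => by
      show Φ (y ⊗ₜ[κ] (1 : L)) = _
      rw [Algebra.TensorProduct.lift_tmul, map_one, mul_one]
      rfl
  obtain ⟨M₀, hM₀, hM₀le, hM₀over⟩ := exists_le_of_flat (F := F) (M := F ⊗[κ] L) (Ω := Ω) Φ.toRingHom q₀.asIdeal
    (by rw [hcompΦ]; exact hq₀le)
  let Ψ : MvPolynomial (Fin m) B →+* F ⊗[κ] L :=
    MvPolynomial.eval₂Hom
      ((algebraMap F (F ⊗[κ] L)).comp (Algebra.TensorProduct.includeRight : B →ₐ[A] F).toRingHom)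
      fun i => (1 : F) ⊗ₜ[κ] algebraMap (MvPolynomial (Fin m) A) L (MvPolynomial.X i)
  have hΦΨ : Φ.toRingHom.comp Ψ = algebraMap (MvPolynomial (Fin m) B) Ω := by
    refine MvPolynomial.ringHom_ext (fun b => ?_) fun i => ?_
    · simp only [RingHom.comp_apply, Ψ, MvPolynomial.eval₂Hom_C]
      show Φ (((1 : κ) ⊗ₜ[A] b : F) ⊗ₜ[κ] (1 : L)) = _
      rw [Algebra.TensorProduct.lift_tmul, map_one, mul_one, hfF]
    · simp only [RingHom.comp_apply, Ψ, MvPolynomial.eval₂Hom_X']
      show Φ ((1 : F) ⊗ₜ[κ] _) = _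
      rw [Algebra.TensorProduct.lift_tmul, map_one, one_mul]
      show φL (algebraMap _ L _) = _
      rw [Ideal.ResidueField.map_algebraMap]
      exact congrArg _ (MvPolynomial.map_X _ i)
  have hΨι : Ψ.comp ι = (Algebra.TensorProduct.includeRight : L →ₐ[κ] F ⊗[κ] L).toRingHom.comp
      (algebraMap (MvPolynomial (Fin m) A) L) := by
    refine MvPolynomial.ringHom_ext (fun a => ?_) fun i => ?_
    · simp only [RingHom.comp_apply, ι, MvPolynomial.map_C, Ψ, MvPolynomial.eval₂Hom_C]
      show ((1 : κ) ⊗ₜ[A] algebraMap A B a : F) ⊗ₜ[κ] (1 : L) = (1 : F) ⊗ₜ[κ] _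
      rw [show algebraMap (MvPolynomial (Fin m) A) L (MvPolynomial.C a) =
          algebraMap κ L (algebraMap A κ a) from (Ideal.ResidueField.map_algebraMap _ _ _ hp' a).symm,
        Algebra.algebraMap_eq_smul_one (R := κ) (A := L), TensorProduct.tmul_smul,
        TensorProduct.smul_tmul', Algebra.algebraMap_eq_smul_one (R := A) (A := B),
        TensorProduct.tmul_smul, Algebra.TensorProduct.one_def, algebraMap_smul]
    · simp only [RingHom.comp_apply, ι, MvPolynomial.map_X, Ψ, MvPolynomial.eval₂Hom_X']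
      rfl
  refine ⟨M₀.comap Ψ, Ideal.comap_isPrime _ _, ?_, ?_, ?_⟩
  · refine (Ideal.comap_mono hM₀le).trans (le_of_eq ?_)
    rw [RingHom.comap_ker, hΦΨ, Ideal.ker_algebraMap_residueField]
  · rw [Ideal.comap_comap, show Ψ.comp MvPolynomial.C = (algebraMap F (F ⊗[κ] L)).comp
      (Algebra.TensorProduct.includeRight : B →ₐ[A] F).toRingHom from
        RingHom.ext fun b => MvPolynomial.eval₂Hom_C _ _ b, ← Ideal.comap_comap]
    exact (congrArg (Ideal.comap _) hM₀over).trans hq₀
  · haveI := hM₀
    rw [Ideal.comap_comap, hΨι, ← Ideal.comap_comap,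
      (Ideal.eq_bot_or_top (M₀.comap _)).resolve_right (Ideal.comap_isPrime _ _).ne_top]
    exact p'.ker_algebraMap_residueField

end Fibre

section Main

variable {A B : Type u} [CommRing A] [IsDomain A] [CommRing B] [IsDomain B] [Algebra A B]
  [Algebra.FiniteType A B]

/-- The core statement over a domain. -/
theorem image_basicOpen_mem_nhds (hA : Agree A) {d : ℕ} (t : Fin d → B)
    (ht : Function.Injective (MvPolynomial.aeval (R := A) t))
    (n₀ n : Ideal B) [n₀.IsPrime] [n.IsPrime] (hle : n₀ ≤ n)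
    (hp : n₀.comap (algebraMap A B) = n.comap (algebraMap A B))
    (hqf : letI := (MvPolynomial.aeval (R := A) t).toRingHom.toAlgebra
      Algebra.QuasiFiniteAt (MvPolynomial (Fin d) A) n₀)
    {m : ℕ} (N : PrimeSpectrum (MvPolynomial (Fin m) B))
    (hN : N.asIdeal.comap MvPolynomial.C = n) (g : MvPolynomial (Fin m) B) (hg : g ∉ N.asIdeal) :
    PrimeSpectrum.comap (MvPolynomial.map (algebraMap A B)) '' (PrimeSpectrum.basicOpen g : Set _) ∈
      nhds (PrimeSpectrum.comap (MvPolynomial.map (algebraMap A B)) N) := by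
  classical
  haveI hpp : (n.comap (algebraMap A B)).IsPrime := Ideal.comap_isPrime _ _
  obtain ⟨N₀, hN₀, hN₀le, hN₀C, hN₀p⟩ :=
    exists_le_over (n.comap (algebraMap A B)) n₀ n hle hp rfl N.asIdeal hN
  let R := MvPolynomial (Fin d) A
  letI := (MvPolynomial.aeval (R := A) t).toRingHom.toAlgebra
  haveI : Algebra.QuasiFiniteAt R n₀ := hqf
  haveI : IsScalarTower A R B :=
    IsScalarTower.of_algebraMap_eq fun a => ((MvPolynomial.aeval (R := A) t).commutes a).symm
  haveI : Algebra.FiniteType R B := Algebra.FiniteType.of_restrictScalars_finiteType A _ B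
  obtain ⟨r, hr, hri, hx⟩ := Algebra.zariskisMainProperty_iff.1
    (Algebra.ZariskisMainProperty.of_finiteType (R := R) n₀)
  let C := integralClosure R B
  let R' := MvPolynomial (Fin m) R
  let C' := MvPolynomial (Fin m) C
  let κ : R' →+* C' := MvPolynomial.map (algebraMap R C)
  letI : Algebra R' C' := κ.toAlgebra
  haveI : Algebra.IsIntegral R C := IsIntegralClosure.isIntegral_algebra R B
  haveI : Algebra.IsIntegral R' C' := ⟨EGA43Topo.isIntegral_mvPolynomial_map m⟩
  have hRC : Function.Injective (algebraMap R C) := fun x y h => ht congr(($h).1)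
  have hopen₂ : IsOpenMap (PrimeSpectrum.comap κ) := by
    have := isOpenMap_of_agree (C := C') (agree_mvPolynomial (agree_mvPolynomial hA d) m)
      (MvPolynomial.map_injective _ hRC)
    exact this
  let a₁ : MvPolynomial (Fin m) A →+* R' := MvPolynomial.map (MvPolynomial.C (σ := Fin d))
  have hopen₁ : IsOpenMap (PrimeSpectrum.comap a₁) := by
    let e := MvPolynomial.commAlgEquiv A (Fin d) (Fin m)
    have he : a₁ = e.toRingEquiv.toRingHom.comp MvPolynomial.C :=
      RingHom.ext fun x => (MvPolynomial.commAlgEquiv_C x).symm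
    rw [he, PrimeSpectrum.comap_comp]
    exact MvPolynomial.isOpenMap_comap_C.comp
      (PrimeSpectrum.homeomorphOfRingEquiv e.toRingEquiv).symm.isOpenMap
  let j : C' →+* MvPolynomial (Fin m) B := MvPolynomial.map C.val.toRingHom
  have hj : Function.Injective j := MvPolynomial.map_injective _ Subtype.val_injective
  let rC : C' := MvPolynomial.C (⟨r, hri⟩ : C)
  have hjr : j rC = MvPolynomial.C r := MvPolynomial.map_C _ _
  have hrN : MvPolynomial.C r ∉ N₀ := fun h => hr (hN₀C.le (Ideal.mem_comap.2 h))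
  have hclear : ∀ b : MvPolynomial (Fin m) B, ∃ k : ℕ, ∃ c : C', j c = MvPolynomial.C r ^ k * b := by
    intro b
    induction b using MvPolynomial.induction_on with
    | C b =>
      obtain ⟨k, hk⟩ := hx b
      exact ⟨k, MvPolynomial.C ⟨_, hk⟩, by rw [MvPolynomial.map_C, ← map_pow, ← map_mul]; rfl⟩
    | add b b' hb hb' =>
      obtain ⟨k, c, hc⟩ := hb
      obtain ⟨k', c', hc'⟩ := hb'
      exact ⟨k + k', rC ^ k' * c + rC ^ k * c', by
        rw [map_add, map_mul, map_mul, map_pow, map_pow, hc, hc', hjr]; ring⟩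
    | mul_X b i hb =>
      obtain ⟨k, c, hc⟩ := hb
      exact ⟨k, c * MvPolynomial.X i, by rw [map_mul, hc, MvPolynomial.map_X, mul_assoc]⟩
  obtain ⟨k, c, hc⟩ := hclear g
  have hcomm : (MvPolynomial.map (algebraMap A B) : MvPolynomial (Fin m) A →+* _) =
      (j.comp κ).comp a₁ := by
    refine RingHom.ext fun x => ?_
    show _ = MvPolynomial.map _ (MvPolynomial.map _ (MvPolynomial.map _ x))
    rw [MvPolynomial.map_map, MvPolynomial.map_map]
    congr 2
    ext a
    exact ((MvPolynomial.aeval (R := A) t).commutes a).symm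
  have hcN : PrimeSpectrum.comap j ⟨N₀, hN₀⟩ ∈ PrimeSpectrum.basicOpen (rC * c) := by
    show j (rC * c) ∉ N₀
    rw [map_mul, hjr, hc, ← mul_assoc, ← pow_succ']
    exact fun h => (hN₀.mem_or_mem h).elim (fun h => hrN (hN₀.mem_of_pow_mem _ h))
      (fun h => hg (hN₀le h))
  have e : PrimeSpectrum.comap (MvPolynomial.map (algebraMap A B)) N =
      (PrimeSpectrum.comap a₁ ∘ PrimeSpectrum.comap κ) (PrimeSpectrum.comap j ⟨N₀, hN₀⟩) := by
    apply PrimeSpectrum.ext
    show N.asIdeal.comap (MvPolynomial.map (algebraMap A B)) = ((N₀.comap j).comap κ).comap a₁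
    rw [← hN₀p, hcomm, Ideal.comap_comap, Ideal.comap_comap, RingHom.comp_assoc]
  rw [e]
  refine Filter.mem_of_superset ((hopen₁.comp hopen₂).image_mem_nhds
    ((PrimeSpectrum.basicOpen (rC * c)).isOpen.mem_nhds hcN)) ?_
  · rintro _ ⟨P, hP, rfl⟩
    haveI := P.isPrime
    have hPr : rC ∉ P.asIdeal := fun h => hP (P.asIdeal.mul_mem_right _ h)
    let Q : Ideal (MvPolynomial (Fin m) B) :=
      { carrier := {b | ∃ k c, j c = MvPolynomial.C r ^ k * b ∧ c ∈ P.asIdeal}
        zero_mem' := ⟨0, 0, by simp, zero_mem _⟩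
        add_mem' := fun {a b} => by
          rintro ⟨k, c, hc, hcP⟩ ⟨k', c', hc', hcP'⟩
          exact ⟨k + k', rC ^ k' * c + rC ^ k * c',
            by rw [map_add, map_mul, map_mul, map_pow, map_pow, hc, hc', hjr]; ring,
            add_mem (P.asIdeal.mul_mem_left _ hcP) (P.asIdeal.mul_mem_left _ hcP')⟩
        smul_mem' := fun s b => by
          rintro ⟨k, c, hc, hcP⟩
          obtain ⟨k', c', hc'⟩ := hclear s
          exact ⟨k' + k, c' * c, by rw [map_mul, hc, hc', smul_eq_mul]; ring,
            P.asIdeal.mul_mem_left _ hcP⟩ }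
    have hQ : ∀ x, x ∈ Q ↔ ∀ k c, j c = MvPolynomial.C r ^ k * x → c ∈ P.asIdeal := by
      refine fun x => ⟨?_, fun h => ?_⟩
      · rintro ⟨k, c, hc, hcP⟩ k' c' hc'
        have : rC ^ k * c' = rC ^ k' * c := hj (by
          rw [map_mul, map_mul, map_pow, map_pow, hc, hc', hjr]; ring)
        exact (P.isPrime.mem_or_mem (this ▸ P.asIdeal.mul_mem_left _ hcP)).resolve_left
          fun h => hPr (P.isPrime.mem_of_pow_mem _ h)
      · obtain ⟨k, c, hc⟩ := hclear x
        exact ⟨k, c, hc, h k c hc⟩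
    have hQp : Q.IsPrime := by
      refine ⟨fun h => ?_, fun {a b} hab => ?_⟩
      · have h1 : (1 : MvPolynomial (Fin m) B) ∈ Q := h ▸ Submodule.mem_top
        exact P.isPrime.ne_top ((Ideal.eq_top_iff_one _).2 ((hQ 1).1 h1 0 1 (by simp)))
      · by_contra hne
        push Not at hne
        obtain ⟨k, c, hc⟩ := hclear a
        obtain ⟨k', c', hc'⟩ := hclear b
        refine (P.isPrime.mem_or_mem ((hQ _).1 hab (k + k') (c * c')
          (by rw [map_mul, hc, hc']; ring))).elim (fun h => ?_) fun h => ?_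
        · exact hne.1 ⟨k, c, hc, h⟩
        · exact hne.2 ⟨k', c', hc', h⟩
    refine ⟨⟨Q, hQp⟩, fun h => hP (P.asIdeal.mul_mem_left _ ((hQ g).1 h k c hc)), ?_⟩
    have hjQ : Q.comap j = P.asIdeal := by
      ext z
      exact ⟨fun h => (hQ _).1 h 0 z (by simp), fun h => ⟨0, z, by simp, h⟩⟩
    apply PrimeSpectrum.ext
    show Q.comap (MvPolynomial.map (algebraMap A B)) = (P.asIdeal.comap κ).comap a₁
    rw [hcomm, ← Ideal.comap_comap, ← Ideal.comap_comap, hjQ]

end Main

/-- Openness at the points over `n`, over an arbitrary ring. -/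
theorem image_mem_nhds_of_trdeg {A B : Type u} [CommRing A] [CommRing B] [Algebra A B]
    [Algebra.FiniteType A B] (h : GeomUnibranchEverywhere A)
    (q : Ideal A) [q.IsPrime] (hq : q ∈ minimalPrimes A)
    (hqo : IsOpen (PrimeSpectrum.zeroLocus (q : Set A)))
    (P : Ideal B) [P.IsPrime] [P.LiesOver q] (n₀ n : Ideal B) [n₀.IsPrime] [n.IsPrime]
    (hP : P ≤ n₀) (hle : n₀ ≤ n) (p : Ideal A) [p.IsPrime] [n₀.LiesOver p]
    (hn : n.comap (algebraMap A B) = p)
    (hmax : ∀ n' : Ideal B, n'.IsPrime → P ≤ n' → n' ≤ n₀ → n'.comap (algebraMap A B) = p → n' = n₀)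
    (d : ℕ) (hd : Algebra.trdeg (A ⧸ p) (B ⧸ n₀) = d)
    (hd' : (d : Cardinal.{u}) ≤ Algebra.trdeg (A ⧸ q) (B ⧸ P))
    {m : ℕ} (N : PrimeSpectrum (MvPolynomial (Fin m) B))
    (hN : N.asIdeal.comap MvPolynomial.C = n) (g : MvPolynomial (Fin m) B) (hg : g ∉ N.asIdeal) :
    PrimeSpectrum.comap (MvPolynomial.map (algebraMap A B)) '' (PrimeSpectrum.basicOpen g : Set _) ∈
      nhds (PrimeSpectrum.comap (MvPolynomial.map (algebraMap A B)) N) := by
  obtain ⟨t, ht, hup⟩ := EGA43Topo.exists_parameters p n₀ hd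
  have hnp : n₀.comap (algebraMap A B) = p := (n₀.over_def p).symm
  let A₀ := A ⧸ q
  let B₀ := B ⧸ P
  let t₀ : Fin d → B₀ := fun i => Ideal.Quotient.mk P (t i)
  let n₀' := n₀.map (Ideal.Quotient.mk P)
  let n' := n.map (Ideal.Quotient.mk P)
  have hs := Ideal.Quotient.mk_surjective (I := P)
  haveI : n₀'.IsPrime := Ideal.map_isPrime_of_surjective hs (by rwa [Ideal.mk_ker])
  haveI : n'.IsPrime := Ideal.map_isPrime_of_surjective hs (by rw [Ideal.mk_ker]; exact hP.trans hle)
  have hker : Ideal.comap (Ideal.Quotient.mk P) ⊥ = P := P.mk_ker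
  have hc₀ : n₀'.comap (Ideal.Quotient.mk P) = n₀ := by
    rw [Ideal.comap_map_of_surjective _ hs, hker, sup_eq_left.2 hP]
  have hc : n'.comap (Ideal.Quotient.mk P) = n := by
    rw [Ideal.comap_map_of_surjective _ hs, hker, sup_eq_left.2 (hP.trans hle)]
  haveI : Algebra.FiniteType A₀ B₀ := Algebra.FiniteType.of_restrictScalars_finiteType A _ _
  have haev : ∀ f : MvPolynomial (Fin d) A,
      MvPolynomial.aeval t₀ (f.map (Ideal.Quotient.mk q)) = Ideal.Quotient.mk P (MvPolynomial.aeval t f) :=
    EGA43Topo.mk_aeval q P t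
  have hqf₀ : ∀ n'' : Ideal B₀, n''.IsPrime → (n'' ≤ n₀' ∨ n₀' ≤ n'') →
      n''.comap (MvPolynomial.aeval (R := A₀) t₀).toRingHom =
        n₀'.comap (MvPolynomial.aeval (R := A₀) t₀).toRingHom → n'' = n₀' := by
    intro n'' hn'' hcmp he
    have hcomap : (n''.comap (Ideal.Quotient.mk P)).comap (MvPolynomial.aeval (R := A) t).toRingHom =
        n₀.comap (MvPolynomial.aeval (R := A) t).toRingHom := by
      ext f
      have := SetLike.ext_iff.1 he (f.map (Ideal.Quotient.mk q))
      simp only [Ideal.mem_comap, AlgHom.toRingHom_eq_coe, RingHom.coe_coe, haev] at this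
      rw [Ideal.mem_comap, Ideal.mem_comap]
      exact this.trans (SetLike.ext_iff.1 hc₀ _)
    haveI := hn''
    have key : n''.comap (Ideal.Quotient.mk P) = n₀ := by
      rcases hcmp with hl | hl
      · refine hmax _ inferInstance (fun x hx => ?_) ((Ideal.comap_mono hl).trans hc₀.le) ?_
        · show Ideal.Quotient.mk P x ∈ n''
          rw [Ideal.Quotient.eq_zero_iff_mem.2 hx]; exact zero_mem _
        · have := congrArg (Ideal.comap (MvPolynomial.C : A →+* MvPolynomial (Fin d) A)) hcomap
          rw [Ideal.comap_comap, Ideal.comap_comap (f := MvPolynomial.C),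
            show (MvPolynomial.aeval (R := A) t).toRingHom.comp MvPolynomial.C = algebraMap A B from
              RingHom.ext fun a => MvPolynomial.aeval_C t a] at this
          exact this.trans hnp
      · exact hup _ inferInstance (hc₀.ge.trans (Ideal.comap_mono hl)) hcomap
    rw [← Ideal.map_comap_of_surjective _ hs n'', key]
  have hqf : letI := (MvPolynomial.aeval (R := A₀) t₀).toRingHom.toAlgebra
      Algebra.QuasiFiniteAt (MvPolynomial (Fin d) A₀) n₀' := by
    letI := (MvPolynomial.aeval (R := A₀) t₀).toRingHom.toAlgebra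
    haveI : IsScalarTower A₀ (MvPolynomial (Fin d) A₀) B₀ :=
      IsScalarTower.of_algebraMap_eq fun a => ((MvPolynomial.aeval (R := A₀) t₀).commutes a).symm
    haveI : Algebra.FiniteType (MvPolynomial (Fin d) A₀) B₀ :=
      Algebra.FiniteType.of_restrictScalars_finiteType A₀ _ _
    exact EGA43Topo.quasiFiniteAt_of_comparable n₀' hqf₀
  haveI hqP : Algebra.IsAlgebraic (Algebra.adjoin A₀ (Set.range t₀)) B₀ := by
    letI := (MvPolynomial.aeval (R := A₀) t₀).toRingHom.toAlgebra
    haveI : Algebra.QuasiFiniteAt (MvPolynomial (Fin d) A₀) n₀' := hqf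
    haveI : IsScalarTower A₀ (MvPolynomial (Fin d) A₀) B₀ :=
      IsScalarTower.of_algebraMap_eq fun a => ((MvPolynomial.aeval (R := A₀) t₀).commutes a).symm
    haveI : Algebra.FiniteType (MvPolynomial (Fin d) A₀) B₀ :=
      Algebra.FiniteType.of_restrictScalars_finiteType A₀ _ _
    haveI : Algebra.QuasiFiniteAt (MvPolynomial (Fin d) A₀) (⊥ : Ideal B₀) :=
      Algebra.QuasiFiniteAt.of_le (bot_le : ⊥ ≤ n₀')
    haveI := EGA43Topo.isAlgebraic_quotient_of_quasiFiniteAt (⊥ : Ideal B₀)
      (R' := MvPolynomial (Fin d) A₀)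
    have hmem : ∀ f : MvPolynomial (Fin d) A₀,
        MvPolynomial.aeval t₀ f ∈ Algebra.adjoin A₀ (Set.range t₀) := fun f => by
      rw [Algebra.adjoin_range_eq_range_aeval]
      exact ⟨f, rfl⟩
    let φ : MvPolynomial (Fin d) A₀ ⧸ (⊥ : Ideal B₀).under _ →+* Algebra.adjoin A₀ (Set.range t₀) :=
      Ideal.Quotient.lift _ ((MvPolynomial.aeval (R := A₀) t₀).toRingHom.codRestrict _ hmem)
        fun f hf => Subtype.ext hf
    let g : B₀ ⧸ (⊥ : Ideal B₀) →+* B₀ := (RingEquiv.quotientBot B₀).toRingHom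
    refine ⟨fun z => ?_⟩
    have := IsAlgebraic.ringHom_of_comp_eq (f := φ) (g := g)
      (Algebra.IsAlgebraic.isAlgebraic (R := MvPolynomial (Fin d) A₀ ⧸ (⊥ : Ideal B₀).under _)
        (Ideal.Quotient.mk (⊥ : Ideal B₀) z)) ?_ ?_
    · exact this
    · refine (injective_iff_map_eq_zero φ).2 fun a ha => ?_
      obtain ⟨a, rfl⟩ := Ideal.Quotient.mk_surjective a
      rw [Ideal.Quotient.eq_zero_iff_mem]
      exact congrArg Subtype.val ha
    · exact Ideal.Quotient.ringHom_ext (RingHom.ext fun a => rfl)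
  have hinj : Function.Injective (MvPolynomial.aeval (R := A₀) t₀) := by
    have hle' : Cardinal.mk (ULift.{u} (Fin d)) ≤ Algebra.trdeg A₀ B₀ := by simpa using hd'
    haveI : Algebra.IsAlgebraic (Algebra.adjoin A₀ (Set.range (t₀ ∘ ULift.down.{u}))) B₀ := by
      rwa [Function.Surjective.range_comp ULift.down_surjective]
    exact (algebraicIndependent_equiv Equiv.ulift).1
      (Algebra.IsAlgebraic.isTranscendenceBasis_of_le_trdeg_of_finite A₀ (t₀ ∘ ULift.down.{u}) hle').1
  let πA : MvPolynomial (Fin m) A →+* MvPolynomial (Fin m) A₀ := MvPolynomial.map (Ideal.Quotient.mk q)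
  let πB : MvPolynomial (Fin m) B →+* MvPolynomial (Fin m) B₀ := MvPolynomial.map (Ideal.Quotient.mk P)
  have hπA : Function.Surjective πA := MvPolynomial.map_surjective _ Ideal.Quotient.mk_surjective
  have hπB : Function.Surjective πB := MvPolynomial.map_surjective _ Ideal.Quotient.mk_surjective
  have hsq : πB.comp (MvPolynomial.map (algebraMap A B)) =
      (MvPolynomial.map (algebraMap A₀ B₀)).comp πA := by
    refine MvPolynomial.ringHom_ext (fun a => ?_) fun i => ?_ <;>
      simp [πA, πB, A₀, B₀]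
  obtain ⟨N', hN'⟩ : N ∈ Set.range (PrimeSpectrum.comap πB) := by
    rw [range_comap_of_surjective _ _ hπB, MvPolynomial.ker_map, Ideal.mk_ker]
    exact Ideal.map_le_iff_le_comap.2 ((hP.trans hle).trans hN.ge)
  obtain rfl := hN'
  have hN'n : N'.asIdeal.comap MvPolynomial.C = n' := by
    rw [← Ideal.map_comap_of_surjective _ hs (N'.asIdeal.comap MvPolynomial.C), Ideal.comap_comap,
      show MvPolynomial.C.comp (Ideal.Quotient.mk P) = πB.comp MvPolynomial.C from
        RingHom.ext fun b => (MvPolynomial.map_C _ b).symm, ← Ideal.comap_comap]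
    exact congrArg _ hN
  have hp₀ : n₀'.comap (algebraMap A₀ B₀) = n'.comap (algebraMap A₀ B₀) := by
    refine Ideal.comap_injective_of_surjective _ (Ideal.Quotient.mk_surjective (I := q)) ?_
    rw [Ideal.comap_comap, Ideal.comap_comap, show (algebraMap A₀ B₀).comp (Ideal.Quotient.mk q) =
      (Ideal.Quotient.mk P).comp (algebraMap A B) from rfl, ← Ideal.comap_comap, ← Ideal.comap_comap,
      hc₀, hc, hn, hnp]
  have hA₀ : Agree A₀ := agree_of_isGeomUnibranch (Ideal.Quotient.mk q) Ideal.Quotient.mk_surjective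
    (by rwa [Ideal.mk_ker]) h
  have key := image_basicOpen_mem_nhds hA₀ t₀ hinj n₀' n' (Ideal.map_mono hle) hp₀ hqf N' hN'n
    (πB g) hg
  -- the closed piece has open image
  have hopen : IsOpen (Set.range (PrimeSpectrum.comap πA)) := by
    have e : Set.range (PrimeSpectrum.comap πA) =
        PrimeSpectrum.comap (MvPolynomial.C : A →+* MvPolynomial (Fin m) A) ⁻¹'
          PrimeSpectrum.zeroLocus (q : Set A) := by
      rw [range_comap_of_surjective _ _ hπA, MvPolynomial.ker_map, Ideal.mk_ker,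
        PrimeSpectrum.preimage_comap_zeroLocus, Ideal.map, PrimeSpectrum.zeroLocus_span]
    rw [e]
    exact hqo.preimage (PrimeSpectrum.continuous_comap _)
  have hemb : Topology.IsOpenEmbedding (PrimeSpectrum.comap πA) :=
    ⟨(PrimeSpectrum.isClosedEmbedding_comap_of_surjective _ πA hπA).isEmbedding, hopen⟩
  rw [show PrimeSpectrum.comap (MvPolynomial.map (algebraMap A B)) (PrimeSpectrum.comap πB N') =
    PrimeSpectrum.comap πA (PrimeSpectrum.comap (MvPolynomial.map (algebraMap A₀ B₀)) N') from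
      PrimeSpectrum.ext (by
        show (N'.asIdeal.comap πB).comap _ = (N'.asIdeal.comap _).comap πA
        rw [Ideal.comap_comap, hsq, Ideal.comap_comap])]
  refine Filter.mem_of_superset (hemb.isOpenMap.image_mem_nhds key) ?_
  rintro _ ⟨_, ⟨Q, hQ, rfl⟩, rfl⟩
  refine ⟨PrimeSpectrum.comap πB Q, hQ, PrimeSpectrum.ext ?_⟩
  show (Q.asIdeal.comap πB).comap _ = (Q.asIdeal.comap _).comap πA
  rw [Ideal.comap_comap, hsq, Ideal.comap_comap]

/-- There is only one minimal prime below each prime. -/
theorem minimalPrimes_unique {A : Type u} [CommRing A] (h : GeomUnibranchEverywhere A)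
    {q q' : Ideal A} (hq : q ∈ minimalPrimes A) (hq' : q' ∈ minimalPrimes A) (p : Ideal A) [p.IsPrime]
    (h1 : q ≤ p) (h2 : q' ≤ p) : q = q' := by
  obtain ⟨L, _, _, _, hLp, ⟨hdom, -⟩, -⟩ := h p
  haveI := hLp
  haveI : (nilradical L).IsPrime := (Ideal.Quotient.isDomain_iff_prime _).1 hdom
  have key : ∀ q₁ ∈ minimalPrimes A, q₁ ≤ p → q₁ = (nilradical L).comap (algebraMap A L) := by
    intro q₁ hq₁ hle
    haveI hp₁ : q₁.IsPrime := hq₁.1.1
    have hdisj : Disjoint (p.primeCompl : Set A) (q₁ : Set A) :=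
      Set.disjoint_left.2 fun a ha ha' => ha (hle ha')
    haveI := IsLocalization.isPrime_of_isPrime_disjoint p.primeCompl L q₁ hp₁ hdisj
    have hge : (nilradical L).comap (algebraMap A L) ≤ q₁ := by
      rw [← IsLocalization.under_map_of_isPrime_disjoint p.primeCompl L hp₁ hdisj]
      exact Ideal.comap_mono (nilradical_le_prime _)
    exact le_antisymm (hq₁.2 ⟨Ideal.comap_isPrime _ _, bot_le⟩ hge) hge
  rw [key q hq h1, key q' hq' h2]

/-- A component of the spectrum is open when there are finitely many. -/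
theorem isOpen_zeroLocus {A : Type u} [CommRing A] (h : GeomUnibranchEverywhere A)
    (hfin : (minimalPrimes A).Finite) {q : Ideal A} (hq : q ∈ minimalPrimes A) :
    IsOpen (PrimeSpectrum.zeroLocus (q : Set A)) := by
  have e : PrimeSpectrum.zeroLocus (q : Set A) =
      (⋃ q' ∈ minimalPrimes A \ {q}, PrimeSpectrum.zeroLocus (q' : Set A))ᶜ := by
    ext p
    simp only [Set.mem_compl_iff, Set.mem_iUnion, PrimeSpectrum.mem_zeroLocus, SetLike.coe_subset_coe,
      exists_prop, not_exists, not_and]
    refine ⟨fun hp q' hq' hp' => hq'.2 (minimalPrimes_unique h hq'.1 hq p.asIdeal hp' hp), fun hp => ?_⟩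
    obtain ⟨q', hq', hle⟩ := Ideal.exists_minimalPrimes_le (I := (⊥ : Ideal A)) (J := p.asIdeal) bot_le
    by_cases e : q' = q
    · exact e ▸ hle
    · exact absurd hle (hp q' ⟨hq', e⟩)
  rw [e]
  exact ((hfin.subset Set.diff_subset).isClosed_biUnion fun q' _ =>
    PrimeSpectrum.isClosed_zeroLocus _).isOpen_compl

end Groth.Misc6.UOpen
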