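import Groth.Agent.Misc6.UnibranchOpen
import Groth.Agent.Misc6.Equidim
import Groth.Agent.EGA43Topo.UnibranchScheme
import Groth.Agent.FibreDim.DimensionFormulaScheme

/-!
# EGA IV 14.4: equidimensional over geometrically unibranch gives universally open
-/

universe u

set_option linter.style.haveILetI false

open CategoryTheory CategoryTheory.Limits AlgebraicGeometry TopologicalSpace Topology

namespace Groth.Misc6.UOpen

open Groth.Misc6.Equidim Groth.FibreDim

variable {X S : Scheme.{u}}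

theorem geomUnibranchEverywhere_of_stalks
    (hS : ∀ s : S, CAlg2.IsGeomUnibranch (S.presheaf.stalk s)) {V : S.Opens} (hV : IsAffineOpen V) :
    GeomUnibranchEverywhere Γ(S, V) := by
  intro p _
  let P : PrimeSpectrum Γ(S, V) := ⟨p, inferInstance⟩
  have hs : hV.fromSpec.base P ∈ V := hV.range_fromSpec.le ⟨P, rfl⟩
  letI : Algebra Γ(S, V) (S.presheaf.stalk (hV.fromSpec.base P)) :=
    S.presheaf.algebra_section_stalk (⟨hV.fromSpec.base P, hs⟩ : V)
  refine ⟨S.presheaf.stalk (hV.fromSpec.base P), inferInstance, inferInstance, inferInstance, ?_, hS _⟩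
  have e : hV.primeIdealOf ⟨hV.fromSpec.base P, hs⟩ = P :=
    hV.fromSpec.isOpenEmbedding.injective (hV.fromSpec_primeIdealOf _)
  have h' : IsLocalization.AtPrime (S.presheaf.stalk (hV.fromSpec.base P))
      (hV.primeIdealOf ⟨hV.fromSpec.base P, hs⟩).asIdeal := hV.isLocalization_stalk ⟨_, hs⟩
  simpa only [e] using h'

theorem isMax_fromSpec {V : S.Opens} (hV : IsAffineOpen V) {q : PrimeSpectrum Γ(S, V)}
    (hq : q.asIdeal ∈ minimalPrimes Γ(S, V)) {s : S} (hs : s ⤳ hV.fromSpec.base q) :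
    s = hV.fromSpec.base q := by
  obtain ⟨q', rfl⟩ : s ∈ Set.range hV.fromSpec.base := by
    rw [hV.range_fromSpec]
    exact hs.mem_open V.2 (hV.range_fromSpec.le ⟨q, rfl⟩)
  have h := hV.fromSpec.isOpenEmbedding.toIsInducing.specializes_iff.1 hs
  have hle : q'.asIdeal ≤ q.asIdeal := (PrimeSpectrum.le_iff_specializes q' q).2 h
  exact congrArg _ (PrimeSpectrum.ext (le_antisymm hle (hq.2 ⟨q'.isPrime, bot_le⟩ hle)))

theorem closure_mem_irreducibleComponents {s : S} (h : ∀ s', s' ⤳ s → s' = s) :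
    closure {s} ∈ irreducibleComponents (S : Type u) := by
  obtain ⟨Z, hZ, hle⟩ := exists_mem_irreducibleComponents_subset_of_isIrreducible _
    (isIrreducible_singleton (x := s)).closure
  obtain ⟨ζ, hζ⟩ := QuasiSober.sober hZ.1 (isClosed_of_mem_irreducibleComponents _ hZ)
  have : ζ = s := h ζ (hζ.specializes (hle (subset_closure rfl)))
  rw [← this, hζ.def]
  exact hZ

theorem finite_minimalPrimes (hfin : (irreducibleComponents (S : Type u)).Finite) {V : S.Opens}
    (hV : IsAffineOpen V) : (minimalPrimes Γ(S, V)).Finite := by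
  classical
  refine Set.Finite.of_finite_image (f := fun q : Ideal Γ(S, V) =>
    if h : q.IsPrime then closure {hV.fromSpec.base ⟨q, h⟩} else ∅) (hfin.subset ?_) ?_
  · rintro _ ⟨q, hq, rfl⟩
    simp only [dif_pos hq.1.1]
    exact closure_mem_irreducibleComponents fun s' hs' => isMax_fromSpec hV (q := ⟨q, hq.1.1⟩) hq hs'
  · intro q hq q' hq' e
    simp only [dif_pos hq.1.1, dif_pos hq'.1.1] at e
    exact congrArg PrimeSpectrum.asIdeal
      (hV.fromSpec.isOpenEmbedding.injective (IsGenericPoint.eq (S := closure _) rfl e.symm))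

variable (f : X ⟶ S) [LocallyOfFiniteType f]

theorem universallyOpen_of_conditionT
    (hS : ∀ s : S, CAlg2.IsGeomUnibranch (S.presheaf.stalk s))
    (hfin : (irreducibleComponents (S : Type u)).Finite)
    (hT : ∀ x : X, ∃ W : TopologicalSpace.Closeds X, (W : Set X) ∈ irreducibleComponents (X : Type u) ∧
      ∃ w : ↥((Scheme.IdealSheafData.vanishingIdeal W).subscheme),
        (Scheme.IdealSheafData.vanishingIdeal W).subschemeι.base w = x ∧
        EGA43.IsEquidimAt ((Scheme.IdealSheafData.vanishingIdeal W).subschemeι ≫ f) w) :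
    UniversallyOpen f := by
  have hex : ∀ x : X, ∃ (V : S.Opens) (U : X.Opens), IsAffineOpen V ∧ IsAffineOpen U ∧ x ∈ U ∧
      U ≤ f ⁻¹ᵁ V := fun x => by
    obtain ⟨_, ⟨V, hV, rfl⟩, hyV, -⟩ :=
      S.isBasis_affineOpens.exists_subset_of_mem_open (Set.mem_univ (f.base x)) isOpen_univ
    obtain ⟨_, ⟨U, hU, rfl⟩, hxU, e⟩ := X.isBasis_affineOpens.exists_subset_of_mem_open
      (show x ∈ f.base ⁻¹' V from hyV) (V.isOpen.preimage f.continuous)
    exact ⟨V, U, hV, hU, hxU, e⟩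
  choose V U hV hU hxU e using hex
  let 𝒲 : X.AffineOpenCover :=
    { I₀ := X
      X := fun x => Γ(X, U x)
      f := fun x => (hU x).fromSpec
      idx := fun x => x
      covers := fun z => by rw [(hU z).range_fromSpec]; exact hxU z }
  rw [IsZariskiLocalAtSource.iff_of_openCover (P := @UniversallyOpen) 𝒲.openCover]
  intro x₀
  show UniversallyOpen ((hU x₀).fromSpec ≫ f)
  rw [← (hV x₀).SpecMap_appLE_fromSpec f (hU x₀) (e x₀)]
  suffices UniversallyOpen (Spec.map (f.appLE (V x₀) (U x₀) (e x₀))) from inferInstance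
  generalize V x₀ = V', U x₀ = U', hV x₀ = hV', hU x₀ = hU', e x₀ = e'
  letI algAB := (f.appLE V' U' e').hom.toAlgebra
  haveI : Algebra.FiniteType Γ(S, V') Γ(X, U') :=
    RingHom.finiteType_algebraMap.1 (f.finiteType_appLE hV' hU' e')
  refine Groth.FlatMor2.universallyOpen_SpecMap_of_isOpenMap (A := Γ(S, V')) (B := Γ(X, U')) fun m => ?_
  rw [isOpenMap_iff_nhds_le]
  intro N T hT'
  rw [Filter.mem_map] at hT'
  obtain ⟨_, ⟨g, rfl⟩, hNg, hgT⟩ :=
    PrimeSpectrum.isTopologicalBasis_basic_opens.mem_nhds_iff.1 hT'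
  refine Filter.mem_of_superset ?_ (Set.image_subset_iff.2 hgT)
  let n := N.asIdeal.comap (MvPolynomial.C : Γ(X, U') →+* MvPolynomial (Fin m) Γ(X, U'))
  haveI hnp : n.IsPrime := Ideal.comap_isPrime _ _
  let x : X := hU'.fromSpec.base ⟨n, hnp⟩
  have hxU' : x ∈ U' := hU'.range_fromSpec.le ⟨⟨n, hnp⟩, rfl⟩
  obtain ⟨W, hW, w, hwx, hequi⟩ := hT x
  let ι := (Scheme.IdealSheafData.vanishingIdeal W).subschemeι
  have hrange : Set.range ι.base = W := by
    rw [Scheme.IdealSheafData.range_subschemeι, Scheme.IdealSheafData.coe_support_vanishingIdeal]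
  obtain ⟨η, hη⟩ := QuasiSober.sober hW.1 W.2
  obtain ⟨ξ, hξ⟩ : η ∈ Set.range ι.base := hrange.ge hη.mem
  have hξg : IsGenericPoint ξ Set.univ := by
    refine isGenericPoint_iff_specializes.2 fun v => iff_of_true ?_ trivial
    refine ι.isEmbedding.toIsInducing.specializes_iff.1 ?_
    rw [hξ]
    exact hη.specializes (hrange.le ⟨v, rfl⟩)
  have hξcomp : closure {ξ} ∈ irreducibleComponents ↥((Scheme.IdealSheafData.vanishingIdeal W).subscheme) := by
    rw [hξg.def]
    exact ⟨hξg.isIrreducible, fun _ _ _ => Set.subset_univ _⟩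
  obtain ⟨hq, hfd⟩ := of_isEquidimAt (ι ≫ f) hequi hξcomp
    (hξg.specializes (Set.mem_univ w))
  obtain ⟨a, haw, hfa, hfha⟩ := exists_fh_eq (ι ≫ f) w
  rw [hfd] at hfha
  have hfh : fh (ι ≫ f) a = fh (ι ≫ f) ξ := by exact_mod_cast hfha
  have hξa : ξ ⤳ a := hξg.specializes (Set.mem_univ a)
  let z : X := ι.base a
  have hzx : z ⤳ x := hwx ▸ haw.map ι.continuous
  have hηz : η ⤳ z := hξ ▸ hξa.map ι.continuous
  have hzU : z ∈ U' := hzx.mem_open U'.2 hxU'
  have hηU : η ∈ U' := hηz.mem_open U'.2 hzU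
  have hfz : f.base z = f.base x := by
    have := hfa
    rw [Scheme.Hom.comp_apply, Scheme.Hom.comp_apply, hwx] at this
    exact this
  rw [Scheme.Hom.comp_apply, hξ] at hq
  let q := hV'.primeIdealOf ⟨f.base η, e' hηU⟩
  let P := hU'.primeIdealOf ⟨η, hηU⟩
  let p := hV'.primeIdealOf ⟨f.base z, e' hzU⟩
  let n₀ := hU'.primeIdealOf ⟨z, hzU⟩
  haveI hPq : P.asIdeal.LiesOver q.asIdeal :=
    ⟨(congrArg PrimeSpectrum.asIdeal (EGA43Topo.comap_appLE_primeIdealOf f hV' hU' e' hηU)).symm⟩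
  haveI hn₀p : n₀.asIdeal.LiesOver p.asIdeal :=
    ⟨(congrArg PrimeSpectrum.asIdeal (EGA43Topo.comap_appLE_primeIdealOf f hV' hU' e' hzU)).symm⟩
  have hspec : ∀ {a b : X} (ha : a ∈ U') (hb : b ∈ U'), a ⤳ b →
      (hU'.primeIdealOf ⟨a, ha⟩).asIdeal ≤ (hU'.primeIdealOf ⟨b, hb⟩).asIdeal := fun ha hb h =>
    (PrimeSpectrum.le_iff_specializes _ _).2
      (hU'.fromSpec.isOpenEmbedding.toIsInducing.specializes_iff.1 (by
        rw [hU'.fromSpec_primeIdealOf, hU'.fromSpec_primeIdealOf]; exact h))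
  have hnx : hU'.primeIdealOf ⟨x, hxU'⟩ = ⟨n, hnp⟩ :=
    hU'.fromSpec.isOpenEmbedding.injective (hU'.fromSpec_primeIdealOf _)
  have hn : n.comap (algebraMap Γ(S, V') Γ(X, U')) = p.asIdeal := by
    have h1 := congrArg PrimeSpectrum.asIdeal
      (EGA43Topo.comap_appLE_primeIdealOf f hV' hU' e' hxU')
    rw [hnx] at h1
    refine h1.trans ?_
    congr 2
    exact Subtype.ext hfz.symm
  have hqmin : q.asIdeal ∈ minimalPrimes Γ(S, V') := by
    refine ⟨⟨q.isPrime, bot_le⟩, fun q' hq' hle => ?_⟩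
    have hs : hV'.fromSpec.base ⟨q', hq'.1⟩ ⤳ f.base η := by
      have := ((PrimeSpectrum.le_iff_specializes ⟨q', hq'.1⟩ q).1 hle).map hV'.fromSpec.continuous
      rwa [hV'.fromSpec_primeIdealOf] at this
    have hmax := isMax_of_mem_genericPoints hq
    have h2 : (⟨q', hq'.1⟩ : PrimeSpectrum Γ(S, V')) = q := hV'.fromSpec.isOpenEmbedding.injective
      (((hs.antisymm (hmax hs)).eq).trans (hV'.fromSpec_primeIdealOf ⟨f.base η, e' hηU⟩).symm)
    exact (congrArg PrimeSpectrum.asIdeal h2).ge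
  obtain ⟨d, hd, hd'⟩ := exists_relTrdeg_eq_height f z
  obtain ⟨d₁, hd₁, hd₁'⟩ := exists_relTrdeg_eq_height f η
  have hdd : d = d₁ := by
    have h1 : fh f z = fh f η := by
      rw [← fh_comp_preimmersion f ι a, hfh, fh_comp_preimmersion f ι ξ, hξ]
    exact Nat.cast_inj.1 ((hd'.symm.trans h1).trans hd₁' : (d : ℕ∞) = d₁)
  have hGU := geomUnibranchEverywhere_of_stalks hS hV'
  refine image_mem_nhds_of_trdeg hGU q.asIdeal hqmin
    (isOpen_zeroLocus hGU (finite_minimalPrimes hfin hV') hqmin) P.asIdeal n₀.asIdeal n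
    (hspec hηU hzU hηz) ((hspec hzU hxU' hzx).trans (congrArg PrimeSpectrum.asIdeal hnx).le)
    p.asIdeal hn (fun n' hn' hPn' hn'z he => ?_) d
    ((relTrdeg_eq_trdeg_quotient f hV' hU' e' hzU).trans hd) ?_ N rfl g hNg
  · -- maximality in the fibre
    let z' : X := hU'.fromSpec.base ⟨n', hn'⟩
    have hz'z : z' ⤳ z := by
      have := ((PrimeSpectrum.le_iff_specializes ⟨n', hn'⟩ n₀).1 hn'z).map hU'.fromSpec.continuous
      rwa [hU'.fromSpec_primeIdealOf] at this
    have hηz' : η ⤳ z' := by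
      have := ((PrimeSpectrum.le_iff_specializes P ⟨n', hn'⟩).1 hPn').map hU'.fromSpec.continuous
      rwa [hU'.fromSpec_primeIdealOf] at this
    obtain ⟨b, hb⟩ : z' ∈ Set.range ι.base := hrange.ge (hη.specializes_iff_mem.1 hηz')
    have hfz' : f.base z' = f.base z := by
      rw [← Scheme.Hom.comp_apply, ← hV'.SpecMap_appLE_fromSpec f hU' e', Scheme.Hom.comp_apply]
      exact (congrArg _ (PrimeSpectrum.ext he : _ = p)).trans (hV'.fromSpec_primeIdealOf ⟨f.base z, e' hzU⟩)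
    have hba : b ⤳ a := ι.isEmbedding.toIsInducing.specializes_iff.1 (hb.symm ▸ hz'z)
    have hfb : (ι ≫ f).base b = (ι ≫ f).base a := by
      rw [Scheme.Hom.comp_apply, Scheme.Hom.comp_apply, hb]; exact hfz'
    have heq : b = a := by
      by_contra hne
      obtain ⟨zb, hzb⟩ : b ∈ Set.range ((ι ≫ f).fiberι ((ι ≫ f).base a)).base :=
        ((ι ≫ f).range_fiberι _).ge hfb
      obtain ⟨za, hza⟩ : a ∈ Set.range ((ι ≫ f).fiberι ((ι ≫ f).base a)).base :=
        ((ι ≫ f).range_fiberι _).ge rfl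
      have h1 : fh (ι ≫ f) b ≤ fh (ι ≫ f) a := by
        have h2 := (fh_le_fibreDimAt (ι ≫ f) b).trans (fibreDimAt_mono (ι ≫ f) (hba.trans haw))
        rw [hfd, ← hfh] at h2
        exact_mod_cast h2
      have hlt : za < zb := by
        have h3 : ((ι ≫ f).fiberι ((ι ≫ f).base a)).base zb ⤳ ((ι ≫ f).fiberι ((ι ≫ f).base a)).base za := by
          rw [hzb, hza]; exact hba
        have h4 := ((ι ≫ f).fiberι _).isEmbedding.toIsInducing.specializes_iff.1 h3
        refine lt_iff_le_not_ge.2 ⟨Scheme.le_iff_specializes.2 h4, fun h5 => hne ?_⟩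
        have h6 : zb = za := (h4.antisymm (Scheme.le_iff_specializes.1 h5)).eq
        exact hzb.symm.trans ((congrArg _ h6).trans hza)
      obtain ⟨na, hna⟩ := exists_fh_nat (ι ≫ f) a
      rw [← hza, ← hzb, fh_fiberι, fh_fiberι] at h1
      rw [← hza, fh_fiberι] at hna
      exact absurd h1 (not_le.2 (Order.height_strictMono hlt (by rw [hna]; exact WithTop.coe_lt_top _)))
    refine congrArg PrimeSpectrum.asIdeal (hU'.fromSpec.isOpenEmbedding.injective
      (a₁ := ⟨n', hn'⟩) (a₂ := n₀) ?_)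
    rw [hU'.fromSpec_primeIdealOf]
    exact hb.symm.trans (congrArg ι.base heq)
  · rw [relTrdeg_eq_trdeg_quotient f hV' hU' e' hηU, hd₁, hdd]

end Groth.Misc6.UOpen
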