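import Groth.Agent.Misc6.WeakNormTop
import Mathlib.AlgebraicGeometry.Normalization

/-!
The scheme `T₁ = Spec_T A₁`, where `A₁ ⊆ p_* O_{T'}` is the subalgebra of sections whose two pullbacks to
`T' ×_T T'` differ by a nilpotent (`p` quasi-compact quasi-separated). The gluing follows Mathlib's relative
normalization.
-/

set_option autoImplicit false
universe u
open CategoryTheory CategoryTheory.Limits AlgebraicGeometry
open AlgebraicGeometry.Scheme AlgebraicGeometry.Scheme.AffineZariskiSite

noncomputable section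

namespace Groth.Agent.Misc6.WeakNorm

variable {T T' : Scheme.{u}} (p : T' ⟶ T)

theorem le_fst (U : T.Opens) :
    (pullback.fst p p ≫ p) ⁻¹ᵁ U ≤ pullback.fst p p ⁻¹ᵁ (p ⁻¹ᵁ U) := le_rfl

theorem le_snd (U : T.Opens) :
    (pullback.fst p p ≫ p) ⁻¹ᵁ U ≤ pullback.snd p p ⁻¹ᵁ (p ⁻¹ᵁ U) := by
  rw [← Scheme.Hom.comp_preimage, pullback.condition]

/-- the first pullback of sections. -/
def r₁ (U : T.Opens) :
    Γ(T', p ⁻¹ᵁ U) →+* Γ(pullback p p, (pullback.fst p p ≫ p) ⁻¹ᵁ U) :=
  ((pullback.fst p p).appLE _ _ (le_fst p U)).hom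

/-- the second pullback of sections. -/
def r₂ (U : T.Opens) :
    Γ(T', p ⁻¹ᵁ U) →+* Γ(pullback p p, (pullback.fst p p ≫ p) ⁻¹ᵁ U) :=
  ((pullback.snd p p).appLE _ _ (le_snd p U)).hom

/-- the subring of sections over `p⁻¹U` whose two pullbacks agree up to a nilpotent. -/
def sub (U : T.Opens) : Subring Γ(T', p ⁻¹ᵁ U) where
  carrier := {s | IsNilpotent (r₁ p U s - r₂ p U s)}
  zero_mem' := by
    show IsNilpotent (r₁ p U 0 - r₂ p U 0)
    rw [map_zero, map_zero, sub_self]; exact IsNilpotent.zero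
  one_mem' := by
    show IsNilpotent (r₁ p U 1 - r₂ p U 1)
    rw [map_one, map_one, sub_self]; exact IsNilpotent.zero
  neg_mem' {a} ha := by
    show IsNilpotent (r₁ p U (-a) - r₂ p U (-a))
    rw [map_neg, map_neg, ← neg_sub', ← mem_nilradical]
    exact neg_mem (mem_nilradical.mpr ha)
  add_mem' {a b} ha hb := by
    show IsNilpotent (r₁ p U (a + b) - r₂ p U (a + b))
    rw [map_add, map_add, add_sub_add_comm, ← mem_nilradical]
    exact add_mem (mem_nilradical.mpr ha) (mem_nilradical.mpr hb)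
  mul_mem' {a b} ha hb := by
    show IsNilpotent (r₁ p U (a * b) - r₂ p U (a * b))
    rw [map_mul, map_mul, show r₁ p U a * r₁ p U b - r₂ p U a * r₂ p U b =
      r₁ p U a * (r₁ p U b - r₂ p U b) + (r₁ p U a - r₂ p U a) * r₂ p U b by ring, ← mem_nilradical]
    exact add_mem (Ideal.mul_mem_left _ _ (mem_nilradical.mpr hb))
        (Ideal.mul_mem_right _ _ (mem_nilradical.mpr ha))

theorem mem_sub {U : T.Opens} {s : Γ(T', p ⁻¹ᵁ U)} :
    s ∈ sub p U ↔ IsNilpotent (r₁ p U s - r₂ p U s) :=
  Iff.rfl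

theorem r₁_map {U V : T.Opens} (h : U ≤ V) (s : Γ(T', p ⁻¹ᵁ V)) :
    r₁ p U ((T'.presheaf.map (homOfLE (p.preimage_mono h)).op).hom s) =
      ((pullback p p).presheaf.map
        (homOfLE ((pullback.fst p p ≫ p).preimage_mono h)).op).hom (r₁ p V s) := by
  simp only [r₁, ← CommRingCat.comp_apply, Scheme.Hom.map_appLE, Scheme.Hom.appLE_map]

theorem r₂_map {U V : T.Opens} (h : U ≤ V) (s : Γ(T', p ⁻¹ᵁ V)) :
    r₂ p U ((T'.presheaf.map (homOfLE (p.preimage_mono h)).op).hom s) =
      ((pullback p p).presheaf.map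
        (homOfLE ((pullback.fst p p ≫ p).preimage_mono h)).op).hom (r₂ p V s) := by
  simp only [r₂, ← CommRingCat.comp_apply, Scheme.Hom.map_appLE, Scheme.Hom.appLE_map]

theorem map_mem {U V : T.Opens} (h : U ≤ V) (s : Γ(T', p ⁻¹ᵁ V)) (hs : s ∈ sub p V) :
    (T'.presheaf.map (homOfLE (p.preimage_mono h)).op).hom s ∈ sub p U := by
  rw [mem_sub] at hs ⊢
  rw [r₁_map p h, r₂_map p h, ← map_sub]
  exact hs.map _

theorem app_mem (U : T.Opens) (a : Γ(T, U)) : (p.app U).hom a ∈ sub p U := by
  rw [mem_sub]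
  have : r₁ p U ((p.app U).hom a) = r₂ p U ((p.app U).hom a) := by
    simp only [r₁, r₂, Scheme.Hom.app_eq_appLE, ← CommRingCat.comp_apply,
      Scheme.Hom.appLE_comp_appLE]
    simp only [pullback.condition]
  rw [this, sub_self]
  exact IsNilpotent.zero

/-- the presheaf of rings `U ↦ A₁(U)`. -/
def diagram : T.Opensᵒᵖ ⥤ CommRingCat.{u} where
  obj U := .of (sub p U.unop)
  map {V U} i := CommRingCat.ofHom
    ((T'.presheaf.map (homOfLE (p.preimage_mono i.unop.le)).op).hom.restrict _ _
      fun x hx => map_mem p i.unop.le x hx)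
  map_id U := by simp; rfl
  map_comp i j := by
    simp only [← CommRingCat.ofHom_comp]
    rw [← homOfLE_comp (p.preimage_mono j.unop.le) (p.preimage_mono i.unop.le), op_comp]
    simp_rw [T'.presheaf.map_comp]
    rfl

/-- the inclusion of the structure presheaf. -/
def diagramMap : T.presheaf ⟶ diagram p where
  app U := CommRingCat.ofHom ((p.app U.unop).hom.codRestrict _ (app_mem p U.unop))
  naturality {U V} i := by ext x; exact Subtype.ext congr($(p.naturality i) x)

variable [QuasiCompact p] [QuasiSeparated p]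

theorem isCompact_pullback_preimage {U : T.Opens} (hU : IsAffineOpen U) :
    IsCompact (((pullback.fst p p ≫ p) ⁻¹ᵁ U : (pullback p p).Opens) : Set ↥(pullback p p)) :=
  (pullback.fst p p ≫ p).isCompact_preimage hU.isCompact

omit [QuasiSeparated p] in
theorem isQuasiSeparated_pullback_preimage [QuasiSeparated p] {U : T.Opens} (hU : IsAffineOpen U) :
    IsQuasiSeparated
      (((pullback.fst p p ≫ p) ⁻¹ᵁ U : (pullback p p).Opens) : Set ↥(pullback p p)) :=
  (pullback.fst p p ≫ p).isQuasiSeparated_preimage hU.isQuasiSeparated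

theorem coequifibered_diagramMap :
    ((toOpensFunctor T).op.whiskerLeft (diagramMap p)).Coequifibered := by
  refine coequifibered_iff_forall_isLocalizationAway.mpr fun U r ↦ ?_
  let : Algebra (sub p U.1) (sub p (T.basicOpen r)) :=
    ((diagram p).map (homOfLE (T.basicOpen_le r)).op).hom.toAlgebra
  let ρ : sub p U.1 := ⟨(p.app U.1).hom r, app_mem p U.1 r⟩
  change IsLocalization.Away ρ (sub p (T.basicOpen r))
  set g := pullback.fst p p ≫ p
  let res := (T'.presheaf.map (homOfLE (p.preimage_mono (T.basicOpen_le r))).op).hom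
  have hloc : letI := res.toAlgebra; IsLocalization.Away ((p.app U.1).hom r) Γ(T', p ⁻¹ᵁ T.basicOpen r) := by
    let : Algebra Γ(T', p ⁻¹ᵁ U.1) Γ(T', T'.basicOpen (p.app U.1 r)) :=
      (T'.presheaf.map (homOfLE (T'.basicOpen_le _)).op).hom.toAlgebra
    dsimp +instances [res]
    rw! (castMode := .all) [p.preimage_basicOpen r]
    exact isLocalization_basicOpen_of_qcqs (p.isCompact_preimage U.2.isCompact)
      (p.isQuasiSeparated_preimage U.2.isQuasiSeparated) (p.app U.1 r)
  have hlocP : letI := ((pullback p p).presheaf.map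
        (homOfLE (g.preimage_mono (T.basicOpen_le r))).op).hom.toAlgebra
      IsLocalization.Away ((g.app U.1).hom r) Γ(pullback p p, g ⁻¹ᵁ T.basicOpen r) := by
    let : Algebra Γ(pullback p p, g ⁻¹ᵁ U.1) Γ(pullback p p, (pullback p p).basicOpen (g.app U.1 r)) :=
      ((pullback p p).presheaf.map (homOfLE ((pullback p p).basicOpen_le _)).op).hom.toAlgebra
    rw! (castMode := .all) [g.preimage_basicOpen r]
    exact isLocalization_basicOpen_of_qcqs (isCompact_pullback_preimage p U.2)
      (isQuasiSeparated_pullback_preimage p U.2) (g.app U.1 r)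
  have hunit : IsUnit (res ((p.app U.1).hom r)) := by
    letI := res.toAlgebra
    exact IsLocalization.Away.algebraMap_isUnit (S := Γ(T', p ⁻¹ᵁ T.basicOpen r)) ((p.app U.1).hom r)
  refine IsLocalization.Away.mk ρ ?_ ?_ ?_
  · have hu : IsUnit (((p.app (T.basicOpen r)).hom.codRestrict _ (app_mem p (T.basicOpen r)))
        ((T.presheaf.map (homOfLE (T.basicOpen_le r)).op).hom r)) :=
      (T.toRingedSpace.isUnit_res_basicOpen r).map _
    have he : algebraMap (sub p U.1) (sub p (T.basicOpen r)) ρ =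
        ((p.app (T.basicOpen r)).hom.codRestrict _ (app_mem p (T.basicOpen r)))
          ((T.presheaf.map (homOfLE (T.basicOpen_le r)).op).hom r) :=
      Subtype.ext (congr($(p.naturality (homOfLE (T.basicOpen_le r)).op) r)).symm
    rw [he]
    exact hu
  · rintro ⟨z, hz⟩
    obtain ⟨n, a, ha⟩ :
        ∃ (n : ℕ) (a : Γ(T', p ⁻¹ᵁ U.1)), z * res ((p.app U.1).hom r) ^ n = res a := by
      letI := res.toAlgebra
      obtain ⟨n, a, ha⟩ := IsLocalization.Away.surj ((p.app U.1).hom r) z
      exact ⟨n, a, ha⟩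
    have hres : res a ∈ sub p (T.basicOpen r) := by
      rw [← ha]
      exact mul_mem hz (pow_mem (map_mem p (T.basicOpen_le r) _ (app_mem p U.1 r)) n)
    rw [mem_sub, r₁_map p (T.basicOpen_le r), r₂_map p (T.basicOpen_le r), ← map_sub] at hres
    set δ := r₁ p U.1 a - r₂ p U.1 a
    obtain ⟨m, hm⟩ := hres
    rw [← map_pow] at hm
    obtain ⟨k, hk⟩ : ∃ k : ℕ, (g.app U.1).hom r ^ k * δ ^ m = 0 := by
      letI := ((pullback p p).presheaf.map
        (homOfLE (g.preimage_mono (T.basicOpen_le r))).op).hom.toAlgebra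
      obtain ⟨⟨_, k, rfl⟩, hk⟩ :=
        (IsLocalization.map_eq_zero_iff (Submonoid.powers ((g.app U.1).hom r)) _ _).mp hm
      exact ⟨k, hk⟩
    refine ⟨n + k, ⟨(p.app U.1).hom r ^ k * a, ?_⟩, Subtype.ext ?_⟩
    · rw [mem_sub]
      have h1 : r₁ p U.1 ((p.app U.1).hom r) = (g.app U.1).hom r := by
        simp only [r₁, g, Scheme.Hom.app_eq_appLE, ← CommRingCat.comp_apply,
          Scheme.Hom.appLE_comp_appLE]
      have h2 : r₂ p U.1 ((p.app U.1).hom r) = (g.app U.1).hom r := by
        simp only [r₂, g, Scheme.Hom.app_eq_appLE, ← CommRingCat.comp_apply,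
          Scheme.Hom.appLE_comp_appLE, pullback.condition]
      refine ⟨m + 1, ?_⟩
      rw [map_mul, map_mul, map_pow, map_pow, h1, h2, ← mul_sub, mul_pow]
      calc ((g.app U.1).hom r ^ k) ^ (m + 1) * δ ^ (m + 1)
          = ((g.app U.1).hom r ^ k) ^ m * δ * ((g.app U.1).hom r ^ k * δ ^ m) := by ring
        _ = 0 := by rw [hk, mul_zero]
    · change z * res ((p.app U.1).hom r) ^ (n + k) = res ((p.app U.1).hom r ^ k * a)
      rw [map_mul, map_pow, pow_add, ← mul_assoc, ha, mul_comm]
  · rintro ⟨a, ha⟩ ⟨b, hb⟩ hab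
    have hab' : res a = res b := congr_arg Subtype.val hab
    obtain ⟨n, hn⟩ : ∃ n : ℕ, (p.app U.1).hom r ^ n * a = (p.app U.1).hom r ^ n * b := by
      letI := res.toAlgebra
      exact IsLocalization.Away.exists_of_eq ((p.app U.1).hom r) hab'
    exact ⟨n, Subtype.ext hn⟩

/-- the gluing datum. -/
def glueData := relativeGluingData (coequifibered_diagramMap p)

instance : ((glueData p).functor ⋙ Scheme.forget).IsLocallyDirected :=
  Cover.RelativeGluingData.instIsLocallyDirectedI₀CompFunctorForgetOfIsThin ..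

/-- `T₁`. -/
def space : Scheme.{u} := (glueData p).glued

/-- the cover of `T₁` by the `Spec A₁(U)`. -/
def openCov : (space p).OpenCover := (glueData p).cover

/-- the structure map `u : T₁ ⟶ T`. -/
def toBase : space p ⟶ T := (glueData p).toBase

set_option backward.defeqAttrib.useBackward true in
set_option backward.isDefEq.respectTransparency false in
/-- the map `q : T' ⟶ T₁`. -/
def fromTop : T' ⟶ space p :=
  Scheme.OpenCover.glueMorphismsOfLocallyDirected
    ((directedCover T).pullback₁ p)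
    (fun U ↦
      (pullbackRestrictIsoRestrict p _).hom ≫
      (p ⁻¹ᵁ U.1).toSpecΓ ≫ Spec.map (CommRingCat.ofHom (sub p U.1).subtype) ≫ (openCov p).f U)
    fun {U V : T.AffineZariskiSite} i ↦ by
  have : (pullbackRestrictIsoRestrict p U.1).inv ≫
      Cover.trans ((directedCover T).pullback₁ p) i ≫
      (pullbackRestrictIsoRestrict p V.1).hom = T'.homOfLE
        (p.preimage_mono (toOpens_mono i.1.1)) := by
    rw [← cancel_mono (Scheme.Opens.ι _)]
    simp +instances [Cover.trans, Cover.locallyDirectedPullbackCover]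
  rw [← Iso.inv_comp_eq, reassoc_of% this, ← Scheme.Opens.toSpecΓ_SpecMap_presheaf_map_assoc,
    ← Spec.map_comp_assoc]
  dsimp [openCov]
  rw [← colimit.w (glueData p).functor i]
  dsimp [glueData, relativeGluingData]
  rw [← Spec.map_comp_assoc]
  rfl

set_option backward.isDefEq.respectTransparency.types false in
set_option backward.defeqAttrib.useBackward true in
@[reassoc]
theorem ι_fromTop (U : T.affineOpens) :
    (p ⁻¹ᵁ U.1).ι ≫ fromTop p = (p ⁻¹ᵁ U.1).toSpecΓ ≫
      Spec.map (CommRingCat.ofHom (sub p U.1).subtype) ≫ (openCov p).f U := by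
  rw [← cancel_epi (pullbackRestrictIsoRestrict p U.1).hom, ← Category.assoc]
  trans ((directedCover T).pullback₁ p).f U ≫ fromTop p
  · congr 1; simp
  delta fromTop
  generalize_proofs _ _ _ _ H
  exact Scheme.OpenCover.map_glueMorphismsOfLocallyDirected _ _ H _

@[reassoc]
theorem ι_toBase (U : T.affineOpens) :
    (openCov p).f U ≫ toBase p = Spec.map ((diagramMap p).app (.op U.1)) ≫ U.2.fromSpec :=
  colimit.ι_desc _ _

set_option backward.isDefEq.respectTransparency.types false in
theorem toBase_preimage (U : T.affineOpens) :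
    toBase p ⁻¹ᵁ U = ((openCov p).f U).opensRange := by
  simpa using! (glueData p).toBase_preimage_eq_opensRange_ι U

theorem isAffineOpen_toBase_preimage (U : T.affineOpens) : IsAffineOpen (toBase p ⁻¹ᵁ U) := by
  rw [toBase_preimage]
  haveI : IsAffine ((openCov p).X U) :=
    inferInstanceAs (IsAffine (Spec ((diagram p).obj (.op U.1))))
  haveI : IsOpenImmersion ((openCov p).f U) := (openCov p).map_prop U
  exact isAffineOpen_opensRange _

instance : IsAffineHom (toBase p) :=
  ⟨fun U hU => isAffineOpen_toBase_preimage p ⟨U, hU⟩⟩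

set_option backward.isDefEq.respectTransparency false in
@[reassoc (attr := simp)]
theorem fromTop_toBase : fromTop p ≫ toBase p = p := by
  refine Scheme.Cover.hom_ext (T'.openCoverOfIsOpenCover _
    (.comap (iSup_affineOpens_eq_top T) p.base.1)) _ _ fun U ↦ ?_
  refine (ι_fromTop_assoc p _ _).trans ?_
  rw [ι_toBase, ← Spec.map_comp_assoc]
  change (p ⁻¹ᵁ U.1).toSpecΓ ≫ Spec.map (p.app _) ≫ U.2.fromSpec = (p ⁻¹ᵁ U.1).ι ≫ _
  simp

end Groth.Agent.Misc6.WeakNorm
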