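import Groth.Prelude.Def_SGA1
import Groth.Prelude.Def_Flat
import Mathlib.AlgebraicGeometry.Morphisms.UniversallyInjective
import Mathlib.AlgebraicGeometry.Morphisms.Separated

/-!
Factorisations `p = q ≫ u` of a universally submersive morphism with `q` dominant and `u` separated, such that
`q` coequalises the two projections at every point of `T' ×_T T'`: then `q` is surjective and `u` is a universal
homeomorphism.
-/

set_option autoImplicit false
universe u
open CategoryTheory CategoryTheory.Limits AlgebraicGeometry

namespace Groth.Agent.Misc6.WeakNormTop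

variable {T T' T₁ : Scheme.{u}} {p : T' ⟶ T} {q : T' ⟶ T₁} {u : T₁ ⟶ T}

/-- the map `T' ×_T T' ⟶ T' ×_T T₁` induced by `q`. -/
noncomputable def toGraphTarget (hqu : q ≫ u = p) : pullback p p ⟶ pullback p u :=
  pullback.map p p p u (𝟙 _) q (𝟙 _) (by simp) (by simp [hqu])

/-- the graph of `q`. -/
noncomputable def graph (hqu : q ≫ u = p) : T' ⟶ pullback p u :=
  pullback.lift (𝟙 _) q (by simp [hqu])

theorem isClosedImmersion_graph [IsSeparated u] (hqu : q ≫ u = p) :
    IsClosedImmersion (graph hqu) := by
  have : IsClosedImmersion (graph hqu ≫ pullback.fst p u) := by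
    rw [graph, pullback.lift_fst]; infer_instance
  exact IsClosedImmersion.of_comp (graph hqu) (pullback.fst p u)

variable (hqu : q ≫ u = p)
  (heq : ∀ x : ↥(pullback p p), (pullback p p).fromSpecResidueField x ≫ pullback.fst p p ≫ q =
    (pullback p p).fromSpecResidueField x ≫ pullback.snd p p ≫ q)

include heq in
theorem preimage_range_eq :
    (pullback.snd p u).base ⁻¹' Set.range q.base = Set.range (graph hqu).base := by
  have hr : Set.range (toGraphTarget hqu).base =
      (pullback.snd p u).base ⁻¹' Set.range q.base := by
    rw [toGraphTarget, Scheme.Pullback.range_map]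
    simp
  apply Set.Subset.antisymm
  · rw [← hr]
    rintro _ ⟨w, rfl⟩
    refine ⟨(pullback.fst p p).base w, ?_⟩
    let z : ↥(Spec ((pullback p p).residueField w)) := IsLocalRing.closedPoint _
    have hz : ((pullback p p).fromSpecResidueField w).base z = w :=
      Scheme.fromSpecResidueField_apply _ _
    have h2 : (pullback p p).fromSpecResidueField w ≫ pullback.fst p p ≫ graph hqu =
        (pullback p p).fromSpecResidueField w ≫ toGraphTarget hqu := by
      apply pullback.hom_ext
      · simp [graph, toGraphTarget, pullback.lift_fst]
      · simpa [graph, toGraphTarget, pullback.lift_snd] using heq w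
    have := congr($(h2).base z)
    simpa [hz] using this
  · rintro _ ⟨b, rfl⟩
    exact ⟨b, by rw [← Scheme.Hom.comp_apply, graph, pullback.lift_snd]⟩

include hqu heq in
theorem surjective_q (hp : SGA1.UnivSubmersive p) [IsSeparated u] [IsDominant q] : Surjective q := by
  have hq : Topology.IsQuotientMap (pullback.snd p u).base :=
    hp _ _ _ (IsPullback.of_hasPullback p u).flip
  have hcl : IsClosed (Set.range q.base) := by
    rw [← hq.isClosed_preimage, preimage_range_eq hqu heq]
    haveI := isClosedImmersion_graph (q := q) hqu
    exact (graph hqu).isClosedEmbedding.isClosed_range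
  refine ⟨fun x => ?_⟩
  have hd : DenseRange q.base := q.denseRange
  exact (hcl.closure_eq ▸ hd x : x ∈ Set.range q.base)

include hqu heq in
theorem universallyInjective_u (hs : Surjective q) : UniversallyInjective u := by
  rw [UniversallyInjective.iff_diagonal]
  refine ⟨fun z => ?_⟩
  let m : pullback p p ⟶ pullback u u :=
    pullback.map p p u u q q (𝟙 _) (by simp [hqu]) (by simp [hqu])
  have hm : z ∈ Set.range m.base := by
    simp only [m, Scheme.Pullback.range_map]
    exact ⟨hs.surj _, hs.surj _⟩
  obtain ⟨w, rfl⟩ := hm
  let z₀ : ↥(Spec ((pullback p p).residueField w)) := IsLocalRing.closedPoint _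
  refine ⟨((pullback p p).fromSpecResidueField w ≫ pullback.fst p p ≫ q).base z₀, ?_⟩
  have h2 : ((pullback p p).fromSpecResidueField w ≫ pullback.fst p p ≫ q) ≫ pullback.diagonal u =
      (pullback p p).fromSpecResidueField w ≫ m := by
    apply pullback.hom_ext
    · simp [m, pullback.map, pullback.lift_fst]
    · simpa [m, pullback.map, pullback.lift_snd] using heq w
  have := congr($(h2).base z₀)
  rw [Scheme.Hom.comp_apply _ m, Scheme.fromSpecResidueField_apply, Scheme.Hom.comp_apply] at this
  exact this

include hqu heq in
theorem isUnivHomeo_u (hp : SGA1.UnivSubmersive p) [IsSeparated u] [IsDominant q] :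
    FlatMor.IsUnivHomeo u := by
  have hs := surjective_q hqu heq hp
  haveI := universallyInjective_u hqu heq hs
  intro T₁'' T'' i₁ g u'' hsq
  haveI : UniversallyInjective u'' :=
    MorphismProperty.of_isPullback (P := @UniversallyInjective) hsq.flip inferInstance
  haveI : Surjective q := hs
  let m : pullback p g ⟶ pullback u g :=
    pullback.map p g u g q (𝟙 _) (𝟙 _) (by simp [hqu]) (by simp)
  let q'' : pullback p g ⟶ T₁'' := m ≫ hsq.flip.isoPullback.inv
  have hq2 : q'' ≫ u'' = pullback.snd p g := by simp [q'', m, pullback.map, pullback.lift_snd]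
  have hq1 : Surjective q'' := by
    have : Surjective m := by
      refine ⟨fun z => ?_⟩
      have hm : z ∈ Set.range m.base := by
        simp only [m, Scheme.Pullback.range_map]
        exact ⟨hs.surj _, ⟨_, rfl⟩⟩
      exact hm
    infer_instance
  have hqm : Topology.IsQuotientMap (pullback.snd p g).base :=
    hp _ _ _ (IsPullback.of_hasPullback p g).flip
  have hinj : Function.Injective u''.base := u''.injective
  have hsurj : Function.Surjective u''.base := fun y => by
    obtain ⟨x, rfl⟩ := hqm.surjective y
    exact ⟨q''.base x, by rw [← Scheme.Hom.comp_apply, hq2]⟩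
  show IsHomeomorph u''.base
  rw [isHomeomorph_iff_continuous_isClosedMap_bijective]
  refine ⟨u''.continuous, fun C hC => ?_, hinj, hsurj⟩
  rw [← hqm.isClosed_preimage, ← hq2]
  have : (q'' ≫ u'').base ⁻¹' (u''.base '' C) = q''.base ⁻¹' C := by
    ext x
    simp [Scheme.Hom.comp_base, hinj.mem_set_image]
  rw [this]
  exact hC.preimage q''.continuous

end Groth.Agent.Misc6.WeakNormTop
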